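/-
Elementary calculus of extraspecial 2-subgroups Q = O_2(C(z)) of a finite group: conjugation,
separation, the symmetry of orthogonality (z ∈ Q^g whenever z^g ∈ Q), and largeness.
-/
import Mathlib
import Cfsg.Prelude.Def_Transfer
import Cfsg.Prelude.Def_Solvable
import Cfsg.Agent.Lib.Solvable.Cores
import Cfsg.Agent.Lib.PGroup.Frattini
import Cfsg.Agent.S2880

set_option autoImplicit false
set_option linter.style.haveILetI false

namespace CfsgLib.ThreeTransp.Extraspecial

open Subgroup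
open scoped commutatorElement

variable {G : Type*} [Group G] [Finite G]

/-- `Q` is extraspecial of 2-power order with central involution `z`. -/
structure Extra (Q : Subgroup G) (z : G) : Prop where
  ext : Cfsg.IsExtraspecial 2 ↥Q
  z_ne : z ≠ 1
  z_sq : z * z = 1
  center_eq : (Subgroup.center ↥Q).map Q.subtype = Subgroup.zpowers z

theorem mem_zpowers_involution {z w : G} (h : z * z = 1) :
    w ∈ Subgroup.zpowers z ↔ w = 1 ∨ w = z := by
  constructor
  · intro hw
    obtain ⟨k, rfl⟩ := Subgroup.mem_zpowers_iff.1 hw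
    rcases Int.even_or_odd k with ⟨m, rfl⟩ | ⟨m, rfl⟩
    · left; rw [← two_mul, zpow_mul, show z ^ (2 : ℤ) = 1 by rw [zpow_two, h], one_zpow]
    · right
      rw [zpow_add, zpow_mul, show z ^ (2 : ℤ) = 1 by rw [zpow_two, h], one_zpow, one_mul, zpow_one]
  · rintro (rfl | rfl)
    · exact one_mem _
    · exact Subgroup.mem_zpowers _

theorem exists_extra {Q : Subgroup G} (hQ : Cfsg.IsExtraspecial 2 ↥Q) : ∃ z, Extra Q z := by
  haveI : Fact (Nat.Prime 2) := ⟨Nat.prime_two⟩
  obtain ⟨z, hz⟩ := exists_prime_orderOf_dvd_card' 2 (dvd_of_eq hQ.2.symm)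
  have h2 : orderOf (((z : Subgroup.center ↥Q) : ↥Q) : G) = 2 := by
    rw [orderOf_coe, orderOf_coe, hz]
  refine ⟨((z : ↥Q) : G), hQ, fun h => by simp [h] at h2, ?_, ?_⟩
  · have := pow_orderOf_eq_one (((z : ↥Q) : G)); rwa [h2, pow_two] at this
  · refine (Subgroup.eq_of_le_of_card_ge ?_ ?_).symm
    · exact Subgroup.zpowers_le.2 ⟨(z : ↥Q), z.2, rfl⟩
    · rw [Subgroup.card_map_of_injective Q.subtype_injective, hQ.2, Nat.card_zpowers, h2]

theorem Extra.of_center {Q : Subgroup G} {z : G} (hQ : Cfsg.IsExtraspecial 2 ↥Q)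
    (hz : (Subgroup.center ↥Q).map Q.subtype = Subgroup.zpowers z) : Extra Q z := by
  have h2 : orderOf z = 2 := by
    rw [← Nat.card_zpowers, ← hz, Subgroup.card_map_of_injective Q.subtype_injective, hQ.2]
  refine ⟨hQ, fun h => by simp [h] at h2, ?_, hz⟩
  have := pow_orderOf_eq_one z; rwa [h2, pow_two] at this

namespace Extra

variable {Q : Subgroup G} {z : G}

theorem z_mem (h : Extra Q z) : z ∈ Q :=
  Subgroup.map_subtype_le _ (h.center_eq ▸ Subgroup.mem_zpowers z)

theorem z_comm (h : Extra Q z) {q : G} (hq : q ∈ Q) : z * q = q * z := by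
  obtain ⟨c, hc, hcz⟩ := (h.center_eq ▸ Subgroup.mem_zpowers z :
    z ∈ (Subgroup.center ↥Q).map Q.subtype)
  rw [← hcz]
  exact (congrArg Subtype.val (Subgroup.mem_center_iff.1 hc ⟨q, hq⟩)).symm

theorem inv_z (h : Extra Q z) : z⁻¹ = z := inv_eq_of_mul_eq_one_right h.z_sq

theorem mem_center_cases (h : Extra Q z) {x : G} (hx : x ∈ Q)
    (hc : ∀ q ∈ Q, x * q = q * x) : x = 1 ∨ x = z := by
  apply (mem_zpowers_involution h.z_sq).1
  rw [← h.center_eq]
  exact ⟨⟨x, hx⟩, Subgroup.mem_center_iff.2 fun q => Subtype.ext (hc q q.2).symm, rfl⟩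

theorem eq_one_or_z_of_mem_center (h : Extra Q z) {x : ↥Q} (hx : x ∈ Subgroup.center ↥Q) :
    (x : G) = 1 ∨ (x : G) = z := by
  apply (mem_zpowers_involution h.z_sq).1
  rw [← h.center_eq]; exact ⟨x, hx, rfl⟩

theorem sq_cases (h : Extra Q z) {x : G} (hx : x ∈ Q) : x * x = 1 ∨ x * x = z := by
  haveI : Fact (Nat.Prime 2) := ⟨Nat.prime_two⟩
  have h1 := CfsgLib.PGroup.Frattini.pow_mem_frattini h.ext.1.1 (⟨x, hx⟩ : ↥Q)
  rw [h.ext.1.2.1] at h1
  simpa [pow_two] using h.eq_one_or_z_of_mem_center h1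

theorem conj_cases (h : Extra Q z) {x q : G} (hx : x ∈ Q) (hq : q ∈ Q) :
    q * x * q⁻¹ = x ∨ q * x * q⁻¹ = x * z := by
  have h1 : ⁅(⟨q, hq⟩ : ↥Q), ⟨x, hx⟩⁆ ∈ Subgroup.center ↥Q :=
    h.ext.1.2.2 ▸ Subgroup.commutator_mem_commutator (Subgroup.mem_top _) (Subgroup.mem_top _)
  have e : q * x * q⁻¹ = (q * x * q⁻¹ * x⁻¹) * x := by group
  rcases h.eq_one_or_z_of_mem_center h1 with h2 | h2
  · left
    rw [e, show q * x * q⁻¹ * x⁻¹ = 1 from h2, one_mul]
  · right
    rw [e, show q * x * q⁻¹ * x⁻¹ = z from h2, h.z_comm hx]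

theorem conj_eq_of_not_comm (h : Extra Q z) {x q : G} (hx : x ∈ Q) (hq : q ∈ Q)
    (hn : q * x ≠ x * q) : q * x * q⁻¹ = x * z :=
  (h.conj_cases hx hq).resolve_left fun he => hn (mul_inv_eq_iff_eq_mul.1 he)

theorem exists_conj_eq (h : Extra Q z) {x : G} (hx : x ∈ Q) (h1 : x ≠ 1) (h2 : x ≠ z) :
    ∃ q ∈ Q, q * x * q⁻¹ = x * z := by
  by_contra hne
  rcases h.mem_center_cases hx fun q hq => by
    by_contra hn
    exact hne ⟨q, hq, h.conj_eq_of_not_comm hx hq (Ne.symm hn)⟩ with e | e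
  · exact h1 e
  · exact h2 e

theorem isPGroup (h : Extra Q z) : IsPGroup 2 Q := h.ext.1.1

theorem le_centralizer (h : Extra Q z) : Q ≤ Subgroup.centralizer ({z} : Set G) := fun q hq =>
  Subgroup.mem_centralizer_singleton_iff.2 (h.z_comm hq).symm

/-- An element separating `v` from a subgroup `A ∋ z` of `Q`. -/
theorem sep (h : Extra Q z) {A : Subgroup G} (hA : A ≤ Q) (hzA : z ∈ A) {v : G} (hv : v ∈ Q)
    (hvA : v ∉ A) : ∃ q ∈ Q, (∀ a ∈ A, q * a = a * q) ∧ q * v ≠ v * q := by
  by_contra hne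
  push_neg at hne
  have hcentral : ∀ x y : ↥Q, x⁻¹ * y * x * y⁻¹ ∈ Subgroup.center ↥Q := fun x y => by
    rw [← h.ext.1.2.2, _root_.commutator_def]
    simpa [commutatorElement_def] using
      Subgroup.commutator_mem_commutator (Subgroup.mem_top x⁻¹) (Subgroup.mem_top y)
  set A₁ := A.subgroupOf Q with hA₁
  set A₂ := A₁ ⊔ Subgroup.zpowers (⟨v, hv⟩ : ↥Q) with hA₂
  have hcent : Subgroup.centralizer (A₁ : Set ↥Q) = Subgroup.centralizer (A₂ : Set ↥Q) := by
    refine le_antisymm ?_ (Subgroup.centralizer_le (SetLike.coe_subset_coe.2 le_sup_left))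
    refine Subgroup.le_centralizer_iff.1 (sup_le ?_ (Subgroup.zpowers_le.2 ?_))
    · exact Subgroup.le_centralizer_iff.1 le_rfl
    · rw [Subgroup.mem_centralizer_iff]
      intro q hq
      apply Subtype.ext
      exact hne q q.2 fun a ha =>
        congrArg Subtype.val (Subgroup.mem_centralizer_iff.1 hq ⟨a, hA ha⟩ ha).symm
  have hZA : Subgroup.center ↥Q ≤ A₁ := fun x hx => by
    rcases h.eq_one_or_z_of_mem_center hx with e | e <;> rw [hA₁, Subgroup.mem_subgroupOf, e]
    · exact one_mem _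
    · exact hzA
  have d1 := Cfsg.Agent.S2880.double_count A₁ hcentral h.ext.2
  have d2 := Cfsg.Agent.S2880.double_count A₂ hcentral h.ext.2
  rw [inf_eq_right.2 hZA] at d1
  rw [inf_eq_right.2 (hZA.trans le_sup_left), ← hcent, ← d1] at d2
  have hcard := Nat.eq_of_mul_eq_mul_left Nat.card_pos d2
  have heq : A₁ = A₂ := Subgroup.eq_of_le_of_card_ge le_sup_left hcard.le
  have hmem : (⟨v, hv⟩ : ↥Q) ∈ A₁ :=
    heq.symm ▸ Subgroup.mem_sup_right (Subgroup.mem_zpowers _)
  exact hvA hmem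

theorem map_conj (h : Extra Q z) (g : G) :
    Extra (Q.map (MulAut.conj g).toMonoidHom) (g * z * g⁻¹) := by
  haveI : Fact (Nat.Prime 2) := ⟨Nat.prime_two⟩
  refine ⟨?_, fun hh => h.z_ne (conj_eq_one_iff.1 hh), ?_, ?_⟩
  · obtain ⟨⟨hp, hf, hc⟩, hz⟩ := h.ext
    let e := Q.equivMapOfInjective (MulAut.conj g).toMonoidHom (MulAut.conj g).injective
    have hcz : (Subgroup.center ↥Q).map e.toMonoidHom = Subgroup.center _ := by
      refine le_antisymm ?_ fun y hy => ⟨e.symm y, ?_, by exact e.apply_symm_apply y⟩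
      · rintro _ ⟨x, hx, rfl⟩
        rw [Subgroup.mem_center_iff]
        intro y
        obtain ⟨x', rfl⟩ := e.surjective y
        exact (map_mul e x' x).symm.trans
          ((congrArg e (Subgroup.mem_center_iff.1 hx x')).trans (map_mul e x x'))
      · rw [SetLike.mem_coe, Subgroup.mem_center_iff]
        intro x'
        apply e.injective
        rw [map_mul, map_mul, e.apply_symm_apply]
        exact Subgroup.mem_center_iff.1 hy (e x')
    refine ⟨⟨hp.of_equiv e, ?_, ?_⟩, ?_⟩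
    · rw [← hcz, ← hf]
      refine le_antisymm (fun y hy => ⟨e.symm y,
        frattini_le_comap_frattini_of_surjective (φ := e.symm.toMonoidHom) e.symm.surjective hy,
        e.apply_symm_apply y⟩) (Subgroup.map_le_iff_le_comap.2
          (frattini_le_comap_frattini_of_surjective (φ := e.toMonoidHom) e.surjective))
    · rw [← hcz, ← hc, _root_.commutator_def, _root_.commutator_def, Subgroup.map_commutator,
        Subgroup.map_top_of_surjective _ e.surjective]
    · rw [← hcz, Subgroup.card_map_of_injective e.injective, hz]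
  · rw [conj_mul, h.z_sq]; group
  · refine le_antisymm ?_ (Subgroup.zpowers_le.2 ?_)
    · rintro _ ⟨⟨y, hy⟩, hyc, rfl⟩
      obtain ⟨x, hx, rfl⟩ := hy
      rcases h.mem_center_cases hx (fun q hq => by
        have := congrArg Subtype.val
          (Subgroup.mem_center_iff.1 hyc ⟨_, Subgroup.mem_map_of_mem _ hq⟩)
        apply (MulAut.conj g).injective
        rw [map_mul, map_mul]
        exact this.symm) with rfl | rfl
      · show MulAut.conj g 1 ∈ _
        rw [map_one]; exact one_mem _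
      · exact Subgroup.mem_zpowers _
    · refine ⟨⟨_, Subgroup.mem_map_of_mem _ h.z_mem⟩, ?_, rfl⟩
      rw [SetLike.mem_coe, Subgroup.mem_center_iff]
      rintro ⟨_, q, hq, rfl⟩
      apply Subtype.ext
      show MulAut.conj g q * MulAut.conj g z = MulAut.conj g z * MulAut.conj g q
      rw [← map_mul, ← map_mul, h.z_comm hq]

end Extra

theorem mem_map_conj {Q : Subgroup G} {g x : G} :
    x ∈ Q.map (MulAut.conj g).toMonoidHom ↔ g⁻¹ * x * g ∈ Q := by
  constructor
  · rintro ⟨q, hq, rfl⟩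
    simpa [mul_assoc] using hq
  · intro hx
    exact ⟨_, hx, by simp [mul_assoc]⟩

/-- If `C(z) ≤ N(Q)`, the conjugate of `Q` depends only on the conjugate of `z`. -/
theorem conj_mem_iff {Q : Subgroup G} {z : G}
    (hN : Subgroup.centralizer ({z} : Set G) ≤ Subgroup.normalizer (Q : Set G)) {g k : G}
    (hgk : g * z * g⁻¹ = k * z * k⁻¹) (x : G) :
    g⁻¹ * x * g ∈ Q ↔ k⁻¹ * x * k ∈ Q := by
  have hc : k⁻¹ * g ∈ Subgroup.centralizer ({z} : Set G) := by
    rw [Subgroup.mem_centralizer_singleton_iff]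
    calc k⁻¹ * g * z = k⁻¹ * (g * z * g⁻¹) * g := by group
      _ = z * (k⁻¹ * g) := by rw [hgk]; group
  rw [Subgroup.mem_normalizer_iff.1 (hN hc) (g⁻¹ * x * g)]
  simp [mul_assoc]

theorem centralizer_conj_le {Q : Subgroup G} {z : G}
    (hN : Subgroup.centralizer ({z} : Set G) ≤ Subgroup.normalizer (Q : Set G)) (g : G)
    {c x : G} (hc : c * (g * z * g⁻¹) = g * z * g⁻¹ * c) (hx : g⁻¹ * x * g ∈ Q) :
    g⁻¹ * (c * x * c⁻¹) * g ∈ Q := by
  have h : g * z * g⁻¹ = c * g * z * (c * g)⁻¹ := by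
    rw [show c * g * z * (c * g)⁻¹ = c * (g * z * g⁻¹) * c⁻¹ by group, hc, mul_inv_cancel_right]
  rw [conj_mem_iff hN h]
  simpa [mul_assoc] using hx

/-- The key symmetry: `z^g ∈ Q` implies `z ∈ Q^g`, provided `C_Q(z^g)` is non-abelian. -/
theorem mem_conj_of_nonabelian {Q : Subgroup G} {z : G} (h : Extra Q z)
    (hC : ∀ x : G, (∀ q ∈ Q, x * q = q * x) → x ∈ Q)
    (hN : Subgroup.centralizer ({z} : Set G) ≤ Subgroup.normalizer (Q : Set G))
    {g : G} (hu : g * z * g⁻¹ ∈ Q) (hne : g * z * g⁻¹ ≠ z)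
    (hB : ∃ b ∈ Q, ∃ c ∈ Q, b * (g * z * g⁻¹) = g * z * g⁻¹ * b ∧
      c * (g * z * g⁻¹) = g * z * g⁻¹ * c ∧ b * c ≠ c * b) :
    g⁻¹ * z * g ∈ Q := by
  set u := g * z * g⁻¹ with hu'
  set Q' := Q.map (MulAut.conj g).toMonoidHom with hQ'
  have h' : Extra Q' u := h.map_conj g
  have hu1 : u ≠ 1 := fun e => h.z_ne (conj_eq_one_iff.1 e)
  have huu : u * u = 1 := h'.z_sq
  by_contra hz
  have hzQ' : z ∉ Q' := fun hm => hz (mem_map_conj.1 hm)
  have hzu : z * u = u * z := h.z_comm hu
  have hC' : ∀ x : G, (∀ q ∈ Q', x * q = q * x) → x = 1 ∨ x = u := by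
    intro x hx
    have : g⁻¹ * x * g ∈ Q := hC _ fun q hq => by
      have h1 := hx (g * q * g⁻¹) (mem_map_conj.2 (by simpa [mul_assoc] using hq))
      calc g⁻¹ * x * g * q = g⁻¹ * (x * (g * q * g⁻¹)) * g := by group
        _ = q * (g⁻¹ * x * g) := by rw [h1]; group
    exact h'.mem_center_cases (mem_map_conj.2 this) hx
  have hnorm : ∀ c : G, c * u = u * c → ∀ x ∈ Q', c * x * c⁻¹ ∈ Q' := fun c hc x hx =>
    mem_map_conj.2 (centralizer_conj_le hN g hc (mem_map_conj.1 hx))
  -- no element of `Q'` maps `z` to `z * u`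
  have hno : ∀ y ∈ Q', y * z * y⁻¹ ≠ z * u := by
    intro y hy he
    obtain ⟨q, hq, hqu⟩ := h.exists_conj_eq hu hu1 hne
    have hyu : y * u * y⁻¹ = u := by rw [← h'.z_comm hy, mul_inv_cancel_right]
    have hk : g * z * g⁻¹ = q * y * z * (q * y)⁻¹ := by
      have hzq : q * z * q⁻¹ = z := by rw [← h.z_comm hq, mul_inv_cancel_right]
      rw [show q * y * z * (q * y)⁻¹ = q * (y * z * y⁻¹) * q⁻¹ by group, he, ← conj_mul, hzq, hqu,
        ← mul_assoc, hzu, mul_assoc u z z, h.z_sq, mul_one]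
    have h1 : g⁻¹ * (u * z) * g ∈ Q := by
      rw [conj_mem_iff hN hk]
      have : (q * y)⁻¹ * (u * z) * (q * y) = u := by
        rw [← hqu]
        calc (q * y)⁻¹ * (q * u * q⁻¹) * (q * y) = y⁻¹ * (y * u * y⁻¹) * y := by rw [hyu]; group
          _ = u := by group
      rw [this]; exact hu
    have h2 : g⁻¹ * u * g ∈ Q := by
      rw [hu']; simpa [mul_assoc] using h.z_mem
    apply hz
    have := Q.mul_mem h2 h1
    rwa [show g⁻¹ * u * g * (g⁻¹ * (u * z) * g) = g⁻¹ * ((u * u) * z) * g by group, huu,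
      one_mul] at this
  -- `C_Q(u)` has centralizer `⟨z, u⟩` in `Q`
  have hCB : ∀ a ∈ Q, (∀ b ∈ Q, b * u = u * b → a * b = b * a) →
      a = 1 ∨ a = z ∨ a = u ∨ a = u * z := by
    intro a ha hab
    obtain ⟨q, hq, hqu⟩ := h.exists_conj_eq hu hu1 hne
    have key : ∀ a' ∈ Q, (∀ b ∈ Q, b * u = u * b → a' * b = b * a') → a' * q = q * a' →
        a' = 1 ∨ a' = z := by
      intro a' ha' hab' hq'
      refine h.mem_center_cases ha' fun x hx => ?_
      rcases h.conj_cases hu hx with e | e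
      · exact hab' x hx (mul_inv_eq_iff_eq_mul.1 e)
      · have h1 : q⁻¹ * x * u = u * (q⁻¹ * x) := by
          have : x * u * x⁻¹ = q * u * q⁻¹ := by rw [e, hqu]
          calc q⁻¹ * x * u = q⁻¹ * (x * u * x⁻¹) * x := by group
            _ = u * (q⁻¹ * x) := by rw [this]; group
        have h2 := hab' _ (Q.mul_mem (Q.inv_mem hq) hx) h1
        calc a' * x = (a' * q) * (q⁻¹ * x) := by group
          _ = q * (a' * (q⁻¹ * x)) := by rw [hq', mul_assoc]
          _ = x * a' := by rw [h2]; group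
    by_cases hq' : a * q = q * a
    · rcases key a ha hab hq' with e | e <;> simp [e]
    · have h1 : q * a * q⁻¹ = a * z := h.conj_eq_of_not_comm ha hq (Ne.symm hq')
      have h2 : (u * a) * q = q * (u * a) := by
        symm
        rw [← mul_inv_eq_iff_eq_mul, ← conj_mul, hqu, h1]
        calc u * z * (a * z) = u * (z * a) * z := by group
          _ = u * a * (z * z) := by rw [h.z_comm ha]; group
          _ = u * a := by rw [h.z_sq, mul_one]
      have huinv : u⁻¹ = u := h'.inv_z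
      rcases key (u * a) (Q.mul_mem hu ha) (fun b hb hbu => by
        rw [mul_assoc, hab b hb hbu, ← mul_assoc, ← hbu, mul_assoc]) h2 with e | e
      · right; right; left
        rw [← huinv]; exact eq_inv_of_mul_eq_one_right e
      · right; right; right
        rw [← e, ← mul_assoc, huu, one_mul]
  -- `[C_{Q'}(z), C_Q(u)] ≤ ⟨u⟩`
  have hDB : ∀ d ∈ Q', d * z = z * d → ∀ b ∈ Q, b * u = u * b →
      b * d * b⁻¹ = d ∨ b * d * b⁻¹ = d * u := by
    intro d hd hdz b hb hbu
    have hdu : d * u = u * d := (h'.z_comm hd).symm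
    set a := d⁻¹ * (b * d * b⁻¹) with ha
    have haQ' : a ∈ Q' := Q'.mul_mem (Q'.inv_mem hd) (hnorm b hbu d hd)
    have haQ : a ∈ Q := by
      have hdN := hN (Subgroup.mem_centralizer_singleton_iff.2 hdz)
      have h1 : d⁻¹ * b * d ∈ Q := (Subgroup.mem_normalizer_iff''.1 hdN b).1 hb
      rw [show a = d⁻¹ * b * d * b⁻¹ by rw [ha]; group]
      exact Q.mul_mem h1 (Q.inv_mem hb)
    have hau : a * u = u * a := (h'.z_comm haQ').symm
    have haB : ∀ b ∈ Q, b * u = u * b → a * b = b * a := by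
      intro b hb hbu
      rcases h.conj_cases haQ hb with e | e
      · exact (mul_inv_eq_iff_eq_mul.1 e).symm
      · exfalso
        have := Q'.mul_mem (Q'.inv_mem haQ') (hnorm b hbu a haQ')
        rw [e, inv_mul_cancel_left] at this
        exact hzQ' this
    rcases hCB a haQ haB with e | e | e | e
    · left; exact (mul_inv_cancel_left d (b * d * b⁻¹)).symm.trans (by rw [← ha, e, mul_one])
    · exact absurd (e ▸ haQ') hzQ'
    · right; exact (mul_inv_cancel_left d (b * d * b⁻¹)).symm.trans (by rw [← ha, e])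
    · refine absurd ?_ hzQ'
      have := Q'.mul_mem h'.z_mem (e ▸ haQ')
      rwa [← mul_assoc, huu, one_mul] at this
  -- `[Q', z] ≤ C_{Q'}(z)`
  have hw : ∀ y ∈ Q', (y * z * y⁻¹ * z⁻¹) * z = z * (y * z * y⁻¹ * z⁻¹) := by
    intro y hy
    set w := y * z * y⁻¹ * z⁻¹ with hwdef
    have hwQ : w ∈ Q' := by
      rw [show w = y * (z * y⁻¹ * z⁻¹) by rw [hwdef]; group]
      exact Q'.mul_mem hy (hnorm z hzu _ (Q'.inv_mem hy))
    have hinv : z * w * z⁻¹ = w⁻¹ := by
      have hzi := h.inv_z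
      rw [hwdef]
      simp only [mul_inv_rev, inv_inv, hzi]
      simp only [mul_assoc, h.z_sq, mul_one]
    rcases h'.sq_cases hwQ with e | e
    · rw [inv_eq_of_mul_eq_one_right e] at hinv
      exact (mul_inv_eq_iff_eq_mul.1 hinv).symm
    · exfalso
      apply hno w hwQ
      have hzw : z * w = w⁻¹ * z := mul_inv_eq_iff_eq_mul.1 hinv
      calc w * z * w⁻¹ = w * (z * w⁻¹) := by group
        _ = w * (w * z) := by
            congr 1
            calc z * w⁻¹ = z * (z * w * z⁻¹) := by rw [hinv]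
              _ = z * z * w * z⁻¹ := by group
              _ = w * z := by rw [h.z_sq, one_mul, h.inv_z]
        _ = z * u := by rw [← mul_assoc, e, hzu]
  -- `C_{Q'}(C_{Q'}(z)) ≤ C_{Q'}(z)`
  have hCD : ∀ e ∈ Q', (∀ d ∈ Q', d * z = z * d → e * d = d * e) → e * z = z * e := by
    intro e he hed
    set w := e * z * e⁻¹ * z⁻¹ with hwdef
    have hwQ : w ∈ Q' := by
      rw [show w = e * (z * e⁻¹ * z⁻¹) by rw [hwdef]; group]
      exact Q'.mul_mem he (hnorm z hzu _ (Q'.inv_mem he))
    rcases hC' w fun y hy => (by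
      set v := y * (z * y⁻¹ * z⁻¹) with hv
      have hvQ : v ∈ Q' := Q'.mul_mem hy (hnorm z hzu _ (Q'.inv_mem hy))
      have hvz : v * z = z * v := by
        rw [show v = y * z * y⁻¹ * z⁻¹ by rw [hv]; group]; exact hw y hy
      have hev : e * v * e⁻¹ = v := by rw [hed v hvQ hvz, mul_inv_cancel_right]
      -- conjugation by `e` fixes `v`; compare with its `z`-conjugate
      have hy' : z * y * z⁻¹ = v⁻¹ * y := by rw [hv]; group
      have hev' : e * v⁻¹ * e⁻¹ = v⁻¹ := by rw [← conj_inv, hev]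
      set e' := z * e * z⁻¹ with he'def
      have he'Q : e' ∈ Q' := hnorm z hzu e he
      have hcomm : ∀ y ∈ Q', ∀ x ∈ Q', z * (x * y * x⁻¹ * y⁻¹) * z⁻¹ = x * y * x⁻¹ * y⁻¹ := by
        intro y hy x hx
        rcases h'.conj_cases hy hx with c | c <;> rw [c]
        · simp
        · rw [← h'.z_comm hy]
          simp only [mul_inv_cancel_right]
          rw [hzu, mul_inv_cancel_right]
      have k1 : e' * (v⁻¹ * y) * e'⁻¹ * (v⁻¹ * y)⁻¹ = e * y * e⁻¹ * y⁻¹ := by
        have := hcomm y hy e he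
        rw [← hy']
        calc _ = z * (e * y * e⁻¹ * y⁻¹) * z⁻¹ := by rw [he'def]; group
          _ = _ := this
      have k2 : e * (v⁻¹ * y) * e⁻¹ * (v⁻¹ * y)⁻¹ = e * y * e⁻¹ * y⁻¹ := by
        rcases h'.conj_cases hy he with c | c
        · rw [c, show e * (v⁻¹ * y) * e⁻¹ = e * v⁻¹ * e⁻¹ * (e * y * e⁻¹) by group, hev', c]
          group
        · rw [show e * (v⁻¹ * y) * e⁻¹ = e * v⁻¹ * e⁻¹ * (e * y * e⁻¹) by group, hev', c,
            ← h'.z_comm hy]
          have : v⁻¹ * u = u * v⁻¹ := (h'.z_comm (Q'.inv_mem hvQ)).symm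
          calc v⁻¹ * (u * y) * (v⁻¹ * y)⁻¹ = (v⁻¹ * u) * v := by group
            _ = u := by rw [this]; group
            _ = u * y * y⁻¹ := by group
      have hwy : ∀ y' ∈ Q', e' * y' * e'⁻¹ = e * y' * e⁻¹ → w * y' = y' * w := by
        intro y' hy' hh
        have hw' : w = e * e'⁻¹ := by rw [hwdef, he'def]; group
        have hcz : e'⁻¹ * y' * e' = e⁻¹ * y' * e := by
          rcases h'.conj_cases hy' he'Q with c | c
          · rw [c] at hh
            have a1 : e'⁻¹ * y' * e' = y' := by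
              calc e'⁻¹ * y' * e' = e'⁻¹ * (e' * y' * e'⁻¹) * e' := by rw [c]
                _ = y' := by group
            have a2 : e⁻¹ * y' * e = y' := by
              calc e⁻¹ * y' * e = e⁻¹ * (e * y' * e⁻¹) * e := by rw [← hh]
                _ = y' := by group
            rw [a1, a2]
          · rw [c] at hh
            have a : ∀ k ∈ Q', k * y' * k⁻¹ = y' * u → k⁻¹ * y' * k = y' * u := by
              intro k hk hkk
              calc k⁻¹ * y' * k = k⁻¹ * (k * y' * k⁻¹ * u⁻¹) * k := by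
                    rw [hkk, mul_inv_cancel_right]
                _ = y' * (k⁻¹ * u⁻¹ * k) := by group
                _ = y' * u := by
                    rw [h'.inv_z, mul_assoc k⁻¹, h'.z_comm hk, inv_mul_cancel_left]
            rw [a e' he'Q c, a e he hh.symm]
        rw [hw']
        calc e * e'⁻¹ * y' = e * (e'⁻¹ * y' * e') * e'⁻¹ := by group
          _ = y' * (e * e'⁻¹) := by rw [hcz]; group
      have hvy := Q'.mul_mem (Q'.inv_mem hvQ) hy
      have h3 := hwy (v⁻¹ * y) hvy (mul_right_cancel (k1.trans k2.symm))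
      have he'v : e' * v * e'⁻¹ = v := by
        have hvz' : z * v * z⁻¹ = v := by rw [← hvz, mul_inv_cancel_right]
        calc e' * v * e'⁻¹ = e' * (z * v * z⁻¹) * e'⁻¹ := by rw [hvz']
          _ = z * (e * v * e⁻¹) * z⁻¹ := by rw [he'def]; group
          _ = v := by rw [hev, hvz']
      have h4 := hwy v hvQ (he'v.trans hev.symm)
      calc w * y = (w * v) * (v⁻¹ * y) := by group
        _ = v * (w * (v⁻¹ * y)) := by rw [h4, mul_assoc]
        _ = y * w := by rw [h3]; group) with r | r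
    · rw [hwdef, mul_inv_eq_one] at r
      exact mul_inv_eq_iff_eq_mul.1 r
    · exfalso
      apply hno e he
      have : e * z * e⁻¹ = w * z := by rw [hwdef]; group
      rw [this, r, hzu]
  -- so `C_Q(u)` induces an abelian group on `Q'/⟨u⟩`
  have hf : ∀ b ∈ Q, b * u = u * b → ∀ y ∈ Q',
      (b * y * b⁻¹ * y⁻¹) ∈ Q' ∧ (b * y * b⁻¹ * y⁻¹) * z = z * (b * y * b⁻¹ * y⁻¹) := by
    intro b hb hbu y hy
    set e := b * y * b⁻¹ * y⁻¹ with hedef
    have heQ : e ∈ Q' := Q'.mul_mem (hnorm b hbu y hy) (Q'.inv_mem hy)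
    refine ⟨heQ, hCD e heQ fun d hd hdz => ?_⟩
    set y' := b * y * b⁻¹ with hy'def
    have hy'Q : y' ∈ Q' := hnorm b hbu y hy
    have hbu' : b⁻¹ * u = u * b⁻¹ := (Commute.inv_left hbu).eq
    obtain ⟨d', hd', hd'e⟩ : ∃ d', (d' = d ∨ d' = d * u) ∧ b * d' * b⁻¹ = d := by
      refine ⟨b⁻¹ * d * b, ?_, by group⟩
      have := hDB d hd hdz b⁻¹ (Q.inv_mem hb) hbu'
      rwa [inv_inv] at this
    have hdy : y' * d * y'⁻¹ = y * d * y⁻¹ := by
      rcases h'.conj_cases hd hy with c | c
      · have cd' : y * d' * y⁻¹ = d' := by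
          rcases hd' with rfl | rfl
          · exact c
          · rw [← conj_mul, c, ← h'.z_comm hy, mul_inv_cancel_right]
        rw [c, hy'def, ← hd'e, show b * y * b⁻¹ * (b * d' * b⁻¹) * (b * y * b⁻¹)⁻¹ =
          b * (y * d' * y⁻¹) * b⁻¹ by group, cd']
      · have cd' : y * d' * y⁻¹ = d' * u := by
          rcases hd' with rfl | rfl
          · exact c
          · rw [← conj_mul, c, ← h'.z_comm hy, mul_inv_cancel_right]
        rw [c, hy'def, ← hd'e, show b * y * b⁻¹ * (b * d' * b⁻¹) * (b * y * b⁻¹)⁻¹ =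
          b * (y * d' * y⁻¹) * b⁻¹ by group, cd', ← conj_mul, hbu, mul_inv_cancel_right]
    have hyd : y⁻¹ * d * y = y * d * y⁻¹ := by
      rcases h'.conj_cases hd hy with c | c
      · rw [c]
        calc y⁻¹ * d * y = y⁻¹ * (y * d * y⁻¹) * y := by rw [c]
          _ = d := by group
      · rw [c]
        calc y⁻¹ * d * y = y⁻¹ * (y * d * y⁻¹ * u⁻¹) * y := by rw [c, mul_inv_cancel_right]
          _ = d * (y⁻¹ * u⁻¹ * y) := by group
          _ = d * u := by rw [h'.inv_z, mul_assoc y⁻¹, h'.z_comm hy, inv_mul_cancel_left]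
    have hey : e * d * e⁻¹ = d := by
      have h2 : y' * (y' * d * y'⁻¹) * y'⁻¹ = d := by
        rcases h'.conj_cases hd hy'Q with c | c <;> simp only [c]
        rw [← conj_mul, c, ← h'.z_comm hy'Q, mul_inv_cancel_right, mul_assoc, huu, mul_one]
      calc e * d * e⁻¹ = y' * (y⁻¹ * d * y) * y'⁻¹ := by rw [hedef]; group
        _ = d := by rw [hyd, ← hdy, h2]
    exact mul_inv_eq_iff_eq_mul.1 hey
  obtain ⟨b, hb, c, hc, hbu, hcu, hbc⟩ := hB
  -- conjugations by `b` and `c` commute modulo `⟨u⟩`, so `z = [b, c]` centralizes `Q'`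
  have hcentral : ∀ y ∈ Q', z * y = y * z := by
    intro y hy
    obtain ⟨fb, zb⟩ := hf b hb hbu y hy
    obtain ⟨fc, zc⟩ := hf c hc hcu y hy
    set e := b * y * b⁻¹ * y⁻¹ with hedef
    set f := c * y * c⁻¹ * y⁻¹ with hfdef
    have key : ∀ k ∈ Q, k * u = u * k → ∀ d ∈ Q', d * z = z * d →
        ∃ s : G, (s = 1 ∨ s = u) ∧ k * d * k⁻¹ = d * s := fun k hk hku d hd hdz => by
      rcases hDB d hd hdz k hk hku with r | r
      · exact ⟨1, Or.inl rfl, by rw [r, mul_one]⟩
      · exact ⟨u, Or.inr rfl, r⟩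
    obtain ⟨s, hs, hbf⟩ := key b hb hbu f fc zc
    obtain ⟨t, ht, hce⟩ := key c hc hcu e fb zb
    have hsu : ∀ s : G, s = 1 ∨ s = u → s ∈ Subgroup.zpowers u := by
      rintro s (rfl | rfl)
      · exact one_mem _
      · exact Subgroup.mem_zpowers _
    have h1 : b * c * y * (b * c)⁻¹ = f * s * e * y := by
      rw [← hbf, hedef, hfdef]; group
    have h2 : c * b * y * (c * b)⁻¹ = e * t * f * y := by
      rw [← hce, hedef, hfdef]; group
    have hef : ∃ r ∈ Subgroup.zpowers u, f * e = e * f * r := by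
      rcases h'.conj_cases fb fc with r | r
      · exact ⟨1, one_mem _, by rw [mul_one]; exact mul_inv_eq_iff_eq_mul.1 r⟩
      · refine ⟨u, Subgroup.mem_zpowers u, ?_⟩
        rw [mul_inv_eq_iff_eq_mul.1 r, mul_assoc e u f, h'.z_comm fc, ← mul_assoc e f u]
    have cen : ∀ r ∈ Subgroup.zpowers u, ∀ x ∈ Q', r * x = x * r := by
      intro r hr x hx
      rcases (mem_zpowers_involution huu).1 hr with rfl | rfl
      · simp
      · exact h'.z_comm hx
    obtain ⟨r, hr, hfe⟩ := hef
    obtain ⟨r', hr', hdiff⟩ : ∃ r' ∈ Subgroup.zpowers u,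
        b * c * y * (b * c)⁻¹ = r' * (c * b * y * (c * b)⁻¹) := by
      refine ⟨r * s * t⁻¹, Subgroup.mul_mem _ (Subgroup.mul_mem _ hr (hsu s hs))
        (Subgroup.inv_mem _ (hsu t ht)), ?_⟩
      rw [h1, h2]
      have efc := cen (r * s * t⁻¹) (Subgroup.mul_mem _ (Subgroup.mul_mem _ hr (hsu s hs))
        (Subgroup.inv_mem _ (hsu t ht))) (e * f) (Q'.mul_mem fb fc)
      calc f * s * e * y = f * (s * e) * y := by group
        _ = f * (e * s) * y := by rw [cen s (hsu s hs) e fb]
        _ = (f * e) * s * y := by group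
        _ = (e * f) * (r * s * t⁻¹) * t * y := by rw [hfe]; group
        _ = (r * s * t⁻¹) * (e * f) * t * y := by rw [efc]
        _ = (r * s * t⁻¹) * e * (f * t) * y := by group
        _ = _ := by rw [← cen t (hsu t ht) f fc]; group
    have hzbc : b * c = z * (c * b) := by
      have : b * c * b⁻¹ = c * z := h.conj_eq_of_not_comm hc hb hbc
      rw [mul_inv_eq_iff_eq_mul.1 this, ← mul_assoc z c b, h.z_comm hc]
    have hcbu : Commute (c * b) u := Commute.mul_left hcu hbu
    set y₁ := c * b * y * (c * b)⁻¹ with hy₁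
    have hy₁Q : y₁ ∈ Q' := hnorm (c * b) hcbu y hy
    rw [hzbc, show z * (c * b) * y * (z * (c * b))⁻¹ = z * y₁ * z⁻¹ by rw [hy₁]; group] at hdiff
    rcases (mem_zpowers_involution huu).1 hr' with rfl | rfl
    · rw [one_mul] at hdiff
      have hy1z : y₁ * z = z * y₁ := (mul_inv_eq_iff_eq_mul.1 hdiff).symm
      have hcbz : Commute (c * b) z := Commute.mul_left (h.z_comm hc).symm (h.z_comm hb).symm
      calc z * y = (c * b)⁻¹ * ((c * b) * z * y * (c * b)⁻¹) * (c * b) := by group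
        _ = (c * b)⁻¹ * (z * y₁) * (c * b) := by rw [hcbz.eq, hy₁]; group
        _ = (c * b)⁻¹ * (y₁ * z) * (c * b) := by rw [hy1z]
        _ = y * ((c * b)⁻¹ * z * (c * b)) := by rw [hy₁]; group
        _ = y * z := by rw [hcbz.symm.eq.trans rfl |> fun e => (by
            rw [mul_assoc, e, inv_mul_cancel_left] : (c * b)⁻¹ * z * (c * b) = z)]
    · exfalso
      apply hno y₁ hy₁Q
      have : z * y₁ = u * y₁ * z := mul_inv_eq_iff_eq_mul.1 hdiff
      have h3 : y₁ * z = u * (z * y₁) := by rw [this, ← mul_assoc, ← mul_assoc, huu, one_mul]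
      rw [h3, show u * (z * y₁) * y₁⁻¹ = u * z by group, hzu]
  rcases hC' z hcentral with e | e
  · exact h.z_ne e
  · exact hne e.symm

/-- When `C_Q(u)` is abelian, `C(z)` is a 2-group. -/
theorem isPGroup_centralizer_of_abelian {Q : Subgroup G} {z : G} (h : Extra Q z)
    (hC : ∀ x : G, (∀ q ∈ Q, x * q = q * x) → x ∈ Q)
    (hN : Subgroup.centralizer ({z} : Set G) ≤ Subgroup.normalizer (Q : Set G))
    {u : G} (hu : u ∈ Q) (hu1 : u ≠ 1) (hne : u ≠ z) (huu : u * u = 1)
    (hB : ∀ b ∈ Q, ∀ c ∈ Q, b * u = u * b → c * u = u * c → b * c = c * b) :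
    IsPGroup 2 (Subgroup.centralizer ({z} : Set G)) := by
  obtain ⟨q₀, hq₀, hq₀u⟩ := h.exists_conj_eq hu hu1 hne
  obtain ⟨q, hq, hqu, hqq⟩ : ∃ q ∈ Q, q * u * q⁻¹ = u * z ∧ q * q = z := by
    rcases h.sq_cases hq₀ with e | e
    · refine ⟨q₀ * u, Q.mul_mem hq₀ hu, by rw [← hq₀u]; group, ?_⟩
      calc q₀ * u * (q₀ * u) = q₀ * u * q₀⁻¹ * (q₀ * q₀) * u := by group
        _ = u * z * u := by rw [hq₀u, e, mul_one]
        _ = z := by rw [← h.z_comm hu, mul_assoc, huu, mul_one]
    · exact ⟨q₀, hq₀, hq₀u, e⟩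
  have qz : q * z * q⁻¹ = z := by rw [← h.z_comm hq, mul_inv_cancel_right]
  have shift : ∀ x ∈ Q, x * u ≠ u * x → q⁻¹ * x * u = u * (q⁻¹ * x) := by
    intro x hx hxu
    have e := h.conj_eq_of_not_comm hu hx hxu
    calc q⁻¹ * x * u = q⁻¹ * (x * u * x⁻¹) * x := by group
      _ = q⁻¹ * (q * u * q⁻¹) * x := by rw [e, hqu]
      _ = u * (q⁻¹ * x) := by group
  have memB : ∀ x ∈ Q, x * u = u * x → x * q = q * x → x = 1 ∨ x = z := by
    intro x hx hxu hxq
    refine h.mem_center_cases hx fun y hy => ?_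
    by_cases hyu : y * u = u * y
    · exact hB x hx y hy hxu hyu
    · have h2 := hB x hx (q⁻¹ * y) (Q.mul_mem (Q.inv_mem hq) hy) hxu (shift y hy hyu)
      calc x * y = (x * q) * (q⁻¹ * y) := by group
        _ = q * (x * (q⁻¹ * y)) := by rw [hxq, mul_assoc]
        _ = y * x := by rw [h2]; group
  have cenq : ∀ x ∈ Q, x * q = q * x → x ∈ Subgroup.zpowers q := by
    intro x hx hxq
    have hzq : z ∈ Subgroup.zpowers q := hqq ▸
      Subgroup.mul_mem _ (Subgroup.mem_zpowers q) (Subgroup.mem_zpowers q)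
    by_cases hxu : x * u = u * x
    · rcases memB x hx hxu hxq with rfl | rfl
      · exact one_mem _
      · exact hzq
    · have hc : q⁻¹ * x * q = q * (q⁻¹ * x) := by rw [mul_assoc, hxq]; group
      rcases memB _ (Q.mul_mem (Q.inv_mem hq) hx) (shift x hx hxu) hc with e | e
      · rw [show x = q * (q⁻¹ * x) by group, e, mul_one]; exact Subgroup.mem_zpowers q
      · rw [show x = q * (q⁻¹ * x) by group, e]
        exact Subgroup.mul_mem _ (Subgroup.mem_zpowers q) hzq
  have gen : ∀ x ∈ Q, x ∈ Subgroup.closure ({q, u} : Set G) := by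
    have hqc : q ∈ Subgroup.closure ({q, u} : Set G) := Subgroup.subset_closure (by simp)
    have huc : u ∈ Subgroup.closure ({q, u} : Set G) := Subgroup.subset_closure (by simp)
    have hzc : z ∈ Subgroup.closure ({q, u} : Set G) := hqq ▸ Subgroup.mul_mem _ hqc hqc
    have hBc : ∀ x ∈ Q, x * u = u * x → x ∈ Subgroup.closure ({q, u} : Set G) := by
      intro x hx hxu
      by_cases hxq : x * q = q * x
      · rcases memB x hx hxu hxq with rfl | rfl
        · exact one_mem _
        · exact hzc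
      · have e := h.conj_eq_of_not_comm hx hq (Ne.symm hxq)
        have hcq : (u * x) * q = q * (u * x) := by
          symm
          rw [← mul_inv_eq_iff_eq_mul, ← conj_mul, hqu, e,
            show u * z * (x * z) = u * (z * x) * z by group, h.z_comm hx]
          rw [show u * (x * z) * z = u * x * (z * z) by group, h.z_sq, mul_one]
        rcases memB _ (Q.mul_mem hu hx) (by rw [mul_assoc, hxu]) hcq with r | r
        · rw [eq_inv_of_mul_eq_one_right r]; exact Subgroup.inv_mem _ huc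
        · rw [show x = u⁻¹ * (u * x) by group, r]
          exact Subgroup.mul_mem _ (Subgroup.inv_mem _ huc) hzc
    intro x hx
    by_cases hxu : x * u = u * x
    · exact hBc x hx hxu
    · rw [show x = q * (q⁻¹ * x) by group]
      exact Subgroup.mul_mem _ hqc (hBc _ (Q.mul_mem (Q.inv_mem hq) hx) (shift x hx hxu))
  have unq : ∀ x ∈ Q, x * x = z → x = q ∨ x = q * z := by
    intro x hx hxx
    by_cases hxq : x * q = q * x
    · have hxq' := cenq x hx hxq
      have h1 : q⁻¹ * x * (q⁻¹ * x) = 1 := by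
        have hc : x * q⁻¹ = q⁻¹ * x := (Commute.inv_right hxq).eq
        rw [show q⁻¹ * x * (q⁻¹ * x) = q⁻¹ * (x * q⁻¹) * x by group, hc,
          show q⁻¹ * (q⁻¹ * x) * x = (q * q)⁻¹ * (x * x) by group, hqq, hxx, inv_mul_cancel]
      have hc' : q⁻¹ * x ∈ Subgroup.zpowers q :=
        Subgroup.mul_mem _ (Subgroup.inv_mem _ (Subgroup.mem_zpowers q)) hxq'
      obtain ⟨k, hk⟩ := Subgroup.mem_zpowers_iff.1 hc'
      rcases Int.even_or_odd k with ⟨m, rfl⟩ | ⟨m, rfl⟩
      · have : q ^ (m + m) ∈ Subgroup.zpowers z := by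
          rw [← two_mul, zpow_mul, show q ^ (2 : ℤ) = z by rw [zpow_two, hqq]]
          exact Subgroup.zpow_mem _ (Subgroup.mem_zpowers z) m
        rw [hk] at this
        rcases (mem_zpowers_involution h.z_sq).1 this with r | r
        · left; exact (mul_inv_cancel_left q x).symm.trans (by rw [r, mul_one])
        · right; exact (mul_inv_cancel_left q x).symm.trans (by rw [r])
      · exfalso
        rw [← hk, ← zpow_add, show 2 * m + 1 + (2 * m + 1) = 2 * (2 * m + 1) by ring, zpow_mul,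
          show q ^ (2 : ℤ) = z by rw [zpow_two, hqq], zpow_add, zpow_mul, zpow_two, h.z_sq,
          one_zpow, one_mul, zpow_one] at h1
        exact h.z_ne h1
    · exfalso
      -- `x = q·b` or `b` with `b ∈ ⟨z,u⟩` forces `x` to be an involution
      by_cases hxu : x * u = u * x
      · have e := h.conj_eq_of_not_comm hx hq (Ne.symm hxq)
        have hcq : (u * x) * q = q * (u * x) := by
          symm
          rw [← mul_inv_eq_iff_eq_mul, ← conj_mul, hqu, e,
            show u * z * (x * z) = u * (z * x) * z by group, h.z_comm hx]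
          rw [show u * (x * z) * z = u * x * (z * z) by group, h.z_sq, mul_one]
        have hh : (u * x) * (u * x) = z := by
          rw [show u * x * (u * x) = u * (x * u) * x by group, hxu,
            show u * (u * x) * x = (u * u) * (x * x) by group, huu, one_mul, hxx]
        rcases memB _ (Q.mul_mem hu hx) (by rw [mul_assoc, hxu]) hcq with r | r <;>
          rw [r] at hh
        · exact h.z_ne (by simpa using hh.symm)
        · exact h.z_ne (hh.symm.trans h.z_sq)
      · set b := q⁻¹ * x with hb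
        have hbu : b * u = u * b := shift x hx hxu
        have hbQ : b ∈ Q := Q.mul_mem (Q.inv_mem hq) hx
        have hbq : b * q ≠ q * b := fun e => hxq (by
          calc x * q = q * (b * q) := by rw [hb]; group
            _ = q * (q * b) := by rw [e]
            _ = q * x := by rw [hb]; group)
        have e := h.conj_eq_of_not_comm hbQ hq (Ne.symm hbq)
        have hcq : (u * b) * q = q * (u * b) := by
          symm
          rw [← mul_inv_eq_iff_eq_mul, ← conj_mul, hqu, e,
            show u * z * (b * z) = u * (z * b) * z by group, h.z_comm hbQ]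
          rw [show u * (b * z) * z = u * b * (z * z) by group, h.z_sq, mul_one]
        have hbb : b * b = 1 := by
          rcases memB _ (Q.mul_mem hu hbQ) (by rw [mul_assoc, hbu]) hcq with r | r
          · rw [eq_inv_of_mul_eq_one_right r, ← mul_inv_rev, huu, inv_one]
          · have hb' : b = u * z := by
              calc b = (u * u) * b := by rw [huu, one_mul]
                _ = u * z := by rw [mul_assoc, r]
            rw [hb', show u * z * (u * z) = u * (z * u) * z by group, h.z_comm hu,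
              show u * (u * z) * z = (u * u) * (z * z) by group, huu, h.z_sq, one_mul]
        have : x * x = 1 := by
          calc x * x = (q * b * q⁻¹) * (q * q) * b := by rw [hb]; group
            _ = b * z * z * b := by rw [e, hqq]
            _ = 1 := by rw [mul_assoc b z z, h.z_sq, mul_one, hbb]
        exact h.z_ne (hxx.symm.trans this)
  rintro ⟨c, hc⟩
  have hcz : c * z * c⁻¹ = z := by
    rw [Subgroup.mem_centralizer_singleton_iff.1 hc, mul_inv_cancel_right]
  have hcQ : ∀ d : G, d * z * d⁻¹ = z → ∀ x ∈ Q, d * x * d⁻¹ ∈ Q := fun d hd x hx =>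
    (Subgroup.mem_normalizer_iff.1 (hN (Subgroup.mem_centralizer_singleton_iff.2
      (mul_inv_eq_iff_eq_mul.1 hd))) x).1 hx
  set d := c * c with hd
  have hdz : d * z * d⁻¹ = z := by
    rw [hd, show c * c * z * (c * c)⁻¹ = c * (c * z * c⁻¹) * c⁻¹ by group, hcz, hcz]
  have hdq : d * q * d⁻¹ = q := by
    have h1 : ∀ x ∈ Q, x * x = z → c * x * c⁻¹ = q ∨ c * x * c⁻¹ = q * z := fun x hx hxx =>
      unq _ (hcQ c hcz x hx) (by rw [conj_mul, hxx, hcz])
    rw [hd, show c * c * q * (c * c)⁻¹ = c * (c * q * c⁻¹) * c⁻¹ by group]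
    rcases h1 q hq hqq with e | e <;> rw [e]
    · exact e
    · rw [← conj_mul, e, hcz, mul_assoc, h.z_sq, mul_one]
  set u' := d * u * d⁻¹ with hu'
  have hu'Q : u' ∈ Q := hcQ d hdz u hu
  have huq : u * q = q * u * z := by
    have := mul_inv_eq_iff_eq_mul.1 hqu
    rw [this, mul_assoc u z q, h.z_comm hq, show u * (q * z) * z = u * q * (z * z) by group,
      h.z_sq, mul_one]
  have hu'q : u' * q = q * u' * z := by
    have := congrArg (fun t => d * t * d⁻¹) huq
    simp only [← conj_mul, hdq, hdz] at this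
    rw [hu']; exact this
  have he : (u * u') * q = q * (u * u') := by
    rw [mul_assoc, hu'q, show u * (q * u' * z) = (u * q) * (u' * z) by group, huq,
      show q * u * z * (u' * z) = q * u * (z * u') * z by group, h.z_comm hu'Q,
      show q * u * (u' * z) * z = q * (u * u') * (z * z) by group, h.z_sq, mul_one]
  set e := u * u' with hedef
  obtain ⟨k, hk⟩ := Subgroup.mem_zpowers_iff.1 (cenq e (Q.mul_mem hu hu'Q) he)
  have hde : d * e * d⁻¹ = e := by
    rw [← hk]
    exact (conj_zpow (a := d) (b := q) (i := k)).symm.trans (by rw [hdq])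
  have hue : d * u * d⁻¹ = u * e := by rw [hedef, ← mul_assoc, huu, one_mul]
  have hpow : ∀ n : ℕ, d ^ n * u * (d ^ n)⁻¹ = u * e ^ n := by
    intro n
    induction n with
    | zero => simp
    | succ n ih =>
      rw [pow_succ', show d * d ^ n * u * (d * d ^ n)⁻¹ = d * (d ^ n * u * (d ^ n)⁻¹) * d⁻¹ by
        group, ih, ← conj_mul, hue, ← conj_pow, hde, pow_succ', mul_assoc]
  have he4 : e ^ 4 = 1 := by
    rw [show e ^ 4 = e * e * (e * e) by simp [pow_succ, mul_assoc]]
    rcases h.sq_cases (Q.mul_mem hu hu'Q) with r | r <;> rw [hedef, r]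
    · simp
    · exact h.z_sq
  have hd4 : d ^ 4 ∈ Q := hC _ fun x hx => by
    have hcl : Subgroup.closure ({q, u} : Set G) ≤ Subgroup.centralizer ({d ^ 4} : Set G) := by
      rw [Subgroup.closure_le]
      rintro y (rfl | rfl) <;> rw [SetLike.mem_coe, Subgroup.mem_centralizer_singleton_iff]
      · exact ((Commute.pow_left (show Commute d y from mul_inv_eq_iff_eq_mul.1 hdq) 4).eq).symm
      · have := hpow 4
        rw [he4, mul_one] at this
        exact (mul_inv_eq_iff_eq_mul.1 this).symm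
    exact (Subgroup.mem_centralizer_singleton_iff.1 (hcl (gen x hx))).symm
  obtain ⟨n, hn⟩ := h.isPGroup ⟨_, hd4⟩
  refine ⟨n + 3, Subtype.ext ?_⟩
  have := congrArg Subtype.val hn
  simp only [SubgroupClass.coe_pow, OneMemClass.coe_one] at this ⊢
  rw [← this, ← pow_mul, hd, ← pow_two, ← pow_mul]
  ring_nf

/-- A conjugate-stable description of `O_2(C(z))`. -/
theorem le_coreOf {Q : Subgroup G} {x : G} (hQ : IsPGroup 2 Q)
    (hle : Q ≤ Subgroup.centralizer ({x} : Set G))
    (hN : Subgroup.centralizer ({x} : Set G) ≤ Subgroup.normalizer (Q : Set G)) :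
    Q ≤ (Cfsg.pCore 2 ↥(Subgroup.centralizer ({x} : Set G))).map
      (Subgroup.centralizer ({x} : Set G)).subtype := by
  haveI := Subgroup.normal_subgroupOf_of_le_normalizer hN
  have h1 := CfsgLib.Solvable.Cores.le_pCore (p := 2)
    (hQ.of_equiv (Subgroup.subgroupOfEquivOfLe hle).symm)
  intro q hq
  exact ⟨⟨q, hle hq⟩, h1 hq, rfl⟩

/-- `O_2(C(x))` as a subgroup of `G`. -/
theorem coreOf_props (x : G) :
    (Cfsg.pCore 2 ↥(Subgroup.centralizer ({x} : Set G))).map
      (Subgroup.centralizer ({x} : Set G)).subtype ≤ Subgroup.centralizer ({x} : Set G) ∧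
    IsPGroup 2 ↥((Cfsg.pCore 2 ↥(Subgroup.centralizer ({x} : Set G))).map
      (Subgroup.centralizer ({x} : Set G)).subtype) ∧
    Subgroup.centralizer ({x} : Set G) ≤ Subgroup.normalizer
      ((Cfsg.pCore 2 ↥(Subgroup.centralizer ({x} : Set G))).map
        (Subgroup.centralizer ({x} : Set G)).subtype : Set G) := by
  refine ⟨Subgroup.map_subtype_le _,
    (CfsgLib.Solvable.Cores.isPGroup_pCore 2).map _, ?_⟩
  intro c hc
  rw [Subgroup.mem_normalizer_iff]
  intro q
  have key : ∀ c : ↥(Subgroup.centralizer ({x} : Set G)), ∀ q ∈ (Cfsg.pCore 2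
      ↥(Subgroup.centralizer ({x} : Set G))).map (Subgroup.centralizer ({x} : Set G)).subtype,
      (c : G) * q * (c : G)⁻¹ ∈ (Cfsg.pCore 2 ↥(Subgroup.centralizer ({x} : Set G))).map
        (Subgroup.centralizer ({x} : Set G)).subtype := by
    rintro c _ ⟨q, hq, rfl⟩
    exact ⟨c * q * c⁻¹, (CfsgLib.Solvable.Cores.pCore_normal 2).conj_mem q hq c, rfl⟩
  refine ⟨key ⟨c, hc⟩ q, fun h => ?_⟩
  have := key ⟨c⁻¹, Subgroup.inv_mem _ hc⟩ _ h
  simpa [mul_assoc] using this

/-- If `t` acts on an odd order subgroup without fixed points, it inverts it. -/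
theorem inverts {K : Subgroup G} (hK : Odd (Nat.card K)) {t : G} (ht : t * t = 1)
    (hnorm : ∀ k ∈ K, t * k * t⁻¹ ∈ K) (hfix : ∀ k ∈ K, t * k = k * t → k = 1) :
    ∀ k ∈ K, t * k * t⁻¹ = k⁻¹ := by
  have _ := hK
  let φ : K →* K :=
    { toFun := fun k => ⟨t * k * t⁻¹, hnorm k k.2⟩
      map_one' := Subtype.ext (by simp)
      map_mul' := fun a b => Subtype.ext (by simp [conj_mul]) }
  have hφ : MonoidHom.FixedPointFree φ := fun k hk =>
    Subtype.ext (hfix k k.2 (mul_inv_eq_iff_eq_mul.1 (congrArg Subtype.val hk)))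
  have h2 : Function.Involutive φ := fun k => Subtype.ext (by
    show t * (t * k * t⁻¹) * t⁻¹ = k
    rw [show t * (t * (k : G) * t⁻¹) * t⁻¹ = t * t * k * (t * t)⁻¹ by group, ht]; simp)
  intro k hk
  exact congrArg Subtype.val (congrFun (hφ.coe_eq_inv_of_involutive h2) ⟨k, hk⟩)

/-- Largeness from an involution `b ∈ Q ∖ Z` with `z ∈ O_2(C(b))`. -/
theorem eq_bot_of_odd_normalized {Q : Subgroup G} {z : G} (h : Extra Q z)
    (hC : ∀ x : G, (∀ q ∈ Q, x * q = q * x) → x ∈ Q)
    (hN : Subgroup.centralizer ({z} : Set G) ≤ Subgroup.normalizer (Q : Set G))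
    {b : G} (hb : b ∈ Q) (hbb : b * b = 1) (hb1 : b ≠ 1) (hbz : b ≠ z)
    (hz : z ∈ (Cfsg.pCore 2 ↥(Subgroup.centralizer ({b} : Set G))).map
      (Subgroup.centralizer ({b} : Set G)).subtype)
    {K : Subgroup G} (hK : Odd (Nat.card K)) (hQK : Q ≤ Subgroup.normalizer (K : Set G)) :
    K = ⊥ := by
  obtain ⟨-, hP, hPn⟩ := coreOf_props b
  have odd_two : ∀ (P : Subgroup G), IsPGroup 2 P → ∀ k ∈ K, k ∈ P → k = 1 := by
    intro P hP k hkK hkP
    obtain ⟨n, hn⟩ := hP ⟨k, hkP⟩
    have e1 : orderOf k ∣ 2 ^ n := orderOf_dvd_of_pow_eq_one (by simpa using congrArg Subtype.val hn)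
    have e2 : Odd (orderOf k) := hK.of_dvd_nat (Subgroup.orderOf_dvd_natCard K hkK)
    exact orderOf_eq_one_iff.1 (((Nat.coprime_two_right.2 e2).pow_right n).eq_one_of_dvd e1)
  have hconj : ∀ q ∈ Q, ∀ k ∈ K, q * k * q⁻¹ ∈ K := fun q hq k hk =>
    (Subgroup.mem_normalizer_iff.1 (hQK hq) k).1 hk
  have fz : ∀ k ∈ K, z * k = k * z → k = 1 := by
    intro k hk hzk
    have hkN := hN (Subgroup.mem_centralizer_singleton_iff.2 hzk.symm)
    refine odd_two Q h.isPGroup k hk (hC k fun q hq => ?_)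
    have hm : k * (q * k⁻¹ * q⁻¹) ∈ K := K.mul_mem hk (hconj q hq _ (K.inv_mem hk))
    have hm' : k * (q * k⁻¹ * q⁻¹) ∈ Q := by
      rw [show k * (q * k⁻¹ * q⁻¹) = (k * q * k⁻¹) * q⁻¹ by group]
      exact Q.mul_mem ((Subgroup.mem_normalizer_iff.1 hkN q).1 hq) (Q.inv_mem hq)
    have := odd_two Q h.isPGroup _ hm hm'
    calc k * q = k * (q * k⁻¹ * q⁻¹) * (q * k) := by group
      _ = q * k := by rw [this, one_mul]
  have fb : ∀ k ∈ K, b * k = k * b → k = 1 := by
    intro k hk hbk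
    refine fz k hk ?_
    have hm : z * k * z⁻¹ * k⁻¹ ∈ K := K.mul_mem (hconj z h.z_mem k hk) (K.inv_mem hk)
    have hkN := hPn (Subgroup.mem_centralizer_singleton_iff.2 hbk.symm)
    have hm' := Subgroup.mul_mem _ hz
      ((Subgroup.mem_normalizer_iff.1 hkN z⁻¹).1 (Subgroup.inv_mem _ hz))
    rw [show z * (k * z⁻¹ * k⁻¹) = z * k * z⁻¹ * k⁻¹ by group] at hm'
    have := odd_two _ hP _ hm hm'
    exact mul_inv_eq_iff_eq_mul.1 (mul_inv_eq_one.1 this)
  have iz := inverts hK h.z_sq (hconj z h.z_mem) fz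
  have ib := inverts hK hbb (hconj b hb) fb
  rw [Subgroup.eq_bot_iff_forall]
  intro k hk
  obtain ⟨q, hq, hqb⟩ := h.exists_conj_eq hb hb1 hbz
  have hc : (b * z) * k = k * (b * z) := by
    rw [← mul_inv_eq_iff_eq_mul, show b * z * k * (b * z)⁻¹ = b * (z * k * z⁻¹) * b⁻¹ by group,
      iz k hk, ← conj_inv, ib k hk, inv_inv]
  -- pull back by `q`
  have h1 := fb (q⁻¹ * k * q) (by simpa using hconj q⁻¹ (Q.inv_mem hq) k hk) (by
    calc b * (q⁻¹ * k * q) = q⁻¹ * ((q * b * q⁻¹) * k) * q := by group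
      _ = q⁻¹ * (k * (q * b * q⁻¹)) * q := by rw [hqb, hc]
      _ = q⁻¹ * k * q * b := by group)
  calc k = q * (q⁻¹ * k * q) * q⁻¹ := by group
    _ = 1 := by rw [h1]; group

end CfsgLib.ThreeTransp.Extraspecial
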