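import Cfsg.Prelude.Def_Transfer
import Cfsg.Prelude.Def_KGroupFacts
import Cfsg.Prelude.Def_Classical
import Cfsg.Agent.Lib.Orth.WittIndex
import Cfsg.Agent.Lib.Orth.Bridge
import Cfsg.Agent.Lib.PGroup.Frattini

/-!
# The automorphisms of an extraspecial 2-group and its quadratic space
-/

set_option autoImplicit false
set_option linter.unusedSectionVars false

namespace CfsgLib.ThreeTransp.ExtraspecialOut

open QuadraticMap CfsgLib.Orth
open scoped commutatorElement

/-- Isometric forms have isomorphic orthogonal groups. -/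
def orthCongr {F V V' : Type*} [Field F] [AddCommGroup V] [Module F V] [AddCommGroup V'] [Module F V'] {Q : QuadraticForm F V} {Q' : QuadraticForm F V'} (e : V ≃ₗ[F] V')
    (he : ∀ v, Q' (e v) = Q v) : orthGroup Q ≃* orthGroup Q' where
  toFun g := ⟨(e.symm.trans g.1).trans e, fun v => by
    change Q' (e (g.1 (e.symm v))) = Q' v
    rw [he, apply_quad, ← he, e.apply_symm_apply]⟩
  invFun g := ⟨(e.trans g.1).trans e.symm, fun v => by
    change Q (e.symm (g.1 (e v))) = Q v
    rw [← he, e.apply_symm_apply, apply_quad, he]⟩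
  left_inv g := Subtype.ext (LinearEquiv.ext fun v => by
    change e.symm (e (g.1 (e.symm (e v)))) = g.1 v
    rw [e.symm_apply_apply, e.symm_apply_apply])
  right_inv g := Subtype.ext (LinearEquiv.ext fun v => by
    change e (e.symm (g.1 (e (e.symm v)))) = g.1 v
    rw [e.apply_symm_apply, e.apply_symm_apply])
  map_mul' a b := Subtype.ext (LinearEquiv.ext fun v => by
    change e (a.1 (b.1 (e.symm v))) = e (a.1 (e.symm (e (b.1 (e.symm v)))))
    rw [e.symm_apply_apply])

variable {E : Type*} [Group E]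

/-- Coordinates on the quotient by the centre of order two. -/
structure Frame (E : Type*) [Group E] (k : ℕ) where
  z : E
  π : E → (Fin k → ZMod 2)
  z_comm : ∀ x : E, z * x = x * z
  z_sq : z * z = 1
  z_ne : z ≠ 1
  π_mul : ∀ x y, π (x * y) = π x + π y
  π_surj : Function.Surjective π
  π_ker : ∀ x, π x = 0 ↔ x = 1 ∨ x = z
  center_le : ∀ x : E, (∀ y, x * y = y * x) → x = 1 ∨ x = z

open scoped Classical in
theorem exists_frame [Finite E] (hE : Cfsg.IsExtraspecial 2 E) :
    ∃ k, Nonempty (Frame E k) := by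
  have hP := hE.1.1
  set Z := Subgroup.center E with hZ
  have hab : ∀ a b : E ⧸ Z, a * b = b * a := by
    intro a b
    induction a using QuotientGroup.induction_on
    induction b using QuotientGroup.induction_on
    rename_i x y
    rw [← QuotientGroup.mk_mul, ← QuotientGroup.mk_mul, QuotientGroup.eq]
    have h : ⁅y⁻¹, x⁻¹⁆ ∈ Z := by
      rw [hZ, ← hE.1.2.2]
      exact Subgroup.commutator_mem_commutator (Subgroup.mem_top _) (Subgroup.mem_top _)
    rw [commutatorElement_def] at h
    simpa [mul_assoc] using h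
  let _ : CommGroup (E ⧸ Z) := { (inferInstance : Group (E ⧸ Z)) with mul_comm := hab }
  have h2 : ∀ v : Additive (E ⧸ Z), 2 • v = 0 := by
    intro v
    obtain ⟨x, hx⟩ := QuotientGroup.mk_surjective v.toMul
    apply Additive.toMul.injective
    rw [toMul_nsmul, toMul_zero, ← hx, ← QuotientGroup.mk_pow, QuotientGroup.eq_one_iff, hZ, ← hE.1.2.1]
    exact CfsgLib.PGroup.Frattini.pow_mem_frattini hP x
  let _ : Module (ZMod 2) (Additive (E ⧸ Z)) := AddCommGroup.zmodModule h2
  have : Fact (Nat.Prime 2) := ⟨Nat.prime_two⟩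
  let b := Module.finBasis (ZMod 2) (Additive (E ⧸ Z))
  obtain ⟨z, hz, hz1, huniq⟩ : ∃ z ∈ Z, z ≠ 1 ∧ ∀ x ∈ Z, x = 1 ∨ x = z := by
    obtain ⟨a, b', hab', huniv⟩ := Nat.card_eq_two_iff.1 (show Nat.card Z = 2 from hE.2)
    have hall : ∀ x : Z, x = a ∨ x = b' := fun x => by
      have : x ∈ (Set.univ : Set Z) := trivial
      rw [← huniv] at this
      exact this
    rcases hall 1 with e | e
    · refine ⟨b', b'.2, fun h => hab' (e.symm.trans (Subtype.ext (by rw [h]; rfl))), fun x hx => ?_⟩
      exact (hall ⟨x, hx⟩).imp (fun h => by rw [← e] at h; exact congrArg Subtype.val h) fun h => congrArg Subtype.val h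
    · refine ⟨a, a.2, fun h => hab' ((Subtype.ext (by rw [h]; rfl) : a = 1).trans e), fun x hx => ?_⟩
      exact (hall ⟨x, hx⟩).symm.imp (fun h => by rw [← e] at h; exact congrArg Subtype.val h) fun h => congrArg Subtype.val h
  refine ⟨_, ⟨{
    z := z
    π := fun x => b.equivFun (Additive.ofMul (QuotientGroup.mk x : E ⧸ Z))
    z_comm := fun x => ((Subgroup.mem_center_iff.1 hz) x).symm
    z_sq := by
      rcases huniq _ (mul_mem hz hz) with h | h
      · exact h
      · exact absurd (mul_left_cancel (h.trans (mul_one z).symm)) hz1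
    z_ne := hz1
    π_mul := fun x y => by
      show b.equivFun (Additive.ofMul ((x : E ⧸ Z) * (y : E ⧸ Z))) = _
      rw [ofMul_mul, map_add]
    π_surj := fun w => by
      obtain ⟨x, hx⟩ := QuotientGroup.mk_surjective (b.equivFun.symm w).toMul
      exact ⟨x, by
        show b.equivFun (Additive.ofMul (QuotientGroup.mk x : E ⧸ Z)) = w
        rw [hx, ofMul_toMul, LinearEquiv.apply_symm_apply]⟩
    π_ker := fun x => by
      rw [LinearEquiv.map_eq_zero_iff, ← toMul_eq_one, toMul_ofMul, QuotientGroup.eq_one_iff]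
      exact ⟨huniq x, by rintro (rfl | rfl); exacts [one_mem _, hz]⟩
    center_le := fun x hx => huniq x (Subgroup.mem_center_iff.2 fun y => (hx y).symm) }⟩⟩

variable {k : ℕ} (f : Frame E k)

local notation "W" => Fin k → ZMod 2

theorem π_one : f.π 1 = 0 := (f.π_ker 1).2 (Or.inl rfl)

theorem π_z : f.π f.z = 0 := (f.π_ker _).2 (Or.inr rfl)

theorem vec_add_self (w : W) : w + w = 0 := funext fun i => CharTwo.add_self_eq_zero _

theorem π_inv (x : E) : f.π x⁻¹ = f.π x := by
  have h : f.π x + f.π x⁻¹ = 0 := by rw [← f.π_mul, mul_inv_cancel, π_one]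
  rw [← add_zero (f.π x⁻¹), ← vec_add_self (f.π x), ← add_assoc, add_comm (f.π x⁻¹), h, zero_add]

open scoped Classical in
/-- The exponent of a central element. -/
noncomputable def ε (x : E) : ZMod 2 := if x = 1 then 0 else 1

theorem ε_cases {x y : E} (hx : x = 1 ∨ x = f.z) (hy : y = 1 ∨ y = f.z) :
    ε (x * y) = ε x + ε y := by
  rcases hx with rfl | rfl <;> rcases hy with rfl | rfl <;> simp [ε, f.z_sq, f.z_ne]
  decide

theorem ε_inj {x y : E} (hx : x = 1 ∨ x = f.z) (hy : y = 1 ∨ y = f.z) (h : ε x = ε y) : x = y := by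
  rcases hx with rfl | rfl <;> rcases hy with rfl | rfl <;> simp [ε, f.z_ne] at h ⊢

theorem central {y : E} (hy : y = 1 ∨ y = f.z) (x : E) : y * x = x * y := by
  rcases hy with rfl | rfl
  · rw [one_mul, mul_one]
  · exact f.z_comm x

theorem of_π_eq {x y : E} (h : f.π x = f.π y) : x⁻¹ * y = 1 ∨ x⁻¹ * y = f.z := by
  rw [← f.π_ker, f.π_mul, π_inv, h, vec_add_self]

theorem sq_cases (x : E) : x * x = 1 ∨ x * x = f.z := by
  rw [← f.π_ker, f.π_mul, vec_add_self]

/-- A lift. -/
noncomputable def sec (w : W) : E := Function.surjInv f.π_surj w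

theorem π_sec (w : W) : f.π (sec f w) = w := Function.surjInv_eq f.π_surj w

/-- The commutator with values in the centre. -/
def cm (x y : E) : E := x⁻¹ * y * x * y⁻¹

theorem cm_cases (x y : E) : cm x y = 1 ∨ cm x y = f.z := by
  rw [cm, ← f.π_ker, f.π_mul, f.π_mul, f.π_mul, π_inv, π_inv,
    show f.π x + f.π y + f.π x + f.π y = (f.π x + f.π x) + (f.π y + f.π y) by abel,
    vec_add_self, vec_add_self, add_zero]

/-- The quadratic function. -/
noncomputable def qf (w : W) : ZMod 2 := ε (sec f w * sec f w)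

theorem qf_π (x : E) : qf f (f.π x) = ε (x * x) := by
  rw [qf]
  set y := sec f (f.π x)
  have h := of_π_eq f (x := x) (y := y) (π_sec f _).symm
  congr 1
  calc y * y = x * (x⁻¹ * y) * (x * (x⁻¹ * y)) := by group
    _ = x * x * ((x⁻¹ * y) * (x⁻¹ * y)) := by
      rw [mul_assoc x, ← mul_assoc (x⁻¹ * y) x, central f h x]; simp only [mul_assoc]
    _ = x * x := by
      rcases h with e | e <;> rw [e]
      · rw [one_mul, mul_one]
      · rw [f.z_sq, mul_one]

theorem qf_add (x y : E) : qf f (f.π x + f.π y) = qf f (f.π x) + qf f (f.π y) + ε (cm x y) := by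
  rw [← f.π_mul, qf_π, qf_π, qf_π,
    show x * y * (x * y) = x * x * (cm x y * (y * y)) by simp only [cm]; group,
    ε_cases f (sq_cases f x), ε_cases f (cm_cases f x y) (sq_cases f y)]
  · ring
  · rcases cm_cases f x y with e | e <;> rcases sq_cases f y with e' | e' <;> rw [e, e'] <;>
      simp [f.z_sq]

theorem polar_qf (x y : E) : polar (qf f) (f.π x) (f.π y) = ε (cm x y) := by
  rw [polar, qf_add]; ring

include f in
theorem cm_mul (x y y' : E) : cm x (y * y') = cm x y * cm x y' := by
  have h := central f (cm_cases f x y') y⁻¹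
  calc cm x (y * y') = x⁻¹ * y * x * (cm x y' * y⁻¹) := by simp only [cm]; group
    _ = x⁻¹ * y * x * (y⁻¹ * cm x y') := by rw [h]
    _ = cm x y * cm x y' := by simp only [cm]; group

theorem qf_zero : qf f 0 = 0 := by
  rw [← π_one f, qf_π, one_mul, ε, if_pos rfl]

theorem polar_add_right' (x y y' : W) : polar (qf f) x (y + y') = polar (qf f) x y + polar (qf f) x y' := by
  obtain ⟨a, rfl⟩ := f.π_surj x
  obtain ⟨b, rfl⟩ := f.π_surj y
  obtain ⟨b', rfl⟩ := f.π_surj y'
  rw [← f.π_mul, polar_qf, polar_qf, polar_qf, cm_mul f, ε_cases f (cm_cases f a b) (cm_cases f a b')]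

/-- The quadratic form. -/
noncomputable def Q : QuadraticForm (ZMod 2) W :=
  QuadraticMap.ofPolar (qf f)
    (fun a x => by
      rcases (by decide : ∀ a : ZMod 2, a = 0 ∨ a = 1) a with rfl | rfl
      · simp [qf_zero]
      · simp)
    (fun x x' y => by rw [polar_comm, polar_add_right', polar_comm _ y x, polar_comm _ y x'])
    (fun a x y => by
      rcases (by decide : ∀ a : ZMod 2, a = 0 ∨ a = 1) a with rfl | rfl
      · simp [polar, qf_zero]
      · simp)

theorem Q_apply (w : W) : Q f w = qf f w := rfl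

theorem polar_Q (x y : E) : polar (Q f) (f.π x) (f.π y) = ε (cm x y) := polar_qf f x y

theorem nondeg : (polarBilin (Q f)).Nondegenerate := by
  refine nondegenerate_of_left fun v hv => ?_
  obtain ⟨x, rfl⟩ := f.π_surj v
  refine (f.π_ker x).2 (f.center_le x fun y => ?_)
  have h := hv (f.π y)
  rw [polar_Q] at h
  have h1 : cm x y = 1 := ε_inj f (cm_cases f x y) (Or.inl rfl) (by rw [h, ε, if_pos rfl])
  rw [cm, mul_inv_eq_one, mul_assoc, inv_mul_eq_iff_eq_mul] at h1
  exact h1.symm

/-! ### The action of automorphisms -/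

theorem φ_z (φ : MulAut E) : φ f.z = f.z := by
  refine (f.center_le _ fun y => ?_).resolve_left fun h => f.z_ne (φ.injective (h.trans (map_one φ).symm))
  rw [← φ.apply_symm_apply y, ← map_mul, ← map_mul, f.z_comm]

theorem φ_cases (φ : MulAut E) {x : E} (hx : x = 1 ∨ x = f.z) : φ x = x := by
  rcases hx with rfl | rfl
  · exact map_one φ
  · exact φ_z f φ

/-- The induced map. -/
noncomputable def act (φ : MulAut E) (w : W) : W := f.π (φ (sec f w))

theorem act_π (φ : MulAut E) (x : E) : act f φ (f.π x) = f.π (φ x) := by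
  have h := of_π_eq f (x := x) (y := sec f (f.π x)) (π_sec f _).symm
  rw [act, show φ (sec f (f.π x)) = φ x * φ (x⁻¹ * sec f (f.π x)) by rw [← map_mul, mul_inv_cancel_left],
    φ_cases f φ h, f.π_mul, (f.π_ker _).2 h, add_zero]

theorem act_mul (φ ψ : MulAut E) (w : W) : act f (φ * ψ) w = act f φ (act f ψ w) := by
  obtain ⟨x, rfl⟩ := f.π_surj w
  rw [act_π, act_π, act_π]
  rfl

theorem act_one (w : W) : act f 1 w = w := by rw [act, MulAut.one_apply, π_sec]

theorem act_add (φ : MulAut E) (v w : W) : act f φ (v + w) = act f φ v + act f φ w := by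
  obtain ⟨x, rfl⟩ := f.π_surj v
  obtain ⟨y, rfl⟩ := f.π_surj w
  rw [← f.π_mul, act_π, act_π, act_π, map_mul, f.π_mul]

/-- The induced linear equivalence. -/
noncomputable def actEquiv (φ : MulAut E) : W ≃ₗ[ZMod 2] W :=
  LinearEquiv.ofLinearMap
    ((AddMonoidHom.mk' (act f φ) (act_add f φ)).toZModLinearMap 2)
    ((AddMonoidHom.mk' (act f φ⁻¹) (act_add f φ⁻¹)).toZModLinearMap 2)
    (LinearMap.ext fun w => by
      show act f φ (act f φ⁻¹ w) = w
      rw [← act_mul, mul_inv_cancel, act_one])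
    (LinearMap.ext fun w => by
      show act f φ⁻¹ (act f φ w) = w
      rw [← act_mul, inv_mul_cancel, act_one])

/-- The map to the orthogonal group. -/
noncomputable def toO : MulAut E →* orthGroup (Q f) where
  toFun φ := ⟨actEquiv f φ, fun w => by
    obtain ⟨x, rfl⟩ := f.π_surj w
    show qf f (act f φ (f.π x)) = qf f (f.π x)
    rw [act_π, qf_π, qf_π, ← map_mul, φ_cases f φ (sq_cases f x)]⟩
  map_one' := Subtype.ext (LinearEquiv.ext fun w => act_one f w)
  map_mul' φ ψ := Subtype.ext (LinearEquiv.ext fun w => act_mul f φ ψ w)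

theorem toO_apply (φ : MulAut E) (x : E) : (toO f φ).1 (f.π x) = f.π (φ x) := act_π f φ x

section

variable [Finite E]

theorem toO_surjective : Function.Surjective (toO f) := by
  classical
  intro g
  let P : Subgroup (E × E) :=
    { carrier := {p | g.1 (f.π p.1) = f.π p.2}
      one_mem' := by show g.1 (f.π 1) = f.π 1; rw [π_one, map_zero]
      mul_mem' := fun {p p'} hp hp' => by
        show g.1 (f.π (p.1 * p'.1)) = f.π (p.2 * p'.2)
        rw [f.π_mul, f.π_mul, map_add, (hp : g.1 _ = _), (hp' : g.1 _ = _)]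
      inv_mem' := fun {p} hp => by
        show g.1 (f.π p.1⁻¹) = f.π p.2⁻¹
        rw [π_inv, π_inv]; exact hp }
  let d : E × E := (f.z, f.z)
  let c : E × E := (f.z, 1)
  have hcc : c * c = 1 := Prod.ext f.z_sq (one_mul 1)
  let C : Set (Subgroup (E × E)) := {M | M ≤ P ∧ d ∈ M ∧ c ∉ M}
  have hne : C.Nonempty := by
    refine ⟨Subgroup.zpowers d, ?_, Subgroup.mem_zpowers d, ?_⟩
    · rw [Subgroup.zpowers_le]
      show g.1 (f.π f.z) = f.π f.z
      rw [π_z, map_zero]
    · intro h
      obtain ⟨j, hj⟩ := Subgroup.mem_zpowers_iff.1 h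
      have h1 : f.z ^ j = f.z := congrArg Prod.fst hj
      have h2 : f.z ^ j = 1 := congrArg Prod.snd hj
      exact f.z_ne (h1.symm.trans h2)
  obtain ⟨M, ⟨hMP, hdM, hcM⟩, hmax⟩ := (Set.toFinite C).exists_maximal hne
  have hquad : ∀ p ∈ P, p * p ∈ M := by
    intro p hp
    have e : ε (p.1 * p.1) = ε (p.2 * p.2) := by
      rw [← qf_π f, ← qf_π f, ← (hp : g.1 (f.π p.1) = f.π p.2)]
      exact (apply_quad g _).symm
    have e' := ε_inj f (sq_cases f p.1) (sq_cases f p.2) e
    have hp' : p * p = (p.1 * p.1, p.1 * p.1) := Prod.ext rfl e'.symm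
    rw [hp']
    rcases sq_cases f p.1 with h | h <;> rw [h]
    · exact one_mem M
    · exact hdM
  have hcomm : ∀ p ∈ P, ∀ m ∈ P, p⁻¹ * m * p * m⁻¹ ∈ M := by
    intro p hp m hm
    have e : ε (cm p.1 m.1) = ε (cm p.2 m.2) := by
      rw [← polar_Q f, ← polar_Q f, ← (hp : g.1 (f.π p.1) = f.π p.2), ← (hm : g.1 (f.π m.1) = f.π m.2),
        polar_isom]
    have e' := ε_inj f (cm_cases f p.1 m.1) (cm_cases f p.2 m.2) e
    have hp' : p⁻¹ * m * p * m⁻¹ = (cm p.1 m.1, cm p.1 m.1) := Prod.ext rfl e'.symm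
    rw [hp']
    rcases cm_cases f p.1 m.1 with h | h <;> rw [h]
    · exact one_mem M
    · exact hdM
  have hcP : c ∈ P := by
    show g.1 (f.π f.z) = f.π 1
    rw [π_z, π_one, map_zero]
  have hhalf : ∀ p ∈ P, p ∈ M ∨ p * c ∈ M := by
    intro p hp
    by_contra hcon
    push Not at hcon
    have hnorm : ∀ m ∈ M, p⁻¹ * m * p ∈ M := fun m hm => by
      have := mul_mem (hcomm p hp m (hMP hm)) hm
      rwa [inv_mul_cancel_right] at this
    let M' : Subgroup (E × E) :=
      { carrier := {x | x ∈ M ∨ p * x ∈ M}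
        one_mem' := Or.inl (one_mem _)
        mul_mem' := fun {x y} hx hy => by
          rcases hx with hx | hx <;> rcases hy with hy | hy
          · exact Or.inl (mul_mem hx hy)
          · refine Or.inr ?_
            have h1 : p * x * p⁻¹ ∈ M := by
              have h := hnorm x hx
              have hpp := hquad p hp
              have := mul_mem (mul_mem hpp h) (inv_mem hpp)
              simpa [mul_assoc] using this
            have := mul_mem h1 hy
            simpa [mul_assoc] using this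
          · refine Or.inr ?_
            rw [← mul_assoc]
            exact mul_mem hx hy
          · refine Or.inl ?_
            have hxp : x * p ∈ M := by
              have := hnorm _ hx
              simpa [mul_assoc] using this
            have hyp : p⁻¹ * y ∈ M := by
              have := mul_mem (inv_mem (hquad p hp)) hy
              simpa [mul_assoc] using this
            have := mul_mem hxp hyp
            simpa [mul_assoc] using this
        inv_mem' := fun {x} hx => by
          rcases hx with hx | hx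
          · exact Or.inl (inv_mem hx)
          · refine Or.inr ?_
            have hxp : x * p ∈ M := by
              have := hnorm _ hx
              simpa [mul_assoc] using this
            have := mul_mem (hquad p hp) (inv_mem hxp)
            simpa [mul_assoc] using this }
    have hM'C : M' ∈ C := by
      refine ⟨?_, Or.inl hdM, ?_⟩
      · rintro x (hx | hx)
        · exact hMP hx
        · have := mul_mem (inv_mem hp) (hMP hx)
          rwa [inv_mul_cancel_left] at this
      · rintro (h | h)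
        · exact hcM h
        · exact hcon.2 h
    exact hcon.1 (hmax hM'C (fun x hx => Or.inl hx) (Or.inr (hquad p hp)))
  have hfst : Function.Bijective (fun m : M => m.1.1) := by
    constructor
    · intro a b e
      have h : (1, a.1.2⁻¹ * b.1.2) ∈ M := by
        have := mul_mem (inv_mem a.2) b.2
        have e1 : (a.1⁻¹ * b.1).1 = 1 := by
          show a.1.1⁻¹ * b.1.1 = 1
          rw [show a.1.1 = b.1.1 from e, inv_mul_cancel]
        rwa [show a.1⁻¹ * b.1 = (1, a.1.2⁻¹ * b.1.2) from Prod.ext e1 rfl] at this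
      have hP := hMP h
      change g.1 (f.π 1) = f.π (a.1.2⁻¹ * b.1.2) at hP
      rw [π_one, map_zero] at hP
      rcases (f.π_ker _).1 hP.symm with e2 | e2
      · exact Subtype.ext (Prod.ext e (inv_mul_eq_one.1 e2))
      · refine absurd ?_ hcM
        have := mul_mem hdM (inv_mem h)
        rwa [e2, show d * ((1 : E), f.z)⁻¹ = c from Prod.ext (by simp [d, c]) (by simp [d, c])] at this
    · intro x
      obtain ⟨y, hy⟩ := f.π_surj (g.1 (f.π x))
      rcases hhalf (x, y) hy.symm with h | h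
      · exact ⟨⟨_, h⟩, rfl⟩
      · refine ⟨⟨_, mul_mem h hdM⟩, ?_⟩
        show x * f.z * f.z = x
        rw [mul_assoc, f.z_sq, mul_one]
  let e₁ : M ≃* E := MulEquiv.ofBijective ((MonoidHom.fst E E).comp M.subtype) hfst
  let ψ : E →* E := ((MonoidHom.snd E E).comp M.subtype).comp e₁.symm.toMonoidHom
  have hψ : ∀ m : M, ψ m.1.1 = m.1.2 := fun m => by
    show (e₁.symm (e₁ m)).1.2 = m.1.2
    rw [e₁.symm_apply_apply]
  have hψg : ∀ x, f.π (ψ x) = g.1 (f.π x) := fun x => by
    obtain ⟨m, rfl⟩ := hfst.2 x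
    show f.π (ψ m.1.1) = _
    rw [hψ]
    exact (hMP m.2).symm
  have hinj : Function.Injective ψ := by
    refine (injective_iff_map_eq_one ψ).2 fun x hx => ?_
    have h := hψg x
    rw [hx, π_one] at h
    rcases (f.π_ker x).1 (g.1.map_eq_zero_iff.1 h.symm) with e | e
    · exact e
    · exfalso
      refine f.z_ne ?_
      have := hψ ⟨d, hdM⟩
      change ψ f.z = f.z at this
      rw [← this, ← e, hx]
  refine ⟨MulEquiv.ofBijective ψ (Finite.injective_iff_bijective.1 hinj), Subtype.ext (LinearEquiv.ext fun w => ?_)⟩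
  obtain ⟨x, rfl⟩ := f.π_surj w
  rw [toO_apply]
  exact hψg x

include f in
theorem card_E : Nat.card E = 2 * 2 ^ k := by
  let p : E →* Multiplicative W := MonoidHom.mk' (fun x => Multiplicative.ofAdd (f.π x)) fun x y => by
    rw [f.π_mul]; rfl
  have hs : Function.Surjective p := fun w => by
    obtain ⟨x, hx⟩ := f.π_surj w.toAdd
    exact ⟨x, congrArg Multiplicative.ofAdd hx⟩
  have hk : Nat.card p.ker = 2 := by
    have e : (p.ker : Set E) = {1, f.z} := by
      ext x
      rw [SetLike.mem_coe, MonoidHom.mem_ker]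
      exact (f.π_ker x)
    rw [← SetLike.coe_sort_coe, Nat.card_coe_set_eq, e, Set.ncard_pair f.z_ne.symm]
  have h := p.ker.card_mul_index
  rw [Subgroup.index_ker, MonoidHom.range_eq_top.2 hs, Subgroup.card_top, hk,
    Nat.card_congr Multiplicative.toAdd, Nat.card_fun, Nat.card_zmod, Nat.card_fin] at h
  exact h.symm

theorem ker_toO : (toO f).ker = Cfsg.Inn E := by
  classical
  refine (Subgroup.eq_of_le_of_card_ge ?_ ?_).symm
  · rintro _ ⟨a, rfl⟩
    refine Subtype.ext (LinearEquiv.ext fun w => ?_)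
    obtain ⟨x, rfl⟩ := f.π_surj w
    rw [toO_apply, MulAut.conj_apply, f.π_mul, f.π_mul, π_inv, add_comm (f.π a) (f.π x), add_assoc,
      vec_add_self, add_zero]
    rfl
  · have hInn : Nat.card ↥(Cfsg.Inn E) = 2 ^ k := by
      have hker : (MulAut.conj : E →* MulAut E).ker = Subgroup.zpowers f.z := by
        ext x
        rw [MonoidHom.mem_ker, Subgroup.mem_zpowers_iff]
        constructor
        · intro h
          have hc : x = 1 ∨ x = f.z := f.center_le x fun y => by
            have := congrArg (fun φ : MulAut E => φ y) h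
            rw [MulAut.conj_apply, MulAut.one_apply, mul_inv_eq_iff_eq_mul] at this
            exact this
          rcases hc with rfl | rfl
          · exact ⟨0, zpow_zero _⟩
          · exact ⟨1, zpow_one _⟩
        · rintro ⟨j, rfl⟩
          refine MulEquiv.ext fun y => ?_
          rw [MulAut.conj_apply, (Commute.zpow_left (f.z_comm y) j).eq, mul_inv_cancel_right, MulAut.one_apply]
      have hz2 : orderOf f.z = 2 := orderOf_eq_prime (hp := ⟨Nat.prime_two⟩) (by rw [_root_.sq, f.z_sq]) f.z_ne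
      have h := (MulAut.conj : E →* MulAut E).ker.card_mul_index
      rw [Subgroup.index_ker, hker, Nat.card_zpowers, hz2, card_E f] at h
      exact Nat.eq_of_mul_eq_mul_left (by norm_num) h
    rw [hInn]
    have hval : ∀ φ ∈ (toO f).ker, ∀ x, x⁻¹ * φ x = 1 ∨ x⁻¹ * φ x = f.z := fun φ hφ x => by
      refine of_π_eq f ?_
      rw [← toO_apply, MonoidHom.mem_ker.1 hφ]
      rfl
    have hadd : ∀ φ ∈ (toO f).ker, ∀ x y : E, ε ((x * y)⁻¹ * φ (x * y)) = ε (x⁻¹ * φ x) + ε (y⁻¹ * φ y) := fun φ hφ x y => by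
      rw [← ε_cases f (hval φ hφ x) (hval φ hφ y)]
      congr 1
      calc (x * y)⁻¹ * φ (x * y) = y⁻¹ * (x⁻¹ * φ x) * φ y := by rw [map_mul]; group
        _ = x⁻¹ * φ x * (y⁻¹ * φ y) := by rw [← central f (hval φ hφ x) y⁻¹, mul_assoc]
    have hsec : ∀ φ ∈ (toO f).ker, ∀ x, ε ((sec f (f.π x))⁻¹ * φ (sec f (f.π x))) = ε (x⁻¹ * φ x) := by
      intro φ hφ x
      have h := of_π_eq f (x := x) (y := sec f (f.π x)) (π_sec f _).symm
      have := hadd φ hφ x (x⁻¹ * sec f (f.π x))
      rw [mul_inv_cancel_left, φ_cases f φ h, inv_mul_cancel] at this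
      rw [this, ε, ε, if_pos rfl, add_zero]
    let Λ : ↥(toO f).ker → (W →ₗ[ZMod 2] ZMod 2) := fun φ =>
      (AddMonoidHom.mk' (fun w => ε ((sec f w)⁻¹ * φ.1 (sec f w))) fun v w => by
        obtain ⟨x, rfl⟩ := f.π_surj v
        obtain ⟨y, rfl⟩ := f.π_surj w
        rw [← f.π_mul, hsec _ φ.2, hsec _ φ.2, hsec _ φ.2, hadd _ φ.2]).toZModLinearMap 2
    have hΛ : Function.Injective Λ := by
      intro φ ψ h
      refine Subtype.ext (MulEquiv.ext fun x => ?_)
      have := LinearMap.congr_fun h (f.π x)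
      change ε ((sec f (f.π x))⁻¹ * φ.1 (sec f (f.π x))) = ε ((sec f (f.π x))⁻¹ * ψ.1 (sec f (f.π x))) at this
      rw [hsec _ φ.2, hsec _ ψ.2] at this
      exact mul_left_cancel (ε_inj f (hval _ φ.2 x) (hval _ ψ.2 x) this)
    have : Finite (W →ₗ[ZMod 2] ZMod 2) :=
      Finite.of_injective (fun l => (l : W → ZMod 2)) DFunLike.coe_injective
    refine (Nat.card_le_card_of_injective Λ hΛ).trans (le_of_eq ?_)
    rw [Module.natCard_eq_pow_finrank (K := ZMod 2), Nat.card_zmod, Module.finrank_linearMap, Module.finrank_fin_fun,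
      Module.finrank_self, mul_one]

/-- The outer automorphism group is the orthogonal group of the quadratic form. -/
noncomputable def outEquiv : Cfsg.Out E ≃* orthGroup (Q f) :=
  (QuotientGroup.quotientMulEquivOfEq (ker_toO f).symm).trans
    (QuotientGroup.quotientKerEquivOfSurjective (toO f) (toO_surjective f))

theorem exists_elementary (U : Submodule (ZMod 2) W) (hU : ∀ u ∈ U, Q f u = 0) :
    ∃ A : Subgroup E, Cfsg.IsElementaryAbelian 2 A ∧ Nat.card ↥A = 2 * 2 ^ Module.finrank (ZMod 2) U := by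
  classical
  let A : Subgroup E :=
    { carrier := {x | f.π x ∈ U}
      one_mem' := by show f.π 1 ∈ U; rw [π_one]; exact U.zero_mem
      mul_mem' := fun {x y} hx hy => by show f.π (x * y) ∈ U; rw [f.π_mul]; exact U.add_mem hx hy
      inv_mem' := fun {x} hx => by show f.π x⁻¹ ∈ U; rwa [π_inv] }
  refine ⟨A, ⟨⟨⟨fun x y => Subtype.ext ?_⟩⟩, fun x hx => ?_⟩, ?_⟩
  · show (x : E) * y = y * x
    have h : ε (cm (x : E) (y : E)) = 0 := by
      rw [← polar_Q f]
      simp [polar, hU _ (U.add_mem x.2 y.2), hU _ (x.2 : f.π x ∈ U), hU _ (y.2 : f.π y ∈ U)]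
    have h1 : cm (x : E) (y : E) = 1 := ε_inj f (cm_cases f _ _) (Or.inl rfl) (by rw [h, ε, if_pos rfl])
    rw [cm, mul_inv_eq_one, mul_assoc, inv_mul_eq_iff_eq_mul] at h1
    exact h1.symm
  · rw [pow_two]
    refine ε_inj f (sq_cases f x) (Or.inl rfl) ?_
    rw [← qf_π f, ← Q_apply, hU _ hx, ε, if_pos rfl]
  · let p : ↥A →* Multiplicative ↥U := MonoidHom.mk' (fun x => Multiplicative.ofAdd ⟨f.π x, x.2⟩) fun x y =>
      congrArg Multiplicative.ofAdd (Subtype.ext (f.π_mul _ _))
    have hs : Function.Surjective p := fun w => by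
      obtain ⟨x, hx⟩ := f.π_surj (w.toAdd : W)
      have hxA : f.π x ∈ U := by rw [hx]; exact w.toAdd.2
      exact ⟨⟨x, hxA⟩, congrArg Multiplicative.ofAdd (Subtype.ext hx : (⟨f.π x, hxA⟩ : ↥U) = w.toAdd)⟩
    have hk : Nat.card p.ker = 2 := by
      have hz : f.z ∈ A := by show f.π f.z ∈ U; rw [π_z]; exact U.zero_mem
      have e : (p.ker : Set ↥A) = {1, ⟨f.z, hz⟩} := by
        ext x
        rw [SetLike.mem_coe, MonoidHom.mem_ker]
        constructor
        · intro h
          have h' : f.π (x : E) = 0 := congrArg (fun u : Multiplicative ↥U => (u.toAdd : W)) h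
          exact ((f.π_ker _).1 h').imp (fun e => Subtype.ext e) (fun e => Subtype.ext e)
        · rintro (rfl | rfl)
          · exact map_one p
          · exact congrArg Multiplicative.ofAdd (Subtype.ext (π_z f) : (⟨f.π f.z, _⟩ : ↥U) = 0)
      rw [← SetLike.coe_sort_coe, Nat.card_coe_set_eq, e,
        Set.ncard_pair fun h => f.z_ne (congrArg Subtype.val h).symm]
    have h := p.ker.card_mul_index
    rw [Subgroup.index_ker, MonoidHom.range_eq_top.2 hs, Subgroup.card_top, hk,
      Nat.card_congr Multiplicative.toAdd, Module.natCard_eq_pow_finrank (K := ZMod 2), Nat.card_zmod] at h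
    exact h.symm

theorem exists_singular {A : Subgroup E} (hA : Cfsg.IsElementaryAbelian 2 A) :
    ∃ U : Submodule (ZMod 2) W, (∀ u ∈ U, Q f u = 0) ∧ Nat.card ↥A ≤ 2 * 2 ^ Module.finrank (ZMod 2) U := by
  classical
  let U₀ : AddSubgroup W :=
    { carrier := {u | ∃ a ∈ A, f.π a = u}
      zero_mem' := ⟨1, one_mem _, π_one f⟩
      add_mem' := by
        rintro _ _ ⟨a, ha, rfl⟩ ⟨b, hb, rfl⟩
        exact ⟨a * b, mul_mem ha hb, f.π_mul a b⟩
      neg_mem' := by
        rintro _ ⟨a, ha, rfl⟩
        exact ⟨a, ha, (neg_eq_of_add_eq_zero_left (vec_add_self _)).symm⟩ }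
  refine ⟨AddSubgroup.toZModSubmodule 2 U₀, ?_, ?_⟩
  · rintro _ ⟨a, ha, rfl⟩
    have h2 : a * a = 1 := by rw [← pow_two]; exact hA.2 a ha
    rw [Q_apply, qf_π, h2, ε, if_pos rfl]
  · have hc : 2 * 2 ^ Module.finrank (ZMod 2) ↥(AddSubgroup.toZModSubmodule 2 U₀) =
        Nat.card (ZMod 2 × ↥(AddSubgroup.toZModSubmodule 2 U₀)) := by
      rw [Nat.card_prod, Nat.card_zmod, Module.natCard_eq_pow_finrank (K := ZMod 2), Nat.card_zmod]
    rw [hc]
    refine Nat.card_le_card_of_injective
      (fun a : A => (ε ((sec f (f.π a))⁻¹ * (a : E)),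
        (⟨f.π a, a, a.2, rfl⟩ : ↥(AddSubgroup.toZModSubmodule 2 U₀)))) fun a b h => ?_
    simp only [Prod.mk.injEq] at h
    obtain ⟨h1, h2⟩ := h
    replace h2 : f.π (a : E) = f.π (b : E) := congrArg Subtype.val h2
    rw [h2] at h1
    exact Subtype.ext (mul_left_cancel (ε_inj f (of_π_eq f ((π_sec f _).trans h2.symm))
      (of_π_eq f (π_sec f _)) h1))

end

/-- The classification. -/
theorem out_iso [Finite E] (hE : Cfsg.IsExtraspecial 2 E) (n : ℕ) (hn : 1 ≤ n)
    (hcard : Nat.card E = 2 ^ (2 * n + 1)) :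
    ((∃ A : Subgroup E, Cfsg.IsElementaryAbelian 2 A ∧ Nat.card ↥A = 2 ^ (n + 1)) →
      Nonempty (Cfsg.Out E ≃* Cfsg.isometryGroup (ZMod 2) (Cfsg.quadFormPlus n (ZMod 2)))) ∧
    ((¬ ∃ A : Subgroup E, Cfsg.IsElementaryAbelian 2 A ∧ Nat.card ↥A = 2 ^ (n + 1)) →
      Nonempty (Cfsg.Out E ≃* Cfsg.isometryGroup (ZMod 2) (Cfsg.quadFormMinus (n - 1) (ZMod 2) 1 1))) := by
  classical
  obtain ⟨k, ⟨f⟩⟩ := exists_frame hE
  have hk : k = 2 * n := by
    have h := card_E f
    rw [hcard, ← pow_succ'] at h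
    have := Nat.pow_right_injective (le_refl 2) h
    omega
  have hdim : Module.finrank (ZMod 2) (Fin k → ZMod 2) = 2 * n := by rw [Module.finrank_fin_fun, hk]
  rcases classify_even (nondeg f) hdim with ⟨e, he⟩ | ⟨-, e, ζ, hζ, he⟩
  · have hiso : Nonempty (Cfsg.Out E ≃* Cfsg.isometryGroup (ZMod 2) (Cfsg.quadFormPlus n (ZMod 2))) :=
      ⟨((outEquiv f).trans (orthCongr e.symm (fun v => by
        rw [← he, LinearEquiv.apply_symm_apply]))).trans (toOrth (plusForm (ZMod 2) n) (plusForm_apply n)).symm⟩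
    refine ⟨fun _ => hiso, fun hno => absurd ?_ hno⟩
    let ι : (Fin n → ZMod 2) →ₗ[ZMod 2] (Fin n ⊕ Fin n → ZMod 2) :=
      { toFun := fun x => Sum.elim x 0
        map_add' := fun x y => by ext (i | i) <;> simp
        map_smul' := fun a x => by ext (i | i) <;> simp }
    have hι : Function.Injective ι := fun x y h => funext fun i => congrFun h (Sum.inl i)
    have hsing : ∀ u ∈ LinearMap.range ((e : _ →ₗ[ZMod 2] _).comp ι), Q f u = 0 := by
      rintro _ ⟨x, rfl⟩
      show Q f (e (ι x)) = 0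
      rw [he, ← plusForm_apply]
      simp [Cfsg.quadFormPlus, ι]
    obtain ⟨A, hA, hAc⟩ := exists_elementary f _ hsing
    refine ⟨A, hA, ?_⟩
    have hcomp : Function.Injective ((e : (Fin n ⊕ Fin n → ZMod 2) →ₗ[ZMod 2] (Fin k → ZMod 2)).comp ι) :=
      fun x y h => hι (e.injective h)
    rw [hAc, LinearMap.finrank_range_of_inj hcomp, Module.finrank_fin_fun, pow_succ']
  · have hζ1 : ζ = 1 := (by decide : ∀ ζ : ZMod 2, (∀ t : ZMod 2, t ^ 2 + t + ζ ≠ 0) → ζ = 1) ζ hζ
    subst hζ1
    have hiso : Nonempty (Cfsg.Out E ≃* Cfsg.isometryGroup (ZMod 2) (Cfsg.quadFormMinus (n - 1) (ZMod 2) 1 1)) :=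
      ⟨((outEquiv f).trans (orthCongr e.symm (fun v => by
        rw [← he, LinearEquiv.apply_symm_apply]))).trans
        (toOrth (minusForm (ZMod 2) (n - 1) 1 1) (minusForm_apply (n - 1) 1 1)).symm⟩
    refine ⟨fun ⟨A, hA, hAc⟩ => absurd ?_ (not_le.2 (show n - 1 < n by omega)), fun _ => hiso⟩
    obtain ⟨U, hU, hUA⟩ := exists_singular f hA
    rw [hAc, pow_succ'] at hUA
    have hle : n ≤ Module.finrank (ZMod 2) U :=
      (Nat.pow_le_pow_iff_right (le_refl 2)).1 (Nat.le_of_mul_le_mul_left hUA (by norm_num))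
    have h2 : ∀ u ∈ U.map (e.symm : _ →ₗ[ZMod 2] _), minusForm (ZMod 2) (n - 1) 1 1 u = 0 := by
      rintro _ ⟨u, hu, rfl⟩
      show minusForm (ZMod 2) (n - 1) 1 1 (e.symm u) = 0
      rw [← he, LinearEquiv.apply_symm_apply]
      exact hU u hu
    have h3 := minus_singular_finrank_le (by decide) _ h2
    rw [LinearEquiv.finrank_map_eq] at h3
    exact hle.trans h3

end CfsgLib.ThreeTransp.ExtraspecialOut
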