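/-
The setting "O_2(C(z)) is extraspecial and self-centralising": conjugates and orthogonality.
-/
import Cfsg.Agent.Lib.ThreeTransp.Extraspecial

set_option autoImplicit false
set_option linter.style.haveILetI false

namespace CfsgLib.ThreeTransp.ExtraspecialCore

open Subgroup CfsgLib.ThreeTransp.Extraspecial

variable {G : Type*} [Group G] [Finite G]

/-- `O_2(C(x))` in `G`. -/
noncomputable def core (x : G) : Subgroup G :=
  (Cfsg.pCore 2 ↥(Subgroup.centralizer ({x} : Set G))).map
    (Subgroup.centralizer ({x} : Set G)).subtype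

theorem core_le_centralizer (x : G) : core x ≤ Subgroup.centralizer ({x} : Set G) :=
  (coreOf_props x).1

theorem isPGroup_core (x : G) : IsPGroup 2 ↥(core x) := (coreOf_props x).2.1

theorem centralizer_le_normalizer_core (x : G) :
    Subgroup.centralizer ({x} : Set G) ≤ Subgroup.normalizer (core x : Set G) :=
  (coreOf_props x).2.2

theorem centralizer_mem_conj (g : G) {x c : G}
    (hc : c * (g * x * g⁻¹) = g * x * g⁻¹ * c) :
    g⁻¹ * c * g * x = x * (g⁻¹ * c * g) := by
  calc g⁻¹ * c * g * x = g⁻¹ * (c * (g * x * g⁻¹)) * g := by group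
    _ = x * (g⁻¹ * c * g) := by rw [hc]; group

theorem map_core_le (g x : G) :
    (core x).map (MulAut.conj g).toMonoidHom ≤ core (g * x * g⁻¹) := by
  apply le_coreOf ((isPGroup_core x).map _)
  · rintro _ ⟨q, hq, rfl⟩
    have := Subgroup.mem_centralizer_singleton_iff.1 (core_le_centralizer x hq)
    rw [Subgroup.mem_centralizer_singleton_iff]
    show g * q * g⁻¹ * (g * x * g⁻¹) = g * x * g⁻¹ * (g * q * g⁻¹)
    rw [conj_mul, conj_mul, this]
  · intro c hc
    have hc' := centralizer_le_normalizer_core x (Subgroup.mem_centralizer_singleton_iff.2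
      (centralizer_mem_conj g (Subgroup.mem_centralizer_singleton_iff.1 hc)))
    rw [Subgroup.mem_normalizer_iff]
    intro h
    rw [mem_map_conj, mem_map_conj, Subgroup.mem_normalizer_iff.1 hc' (g⁻¹ * h * g)]
    simp [mul_assoc]

theorem core_conj (g x : G) :
    core (g * x * g⁻¹) = (core x).map (MulAut.conj g).toMonoidHom := by
  refine le_antisymm (fun y hy => ?_) (map_core_le g x)
  have h := map_core_le g⁻¹ (g * x * g⁻¹) ⟨y, hy, rfl⟩
  rw [mem_map_conj]
  simpa [mul_assoc] using h

theorem mem_core_conj_iff (g x y : G) : y ∈ core (g * x * g⁻¹) ↔ g⁻¹ * y * g ∈ core x := by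
  rw [core_conj, mem_map_conj]

variable {z : G}

/-- From the hypotheses of the statements: `Extra (core z) z` and self-centralisation. -/
theorem extra_core (hz : orderOf z = 2) (hE : Cfsg.IsExtraspecial 2 ↥(core z))
    (hC : Subgroup.centralizer ((core z : Subgroup G) : Set G) ≤ core z) :
    Extra (core z) z ∧ (∀ x : G, (∀ q ∈ core z, x * q = q * x) → x ∈ core z) ∧ z ∈ core z := by
  have hmem : ∀ x : G, (∀ q ∈ core z, x * q = q * x) → x ∈ core z := fun x hx =>
    hC (Subgroup.mem_centralizer_iff.2 fun q hq => (hx q hq).symm)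
  have hzQ : z ∈ core z := hmem z fun q hq =>
    (Subgroup.mem_centralizer_singleton_iff.1 (core_le_centralizer z hq)).symm
  obtain ⟨w, hw⟩ := exists_extra hE
  have hz1 : z ≠ 1 := fun h => by simp [h] at hz
  rcases hw.mem_center_cases hzQ fun q hq =>
      (Subgroup.mem_centralizer_singleton_iff.1 (core_le_centralizer z hq)).symm with e | e
  · exact absurd e hz1
  · exact ⟨e ▸ hw, hmem, hzQ⟩

/-- The conjugate version. -/
theorem extra_core_conj (hz : orderOf z = 2) (hE : Cfsg.IsExtraspecial 2 ↥(core z))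
    (hC : Subgroup.centralizer ((core z : Subgroup G) : Set G) ≤ core z) (g : G) :
    Extra (core (g * z * g⁻¹)) (g * z * g⁻¹) := by
  rw [core_conj]; exact (extra_core hz hE hC).1.map_conj g

/-- Orthogonality is symmetric. -/
theorem orth_symm (hz : orderOf z = 2) (hE : Cfsg.IsExtraspecial 2 ↥(core z))
    (hC : Subgroup.centralizer ((core z : Subgroup G) : Set G) ≤ core z) (g : G)
    (hx : g * z * g⁻¹ ∈ core z) : z ∈ core (g * z * g⁻¹) := by
  obtain ⟨h, hmem, hzQ⟩ := extra_core hz hE hC
  have hN := centralizer_le_normalizer_core z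
  rw [mem_core_conj_iff]
  by_cases hne : g * z * g⁻¹ = z
  · have hc : g * z = z * g := mul_inv_eq_iff_eq_mul.1 hne
    rw [show g⁻¹ * z * g = z by rw [mul_assoc, ← hc, inv_mul_cancel_left]]
    exact hzQ
  by_cases hB : ∃ b ∈ core z, ∃ c ∈ core z, b * (g * z * g⁻¹) = g * z * g⁻¹ * b ∧
      c * (g * z * g⁻¹) = g * z * g⁻¹ * c ∧ b * c ≠ c * b
  · exact mem_conj_of_nonabelian h hmem hN hx hne hB
  · push_neg at hB
    have hne1 : g * z * g⁻¹ ≠ 1 := fun e => h.z_ne (conj_eq_one_iff.1 e)
    have hsq : g * z * g⁻¹ * (g * z * g⁻¹) = 1 := by rw [conj_mul, h.z_sq]; group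
    have h2 := isPGroup_centralizer_of_abelian h hmem hN hx hne1 hne hsq
      fun b hb c hc hbu hcu => hB b hb c hc hbu hcu
    have hle : Subgroup.centralizer ({z} : Set G) ≤ core z :=
      le_coreOf h2 le_rfl Subgroup.le_normalizer
    refine hle (Subgroup.mem_centralizer_singleton_iff.2 ?_)
    have hzu : z * (g * z * g⁻¹) = g * z * g⁻¹ * z := h.z_comm hx
    calc g⁻¹ * z * g * z = g⁻¹ * (z * (g * z * g⁻¹)) * g := by group
      _ = z * (g⁻¹ * z * g) := by rw [hzu]; group

end CfsgLib.ThreeTransp.ExtraspecialCore
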