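import Cfsg.Agent.Lib.Orth.Standard
import Cfsg.Agent.Lib.Orth.Parity
import Cfsg.Agent.Lib.Orth.Omega

/-!
# Computable model of the orthogonal space of dimension seven over the field of three elements

A vector is coded as a natural number: bit `j < 7` says coordinate `j` is one, bit `7 + j` says it is two.
-/

set_option autoImplicit false

namespace CfsgLib.ThreeTransp.OmegaSeven

open CfsgLib.Orth QuadraticMap

/-- The space. -/
abbrev W7 : Type := Unit ⊕ (Fin 3 ⊕ Fin 3) → ZMod 3

instance factThree : Fact (Nat.Prime 3) := ⟨Nat.prime_three⟩

/-- The form. -/
noncomputable abbrev Q7 : QuadraticForm (ZMod 3) W7 := oddForm (ZMod 3) 3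

/-- The numbering of the coordinates. -/
def co : Fin 7 → Unit ⊕ (Fin 3 ⊕ Fin 3) :=
  ![.inl (), .inr (.inl 0), .inr (.inl 1), .inr (.inl 2), .inr (.inr 0), .inr (.inr 1), .inr (.inr 2)]

/-- Its inverse. -/
def coInv : Unit ⊕ (Fin 3 ⊕ Fin 3) → Fin 7
  | .inl _ => 0
  | .inr (.inl i) => ⟨i.1 + 1, by omega⟩
  | .inr (.inr i) => ⟨i.1 + 4, by omega⟩

theorem coInv_co : ∀ j, coInv (co j) = j := by decide

theorem co_coInv : ∀ x, co (coInv x) = x := by decide

/-- The bits of a vector. -/
def vBits (v : W7) (j : Fin 14) : Bool :=
  if h : j.1 < 7 then decide (v (co ⟨j.1, h⟩) = 1) else decide (v (co ⟨j.1 - 7, by omega⟩) = 2)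

/-- The code of a vector. -/
def ofVec (v : W7) : ℕ := Nat.ofBits (vBits v)

/-- The vector of a code. -/
def toVec (c : ℕ) : W7 := fun x =>
  if c.testBit (coInv x).1 then 1 else if c.testBit ((coInv x).1 + 7) then 2 else 0

theorem testBit_lo (v : W7) (j : Fin 7) : (ofVec v).testBit j.1 = decide (v (co j) = 1) := by
  rw [ofVec, Nat.testBit_ofBits_lt _ _ (by omega)]
  simp [vBits]

theorem testBit_hi (v : W7) (j : Fin 7) : (ofVec v).testBit (j.1 + 7) = decide (v (co j) = 2) := by
  rw [ofVec, Nat.testBit_ofBits_lt _ _ (by omega)]
  simp [vBits]

theorem testBit_top (v : W7) {i : ℕ} (h : 14 ≤ i) : (ofVec v).testBit i = false := by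
  rw [ofVec, Nat.testBit_ofBits_ge _ _ h]

theorem z3_cases : ∀ a : ZMod 3, a = 0 ∨ a = 1 ∨ a = 2 := by decide

theorem toVec_ofVec (v : W7) : toVec (ofVec v) = v := by
  funext x
  simp only [toVec, testBit_lo, testBit_hi, co_coInv]
  rcases z3_cases (v x) with h | h | h <;> simp +decide [h]

theorem ofVec_injective : Function.Injective ofVec := fun u v h => by
  rw [← toVec_ofVec u, h, toVec_ofVec]

theorem bits_split {a b : ℕ} (h1 : ∀ j : Fin 7, a.testBit j.1 = b.testBit j.1)
    (h2 : ∀ j : Fin 7, a.testBit (j.1 + 7) = b.testBit (j.1 + 7))
    (h3 : ∀ i, 14 ≤ i → a.testBit i = b.testBit i) : a = b := by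
  refine Nat.eq_of_testBit_eq fun i => ?_
  rcases Nat.lt_or_ge i 7 with h | h
  · exact h1 ⟨i, h⟩
  · rcases Nat.lt_or_ge i 14 with h' | h'
    · have := h2 ⟨i - 7, by omega⟩
      simpa [Nat.sub_add_cancel h] using this
    · exact h3 i h'

/-- Addition of codes. -/
def addN (a b : ℕ) : ℕ :=
  let p1 := a &&& 127
  let m1 := a >>> 7
  let p2 := b &&& 127
  let m2 := b >>> 7
  ((p1 &&& (127 ^^^ (p2 ||| m2))) ||| (p2 &&& (127 ^^^ (p1 ||| m1))) ||| (m1 &&& m2)) |||
    (((m1 &&& (127 ^^^ (p2 ||| m2))) ||| (m2 &&& (127 ^^^ (p1 ||| m1))) ||| (p1 &&& p2)) <<< 7)

/-- Negation of codes. -/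
def negN (a : ℕ) : ℕ := (a >>> 7) ||| ((a &&& 127) <<< 7)

theorem testBit_127 (i : ℕ) : Nat.testBit 127 i = decide (i < 7) := Nat.testBit_two_pow_sub_one 7 i

theorem ofVec_add (u v : W7) : addN (ofVec u) (ofVec v) = ofVec (u + v) := by
  refine bits_split (fun j => ?_) (fun j => ?_) (fun i hi => ?_)
  · simp only [addN, Nat.testBit_or, Nat.testBit_and, Nat.testBit_xor, Nat.testBit_shiftRight,
      Nat.testBit_shiftLeft, testBit_127, Nat.add_comm 7, testBit_lo, testBit_hi, Pi.add_apply]
    have := j.2
    rcases z3_cases (u (co j)) with h | h | h <;> rcases z3_cases (v (co j)) with h' | h' | h' <;>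
      simp +decide [h, h', this]
  · simp only [addN, Nat.testBit_or, Nat.testBit_and, Nat.testBit_xor, Nat.testBit_shiftRight,
      Nat.testBit_shiftLeft, testBit_127, Nat.add_sub_cancel, Nat.add_comm 7, testBit_lo, testBit_hi,
      Pi.add_apply]
    have := j.2
    have h14 : (u : W7) = u := rfl
    rcases z3_cases (u (co j)) with h | h | h <;> rcases z3_cases (v (co j)) with h' | h' | h' <;>
      simp +decide [h, h', this, testBit_top]
  · simp only [addN, Nat.testBit_or, Nat.testBit_and, Nat.testBit_xor, Nat.testBit_shiftRight,
      Nat.testBit_shiftLeft, testBit_127, testBit_top _ hi]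
    have : ¬ i < 7 := by omega
    have h7 : ¬ i - 7 < 7 := by omega
    simp [this, h7, testBit_top _ (show 14 ≤ 7 + i by omega), testBit_top _ (show 14 ≤ 7 + (i - 7) by omega)]

theorem ofVec_neg (u : W7) : negN (ofVec u) = ofVec (-u) := by
  refine bits_split (fun j => ?_) (fun j => ?_) (fun i hi => ?_)
  · simp only [negN, Nat.testBit_or, Nat.testBit_and, Nat.testBit_shiftRight,
      Nat.testBit_shiftLeft, testBit_127, Nat.add_comm 7, testBit_lo, testBit_hi, Pi.neg_apply]
    have := j.2
    rcases z3_cases (u (co j)) with h | h | h <;> simp +decide [h, this]
  · simp only [negN, Nat.testBit_or, Nat.testBit_and, Nat.testBit_shiftRight,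
      Nat.testBit_shiftLeft, testBit_127, Nat.add_sub_cancel, testBit_lo, testBit_hi, Pi.neg_apply]
    have := j.2
    rw [testBit_top u (show 14 ≤ 7 + (j.1 + 7) by omega)]
    rcases z3_cases (u (co j)) with h | h | h <;> simp +decide [h, this]
  · simp only [negN, Nat.testBit_or, Nat.testBit_and, Nat.testBit_shiftRight,
      Nat.testBit_shiftLeft, testBit_127, testBit_top _ hi]
    have h7 : ¬ i - 7 < 7 := by omega
    simp [h7, testBit_top _ (show 14 ≤ 7 + i by omega)]

/-- The vectors of value one, as a bit mask. -/
def qOne : ℕ := 0x10000000000000000000000000000000200000000000000000000000000000000000000000000000000000000000000040000000000000000000000000000000000000000000000000000000000000010000000000000000000000000000000140000000000000000000000000000002900000000000000000000000000000000000000000000000000000000000001000000000000000000000000000000010400000000000000000000000000000209000000000000000000000000000001100000000000000000000000000000022100000000000000000000000000004001000000000000000000000000000094420000000000000000000000000000000000000000000000000000000000010000000000000000000000000000000400000000000000000000000000000008000000000000000000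0000000000000100100000000000000000000000000002002100000000000000000000000000100050000000000000000000000000006100a500000000000000000000000000010100000000000000000000000000000202010000000000000000000000000100050000000000000000000000000006010a050000000000000000000000001000000100000000000000000000000021101002000000000000000000000000044100050000000000000000000000001886500a0000000000000000000000000000000000000000000000000000000100000000000000000000000000000001000000040000000000000000000000020000000900000000000000000000001000000000000000000000000000000020000000000000000000000000000000040000004400000000000000000000004900000099000000000000000000000001000001000000000000000000000000020000020100000000000000000000040000000001000000000000000000000904000004020000000000000000000001000000110000000000000000000000120100002211000000000000000000001041000000110000000000000000000024920000442200000000000000000000000100010000000000000000000000000002000200010000000000000000000100050000000000000000000000000006000a000100050000000000000000000100000011000000000000000000000012000100220011000000000000000000400000000000000000000000000000008100050011005500000000000000000100000000000001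00000000000000000201010001000002000000000000000000040000040100050000000000000000010805000806000a00000000000000000010100100000011000000000000000001202012110000220000000000000000140150054411005500000000000000006816a05a886600aa00000000000000000000000000000000000000000000000100000000000000000000000000000001000000000000000400000000000000020000000000000009000000000000000100000000000000100000000000000002000000000000002100000000000000400000000000000001000000000000009400000000000000420000000000000100000000000000000000000000000002000000000000000000000000000000000400000000000004040000000000000409000000000000090900000000000000100000000000001010000000000000102100000000000021210000000000001401000000000000010100000000000029420000000000004242000000000000000100000000000100000000000000000002000000000002000100000000000100050000000000000000000000000006000a00000000000100050000000000100000000000000000000100000000002100100000000000100002000000000004000000000000004100050000000000180050000000000086000a0000000000010000000000000101000000000000010200010000000002020101000000000400000000000000000000000000000008010005000000000101050500000000010010010000000000000101000000000210210200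0000001010020200000000104150050000000041410505000000006186a50a0000000086860a0a000000000000000100000001000000000000000000000002000000020000000100000004000000000000000000000001000000090000000400000004000000020000000100000011000000000000000000000012000000220000000100000011000000100000000000000041000000110000002400000044000000920000002200000001000000000000010100000000000001020000000100000202000001010000010000000401000000000000010100000204000009020000040400000202000010000000000000000000000000000000200100000011000001010000111100000441000044110000414100001111000049920000992200009292000022220001000000000000000000000000000100020001000100000001000000000002000000000004000000040000000100050001000500080000000800000006000a000000100000000000100001000000110001002000110000002000120000002200140050004400000001000500110055006800a0008800000016005a006600aa00000100010000010000000000000101000102000200010201010000000002020104050000010005040400000101050506080a000106050a0808000006060a0a0110000111000011101001010000111112200112220011222020121200002222400100050011005501010505111155558116055a116655aa16165a5a6666aaaa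

/-- The vectors of value two, as a bit mask. -/
def qTwo : ℕ := 0x400000000000000000000000000000009000000000000000000000000000000100000000000000000000000000000002100000000000000000000000000000001000000000000000000000000000000420000000000000000000000000000010000000000000000000000000000000201000000000000000000000000000000010000000000000000000000000000040200000000000000000000000000000001000000000000000000000000000010020000000000000000000000000000144000000000000000000000000000002994000000000000000000000000000100000000000000000000000000000002000100000000000000000000000000000000000000000000000000000000000100050000000000000000000000000000000100000000000000000000000000100002000000000000000000000000004100050000000000000000000000000086000a0000000000000000000000000000000100000000000000000000000001000002000000000000000000000000040100050000000000000000000000000806000a0000000000000000000000000110100000000000000000000000000002212110000000000000000000000000100450000000000000000000000000006118a55000000000000000000000000100000000000000000000000000000002000000010000000000000000000000000000000100000000000000000000000400000002000000000000000000000000000000000000000000000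0000000000100000011000000000000000000000041000000110000000000000000000000920000002200000000000000000000000000000001000000000000000000000100000000020000000000000000000001040000040000000000000000000000020900000904000000000000000000001001000000110000000000000000000020120000002200000000000000000000041000004400000000000000000000004924000099440000000000000000000000000000000100000000000000000001000000000002000000000000000000040000000100050000000000000000000800000006000a00000000000000000010000100000011000000000000000000200012000000220000000000000000000100050011005500000000000000000016005a006600aa000000000000000000010100010000000000000000000000000202010201010000000000000000000100050000040000000000000000000006010a05010805000000000000000000010000101100000000000000000000001201012022111100000000000000000040140050004400000000000000000000816805a0118855000000000000000001000000000000000000000000000000020000000000000001000000000000000000000000000000010000000000000004000000000000000200000000000000000000000000000001000000000000001000000000000000020000000000000014000000000000004000000000000000290000000000000094000000000000000000000000000000000000000000000001000000000000010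10000000000000401000000000000010100000000000009020000000000000202000000000000100100000000000001010000000000002102000000000000020200000000000001400000000000004040000000000000429400000000000094940000000000000000000000000000000100000000000100000000000000000002000000000004000000000000000100050000000000080000000000000006000a00000000000100100000000000100000000000000002002100000000002100100000000000100050000000000004000000000000006100a50000000000180050000000000100000100000000000001010000000002000102000000000000020200000000000100050000000001010505000000000106050a0000000006060a0a0000000000100100000000001010000000000000102102100000000021211010000000004104050000000000040400000000000086180a500000000018185050000000000000000000000000000000010000000100000000000000000000000200000001000000040000000400000000000000020000000900000009000000040000001000000000000000010000001100000020000000000000001200000022000000040000004400000010000000000000004900000099000000240000004400000100000000010000000000000101000002000000010200000000000002020000000400000100000004040000000000000409000002040000090900000404000000010000001100000101000011110000011200001122000012120000222200004110000011000000101000000000000092240000224400002424000044440000000100010000000100000000000000000002000200010002000100010000000100050000000000000000000400000006000a0001000500010005000800000001000000110000000000100000000000120001002200110001002000110000004000000000000000140050004400000081000500110055006800a0008800000001000000000100010100000000000001020001000102000202010101010000040000000104050000000000040400000801000506080a00010105050808000010000110000011000000101000000000200112200011220001012020111100000114055011445500141450504444000016685aa06688aa006868a0a088880000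

/-- The form on codes. -/
def qN (c : ℕ) : ℕ := if qOne.testBit c then 1 else if qTwo.testBit c then 2 else 0

theorem qN_lt (c : ℕ) : qN c < 3 := by unfold qN; split_ifs <;> omega

theorem qN_table : ∀ a b c d e f g : ZMod 3,
    let v : W7 := fun x => ![a, b, c, d, e, f, g] (coInv x)
    ((qN (ofVec v) : ℕ) : ZMod 3) = Cfsg.quadFormOdd 3 (ZMod 3) v := by
  decide +kernel

theorem qN_ofVec (v : W7) : ((qN (ofVec v) : ℕ) : ZMod 3) = Q7 v := by
  have h := qN_table (v (co 0)) (v (co 1)) (v (co 2)) (v (co 3)) (v (co 4)) (v (co 5)) (v (co 6))
  have hv : (fun x => ![v (co 0), v (co 1), v (co 2), v (co 3), v (co 4), v (co 5), v (co 6)] (coInv x)) = v := by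
    funext x
    conv_rhs => rw [← co_coInv x]
    generalize coInv x = j
    fin_cases j <;> rfl
  simp only [hv] at h
  rw [h, oddForm_apply]

theorem qN_eq_iff (v : W7) {c : ℕ} (hc : c < 3) : qN (ofVec v) = c ↔ Q7 v = (c : ZMod 3) := by
  rw [← qN_ofVec]
  refine ⟨fun h => by rw [h], fun h => ?_⟩
  have h' := congrArg ZMod.val h
  rwa [ZMod.val_natCast, ZMod.val_natCast, Nat.mod_eq_of_lt (qN_lt _), Nat.mod_eq_of_lt hc] at h'

/-- The polar form on codes. -/
def polN (a b : ℕ) : ℕ := (qN (addN a b) + 2 * qN a + 2 * qN b) % 3

theorem polN_ofVec (u v : W7) : ((polN (ofVec u) (ofVec v) : ℕ) : ZMod 3) = polar Q7 u v := by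
  rw [polN, ofVec_add, ZMod.natCast_mod]
  push_cast
  rw [qN_ofVec, qN_ofVec, qN_ofVec, polar]
  linear_combination (Q7 u + Q7 v) * (by decide : (3 : ZMod 3) = 0)

theorem polN_eq_iff (u v : W7) {c : ℕ} (hc : c < 3) :
    polN (ofVec u) (ofVec v) = c ↔ polar Q7 u v = (c : ZMod 3) := by
  rw [← polN_ofVec]
  refine ⟨fun h => by rw [h], fun h => ?_⟩
  have h' := congrArg ZMod.val h
  rw [ZMod.val_natCast, ZMod.val_natCast, Nat.mod_eq_of_lt hc] at h'
  have : polN (ofVec u) (ofVec v) < 3 := Nat.mod_lt _ (by norm_num)
  omega

theorem ofVec_zero : ofVec 0 = 0 := by decide +kernel

/-- A reflection on codes. -/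
def rN (a v : ℕ) : ℕ :=
  match qN a * polN a v % 3 with
  | 0 => v
  | 1 => addN v (negN a)
  | _ => addN v a

theorem rN_ofVec (a v : W7) : rN (ofVec a) (ofVec v) = ofVec ((refl Q7 a).1 v) := by
  have hk : ((qN (ofVec a) * polN (ofVec a) (ofVec v) % 3 : ℕ) : ZMod 3) = (Q7 a)⁻¹ * polar Q7 a v := by
    rw [ZMod.natCast_mod]
    push_cast
    rw [qN_ofVec, polN_ofVec]
    congr 1
    exact (by decide +kernel : ∀ x : ZMod 3, x = x⁻¹) _
  rw [refl_apply, ← hk]
  have hlt : qN (ofVec a) * polN (ofVec a) (ofVec v) % 3 < 3 := Nat.mod_lt _ (by norm_num)
  unfold rN
  generalize qN (ofVec a) * polN (ofVec a) (ofVec v) % 3 = k at hlt ⊢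
  rcases (show k = 0 ∨ k = 1 ∨ k = 2 by omega) with rfl | rfl | rfl
  · simp
  · rw [ofVec_neg, ofVec_add]; simp [sub_eq_add_neg]
  · show addN (ofVec v) (ofVec a) = _
    rw [ofVec_add, sub_eq_add_neg, ← neg_smul]
    congr 2
    rw [show -((2 : ℕ) : ZMod 3) = 1 by decide, one_smul]

/-- A product of reflections on codes. -/
def evN (L : List ℕ) (v : ℕ) : ℕ := L.foldr rN v

/-- Is a code the code of a vector. -/
def okA (a : ℕ) : Bool := decide (a < 16384) && ((a &&& 127) &&& (a >>> 7) == 0)

theorem ofVec_toVec {a : ℕ} (h : okA a = true) : ofVec (toVec a) = a := by
  simp only [okA, Bool.and_eq_true, decide_eq_true_eq, beq_iff_eq] at h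
  obtain ⟨hlt, hd⟩ := h
  have hd' : ∀ j : Fin 7, ¬(a.testBit j.1 = true ∧ a.testBit (j.1 + 7) = true) := fun j hj => by
    have := congrArg (fun n => Nat.testBit n j.1) hd
    simp [testBit_127, Nat.add_comm 7, hj.1, hj.2] at this
  refine bits_split (fun j => ?_) (fun j => ?_) (fun i hi => ?_)
  · rw [testBit_lo]
    simp only [toVec, coInv_co]
    have := hd' j
    split_ifs with h1 h2 <;> simp +decide [h1]
  · rw [testBit_hi]
    simp only [toVec, coInv_co]
    have := hd' j
    split_ifs with h1 h2
    · simp +decide [h1] at this ⊢
      exact this
    · simp +decide [h2]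
    · simp +decide [h2]
  · rw [testBit_top _ hi]
    exact (Nat.testBit_lt_two_pow (lt_of_lt_of_le hlt (Nat.pow_le_pow_right (n := 2) (by norm_num) hi))).symm

/-- Are all codes in a list codes of vectors. -/
def okL (L : List ℕ) : Bool := L.all okA

/-- The product of reflections given by a list of codes. -/
noncomputable def el (L : List ℕ) : orthGroup Q7 := (L.map fun a => refl Q7 (toVec a)).prod

theorem el_append (L M : List ℕ) : el (L ++ M) = el L * el M := by simp [el]

theorem el_reverse (L : List ℕ) : el L.reverse = (el L)⁻¹ := by
  induction L with
  | nil => simp [el]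
  | cons a L ih =>
    rw [List.reverse_cons, el_append, ih, show a :: L = [a] ++ L from rfl, el_append, mul_inv_rev]
    simp [el, refl_inv]

theorem evN_el {L : List ℕ} (h : okL L = true) (v : W7) : evN L (ofVec v) = ofVec ((el L).1 v) := by
  induction L with
  | nil => rfl
  | cons a L ih =>
    simp only [okL, List.all_cons, Bool.and_eq_true] at h
    show rN a (evN L (ofVec v)) = _
    rw [ih h.2]
    conv_lhs => rw [← ofVec_toVec h.1, rN_ofVec]
    simp [el, LinearEquiv.mul_apply]

theorem okL_append {L M : List ℕ} (hL : okL L = true) (hM : okL M = true) : okL (L ++ M) = true := by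
  simp only [okL, List.all_append, Bool.and_eq_true] at *
  exact ⟨hL, hM⟩

theorem okL_reverse {L : List ℕ} (hL : okL L = true) : okL L.reverse = true := by
  simpa [okL] using hL

/-- A coordinate vector. -/
def unitV (j : Fin 7) : W7 := fun x => if coInv x = j then 1 else 0

theorem decomp_unit (v : W7) : v = ∑ j : Fin 7, v (co j) • unitV j := by
  funext x
  rw [Finset.sum_apply, Finset.sum_eq_single (coInv x)]
  · simp [unitV, co_coInv]
  · intro j _ hj
    simp [unitV, Ne.symm hj]
  · simp

/-- The codes of the coordinate vectors. -/
def baseN : List ℕ := [1, 2, 4, 8, 16, 32, 64]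

theorem unitV_mem (j : Fin 7) : ofVec (unitV j) ∈ baseN := by
  revert j; decide +kernel

theorem ext_unit {g h : orthGroup Q7} (H : ∀ j, g.1 (unitV j) = h.1 (unitV j)) : g = h := by
  refine Subtype.ext (LinearEquiv.ext fun v => ?_)
  rw [decomp_unit v, map_sum, map_sum]
  exact Finset.sum_congr rfl fun j _ => by rw [map_smul, map_smul, H]

/-- Two lists give the same transformation. -/
def sameL (L M : List ℕ) : Bool := baseN.all fun b => evN L b == evN M b

theorem el_eq_of_same {L M : List ℕ} (hL : okL L = true) (hM : okL M = true) (h : sameL L M = true) :
    el L = el M := by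
  refine ext_unit fun j => ofVec_injective ?_
  rw [← evN_el hL, ← evN_el hM]
  simp only [sameL, List.all_eq_true, beq_iff_eq] at h
  exact h _ (unitV_mem j)

theorem same_of_el_eq {L M : List ℕ} (hL : okL L = true) (hM : okL M = true) (h : el L = el M) :
    sameL L M = true := by
  have hb : ∀ b ∈ baseN, ofVec (toVec b) = b := by decide +kernel
  simp only [sameL, List.all_eq_true, beq_iff_eq]
  intro b hb'
  rw [← hb b hb', evN_el hL, evN_el hM, h]

/-- The parity of the number of reflections in vectors of value one is even. -/
def par1 (L : List ℕ) : Bool := L.countP (fun a => qN a == 1) % 2 == 0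

/-- The parity of the number of reflections in vectors of value two is even. -/
def par2 (L : List ℕ) : Bool := L.countP (fun a => qN a == 2) % 2 == 0

/-- The certificate of lying in the commutator subgroup. -/
def omL (L : List ℕ) : Bool :=
  okL L && par1 L && par2 L && L.all fun a => !(qN a == 0)

/-- The sign on the vectors of value one. -/
noncomputable def psi : orthGroup Q7 →* ℤˣ := levelSign Q7 1

theorem psi_refl {a : ℕ} (h : okA a = true) (h0 : qN a ≠ 0) :
    psi (refl Q7 (toVec a)) = if qN a = 1 then -1 else 1 := by
  classical
  have hq : Q7 (toVec a) = (qN a : ZMod 3) := by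
    conv_rhs => rw [← ofVec_toVec h]
    rw [qN_ofVec]
  have h3 : qN a = 1 ∨ qN a = 2 := by have := qN_lt a; omega
  have hne : Q7 (toVec a) ≠ 0 := by rcases h3 with e | e <;> rw [hq, e] <;> decide
  rw [psi, levelSign_refl Q7 (by decide) one_ne_zero hne, one_mul, hq]
  rcases h3 with e | e <;> rw [e]
  · rw [if_pos ⟨1, by decide⟩, if_pos rfl]
  · rw [if_neg, if_neg (by decide)]
    rintro ⟨r, hr⟩
    revert r; decide

theorem psi_el : ∀ {L : List ℕ}, okL L = true → (L.all fun a => !(qN a == 0)) = true →
    psi (el L) = (-1) ^ L.countP (fun a => qN a == 1)
  | [], _, _ => by simp [el]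
  | a :: L, h, h' => by
    simp only [okL, List.all_cons, Bool.and_eq_true, Bool.not_eq_true', beq_eq_false_iff_ne] at h h'
    rw [show a :: L = [a] ++ L from rfl, el_append, map_mul, psi_el h.2 h'.2, List.countP_append, pow_add]
    congr 1
    rw [show el [a] = refl Q7 (toVec a) by simp [el], psi_refl h.1 h'.1]
    by_cases e : qN a = 1 <;> simp [e]

theorem det_el : ∀ {L : List ℕ}, okL L = true → (L.all fun a => !(qN a == 0)) = true →
    LinearMap.det ((el L).1 : W7 →ₗ[ZMod 3] W7) = (-1) ^ L.length
  | [], _, _ => by simp [el]
  | a :: L, h, h' => by
    simp only [okL, List.all_cons, Bool.and_eq_true, Bool.not_eq_true', beq_eq_false_iff_ne] at h h'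
    have hne : Q7 (toVec a) ≠ 0 := fun hz => h'.1 (by
      rw [← ofVec_toVec h.1]
      exact (qN_eq_iff _ (c := 0) (by norm_num)).2 (by simpa using hz))
    have hl : ((el (a :: L)).1 : W7 →ₗ[ZMod 3] W7) =
        ((refl Q7 (toVec a)).1 : W7 →ₗ[ZMod 3] W7) ∘ₗ ((el L).1 : W7 →ₗ[ZMod 3] W7) := by
      ext v; simp [el]
    rw [hl, LinearMap.det_comp, det_refl Q7 hne, det_el h.2 h'.2, List.length_cons, pow_succ, mul_comm]

theorem count_split : ∀ {L : List ℕ}, (L.all fun a => !(qN a == 0)) = true →
    L.length = L.countP (fun a => qN a == 1) + L.countP (fun a => qN a == 2)
  | [], _ => rfl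
  | a :: L, h => by
    simp only [List.all_cons, Bool.and_eq_true, Bool.not_eq_true', beq_eq_false_iff_ne] at h
    rw [List.length_cons, List.countP_cons, List.countP_cons, count_split h.2]
    have := qN_lt a
    have h3 : qN a = 1 ∨ qN a = 2 := by omega
    rcases h3 with e | e <;> simp [e] <;> omega

theorem el_mem_commutator {L : List ℕ} (h : omL L = true) : el L ∈ commutator (orthGroup Q7) := by
  simp only [omL, par1, par2, Bool.and_eq_true, beq_iff_eq] at h
  obtain ⟨⟨⟨hok, h1⟩, h2⟩, hnz⟩ := h
  have ev : ∀ n : ℕ, n % 2 = 0 → Even n := fun n hn => Nat.even_iff.2 hn
  refine (mem_commutator_odd (oddForm_nondeg 3 (by decide)) (by decide) _).2 ⟨?_, ?_⟩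
  · rw [det_el hok hnz, count_split hnz]
    exact ((ev _ h1).add (ev _ h2)).neg_one_pow
  · show psi (el L) = 1
    rw [psi_el hok hnz]
    exact (ev _ h1).neg_one_pow

theorem omL_ok {L : List ℕ} (h : omL L = true) : okL L = true := by
  simp only [omL, Bool.and_eq_true] at h
  exact h.1.1.1

theorem psi_eq_one {g : orthGroup Q7} (h : g ∈ commutator (orthGroup Q7)) : psi g = 1 :=
  Abelianization.commutator_subset_ker psi h

/-- The code of the vector number `i`. -/
def vecN (i : ℕ) : ℕ :=
  (List.range 7).foldl (fun acc j =>
    match i / 3 ^ j % 3 with
    | 1 => acc ||| (1 <<< j)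
    | 2 => acc ||| (1 <<< (j + 7))
    | _ => acc) 0

/-- All codes. -/
def allN : List ℕ := (List.range 2187).map vecN

/-- The number of a vector. -/
def numOf (v : W7) : ℕ := ((List.finRange 7).map fun j => (v (co j)).val * 3 ^ j.1).sum

theorem vecN_table : ∀ a b c d e f g : ZMod 3,
    let v : W7 := fun x => ![a, b, c, d, e, f, g] (coInv x)
    numOf v < 2187 ∧ vecN (numOf v) = ofVec v := by
  decide +kernel

theorem vecN_numOf (v : W7) : numOf v < 2187 ∧ vecN (numOf v) = ofVec v := by
  have h := vecN_table (v (co 0)) (v (co 1)) (v (co 2)) (v (co 3)) (v (co 4)) (v (co 5)) (v (co 6))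
  have hv : (fun x => ![v (co 0), v (co 1), v (co 2), v (co 3), v (co 4), v (co 5), v (co 6)] (coInv x)) = v := by
    funext x
    conv_rhs => rw [← co_coInv x]
    generalize coInv x = j
    fin_cases j <;> rfl
  simp only [hv] at h
  exact h

theorem ofVec_mem_allN (v : W7) : ofVec v ∈ allN :=
  List.mem_map.2 ⟨numOf v, List.mem_range.2 (vecN_numOf v).1, (vecN_numOf v).2⟩

theorem forall_of_allN {p : ℕ → Bool} (h : allN.all p = true) (v : W7) : p (ofVec v) = true :=
  List.all_eq_true.1 h _ (ofVec_mem_allN v)

/-- All codes, built by doubling. -/
def genN : ℕ → List ℕ
  | 0 => [0]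
  | j + 1 => genN j ++ (genN j).map (fun c => c ||| 2 ^ j) ++ (genN j).map (fun c => c ||| 2 ^ (j + 7))

/-- All codes. -/
def allC : List ℕ := genN 7

theorem allC_eq : allC = allN := by decide +kernel

theorem ofVec_mem_allC (v : W7) : ofVec v ∈ allC := allC_eq ▸ ofVec_mem_allN v

theorem forall_of_allC {p : ℕ → Bool} (h : allC.all p = true) (v : W7) : p (ofVec v) = true :=
  List.all_eq_true.1 h _ (ofVec_mem_allC v)

theorem nodup_allC : allC.Nodup ∧ allC.toFinset = (Finset.univ : Finset W7).image ofVec := by
  have hlen : allC.length = 2187 := by rw [allC_eq, allN, List.length_map, List.length_range]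
  have hsub : (Finset.univ : Finset W7).image ofVec ⊆ allC.toFinset := fun c hc => by
    obtain ⟨v, -, rfl⟩ := Finset.mem_image.1 hc
    exact List.mem_toFinset.2 (ofVec_mem_allC v)
  have hcard : ((Finset.univ : Finset W7).image ofVec).card = 2187 := by
    rw [Finset.card_image_of_injective _ ofVec_injective, Finset.card_univ]
    simp
  have hle := List.toFinset_card_le allC
  have hge := Finset.card_le_card hsub
  refine ⟨?_, (Finset.eq_of_subset_of_card_le hsub (by omega)).symm⟩
  exact Multiset.toFinset_card_eq_card_iff_nodup.1 (show allC.toFinset.card = allC.length by omega)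

theorem countP_allC (p : ℕ → Bool) :
    allC.countP p = ((Finset.univ : Finset W7).filter fun v => p (ofVec v) = true).card := by
  rw [List.countP_eq_length_filter, ← List.toFinset_card_of_nodup (nodup_allC.1.filter _),
    List.toFinset_filter, nodup_allC.2, Finset.filter_image,
    Finset.card_image_of_injective _ ofVec_injective]

/-- A linear map on codes, from the images of the coordinate vectors. -/
def mv : List ℕ → ℕ → ℕ
  | [], _ => 0
  | col :: t, c =>
    if c &&& 1 == 1 then addN col (mv t (c >>> 1))
    else if (c >>> 7) &&& 1 == 1 then addN (negN col) (mv t (c >>> 1))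
    else mv t (c >>> 1)

/-- The images of the coordinate vectors. -/
def colsOf (L : List ℕ) : List ℕ := baseN.map (evN L)

theorem mv_colsOf {L : List ℕ} (h : okL L = true) (v : W7) :
    mv (colsOf L) (ofVec v) = ofVec ((el L).1 v) := by
  have hu : baseN = (List.finRange 7).map fun j => ofVec (unitV j) := by decide +kernel
  have hcols : colsOf L = (List.finRange 7).map fun j => ofVec ((el L).1 (unitV j)) := by
    rw [colsOf, hu, List.map_map]
    exact List.map_congr_left fun j _ => evN_el h (unitV j)
  have hb : ∀ k c : ℕ, ((c >>> k) &&& 1 == 1) = c.testBit k := fun k c => by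
    rw [Nat.testBit, Nat.and_comm 1, Nat.and_one_is_mod]
    rcases Nat.mod_two_eq_zero_or_one (c >>> k) with e | e <;> simp [e]
  have hgo : ∀ n o : ℕ, o + n = 7 →
      mv (((List.finRange 7).drop o).map fun j => ofVec ((el L).1 (unitV j))) (ofVec v >>> o) =
        ofVec ((((List.finRange 7).drop o).map fun j => (el L).1 (v (co j) • unitV j)).sum) := by
    intro n
    induction n with
    | zero =>
      intro o ho
      rw [List.drop_eq_nil_of_le (by simp; omega)]
      simp [mv, ofVec_zero]
    | succ n ih =>
      intro o ho
      have hlt : o < (List.finRange 7).length := by simp; omega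
      rw [List.drop_eq_getElem_cons hlt, List.map_cons, List.map_cons, List.sum_cons, mv,
        List.getElem_finRange]
      have ih' := ih (o + 1) (by omega)
      rw [← Nat.shiftRight_add, ← Nat.shiftRight_add, ih', hb o, hb (o + 7)]
      have h1 := testBit_lo v ⟨o, by simpa using hlt⟩
      have h2 := testBit_hi v ⟨o, by simpa using hlt⟩
      dsimp only at h1 h2
      rw [h1, h2]
      simp only [Fin.cast_mk]
      rcases z3_cases (v (co ⟨o, by simpa using hlt⟩)) with e | e | e <;>
        simp +decide [e, ofVec_add, ofVec_neg]
      congr 2
      rw [show (2 : ZMod 3) = -1 by decide, neg_one_smul]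
  have h0 := hgo 7 0 (by omega)
  rw [List.drop_zero, Nat.shiftRight_zero, ← hcols] at h0
  rw [h0, ← Fin.sum_univ_def, ← map_sum, ← decomp_unit]

end CfsgLib.ThreeTransp.OmegaSeven
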