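/-
Normal subgroups of a group with a large extraspecial 2-subgroup.
-/
import Cfsg.Agent.Lib.ThreeTransp.ExtraspecialCore
import Cfsg.Agent.Lib.Components.GenFitting

set_option autoImplicit false
set_option linter.style.haveILetI false

namespace CfsgLib.ThreeTransp.Simplicity

open Subgroup CfsgLib.ThreeTransp.Extraspecial

variable {G : Type*} [Group G] [Finite G]

theorem isExtraspecial_of_equiv {p : ℕ} {P P' : Type*} [Group P] [Group P'] (e : P ≃* P')
    (h : Cfsg.IsExtraspecial p P) : Cfsg.IsExtraspecial p P' := by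
  obtain ⟨⟨hp, hf, hc⟩, hz⟩ := h
  have hcz : (Subgroup.center P).map e.toMonoidHom = Subgroup.center P' := by
    refine le_antisymm ?_ fun y hy => ⟨e.symm y, ?_, by exact e.apply_symm_apply y⟩
    · rintro _ ⟨x, hx, rfl⟩
      rw [Subgroup.mem_center_iff]
      intro y
      obtain ⟨x', rfl⟩ := e.surjective y
      exact (map_mul e x' x).symm.trans
        ((congrArg e (Subgroup.mem_center_iff.1 hx x')).trans (map_mul e x x'))
    · rw [SetLike.mem_coe, Subgroup.mem_center_iff]
      intro x'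
      apply e.injective
      rw [map_mul, map_mul, e.apply_symm_apply]
      exact Subgroup.mem_center_iff.1 hy (e x')
  refine ⟨⟨hp.of_equiv e, ?_, ?_⟩, ?_⟩
  · rw [← hcz, ← hf]
    exact le_antisymm (fun y hy => ⟨e.symm y,
      frattini_le_comap_frattini_of_surjective (φ := e.symm.toMonoidHom) e.symm.surjective hy,
      e.apply_symm_apply y⟩) (Subgroup.map_le_iff_le_comap.2
        (frattini_le_comap_frattini_of_surjective (φ := e.toMonoidHom) e.surjective))
  · rw [← hcz, ← hc, _root_.commutator_def, _root_.commutator_def, Subgroup.map_commutator,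
      Subgroup.map_top_of_surjective _ e.surjective]
  · rw [← hcz, Subgroup.card_map_of_injective e.injective, hz]

/-- The consequences of `F*(C(z)) = Q` extraspecial. -/
theorem of_genFitting {z : G} (hz : orderOf z = 2) {Q : Subgroup G}
    (hF : (Cfsg.generalizedFittingSubgroup ↥(Subgroup.centralizer ({z} : Set G))).map
      (Subgroup.centralizer ({z} : Set G)).subtype = Q)
    (hQ : Cfsg.IsExtraspecial 2 ↥Q) :
    Extra Q z ∧ (∀ x : G, (∀ q ∈ Q, x * q = q * x) → x ∈ Q) ∧
      Subgroup.centralizer ({z} : Set G) ≤ Subgroup.normalizer (Q : Set G) := by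
  set C := Subgroup.centralizer ({z} : Set G) with hCd
  set F := Cfsg.generalizedFittingSubgroup ↥C with hFd
  have hself : ∀ x : ↥C, (∀ q ∈ Q, (x : G) * q = q * x) → (x : G) ∈ Q := fun x hx => hF ▸
    ⟨x, CfsgLib.Components.centralizer_generalizedFitting_le (Subgroup.mem_centralizer_iff.2
      fun y hy => Subtype.ext (hx y (hF ▸ ⟨y, hy, rfl⟩)).symm), rfl⟩
  have hQC : Q ≤ C := hF ▸ Subgroup.map_subtype_le _
  have hzQ : z ∈ Q := hself ⟨z, Subgroup.mem_centralizer_singleton_iff.2 rfl⟩ fun q hq =>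
    (Subgroup.mem_centralizer_singleton_iff.1 (hQC hq)).symm
  obtain ⟨w, hw⟩ := exists_extra hQ
  have hX : Extra Q z := by
    rcases hw.mem_center_cases hzQ fun q hq =>
      (Subgroup.mem_centralizer_singleton_iff.1 (hQC hq)).symm with e | e
    · subst e; simp at hz
    · exact e ▸ hw
  refine ⟨hX, fun x hx => ?_, fun c hc => ?_⟩
  · exact hself ⟨x, Subgroup.mem_centralizer_singleton_iff.2 (hx z hzQ)⟩ hx
  · refine Subgroup.mem_normalizer_fintype fun q hq => ?_
    rw [SetLike.mem_coe, ← hF] at hq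
    obtain ⟨y, hy, rfl⟩ := hq
    rw [SetLike.mem_coe, ← hF]
    exact ⟨⟨c, hc⟩ * y * ⟨c, hc⟩⁻¹,
      (inferInstance : (Cfsg.generalizedFittingSubgroup ↥C).Normal).conj_mem y hy _, rfl⟩

/-- A nontrivial normal subgroup contains `z`. -/
theorem eq_bot_of_not_mem {Q : Subgroup G} {z : G} (h : Extra Q z)
    (hC : ∀ x : G, (∀ q ∈ Q, x * q = q * x) → x ∈ Q)
    (hN : Subgroup.centralizer ({z} : Set G) ≤ Subgroup.normalizer (Q : Set G))
    (hlarge : ∀ K : Subgroup G, Odd (Nat.card K) → Q ≤ Subgroup.normalizer (K : Set G) → K = ⊥)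
    {M : Subgroup G} [hM : M.Normal] (hz : z ∉ M) : M = ⊥ := by
  have hMQ : ∀ x ∈ M, x ∈ Q → x = 1 := by
    intro x hxM hxQ
    by_contra hx1
    obtain ⟨q, hq, hqx⟩ := h.exists_conj_eq hxQ hx1 fun e => hz (e ▸ hxM)
    apply hz
    have := M.mul_mem (M.inv_mem hxM) (hM.conj_mem x hxM q)
    rwa [hqx, inv_mul_cancel_left] at this
  have hfix : ∀ m ∈ M, z * m = m * z → m = 1 := by
    intro m hm hmz
    have hmN := hN (Subgroup.mem_centralizer_singleton_iff.2 hmz.symm)
    refine hMQ m hm (hC m fun q hq => ?_)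
    have h1 : m * (q * m⁻¹ * q⁻¹) ∈ M := M.mul_mem hm (hM.conj_mem _ (M.inv_mem hm) q)
    have h2 : m * (q * m⁻¹ * q⁻¹) ∈ Q := by
      rw [show m * (q * m⁻¹ * q⁻¹) = m * q * m⁻¹ * q⁻¹ by group]
      exact Q.mul_mem ((Subgroup.mem_normalizer_iff.1 hmN q).1 hq) (Q.inv_mem hq)
    calc m * q = m * (q * m⁻¹ * q⁻¹) * (q * m) := by group
      _ = q * m := by rw [hMQ _ h1 h2, one_mul]
  refine hlarge M ?_ (le_top.trans (Subgroup.normalizer_eq_top (H := M)).ge)
  by_contra hodd
  rw [Nat.not_odd_iff_even, even_iff_two_dvd] at hodd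
  -- an involution acting without fixed points forces odd order
  let φ : M →* M :=
    { toFun := fun k => ⟨z * k * z⁻¹, hM.conj_mem k k.2 z⟩
      map_one' := Subtype.ext (by simp)
      map_mul' := fun a b => Subtype.ext (by simp [conj_mul]) }
  have hφ : MonoidHom.FixedPointFree φ := fun k hk =>
    Subtype.ext (hfix k k.2 (mul_inv_eq_iff_eq_mul.1 (congrArg Subtype.val hk)))
  have h2 : Function.Involutive φ := fun k => Subtype.ext (by
    show z * (z * k * z⁻¹) * z⁻¹ = k
    rw [show z * (z * (k : G) * z⁻¹) * z⁻¹ = z * z * k * (z * z)⁻¹ by group, h.z_sq]; simp)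
  haveI : Fact (Nat.Prime 2) := ⟨Nat.prime_two⟩
  obtain ⟨t, ht⟩ := exists_prime_orderOf_dvd_card' 2 hodd
  have htinv : t⁻¹ = t := by
    refine inv_eq_of_mul_eq_one_right ?_
    have := pow_orderOf_eq_one t
    rwa [ht, pow_two] at this
  have ht1 : t = 1 := hφ t ((congrFun (hφ.coe_eq_inv_of_involutive h2) t).trans htinv)
  rw [ht1, orderOf_one] at ht
  omega

/-- A normal subgroup containing `C(z)` is everything. -/
theorem eq_top_of_centralizer_le {Q : Subgroup G} {z : G} (h : Extra Q z)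
    (hC : ∀ x : G, (∀ q ∈ Q, x * q = q * x) → x ∈ Q)
    {M : Subgroup G} [M.Normal] (hM : Subgroup.centralizer ({z} : Set G) ≤ M) : M = ⊤ := by
  haveI : Fact (Nat.Prime 2) := ⟨Nat.prime_two⟩
  obtain ⟨S, hS⟩ := h.isPGroup.exists_le_sylow
  haveI : Nontrivial ↥(S : Subgroup G) :=
    ⟨⟨⟨z, hS h.z_mem⟩, 1, fun e => h.z_ne (congrArg Subtype.val e)⟩⟩
  have hcen : ∀ c : G, c ∈ S → (∀ s ∈ S, c * s = s * c) → c = 1 ∨ c = z := fun c _ hc =>
    h.mem_center_cases (hC c fun q hq => hc q (hS hq)) fun q hq => hc q (hS hq)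
  have hzc : ∀ s ∈ S, z * s = s * z := by
    haveI := S.isPGroup'.center_nontrivial
    obtain ⟨c, hc⟩ := exists_ne (1 : Subgroup.center ↥(S : Subgroup G))
    have hc' : ∀ s ∈ S, ((c : ↥(S : Subgroup G)) : G) * s = s * (c : ↥(S : Subgroup G)) := fun s hs =>
      (congrArg Subtype.val (Subgroup.mem_center_iff.1 c.2 ⟨s, hs⟩)).symm
    rcases hcen _ (c : ↥(S : Subgroup G)).2 hc' with e | e
    · exact absurd (Subtype.ext (Subtype.ext e)) hc
    · intro s hs; rw [← e]; exact hc' s hs
  have hSM : (S : Subgroup G) ≤ M := fun s hs =>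
    hM (Subgroup.mem_centralizer_singleton_iff.2 (hzc s hs).symm)
  have hNS : Subgroup.normalizer ((S : Subgroup G) : Set G) ≤ M := by
    intro n hn
    refine hM (Subgroup.mem_centralizer_singleton_iff.2 ?_)
    have hzS : z ∈ S := hS h.z_mem
    rcases hcen (n * z * n⁻¹) ((Subgroup.mem_normalizer_iff.1 hn z).1 hzS) (fun s hs => by
      have := hzc _ ((Subgroup.mem_normalizer_iff''.1 hn s).1 hs)
      calc n * z * n⁻¹ * s = n * (z * (n⁻¹ * s * n)) * n⁻¹ := by group
        _ = s * (n * z * n⁻¹) := by rw [this]; group) with e | e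
    · exact absurd (conj_eq_one_iff.1 e) h.z_ne
    · exact mul_inv_eq_iff_eq_mul.1 e
  have := Sylow.normalizer_sup_eq_top' S hSM
  rw [eq_top_iff, ← this]
  exact sup_le hNS le_rfl

end CfsgLib.ThreeTransp.Simplicity
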