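import Cfsg.Agent.Lib.Sporadic.OctadStabilizer
import Cfsg.Agent.Lib.Sporadic.Sextets
import Cfsg.Agent.S1556

/-!
# Six points and pairs of octads in the group of the length-24 code
-/

set_option autoImplicit false

namespace CfsgLib.ThreeTransp.M24Six

open Cfsg Finset CfsgLib.SmallGroups.Golay CfsgLib.SmallGroups.GolayOctads
open CfsgLib.SmallGroups.M24Group CfsgLib.SmallGroups.Mathieu CfsgLib.SmallGroups.MathieuSets
open CfsgLib.SmallGroups.Steiner CfsgLib.Sporadic.OctadStabilizer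
open scoped Pointwise

theorem octad_fixed {o T : Finset GolayPt} (ho : o ∈ octads) {g : Equiv.Perm GolayPt} (hg : g ∈ M24)
    (hT : T ⊆ o) (h5 : 5 ≤ T.card) (hfix : ∀ p ∈ T, g p = p) : g • o = o := by
  refine octad_eq_of_inter (smul_mem_weight hg ho) ho (h5.trans (card_le_card fun p hp => ?_))
  refine mem_inter.2 ⟨?_, hT hp⟩
  rw [← hfix p hp, ← Equiv.Perm.smul_def]
  exact smul_mem_smul_finset (hT hp)

/-- The two points of an octad outside six of its points. -/
theorem exists_two {o E : Finset GolayPt} (ho : o ∈ octads) (hE : E ⊆ o) (h6 : E.card = 6) :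
    ∃ a b : ↥o, a ≠ b ∧ (a : GolayPt) ∉ E ∧ (b : GolayPt) ∉ E ∧
      ∀ x : ↥o, (x : GolayPt) ∉ E → x = a ∨ x = b := by
  have h2 : (o \ E).card = 2 := by rw [card_sdiff_of_subset hE, ho.2, h6]
  obtain ⟨a, b, hab, e⟩ := card_eq_two.1 h2
  have ha : a ∈ o \ E := e ▸ mem_insert_self _ _
  have hb : b ∈ o \ E := e ▸ mem_insert_of_mem (mem_singleton_self _)
  rw [mem_sdiff] at ha hb
  refine ⟨⟨a, ha.1⟩, ⟨b, hb.1⟩, fun h => hab (congrArg Subtype.val h), ha.2, hb.2, fun x hx => ?_⟩
  have : (x : GolayPt) ∈ o \ E := mem_sdiff.2 ⟨x.2, hx⟩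
  rw [e, mem_insert, mem_singleton] at this
  exact this.imp (fun h => Subtype.ext h) fun h => Subtype.ext h

theorem ptStab_six_in {o E : Finset GolayPt} (ho : o ∈ octads) (hE : E ⊆ o) (h6 : E.card = 6) :
    ptStab E = ptStab o := by
  refine le_antisymm (fun g hg => ?_) fun g hg => mem_ptStab.2
    ⟨(mem_ptStab.1 hg).1, fun p hp => (mem_ptStab.1 hg).2 p (hE hp)⟩
  obtain ⟨hgM, hfix⟩ := mem_ptStab.1 hg
  let g' : octStab o := ⟨g, hgM, octad_fixed ho hgM hE (by omega) hfix⟩
  obtain ⟨a, b, hab, -, -, hcov⟩ := exists_two ho hE h6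
  have heven : res o g' ∈ alternatingGroup ↥o := by
    rw [← range_res ho]
    exact ⟨g', rfl⟩
  have hsub : (res o g').support ⊆ {a, b} := by
    intro x hx
    rw [Equiv.Perm.mem_support] at hx
    rw [mem_insert, mem_singleton]
    refine hcov x fun hxE => hx (Subtype.ext ?_)
    rw [res_apply]
    exact hfix _ hxE
  have h1 : res o g' = 1 := by
    by_contra hne
    have hle : (res o g').support.card ≤ 2 := (card_le_card hsub).trans (card_le_two)
    have hge := Equiv.Perm.two_le_card_support_of_ne_one hne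
    have hswap := (Equiv.Perm.card_support_eq_two.1 (le_antisymm hle hge)).sign_eq
    rw [Equiv.Perm.mem_alternatingGroup.1 heven] at hswap
    exact absurd hswap (by decide)
  have hk : g' ∈ (res o).ker := h1
  rw [ker_res, Subgroup.mem_subgroupOf] at hk
  exact hk

theorem exists_perm_in {o E : Finset GolayPt} (ho : o ∈ octads) (hE : E ⊆ o) (h6 : E.card = 6)
    (σ : Equiv.Perm ↥E) : ∃ g ∈ M24, g • o = o ∧ ∀ p : ↥E, g p = σ p := by
  obtain ⟨a, b, hab, haE, hbE, -⟩ := exists_two ho hE h6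
  let f : ↥E ≃ {x : ↥o // (x : GolayPt) ∈ E} :=
    { toFun := fun p => ⟨⟨p, hE p.2⟩, p.2⟩
      invFun := fun x => ⟨x.1, x.2⟩
      left_inv := fun _ => rfl
      right_inv := fun _ => rfl }
  let σ' := σ.extendDomain f
  have hσ' : ∀ p : ↥E, ((σ' ⟨p, hE p.2⟩ : ↥o) : GolayPt) = σ p := fun p => by
    change ((σ.extendDomain f (f p : ↥o) : ↥o) : GolayPt) = _
    rw [Equiv.Perm.extendDomain_apply_image]
    rfl
  obtain ⟨τ, hτ, hτE⟩ : ∃ τ ∈ alternatingGroup ↥o, ∀ p : ↥E, ((τ ⟨p, hE p.2⟩ : ↥o) : GolayPt) = σ p := by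
    rcases Int.units_eq_one_or (Equiv.Perm.sign σ') with h | h
    · exact ⟨σ', Equiv.Perm.mem_alternatingGroup.2 h, hσ'⟩
    · refine ⟨Equiv.swap a b * σ', Equiv.Perm.mem_alternatingGroup.2 ?_, fun p => ?_⟩
      · rw [map_mul, Equiv.Perm.sign_swap hab, h, neg_mul_neg, one_mul]
      · rw [Equiv.Perm.mul_apply, Equiv.swap_apply_of_ne_of_ne ?_ ?_]
        · exact hσ' p
        · intro e
          exact haE (by rw [← e, hσ' p]; exact (σ p).2)
        · intro e
          exact hbE (by rw [← e, hσ' p]; exact (σ p).2)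
  rw [← range_res ho] at hτ
  obtain ⟨g, rfl⟩ := hτ
  exact ⟨g, g.2.1, g.2.2, fun p => by rw [← hτE p, res_apply]⟩

/-- The six chosen base points outside any octad. -/
def sixBase (i : Fin 6) : GolayPt := if (i : ℕ) < 5 then bpt i else bpt 6

theorem exists_to_six {x : Fin 6 → GolayPt} (hx : Function.Injective x)
    (hE : ¬ ∃ o ∈ octads, ∀ i, x i ∈ o) : ∃ a ∈ M24, ∀ i, a (x i) = sixBase i := by
  obtain ⟨a, ha, h⟩ := exists_to_base (x := fun i : Fin 5 => x i.castSucc)
    (hx.comp (Fin.castSucc_injective 5))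
  have hout : a (x 5) ∉ toSet octB := by
    intro h5
    refine hE ⟨a⁻¹ • toSet octB, smul_mem_weight (inv_mem ha) octB_mem, fun i => ?_⟩
    rw [mem_inv_smul_finset_iff, Equiv.Perm.smul_def]
    rcases Fin.eq_castSucc_or_eq_last i with ⟨j, rfl⟩ | rfl
    · rw [h j]
      exact bpt_mem_octB _ (by omega)
    · exact h5
  obtain ⟨g, hg, e⟩ := orbit_low sgen_mem (l := 6) (by norm_num) (K := M24)
    ((mem_toSet).2 (target_six _ hout))
  rw [mem_lev] at hg
  refine ⟨g⁻¹ * a, mul_mem (inv_mem hg.1) ha, fun i => ?_⟩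
  rw [Equiv.Perm.mul_apply, Equiv.Perm.inv_def, Equiv.symm_apply_eq]
  rcases Fin.eq_castSucc_or_eq_last i with ⟨j, rfl⟩ | rfl
  · rw [h j, sixBase, if_pos (by simp only [Fin.val_castSucc]; omega), Fin.val_castSucc,
      hg.2 j (by omega)]
  · exact e.symm

/-- The pointwise stabiliser of the six chosen points. -/
def sixStab : Subgroup (Equiv.Perm GolayPt) :=
  lev M24 5 ⊓ MulAction.stabilizer (Equiv.Perm GolayPt) (bpt 6)

theorem card_sixStab : Nat.card sixStab = 3 := by
  have h := card_step (lev M24 5) (bpt 6) (toSet octB)ᶜ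
    (fun g hg => by
      rw [Finset.mem_compl, ← smul_octB le_rfl hg, ← Equiv.Perm.smul_def, smul_mem_smul_finset_iff]
      exact bpt_six)
    (fun q hq => by
      rw [Finset.mem_compl] at hq
      obtain ⟨g, hg, e⟩ := orbit_low sgen_mem (l := 6) (by norm_num) (K := M24)
        (mem_toSet.2 (target_six q hq))
      exact ⟨g, hg.1, e⟩)
  rw [card_lev sgen_mem le_rfl 5 (by norm_num), card_compl, card_toSet, card_golayPt,
    show pc octB = 8 by decide +kernel] at h
  change 48 = 16 * Nat.card sixStab at h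
  omega

theorem exists_enum {E : Finset GolayPt} (h6 : E.card = 6) :
    ∃ x : Fin 6 → GolayPt, Function.Injective x ∧ (∀ i, x i ∈ E) ∧ ∀ p ∈ E, ∃ i, x i = p :=
  ⟨fun i => ((E.equivFinOfCardEq h6).symm i : GolayPt),
    fun i j e => (E.equivFinOfCardEq h6).symm.injective (Subtype.ext e),
    fun i => Subtype.coe_prop _,
    fun p hp => ⟨E.equivFinOfCardEq h6 ⟨p, hp⟩, by simp⟩⟩

theorem card_ptStab_six_out {E : Finset GolayPt} (h6 : E.card = 6)
    (hE : ¬ ∃ o ∈ octads, E ⊆ o) : Nat.card (ptStab E) = 3 := by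
  obtain ⟨x, hx, hxE, hxs⟩ := exists_enum h6
  obtain ⟨a, ha, h⟩ := exists_to_six hx fun ⟨o, ho, ho'⟩ =>
    hE ⟨o, ho, fun p hp => let ⟨i, e⟩ := hxs p hp; e ▸ ho' i⟩
  rw [← card_sixStab]
  refine Nat.card_congr ((MulAut.conj a).toEquiv.subtypeEquiv fun g => ?_)
  rw [MulEquiv.toEquiv_eq_coe, MulEquiv.coe_toEquiv, MulAut.conj_apply, mem_ptStab]
  have hinv : ∀ i, a⁻¹ (sixBase i) = x i := fun i => by
    rw [← h i, Equiv.Perm.inv_def, Equiv.symm_apply_apply]
  have key : (∀ p ∈ E, g p = p) ↔ ∀ i, (a * g * a⁻¹) (sixBase i) = sixBase i := by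
    constructor
    · intro hf i
      rw [Equiv.Perm.mul_apply, Equiv.Perm.mul_apply, hinv, hf _ (hxE i), h]
    · intro hf p hp
      obtain ⟨i, rfl⟩ := hxs p hp
      have := hf i
      rw [Equiv.Perm.mul_apply, Equiv.Perm.mul_apply, hinv, ← h i] at this
      exact a.injective this
  constructor
  · rintro ⟨hg, hf⟩
    have hk := key.1 hf
    exact ⟨mem_lev.2 ⟨mul_mem (mul_mem ha hg) (inv_mem ha), fun j hj => by
      have := hk ⟨j, by omega⟩
      rwa [sixBase, if_pos hj] at this⟩, hk 5⟩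
  · rintro ⟨hl, h5⟩
    replace hl := mem_lev.1 (show a * g * a⁻¹ ∈ lev M24 5 from hl)
    refine ⟨?_, key.2 fun i => ?_⟩
    · have hm := mul_mem (mul_mem (inv_mem ha) hl.1) ha
      simpa [mul_assoc] using hm
    · by_cases hi : (i : ℕ) < 5
      · rw [sixBase, if_pos hi]
        exact hl.2 i hi
      · rw [sixBase, if_neg hi]
        exact h5

theorem card_ptStab_six_in {o E : Finset GolayPt} (ho : o ∈ octads) (hE : E ⊆ o) (h6 : E.card = 6) :
    Nat.card (ptStab E) = 16 := by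
  rw [ptStab_six_in ho hE h6]
  exact (ptStab_octad ho).1

theorem exists_perm_six {E : Finset GolayPt} (h6 : E.card = 6) (σ : Equiv.Perm ↥E) :
    ∃ g ∈ M24, ∀ p : ↥E, g p = σ p := by
  by_cases hE : ∃ o ∈ octads, E ⊆ o
  · obtain ⟨o, ho, hEo⟩ := hE
    obtain ⟨g, hg, -, h⟩ := exists_perm_in ho hEo h6 σ
    exact ⟨g, hg, h⟩
  · let e : Fin 6 → ↥E := fun i => (E.equivFinOfCardEq h6).symm i
    have he : Function.Injective fun i => ((e i : ↥E) : GolayPt) := fun i j h =>
      (E.equivFinOfCardEq h6).symm.injective (Subtype.ext h)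
    have he' : Function.Injective fun i => ((σ (e i) : ↥E) : GolayPt) := fun i j h =>
      (E.equivFinOfCardEq h6).symm.injective (σ.injective (Subtype.ext h))
    obtain ⟨a, ha, h1⟩ := exists_to_six he fun ⟨o, ho, ho'⟩ => hE ⟨o, ho, fun p hp => by
      simpa [e] using ho' (E.equivFinOfCardEq h6 ⟨p, hp⟩)⟩
    obtain ⟨b, hb, h2⟩ := exists_to_six he' fun ⟨o, ho, ho'⟩ => hE ⟨o, ho, fun p hp => by
      simpa [e] using ho' (E.equivFinOfCardEq h6 (σ.symm ⟨p, hp⟩))⟩
    refine ⟨b⁻¹ * a, mul_mem (inv_mem hb) ha, fun p => ?_⟩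
    have hp : e (E.equivFinOfCardEq h6 p) = p := Equiv.symm_apply_apply _ _
    rw [← hp, Equiv.Perm.mul_apply, h1, Equiv.Perm.inv_def, Equiv.symm_apply_eq]
    exact (h2 _).symm

/-- The action of the stabiliser of a set on its points. -/
def resSet (E : Finset GolayPt) : MulAction.stabilizer M24 E →* Equiv.Perm ↥E where
  toFun g := ((g : M24) : Equiv.Perm GolayPt).subtypePerm (apply_mem_iff g.2)
  map_one' := by ext; rfl
  map_mul' _ _ := by ext; rfl

theorem resSet_apply (E : Finset GolayPt) (g : MulAction.stabilizer M24 E) (x : ↥E) :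
    ((resSet E g x : ↥E) : GolayPt) = ((g : M24) : Equiv.Perm GolayPt) x := rfl

theorem smul_eq_of_maps {E : Finset GolayPt} {g : Equiv.Perm GolayPt} (h : ∀ p ∈ E, g p ∈ E) :
    g • E = E := by
  refine eq_of_subset_of_card_le (fun x hx => ?_) (card_smul_finset g E).ge
  obtain ⟨y, hy, rfl⟩ := mem_smul_finset.1 hx
  exact h y hy

theorem card_stab_six_out {E : Finset GolayPt} (h6 : E.card = 6) (hE : ¬ ∃ o ∈ octads, E ⊆ o) :
    Nat.card (MulAction.stabilizer M24 E) = 2160 := by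
  have hsurj : Function.Surjective (resSet E) := fun σ => by
    obtain ⟨g, hg, h⟩ := exists_perm_six h6 σ
    have hgE : g • E = E := smul_eq_of_maps fun p hp => (h ⟨p, hp⟩).symm ▸ (σ _).2
    exact ⟨⟨⟨g, hg⟩, hgE⟩, Equiv.ext fun p => Subtype.ext ((resSet_apply _ _ p).trans (h p))⟩
  have hker : Nat.card (resSet E).ker = 3 := by
    rw [← card_ptStab_six_out h6 hE]
    refine Nat.card_congr
      { toFun := fun g => ⟨((g.1 : M24) : Equiv.Perm GolayPt), mem_ptStab.2 ⟨g.1.1.2, fun p hp => ?_⟩⟩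
        invFun := fun g => ⟨⟨⟨g.1, (mem_ptStab.1 g.2).1⟩, smul_eq_of_maps fun p hp => ?_⟩, ?_⟩
        left_inv := fun _ => rfl
        right_inv := fun _ => rfl }
    · rw [← resSet_apply E g.1 ⟨p, hp⟩, show resSet E g.1 = 1 from g.2]
      rfl
    · show g.1 p ∈ E
      rw [(mem_ptStab.1 g.2).2 p hp]; exact hp
    · exact Equiv.ext fun p => Subtype.ext ((mem_ptStab.1 g.2).2 p p.2)
  have h := Subgroup.card_mul_index (resSet E).ker
  rw [hker, Subgroup.index_ker, MonoidHom.range_eq_top.2 hsurj, Subgroup.card_top, Nat.card_perm,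
    Nat.card_eq_finsetCard, h6, show Nat.factorial 6 = 720 from rfl] at h
  omega

theorem card_stab_octad {o : Finset GolayPt} (ho : o ∈ octads) :
    Nat.card (MulAction.stabilizer M24 o) = 322560 := by
  have e : (MulAction.stabilizer M24 o).map M24.subtype = octStab o := by
    ext g
    constructor
    · rintro ⟨g, hg, rfl⟩
      exact ⟨g.2, hg⟩
    · exact fun h => ⟨⟨g, h.1⟩, h.2, rfl⟩
  rw [← card_octStab ho, ← e, Subgroup.card_map_of_injective (Subgroup.subtype_injective _)]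

theorem ncard_inter {o : Finset GolayPt} (ho : o ∈ octads) (k : ℕ) :
    {x : Finset GolayPt | x ∈ octads ∧ (o ∩ x).card = k}.ncard = Nat.choose 8 k * mu24 k := by
  rw [ncard_sep (fun x => (o ∩ x).card = k)]
  simp only [inter_comm o]
  exact inter_card_count octads_steiner ho (fun T hT => inter24 card_golayPt octads_steiner ho hT) k

theorem card_joint {o o' : Finset GolayPt} (ho : o ∈ octads) (ho' : o' ∈ octads) :
    (Nat.choose 8 (o ∩ o').card * mu24 (o ∩ o').card) *
      Nat.card ↥(MulAction.stabilizer M24 o ⊓ MulAction.stabilizer M24 o') = 322560 := by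
  have horb : MulAction.orbit (MulAction.stabilizer M24 o) o' =
      {x : Finset GolayPt | x ∈ octads ∧ (o ∩ x).card = (o ∩ o').card} := by
    ext x
    constructor
    · rintro ⟨g, rfl⟩
      refine ⟨smul_mem_weight g.1.2 ho', ?_⟩
      have hgo : ((g : M24) : Equiv.Perm GolayPt) • o = o := g.2
      change (o ∩ ((g : M24) : Equiv.Perm GolayPt) • o').card = _
      nth_rw 1 [← hgo]
      rw [← smul_finset_inter, card_smul_finset]
    · rintro ⟨hx, hk⟩
      obtain ⟨g, hg, h1, h2⟩ := Cfsg.Agent.S1556.octad_orbit o o' x ho ho' hx hk.symm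
      exact ⟨⟨⟨g, hg⟩, h1⟩, h2⟩
  have hst : (MulAction.stabilizer M24 o ⊓ MulAction.stabilizer M24 o').subgroupOf
      (MulAction.stabilizer M24 o) = MulAction.stabilizer (MulAction.stabilizer M24 o) o' := by
    ext g
    rw [Subgroup.mem_subgroupOf, Subgroup.mem_inf]
    exact ⟨fun h => h.2, fun h => ⟨g.2, h⟩⟩
  have h := (MulAction.stabilizer (MulAction.stabilizer M24 o) o').card_mul_index
  rw [MulAction.index_stabilizer, horb, ncard_inter ho, card_stab_octad ho, ← hst,
    Nat.card_congr (Subgroup.subgroupOfEquivOfLe inf_le_left).toEquiv] at h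
  rwa [mul_comm]

theorem exists_moved_six {E : Finset GolayPt} (h6 : E.card = 6) :
    ∃ g ∈ M24, g ≠ 1 ∧ ∀ p ∈ E, g p = p := by
  have h : Nat.card (ptStab E) ≠ 1 := by
    by_cases hE : ∃ o ∈ octads, E ⊆ o
    · obtain ⟨o, ho, hEo⟩ := hE
      rw [card_ptStab_six_in ho hEo h6]; decide
    · rw [card_ptStab_six_out h6 hE]; decide
  obtain ⟨g, hg, hne⟩ := (Subgroup.ne_bot_iff_exists_ne_one (H := ptStab E)).1
    (fun hb => h (by rw [hb, Subgroup.card_bot])) |> fun ⟨g, hg⟩ =>
      (⟨g.1, g.2, fun e => hg (Subtype.ext e)⟩ : ∃ g, g ∈ ptStab E ∧ g ≠ 1)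
  exact ⟨g, (mem_ptStab.1 hg).1, hne, (mem_ptStab.1 hg).2⟩

theorem even_of_pairs {S : Finset GolayPt} {g : Equiv.Perm GolayPt} (h2 : g * g = 1)
    (hS : ∀ p ∈ S, g p ∈ S) (hne : ∀ p ∈ S, g p ≠ p) : 2 ∣ S.card := by
  have h : ∑ _p ∈ S, (1 : ZMod 2) = 0 :=
    sum_involution (fun p _ => g p) (fun _ _ => by decide) (fun p hp _ => hne p hp) hS
      (fun p _ => by rw [← Equiv.Perm.mul_apply, h2, Equiv.Perm.one_apply])
  rw [sum_const, nsmul_eq_mul, mul_one, ZMod.natCast_eq_zero_iff_even] at h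
  exact h.two_dvd

/-- Two octads meeting in two points: their joint stabiliser is faithful on six points. -/
theorem faithful_two {o o' : Finset GolayPt} (ho : o ∈ octads) (ho' : o' ∈ octads)
    (h2 : (o ∩ o').card = 2) {g : Equiv.Perm GolayPt} (hg : g ∈ M24) (hgo' : g • o' = o')
    (hfix : ∀ p ∈ o \ o', g p = p) : g = 1 := by
  have hE6 : (o \ o').card = 6 := by
    have := card_sdiff_add_card_inter o o'
    rw [ho.2] at this
    omega
  have hgP : g ∈ ptStab o := by
    rw [← ptStab_six_in ho sdiff_subset hE6]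
    exact mem_ptStab.2 ⟨hg, hfix⟩
  have hgg := (ptStab_octad ho).2 g hgP
  have hf := (mem_ptStab.1 hgP).2
  by_contra hne1
  have hmove : ∀ p ∉ o, g p ≠ p := fun p hp e => hne1 <| by
    have h := inf_bot ho hp
    rw [Subgroup.eq_bot_iff_forall] at h
    exact h g ⟨hgP, ⟨hg, (ptStab_le o hgP).2⟩, e⟩
  obtain ⟨a, a', haa, hab⟩ := card_eq_two.1 h2
  have hao : a ∈ o ∧ a ∈ o' := mem_inter.1 (hab ▸ mem_insert_self _ _)
  have ha'o : a' ∈ o ∧ a' ∈ o' := mem_inter.1 (hab ▸ mem_insert_of_mem (mem_singleton_self _))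
  obtain ⟨x, hx⟩ := card_pos.1 (show 0 < (o' \ o).card by
    have := card_sdiff_add_card_inter o' o
    rw [ho'.2, inter_comm, h2] at this
    omega)
  rw [mem_sdiff] at hx
  have hgx : g x ∉ o ∧ g x ∈ o' := by
    refine ⟨fun h => hx.2 ?_, ?_⟩
    · have := hf _ h
      rw [← Equiv.Perm.mul_apply, hgg, Equiv.Perm.one_apply] at this
      exact this ▸ h
    · exact (apply_mem_iff hgo' x).2 hx.1
  have key : ∀ b ∈ o \ o', ∀ c ∈ o \ o', b ≠ c → ∃ U ∈ octads,
      ({x, g x, a, a', b} : Finset GolayPt) ⊆ U ∧ c ∈ U ∧ (U ∩ o).card ≤ 4 := by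
    intro b hb c hc hbc
    rw [mem_sdiff] at hb hc
    have h5 : ({x, g x, a, b, c} : Finset GolayPt).card = 5 := by
      have e1 : x ≠ g x := (hmove x hx.2).symm
      rw [card_insert_of_notMem, card_insert_of_notMem, card_insert_of_notMem,
        card_insert_of_notMem, card_singleton]
      · simp [hbc]
      · simp only [mem_insert, mem_singleton]
        rintro (rfl | rfl)
        · exact hb.2 hao.2
        · exact hc.2 hao.2
      · simp only [mem_insert, mem_singleton]
        rintro (e | e | e)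
        · exact hgx.1 (e ▸ hao.1)
        · exact hgx.1 (e ▸ hb.1)
        · exact hgx.1 (e ▸ hc.1)
      · simp only [mem_insert, mem_singleton]
        rintro (e | e | e | e)
        · exact e1 e
        · exact hx.2 (e ▸ hao.1)
        · exact hx.2 (e ▸ hb.1)
        · exact hx.2 (e ▸ hc.1)
    obtain ⟨U, ⟨hU, hsub⟩, -⟩ := octads_steiner.2 _ h5
    simp only [insert_subset_iff, singleton_subset_iff] at hsub
    obtain ⟨hxU, hgxU, haU, hbU, hcU⟩ := hsub
    have hgU : g • U = U := by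
      refine octad_eq_of_inter (smul_mem_weight hg hU) hU (h5 ▸ card_le_card fun p hp => ?_)
      have hp' : p ∈ U ∧ g p ∈ U := by
        simp only [mem_insert, mem_singleton] at hp
        rcases hp with rfl | rfl | rfl | rfl | rfl
        · exact ⟨hxU, hgxU⟩
        · refine ⟨hgxU, ?_⟩
          rw [← Equiv.Perm.mul_apply, hgg, Equiv.Perm.one_apply]; exact hxU
        · exact ⟨haU, (hf _ hao.1).symm ▸ haU⟩
        · exact ⟨hbU, (hf _ hb.1).symm ▸ hbU⟩
        · exact ⟨hcU, (hf _ hc.1).symm ▸ hcU⟩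
      refine mem_inter.2 ⟨?_, hp'.1⟩
      refine (mem_smul_finset).2 ⟨g p, hp'.2, ?_⟩
      rw [Equiv.Perm.smul_def, ← Equiv.Perm.mul_apply, hgg, Equiv.Perm.one_apply]
    have hUo : U ≠ o := fun e => hx.2 (e ▸ hxU)
    have hUo' : U ≠ o' := fun e => hb.2 (e ▸ hbU)
    have heven : 2 ∣ ((U ∩ o') \ o).card :=
      even_of_pairs hgg (fun p hp => by
        rw [mem_sdiff, mem_inter] at hp ⊢
        refine ⟨⟨(apply_mem_iff hgU p).2 hp.1.1, (apply_mem_iff hgo' p).2 hp.1.2⟩, fun h => hp.2 ?_⟩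
        have := hf _ h
        rw [← Equiv.Perm.mul_apply, hgg, Equiv.Perm.one_apply] at this
        exact this ▸ h) fun p hp => hmove p (mem_sdiff.1 hp).2
    have ha'U : a' ∈ U := by
      by_contra hn
      have hio : (U ∩ o') ∩ o = {a} := by
        ext p
        simp only [mem_inter, mem_singleton]
        constructor
        · rintro ⟨⟨hpU, hpo'⟩, hpo⟩
          have : p ∈ ({a, a'} : Finset GolayPt) := hab ▸ mem_inter.2 ⟨hpo, hpo'⟩
          simp only [mem_insert, mem_singleton] at this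
          exact this.resolve_right fun e => hn (e ▸ hpU)
        · rintro rfl
          exact ⟨⟨haU, hao.2⟩, hao.1⟩
      have := card_sdiff_add_card_inter (U ∩ o') o
      rw [hio, card_singleton] at this
      rcases CfsgLib.Sporadic.Sextets.octad_inter hU ho' hUo' with h | h | h <;> omega
    refine ⟨U, hU, ?_, hcU, ?_⟩
    · simp only [insert_subset_iff, singleton_subset_iff]
      exact ⟨hxU, hgxU, haU, ha'U, hbU⟩
    · rcases CfsgLib.Sporadic.Sextets.octad_inter hU ho hUo with h | h | h <;> omega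
  obtain ⟨b, hb⟩ := card_pos.1 (show 0 < (o \ o').card by omega)
  obtain ⟨c₁, hc₁, c₂, hc₂, hc12⟩ := one_lt_card.1 (show 1 < ((o \ o').erase b).card by
    rw [card_erase_of_mem hb]; omega)
  rw [mem_erase] at hc₁ hc₂
  obtain ⟨U, hU, hsub, hcU, hle⟩ := key b hb c₁ hc₁.2 (Ne.symm hc₁.1)
  obtain ⟨U', hU', hsub', hcU', -⟩ := key b hb c₂ hc₂.2 (Ne.symm hc₂.1)
  have h5' : ({x, g x, a, a', b} : Finset GolayPt).card = 5 := by
    rw [mem_sdiff] at hb
    rw [card_insert_of_notMem, card_insert_of_notMem, card_insert_of_notMem,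
      card_insert_of_notMem, card_singleton]
    · simp only [mem_singleton]
      exact fun e => hb.2 (e ▸ ha'o.2)
    · simp only [mem_insert, mem_singleton]
      rintro (e | e)
      · exact haa e
      · exact hb.2 (e ▸ hao.2)
    · simp only [mem_insert, mem_singleton]
      rintro (e | e | e)
      · exact hgx.1 (e ▸ hao.1)
      · exact hgx.1 (e ▸ ha'o.1)
      · exact hgx.1 (e ▸ hb.1)
    · simp only [mem_insert, mem_singleton]
      rintro (e | e | e | e)
      · exact hmove x hx.2 e.symm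
      · exact hx.2 (e ▸ hao.1)
      · exact hx.2 (e ▸ ha'o.1)
      · exact hx.2 (e ▸ hb.1)
  obtain rfl : U = U' := (octads_steiner.2 _ h5').unique ⟨hU, hsub⟩ ⟨hU', hsub'⟩
  simp only [insert_subset_iff, singleton_subset_iff] at hsub
  have h5'' : ({a, a', b, c₁, c₂} : Finset GolayPt) ⊆ U ∩ o := by
    simp only [insert_subset_iff, singleton_subset_iff, mem_inter]
    exact ⟨⟨hsub.2.2.1, hao.1⟩, ⟨hsub.2.2.2.1, ha'o.1⟩, ⟨hsub.2.2.2.2, (mem_sdiff.1 hb).1⟩,
      ⟨hcU, (mem_sdiff.1 hc₁.2).1⟩, ⟨hcU', (mem_sdiff.1 hc₂.2).1⟩⟩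
  have h5c : ({a, a', b, c₁, c₂} : Finset GolayPt).card = 5 := by
    have hb' := (mem_sdiff.1 hb).2
    have hc1' := (mem_sdiff.1 hc₁.2).2
    have hc2' := (mem_sdiff.1 hc₂.2).2
    rw [card_insert_of_notMem, card_insert_of_notMem, card_insert_of_notMem,
      card_insert_of_notMem, card_singleton]
    · simpa using hc12
    · simp only [mem_insert, mem_singleton]
      rintro (e | e)
      · exact hc₁.1 e.symm
      · exact hc₂.1 e.symm
    · simp only [mem_insert, mem_singleton]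
      rintro (e | e | e)
      · exact hb' (e ▸ ha'o.2)
      · exact hc1' (e ▸ ha'o.2)
      · exact hc2' (e ▸ ha'o.2)
    · simp only [mem_insert, mem_singleton]
      rintro (e | e | e | e)
      · exact haa e
      · exact hb' (e ▸ hao.2)
      · exact hc1' (e ▸ hao.2)
      · exact hc2' (e ▸ hao.2)
  have := card_le_card h5''
  omega

end CfsgLib.ThreeTransp.M24Six
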