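import Cfsg.Agent.Lib.ThreeTransp.ClassData
import Cfsg.Agent.Lib.ThreeTransp.M24Six
import Cfsg.Agent.Lib.Sporadic.M24Orbits
import Cfsg.Agent.Lib.Sporadic.M24Trio
import Cfsg.Agent.Lib.Sporadic.M24Sextet

/-!
# Elements of order 2 and 3 in the group of the length-24 code
-/

set_option autoImplicit false

namespace CfsgLib.ThreeTransp.M24Classes

open Cfsg CfsgLib.SmallGroups.Golay CfsgLib.SmallGroups.GolayOctads CfsgLib.SmallGroups.M24Group
open CfsgLib.SmallGroups.Mathieu CfsgLib.SmallGroups.MathieuSets CfsgLib.Sporadic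
open CfsgLib.Sporadic.M24Orbits CfsgLib.Sporadic.M24Config CfsgLib.ThreeTransp.ClassData
open scoped Pointwise

/-- The permutation has the table. -/
def IsTbl (g : Equiv.Perm GolayPt) (t : List ℕ) : Prop := ∀ p, idx (g p) = tblNat t (idx p)

theorem IsTbl.unique {g h : Equiv.Perm GolayPt} {t : List ℕ} (hg : IsTbl g t) (hh : IsTbl h t) : g = h :=
  Equiv.ext fun p => idx_injective ((hg p).trans (hh p).symm)

theorem IsTbl.fix_iff {g : Equiv.Perm GolayPt} {t : List ℕ} (hg : IsTbl g t) (p : GolayPt) :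
    g p = p ↔ tblNat t (idx p) = idx p := by
  rw [← hg p]
  exact ⟨congrArg idx, fun h => idx_injective h⟩

/-- Iterating a table. -/
def iter : ℕ → List ℕ → ℕ → ℕ
  | 0, _, i => i
  | n + 1, t, i => tblNat t (iter n t i)

theorem IsTbl.idx_iter {g : Equiv.Perm GolayPt} {t : List ℕ} (hg : IsTbl g t) (p : GolayPt) :
    ∀ n, idx ((g ^ n) p) = iter n t (idx p)
  | 0 => rfl
  | n + 1 => by rw [pow_succ', Equiv.Perm.mul_apply, hg, hg.idx_iter p n, iter]

/-- The power of a table is not the identity. -/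
def powNe (n : ℕ) (t : List ℕ) : Bool := (List.range 24).any fun i => iter n t i != i

/-- The table `k` conjugates `t` into `R`. -/
def conjEq (k t R : List ℕ) : Bool :=
  (List.range 24).all fun i => tblNat k (tblNat t i) == tblNat R (tblNat k i)

/-- A row of the certificate. -/
def okRow (n : ℕ) (R₁ R₂ im : List ℕ) (row : List ℕ × List ℕ) : Bool :=
  okTbl row.1 && ((List.range 5).all fun i => tblNat row.1 (base.getD i 0) == im.getD i 0) &&
    (powNe n row.1 || (okTbl row.2 && (conjEq row.2 row.1 R₁ || conjEq row.2 row.1 R₂)))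

/-- The certificate of a pattern. -/
def okList (n : ℕ) (R₁ R₂ im : List ℕ) (L : List (List ℕ × List ℕ)) : Bool :=
  L.all (okRow n R₁ R₂ im) && L.length == 48 &&
    decide ((L.map fun r => (List.range 24).map (tblNat r.1)).Nodup)

theorem idx_bpt : ∀ i < 7, idx (bpt i) = base.getD i 0 := fun i _ => idx_pt (base_lt i)

theorem exists_tbl_conj {n : ℕ} {R₁ R₂ im : List ℕ} {L : List (List ℕ × List ℕ)}
    (h : okList n R₁ R₂ im L = true) {g : Equiv.Perm GolayPt} (hg : g ∈ M24)
    (him : ∀ i < 5, idx (g (bpt i)) = im.getD i 0) (hn : g ^ n = 1) :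
    ∃ k ∈ M24, IsTbl (k * g * k⁻¹) R₁ ∨ IsTbl (k * g * k⁻¹) R₂ := by
  classical
  simp only [okList, Bool.and_eq_true, beq_iff_eq, List.all_eq_true, decide_eq_true_iff] at h
  obtain ⟨⟨hall, hlen⟩, hnd⟩ := h
  have hrow : ∀ r ∈ L, ∃ x ∈ lev M24 5, IsTbl (g * x) r.1 := by
    intro r hr
    have h1 := hall r hr
    simp only [okRow, Bool.and_eq_true] at h1
    obtain ⟨⟨hok, hbase⟩, -⟩ := h1
    obtain ⟨u, hu, hidx⟩ := exists_elt hok
    refine ⟨g⁻¹ * u, mem_lev.2 ⟨mul_mem (inv_mem hg) hu, fun j hj => ?_⟩, ?_⟩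
    · rw [Equiv.Perm.mul_apply, Equiv.Perm.inv_def, Equiv.symm_apply_eq]
      refine idx_injective ?_
      rw [hidx, him j hj, idx_bpt j (by omega)]
      simp only [List.all_eq_true, List.mem_range, beq_iff_eq] at hbase
      exact hbase j hj
    · rw [mul_inv_cancel_left]; exact hidx
  choose f hf hft using hrow
  have hndp := List.nodup_map_iff_inj_on (f := fun r : List ℕ × List ℕ => (List.range 24).map (tblNat r.1))
    (List.Nodup.of_map _ hnd) |>.1 hnd
  let F : {r // r ∈ L} → lev M24 5 := fun r => ⟨f r.1 r.2, hf r.1 r.2⟩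
  have hinj : Function.Injective F := by
    intro a b e
    have e' : f a.1 a.2 = f b.1 b.2 := congrArg Subtype.val e
    refine Subtype.ext (hndp _ a.2 _ b.2 (List.map_congr_left fun i hi => ?_))
    rw [← idx_pt (List.mem_range.1 hi), ← hft _ a.2, ← hft _ b.2, e']
  have hcard : Nat.card {r // r ∈ L} = Nat.card (lev M24 5) := by
    rw [card_lev sgen_mem le_rfl 5 (by norm_num)]
    have : Nat.card {r // r ∈ L} = L.toFinset.card := by
      rw [← Nat.card_eq_finsetCard]
      exact Nat.card_congr (Equiv.subtypeEquivRight fun r => List.mem_toFinset.symm)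
    rw [this, List.toFinset_card_of_nodup (List.Nodup.of_map _ hnd), hlen]
    rfl
  have : Finite {r // r ∈ L} := Finite.of_injective F hinj
  obtain ⟨⟨r, hr⟩, hF⟩ := (Function.Bijective.surjective
    ((Nat.bijective_iff_injective_and_card F).2 ⟨hinj, hcard⟩)) 1
  have hgt : IsTbl g r.1 := by
    have h1 := hft r hr
    rw [show f r hr = 1 from congrArg Subtype.val hF, mul_one] at h1
    exact h1
  have h1 := hall r hr
  simp only [okRow, Bool.and_eq_true, Bool.or_eq_true, powNe, List.any_eq_true, List.mem_range,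
    bne_iff_ne] at h1
  rcases h1.2 with ⟨i, hi, hne⟩ | ⟨hok, hconj⟩
  · exfalso
    apply hne
    have := hgt.idx_iter (pt i) n
    rw [hn, Equiv.Perm.one_apply, idx_pt hi] at this
    exact this.symm
  obtain ⟨k, hk, hkidx⟩ := exists_elt hok
  refine ⟨k, hk, ?_⟩
  have key : ∀ R, conjEq r.2 r.1 R = true → IsTbl (k * g * k⁻¹) R := by
    intro R hR p
    simp only [conjEq, List.all_eq_true, List.mem_range, beq_iff_eq] at hR
    obtain ⟨q, rfl⟩ := k.surjective p
    rw [Equiv.Perm.mul_apply, Equiv.Perm.mul_apply, show k⁻¹ (k q) = q from k.symm_apply_apply q,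
      hkidx, hgt, hkidx]
    exact hR _ (idx_lt q)
  exact hconj.imp (key R₁) (key R₂)

theorem invFix_ok : okList 2 repTwoA repTwoB patInvFixIm patInvFix = true := by decide +kernel

theorem invMov_ok : okList 2 repTwoA repTwoB patInvMovIm patInvMov = true := by decide +kernel

theorem threeIn_ok : okList 3 repThreeA repThreeB patThreeInIm patThreeIn = true := by decide +kernel

theorem threeOut_ok : okList 3 repThreeA repThreeB patThreeOutIm patThreeOut = true := by decide +kernel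

theorem reps_ok : okTbl repTwoA = true ∧ okTbl repTwoB = true ∧ okTbl repThreeA = true ∧
    okTbl repThreeB = true := by decide +kernel

theorem im_values : patInvFixIm = [1, 0, 3, 2, 4].map (fun i => base.getD i 0) ∧
    patInvMovIm = [1, 0, 3, 2, 5].map (fun i => base.getD i 0) ∧
    patThreeInIm = [1, 2, 0, 4, 5].map (fun i => base.getD i 0) ∧
    patThreeOutIm = [1, 2, 0, 4, 6].map (fun i => base.getD i 0) := by decide

/-- An element fixing all but three points is trivial. -/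
theorem eq_one_of_moves_few {g : Equiv.Perm GolayPt} (hg : g ∈ M24) (T : Finset GolayPt)
    (hT : T.card ≤ 3) (h : ∀ p ∉ T, g p = p) : g = 1 := by
  obtain ⟨T', hTT', hT'c⟩ := Finset.exists_superset_card_eq hT (by rw [card_golayPt]; norm_num)
  have hout : ∀ i : Fin 3, ∀ j < 7, pt (i.1 + 2) ≠ bpt j := by decide +kernel
  obtain ⟨a, ha, he⟩ := exists_map (n := 3) (by norm_num)
    (fun i => ((T'.equivFinOfCardEq hT'c).symm i : GolayPt)) (fun i => pt (i.1 + 2))
    (fun i j e => (T'.equivFinOfCardEq hT'c).symm.injective (Subtype.ext e)) (by decide +kernel)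
  have h1 : a * g * a⁻¹ = 1 := by
    refine eq_one_of_fix_base (mul_mem (mul_mem ha hg) (inv_mem ha)) fun j hj => ?_
    have hnot : a⁻¹ (bpt j) ∉ T := fun hm => by
      have h2 := he (T'.equivFinOfCardEq hT'c ⟨_, hTT' hm⟩)
      simp only [Equiv.symm_apply_apply] at h2
      exact hout _ j hj (by rw [← h2]; simp)
    rw [Equiv.Perm.mul_apply, Equiv.Perm.mul_apply, h _ hnot]
    simp
  exact conj_eq_one_iff.1 h1

theorem exists_fixed_member {α : Type*} [DecidableEq α] {S : Finset α} (f : α → α) (hodd : S.card % 2 = 1)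
    (hS : ∀ x ∈ S, f x ∈ S) (hinv : ∀ x ∈ S, f (f x) = x) : ∃ x ∈ S, f x = x := by
  by_contra hcon
  push Not at hcon
  have h : ∑ _x ∈ S, (1 : ZMod 2) = 0 :=
    Finset.sum_involution (fun x _ => f x) (fun _ _ => by decide) (fun x hx _ => hcon x hx) hS hinv
  rw [Finset.sum_const, nsmul_eq_mul, mul_one, ZMod.natCast_eq_zero_iff_even, Nat.even_iff] at h
  omega

theorem idx_pattern {g : Equiv.Perm GolayPt} {im : List ℕ} {l : List ℕ} (hl : l.length = 5)
    (hl7 : ∀ i < 5, l.getD i 0 < 7)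
    (e : im = l.map fun i => base.getD i 0) (h : ∀ i < 5, g (bpt i) = bpt (l.getD i 0)) :
    ∀ i < 5, idx (g (bpt i)) = im.getD i 0 := by
  intro i hi
  rw [h i hi, idx_bpt _ (hl7 i hi), e, List.getD_eq_getElem (l.map _) _ (by simp [hl, hi]),
    List.getElem_map, List.getD_eq_getElem l _ (by omega)]

theorem five_inj {a b c d e : GolayPt} (h1 : a ≠ b) (h2 : a ≠ c) (h3 : a ≠ d) (h4 : a ≠ e) (h5 : b ≠ c)
    (h6 : b ≠ d) (h7 : b ≠ e) (h8 : c ≠ d) (h9 : c ≠ e) (h10 : d ≠ e) :
    Function.Injective ![a, b, c, d, e] := by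
  intro i j h
  fin_cases i <;> fin_cases j <;> simp_all [eq_comm]

theorem conj_apply (a g : Equiv.Perm GolayPt) (p : GolayPt) : (a * g * a⁻¹) (a p) = a (g p) := by
  simp

theorem compose_conj {g a : Equiv.Perm GolayPt} {R₁ R₂ : List ℕ} (ha : a ∈ M24)
    (h : ∃ k ∈ M24, IsTbl (k * (a * g * a⁻¹) * k⁻¹) R₁ ∨ IsTbl (k * (a * g * a⁻¹) * k⁻¹) R₂) :
    ∃ k ∈ M24, IsTbl (k * g * k⁻¹) R₁ ∨ IsTbl (k * g * k⁻¹) R₂ := by
  obtain ⟨k, hk, h⟩ := h
  refine ⟨k * a, mul_mem hk ha, ?_⟩
  have e : k * a * g * (k * a)⁻¹ = k * (a * g * a⁻¹) * k⁻¹ := by group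
  rwa [e]

theorem two_class {g : Equiv.Perm GolayPt} (hg : g ∈ M24) (h2 : g * g = 1) (hne : g ≠ 1) :
    ∃ k ∈ M24, IsTbl (k * g * k⁻¹) repTwoA ∨ IsTbl (k * g * k⁻¹) repTwoB := by
  classical
  have hgg : ∀ p, g (g p) = p := fun p => by rw [← Equiv.Perm.mul_apply, h2, Equiv.Perm.one_apply]
  obtain ⟨a, ha⟩ : ∃ a, g a ≠ a := by
    by_contra hcon
    push Not at hcon
    exact hne (Equiv.ext hcon)
  obtain ⟨c, hca, hcga, hc⟩ : ∃ c, c ≠ a ∧ c ≠ g a ∧ g c ≠ c := by
    by_contra hcon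
    push Not at hcon
    refine hne (eq_one_of_moves_few hg {a, g a} (Finset.card_le_two.trans (by norm_num)) fun p hp => ?_)
    simp only [Finset.mem_insert, Finset.mem_singleton, not_or] at hp
    exact hcon p hp.1 hp.2
  have hgc_a : g c ≠ a := fun e => hcga (by rw [← e, hgg])
  have hgc_ga : g c ≠ g a := fun e => hca (g.injective e)
  set t : Finset GolayPt := {a, g a, c, g c} with ht
  have ht4 : t.card = 4 :=
    Finset.card_eq_four.2 ⟨_, _, _, _, ha.symm, hca.symm, hgc_a.symm, hcga.symm, hgc_ga.symm, hc.symm, rfl⟩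
  have hgt : g • t = t := by
    rw [ht, Finset.smul_finset_insert, Finset.smul_finset_insert, Finset.smul_finset_insert,
      Finset.smul_finset_singleton]
    simp only [Equiv.Perm.smul_def, hgg]
    ext p
    simp only [Finset.mem_insert, Finset.mem_singleton]
    tauto
  obtain ⟨u, hu, hgu⟩ := exists_fixed_member (S := Sextets.partners t) (fun u => g • u)
    (by rw [Sextets.card_partners ht4])
    (fun u hu => by
      rw [Sextets.mem_partners ht4] at hu ⊢
      refine ⟨(Finset.card_smul_finset g u).trans hu.1, ?_, ?_⟩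
      · rw [← hgt, Finset.disjoint_iff_inter_eq_empty, ← Finset.smul_finset_inter,
          Finset.disjoint_iff_inter_eq_empty.1 hu.2.1, Finset.smul_finset_empty]
      · rw [← hgt, ← Finset.smul_finset_union]
        exact smul_mem_weight hg hu.2.2)
    (fun u _ => by rw [← mul_smul, h2, one_smul])
  obtain ⟨hu4, hdu, huo⟩ := (Sextets.mem_partners ht4).1 hu
  have huf : ∀ p ∈ u, g p ∈ u := fun p hp => hgu ▸ Finset.smul_mem_smul_finset (a := g) hp
  obtain ⟨f, hf⟩ := Finset.card_pos.1 (show 0 < u.card by omega)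
  have hnt : ∀ p ∈ u, a ≠ p ∧ g a ≠ p ∧ c ≠ p ∧ g c ≠ p := fun p hp => by
    have := Finset.disjoint_right.1 hdu hp
    simp only [ht, Finset.mem_insert, Finset.mem_singleton, not_or] at this
    exact ⟨Ne.symm this.1, Ne.symm this.2.1, Ne.symm this.2.2.1, Ne.symm this.2.2.2⟩
  obtain ⟨b, hb, hx⟩ := exists_to_base (five_inj ha.symm hca.symm hgc_a.symm (hnt f hf).1 hcga.symm
    hgc_ga.symm (hnt f hf).2.1 hc.symm (hnt f hf).2.2.1 (hnt f hf).2.2.2)
  have e0 : b a = bpt 0 := hx 0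
  have e1 : b (g a) = bpt 1 := hx 1
  have e2 : b c = bpt 2 := hx 2
  have e3 : b (g c) = bpt 3 := hx 3
  have e4 : b f = bpt 4 := hx 4
  have hoct : ∀ p ∈ t ∪ u, b p ∈ toSet octB := by
    have e : b • (t ∪ u) = toSet octB := by
      refine octad_eq_of_inter (smul_mem_weight hb huo) octB_mem ?_
      have hc5 : ((Finset.range 5).image bpt).card = 5 := by decide +kernel
      rw [← hc5]
      refine Finset.card_le_card (Finset.subset_inter (base_subset_smul (fun i => ?_) hx) fun p hp => ?_)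
      · fin_cases i <;> simp [ht, hf]
      · obtain ⟨j, hj, rfl⟩ := Finset.mem_image.1 hp
        exact bpt_mem_octB j (by rw [Finset.mem_range] at hj; omega)
    intro p hp
    rw [← e, ← Equiv.Perm.smul_def]
    exact Finset.smul_mem_smul_finset hp
  have hM := mul_mem (mul_mem hb hg) (inv_mem hb)
  have hp2 : (b * g * b⁻¹) ^ 2 = 1 := by rw [conj_pow, sq, h2, mul_one, mul_inv_cancel]
  by_cases hfix : g f = f
  · refine compose_conj hb (exists_tbl_conj invFix_ok hM (idx_pattern (l := [1, 0, 3, 2, 4]) rfl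
      (by decide) im_values.1 fun i hi => ?_) hp2)
    obtain rfl | rfl | rfl | rfl | rfl : i = 0 ∨ i = 1 ∨ i = 2 ∨ i = 3 ∨ i = 4 := by omega
    · rw [← e0, conj_apply, e1]; rfl
    · rw [← e1, conj_apply, hgg, e0]; rfl
    · rw [← e2, conj_apply, e3]; rfl
    · rw [← e3, conj_apply, hgg, e2]; rfl
    · rw [← e4, conj_apply, hfix, e4]; rfl
  · have hgf := huf f hf
    have h5 : b (g f) ∈ toSet (target 5) := by
      rw [mem_toSet]
      refine (target_five _ (hoct _ (Finset.mem_union_right _ hgf))).resolve_right ?_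
      rintro ⟨j, hj, e⟩
      obtain rfl | rfl | rfl | rfl | rfl : j = 0 ∨ j = 1 ∨ j = 2 ∨ j = 3 ∨ j = 4 := by omega
      · exact (hnt _ hgf).1 (b.injective (e0.trans e))
      · exact (hnt _ hgf).2.1 (b.injective (e1.trans e))
      · exact (hnt _ hgf).2.2.1 (b.injective (e2.trans e))
      · exact (hnt _ hgf).2.2.2 (b.injective (e3.trans e))
      · exact hfix (b.injective (e.symm.trans e4.symm))
    obtain ⟨w, hw, hwe⟩ := orbit_low sgen_mem (l := 5) (by norm_num) (K := M24) h5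
    rw [mem_lev] at hw
    have hd : ∀ j < 5, ∀ p, b p = bpt j → (w⁻¹ * b) p = bpt j := fun j hj p hp => by
      rw [Equiv.Perm.mul_apply, hp, Equiv.Perm.inv_def, Equiv.symm_apply_eq]
      exact (hw.2 j hj).symm
    have d0 := hd 0 (by norm_num) a e0
    have d1 := hd 1 (by norm_num) (g a) e1
    have d2 := hd 2 (by norm_num) c e2
    have d3 := hd 3 (by norm_num) (g c) e3
    have d4 := hd 4 (by norm_num) f e4
    have d5 : (w⁻¹ * b) (g f) = bpt 5 := by
      rw [Equiv.Perm.mul_apply, ← hwe]; simp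
    have hbM : w⁻¹ * b ∈ M24 := mul_mem (inv_mem hw.1) hb
    refine compose_conj hbM (exists_tbl_conj invMov_ok (mul_mem (mul_mem hbM hg) (inv_mem hbM))
      (idx_pattern (l := [1, 0, 3, 2, 5]) rfl (by decide) im_values.2.1 fun i hi => ?_)
      (by rw [conj_pow, sq, h2, mul_one, mul_inv_cancel]))
    obtain rfl | rfl | rfl | rfl | rfl : i = 0 ∨ i = 1 ∨ i = 2 ∨ i = 3 ∨ i = 4 := by omega
    · rw [← d0, conj_apply, d1]; rfl
    · rw [← d1, conj_apply, hgg, d0]; rfl
    · rw [← d2, conj_apply, d3]; rfl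
    · rw [← d3, conj_apply, hgg, d2]; rfl
    · rw [← d4, conj_apply, d5]; rfl

theorem three_class {g : Equiv.Perm GolayPt} (hg : g ∈ M24) (h3 : g ^ 3 = 1) (hne : g ≠ 1) :
    ∃ k ∈ M24, IsTbl (k * g * k⁻¹) repThreeA ∨ IsTbl (k * g * k⁻¹) repThreeB := by
  classical
  have hggg : ∀ p, g (g (g p)) = p := fun p => by
    have := Equiv.ext_iff.1 h3 p
    rwa [show g ^ 3 = g * g * g by rw [pow_succ, pow_two]] at this
  obtain ⟨a, ha⟩ : ∃ a, g a ≠ a := by
    by_contra hcon
    push Not at hcon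
    exact hne (Equiv.ext hcon)
  have ha2 : g (g a) ≠ a := fun e => ha (by have := hggg a; rwa [e] at this)
  obtain ⟨d, hd0, hd1, hd2, hd⟩ : ∃ d, d ≠ a ∧ d ≠ g a ∧ d ≠ g (g a) ∧ g d ≠ d := by
    by_contra hcon
    push Not at hcon
    refine hne (eq_one_of_moves_few hg {a, g a, g (g a)} Finset.card_le_three fun p hp => ?_)
    simp only [Finset.mem_insert, Finset.mem_singleton, not_or] at hp
    exact hcon p hp.1 hp.2.1 hp.2.2
  have hout : ∀ x, x ≠ a → x ≠ g a → x ≠ g (g a) → g x ≠ a ∧ g x ≠ g a ∧ g x ≠ g (g a) := by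
    intro x h0 h1 h2
    exact ⟨fun e => h2 (g.injective (e.trans (hggg a).symm)), fun e => h0 (g.injective e),
      fun e => h1 (g.injective e)⟩
  obtain ⟨f0, f1, f2⟩ := hout d hd0 hd1 hd2
  obtain ⟨g0, g1, g2⟩ := hout (g d) f0 f1 f2
  have hd3 : g (g d) ≠ d := fun e => hd (by have := hggg d; rwa [e] at this)
  have hgd2 : g (g d) ≠ g d := fun e => hd (g.injective e)
  obtain ⟨b, hb, hx⟩ := exists_to_base (five_inj ha.symm ha2.symm hd0.symm f0.symm
    (fun e => ha (g.injective e).symm) hd1.symm f1.symm hd2.symm f2.symm hd.symm)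
  have e0 : b a = bpt 0 := hx 0
  have e1 : b (g a) = bpt 1 := hx 1
  have e2 : b (g (g a)) = bpt 2 := hx 2
  have e3 : b d = bpt 3 := hx 3
  have e4 : b (g d) = bpt 4 := hx 4
  have finish : ∀ (w : Equiv.Perm GolayPt) (L : List (List ℕ × List ℕ)) (im : List ℕ) (m : ℕ), m < 7 →
      w ∈ lev M24 5 → w (bpt m) = b (g (g d)) →
      okList 3 repThreeA repThreeB im L = true →
      im = [1, 2, 0, 4, m].map (fun i => base.getD i 0) →
      ∃ k ∈ M24, IsTbl (k * g * k⁻¹) repThreeA ∨ IsTbl (k * g * k⁻¹) repThreeB := by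
    intro w L im m hm hw hwe hok him
    rw [mem_lev] at hw
    have hd' : ∀ j < 5, ∀ p, b p = bpt j → (w⁻¹ * b) p = bpt j := fun j hj p hp => by
      rw [Equiv.Perm.mul_apply, hp, Equiv.Perm.inv_def, Equiv.symm_apply_eq]
      exact (hw.2 j hj).symm
    have c0 := hd' 0 (by norm_num) _ e0
    have c1 := hd' 1 (by norm_num) _ e1
    have c2 := hd' 2 (by norm_num) _ e2
    have c3 := hd' 3 (by norm_num) _ e3
    have c4 := hd' 4 (by norm_num) _ e4
    have c5 : (w⁻¹ * b) (g (g d)) = bpt m := by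
      rw [Equiv.Perm.mul_apply, ← hwe]; simp
    have hbM : w⁻¹ * b ∈ M24 := mul_mem (inv_mem hw.1) hb
    refine compose_conj hbM (exists_tbl_conj hok (mul_mem (mul_mem hbM hg) (inv_mem hbM))
      (idx_pattern (l := [1, 2, 0, 4, m]) rfl (fun i hi => ?_) him fun i hi => ?_)
      (by rw [conj_pow, h3, mul_one, mul_inv_cancel]))
    · obtain rfl | rfl | rfl | rfl | rfl : i = 0 ∨ i = 1 ∨ i = 2 ∨ i = 3 ∨ i = 4 := by omega
      all_goals simp [hm]
    obtain rfl | rfl | rfl | rfl | rfl : i = 0 ∨ i = 1 ∨ i = 2 ∨ i = 3 ∨ i = 4 := by omega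
    · rw [← c0, conj_apply, c1]; rfl
    · rw [← c1, conj_apply, c2]; rfl
    · rw [← c2, conj_apply, hggg, c0]; rfl
    · rw [← c3, conj_apply, c4]; rfl
    · rw [← c4, conj_apply, c5]; rfl
  by_cases hin : b (g (g d)) ∈ toSet octB
  · have h5 : b (g (g d)) ∈ toSet (target 5) := by
      rw [mem_toSet]
      refine (target_five _ hin).resolve_right ?_
      rintro ⟨j, hj, e⟩
      obtain rfl | rfl | rfl | rfl | rfl : j = 0 ∨ j = 1 ∨ j = 2 ∨ j = 3 ∨ j = 4 := by omega
      · exact g0 (b.injective (e.symm.trans e0.symm))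
      · exact g1 (b.injective (e.symm.trans e1.symm))
      · exact g2 (b.injective (e.symm.trans e2.symm))
      · exact hd3 (b.injective (e.symm.trans e3.symm))
      · exact hgd2 (b.injective (e.symm.trans e4.symm))
    obtain ⟨w, hw, hwe⟩ := orbit_low sgen_mem (l := 5) (by norm_num) (K := M24) h5
    exact finish w _ _ 5 (by norm_num) hw hwe threeIn_ok im_values.2.2.1
  · obtain ⟨w, hw, hwe⟩ := orbit_low sgen_mem (l := 6) (by norm_num) (K := M24)
      (mem_toSet.2 (target_six _ hin))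
    exact finish w _ _ 6 (by norm_num) hw.1 hwe threeOut_ok im_values.2.2.2

theorem fixed_card : (∀ i < 24, tblNat repTwoB i ≠ i) ∧ (∀ i < 24, tblNat repThreeB i ≠ i) ∧
    (Finset.univ.filter fun p : GolayPt => tblNat repTwoA (idx p) = idx p).card = 8 ∧
    (Finset.univ.filter fun p : GolayPt => tblNat repThreeA (idx p) = idx p).card = 6 := by
  decide +kernel

theorem fix_conj (g k : Equiv.Perm GolayPt) :
    (Finset.univ.filter fun p => (k * g * k⁻¹) p = p) = k • (Finset.univ.filter fun p => g p = p) := by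
  ext p
  rw [← Finset.inv_smul_mem_iff, Equiv.Perm.smul_def]
  rw [Finset.mem_filter, Finset.mem_filter, Equiv.Perm.mul_apply, Equiv.Perm.mul_apply]
  refine and_congr ⟨fun _ => Finset.mem_univ _, fun _ => Finset.mem_univ _⟩ ⟨fun h => k.injective ?_, fun h => ?_⟩
  · rw [h]; simp
  · rw [h]; simp

theorem fix_card_eq {g k : Equiv.Perm GolayPt} {R : List ℕ} (h : IsTbl (k * g * k⁻¹) R) :
    (Finset.univ.filter fun p => g p = p).card =
      (Finset.univ.filter fun p : GolayPt => tblNat R (idx p) = idx p).card := by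
  rw [← Finset.card_smul_finset k, ← fix_conj]
  exact congrArg Finset.card (Finset.filter_congr fun p _ => h.fix_iff p)

theorem fix_empty {R : List ℕ} (h : ∀ i < 24, tblNat R i ≠ i) :
    (Finset.univ.filter fun p : GolayPt => tblNat R (idx p) = idx p).card = 0 :=
  Finset.card_eq_zero.2 (Finset.filter_eq_empty_iff.2 fun p _ => h _ (idx_lt p))

theorem two_kind {g : Equiv.Perm GolayPt} (hg : g ∈ M24) (h2 : g * g = 1) (hne : g ≠ 1) :
    ((Finset.univ.filter fun p => g p = p).card = 8 ∧ ∃ k ∈ M24, IsTbl (k * g * k⁻¹) repTwoA) ∨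
    ((Finset.univ.filter fun p => g p = p).card = 0 ∧ ∃ k ∈ M24, IsTbl (k * g * k⁻¹) repTwoB) := by
  obtain ⟨k, hk, h | h⟩ := two_class hg h2 hne
  · exact Or.inl ⟨(fix_card_eq h).trans fixed_card.2.2.1, k, hk, h⟩
  · exact Or.inr ⟨(fix_card_eq h).trans (fix_empty fixed_card.1), k, hk, h⟩

theorem three_kind {g : Equiv.Perm GolayPt} (hg : g ∈ M24) (h3 : g ^ 3 = 1) (hne : g ≠ 1) :
    ((Finset.univ.filter fun p => g p = p).card = 6 ∧ ∃ k ∈ M24, IsTbl (k * g * k⁻¹) repThreeA) ∨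
    ((Finset.univ.filter fun p => g p = p).card = 0 ∧ ∃ k ∈ M24, IsTbl (k * g * k⁻¹) repThreeB) := by
  obtain ⟨k, hk, h | h⟩ := three_class hg h3 hne
  · exact Or.inl ⟨(fix_card_eq h).trans fixed_card.2.2.2, k, hk, h⟩
  · exact Or.inr ⟨(fix_card_eq h).trans (fix_empty fixed_card.2.1), k, hk, h⟩

theorem conj_of_rep {g h a b : Equiv.Perm GolayPt} {R : List ℕ} (ha : a ∈ M24) (hb : b ∈ M24)
    (hg : IsTbl (a * g * a⁻¹) R) (hh : IsTbl (b * h * b⁻¹) R) : ∃ k ∈ M24, k * g * k⁻¹ = h := by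
  refine ⟨b⁻¹ * a, mul_mem (inv_mem hb) ha, ?_⟩
  have e := hg.unique hh
  calc b⁻¹ * a * g * (b⁻¹ * a)⁻¹ = b⁻¹ * (a * g * a⁻¹) * b := by group
    _ = b⁻¹ * (b * h * b⁻¹) * b := by rw [e]
    _ = h := by group

theorem img_lt {t : List ℕ} (h : okTbl t = true) (m : ℕ) : img (tblNat t) m < 2 ^ 24 := by
  simp only [okTbl, Bool.and_eq_true, List.all_eq_true, List.mem_range, decide_eq_true_iff] at h
  have key : ∀ (L : List ℕ) (T : ℕ), T < 2 ^ 24 → (∀ i ∈ L, tblNat t i < 24) →
      L.foldl (fun T i => if m.testBit i then T ||| 2 ^ tblNat t i else T) T < 2 ^ 24 := by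
    intro L
    induction L with
    | nil => exact fun T hT _ => hT
    | cons i L ih =>
      intro T hT hL
      refine ih _ ?_ fun j hj => hL j (List.mem_cons_of_mem _ hj)
      dsimp only
      split_ifs
      · exact Nat.or_lt_two_pow hT (Nat.pow_lt_pow_right (by norm_num) (hL i (List.mem_cons_self ..)))
      · exact hT
  exact key _ 0 (by norm_num) fun i hi => (h.1 i (List.mem_range.1 hi)).1

/-- The octad is fixed. -/
def octFix (R : List ℕ) (o : ℕ) : Bool := img (tblNat R) o &&& o == o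

/-- The trio is fixed. -/
def trFix (R : List ℕ) (n : ℕ) : Bool :=
  [M24Trio.fstO n, M24Trio.sndO n, M24Trio.thdO n].all fun o =>
    [M24Trio.fstO n, M24Trio.sndO n, M24Trio.thdO n].any fun o' => img (tblNat R) o &&& o' == o'

/-- The sextet is fixed. -/
def sxFix (R : List ℕ) (n : ℕ) : Bool :=
  img (tblNat R) n &&& n == n ||
    (img (tblNat R) n &&& n == 0 && isCW (img (tblNat R) n ||| n))

variable {h : Equiv.Perm GolayPt} {R : List ℕ}

theorem oct_fix_iff (hidx : IsTbl h R) {o : ℕ} (ho : o < 2 ^ 24) :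
    h • toSet o = toSet o ↔ octFix R o = true := by
  rw [octFix, beq_iff_eq, ← subset_iff ho, smul_toSet hidx]
  refine ⟨fun e => e.ge, fun e => (Finset.eq_of_subset_of_card_le e (le_of_eq ?_)).symm⟩
  rw [← smul_toSet hidx, Finset.card_smul_finset]

theorem tr_fix_iff (hh : h ∈ M24) (hidx : IsTbl h R) {n : ℕ} (hn : n ∈ M24Trio.allNodes) :
    h • M24Trio.tr n = M24Trio.tr n ↔ trFix R n = true := by
  obtain ⟨hT, h1, h2, h3⟩ := M24Trio.valid_sound (M24Trio.nodes_ok n hn).1
  have hlt : ∀ o ∈ [M24Trio.fstO n, M24Trio.sndO n, M24Trio.thdO n], o < 2 ^ 24 := by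
    simp only [List.mem_cons, List.not_mem_nil, or_false]
    rintro o (rfl | rfl | rfl) <;> assumption
  have hmem : ∀ S, S ∈ M24Trio.tr n ↔ ∃ o ∈ [M24Trio.fstO n, M24Trio.sndO n, M24Trio.thdO n], toSet o = S := by
    intro S
    simp [M24Trio.tr, eq_comm]
  have h8 : ∀ S ∈ M24Trio.tr n, S.card = 8 := fun S hS => (hT.2.1 S hS).2
  have key : ∀ o ∈ [M24Trio.fstO n, M24Trio.sndO n, M24Trio.thdO n],
      ∀ o' ∈ [M24Trio.fstO n, M24Trio.sndO n, M24Trio.thdO n],
      (img (tblNat R) o &&& o' = o' ↔ h • toSet o = toSet o') := by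
    intro o ho o' ho'
    rw [← subset_iff (hlt o' ho'), smul_toSet hidx]
    refine ⟨fun e => (Finset.eq_of_subset_of_card_le e (le_of_eq ?_)).symm, fun e => e.ge⟩
    rw [← smul_toSet hidx, Finset.card_smul_finset, h8 _ ((hmem _).2 ⟨o, ho, rfl⟩),
      h8 _ ((hmem _).2 ⟨o', ho', rfl⟩)]
  simp only [trFix, List.all_eq_true, List.any_eq_true, beq_iff_eq]
  constructor
  · intro e o ho
    obtain ⟨o', ho', e'⟩ := (hmem _).1 (e ▸ Finset.smul_mem_smul_finset ((hmem _).2 ⟨o, ho, rfl⟩))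
    exact ⟨o', ho', (key o ho o' ho').2 e'.symm⟩
  · intro e
    refine Finset.eq_of_subset_of_card_le (fun S hS => ?_) (Finset.card_smul_finset h _).ge
    obtain ⟨S', hS', rfl⟩ := Finset.mem_smul_finset.1 hS
    obtain ⟨o, ho, rfl⟩ := (hmem _).1 hS'
    obtain ⟨o', ho', e'⟩ := e o ho
    exact (hmem _).2 ⟨o', ho', ((key o ho o' ho').1 e').symm⟩

theorem sx_fix_iff (hok : okTbl R = true) (hh : h ∈ M24) (hidx : IsTbl h R) {n : ℕ}
    (hn : n ∈ M24Sextet.allNodes) :
    h • M24Sextet.sx n = M24Sextet.sx n ↔ sxFix R n = true := by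
  obtain ⟨-, hpc, hlt⟩ := M24Sextet.nodes_ok n hn
  have h4 : (toSet n).card = 4 := (card_toSet n).trans hpc
  set u := img (tblNat R) n with hu
  have hu4 : (toSet u).card = 4 := by rw [hu, ← smul_toSet hidx, Finset.card_smul_finset, h4]
  have hult : u < 2 ^ 24 := img_lt hok n
  have hS := Sextets.sextetOf_mem h4
  have e1 : h • M24Sextet.sx n = M24Sextet.sx n ↔ toSet u ∈ M24Sextet.sx n := by
    constructor
    · intro e
      rw [← e, hu, ← smul_toSet hidx]
      exact Finset.smul_mem_smul_finset (Finset.mem_insert_self _ _)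
    · intro e
      rw [hu, ← smul_toSet hidx] at e
      show h • Sextets.sextetOf (toSet n) = Sextets.sextetOf (toSet n)
      rw [Sextets.eq_sextetOf (M24Sextet.smul_sextet hh hS)
        (Finset.smul_mem_smul_finset (Finset.mem_insert_self _ _)), ← Sextets.eq_sextetOf hS e]
  rw [e1, sxFix, ← hu, Bool.or_eq_true, Bool.and_eq_true, beq_iff_eq, beq_iff_eq, M24Sextet.sx,
    Sextets.sextetOf, Finset.mem_insert, ← subset_iff hlt, Sextets.mem_partners h4]
  refine or_congr ⟨fun e => e.ge, fun e => (Finset.eq_of_subset_of_card_le e (by omega)).symm⟩ ?_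
  have hor : n ||| u = u ||| n := Nat.lor_comm n u
  rw [toSet_union, hor]
  constructor
  · rintro ⟨-, hd, ho⟩
    refine ⟨toSet_inj (lt_of_le_of_lt Nat.and_le_right hlt) (by norm_num) ?_, ?_⟩
    · rw [← toSet_inter, Finset.disjoint_iff_inter_eq_empty.1 hd.symm]; ext p; simp
    · obtain ⟨c, hc, e⟩ := mem_octads.1 ho
      have := toSet_inj (cwOfWeight_lt hc) (Nat.or_lt_two_pow hult hlt) e
      rw [← this]
      obtain ⟨j, hj, rfl⟩ := mem_cw.1 (mem_cwOfWeight.1 hc).1
      simp only [isCW, beq_iff_eq, (enc_lt j hj).2]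
  · rintro ⟨h0, hc⟩
    have hd : Disjoint (toSet n) (toSet u) := by
      rw [disjoint_comm, Finset.disjoint_iff_inter_eq_empty, toSet_inter, h0]; ext p; simp
    refine ⟨hu4, hd, mem_octads.2 ⟨_, mem_cwOfWeight.2 ⟨mem_cw.2 ⟨(u ||| n) % 4096,
      Nat.mod_lt _ (by norm_num), beq_iff_eq.1 hc⟩, ?_⟩, rfl⟩⟩
    rw [← card_toSet, ← hor, ← toSet_union, Finset.card_union_of_disjoint hd, h4, hu4]

theorem ncard_filter {α : Type*} (X : Set α) (F : ℕ → α) (U : List ℕ) (hnd : U.Nodup)
    (inj : ∀ a ∈ U, ∀ b ∈ U, F a = F b → a = b) (mem : ∀ n ∈ U, F n ∈ X)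
    (surj : ∀ x ∈ X, ∃ n ∈ U, F n = x) (P : α → Prop) (q : ℕ → Bool)
    (hq : ∀ n ∈ U, (P (F n) ↔ q n = true)) : {x | x ∈ X ∧ P x}.ncard = (U.filter q).length := by
  classical
  have e : {x | x ∈ X ∧ P x} = ↑((U.filter q).toFinset.image F) := by
    ext x
    simp only [Set.mem_ofPred_eq, Finset.coe_image, Set.mem_image, Finset.mem_coe, List.mem_toFinset,
      List.mem_filter]
    constructor
    · rintro ⟨hx, hP⟩
      obtain ⟨n, hn, rfl⟩ := surj x hx
      exact ⟨n, ⟨hn, (hq n hn).1 hP⟩, rfl⟩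
    · rintro ⟨n, ⟨hn, hqn⟩, rfl⟩
      exact ⟨mem n hn, (hq n hn).2 hqn⟩
  rw [e, Set.ncard_coe_finset, Finset.card_image_of_injOn, List.toFinset_card_of_nodup (hnd.filter _)]
  intro a ha b hb
  exact inj a (List.mem_filter.1 (List.mem_toFinset.1 ha)).1 b (List.mem_filter.1 (List.mem_toFinset.1 hb)).1

theorem ncard_conj {α : Type*} [MulAction (Equiv.Perm GolayPt) α] {g k : Equiv.Perm GolayPt}
    (hk : k ∈ M24) (X : Set α) (hX : ∀ a ∈ M24, ∀ x ∈ X, a • x ∈ X) :
    {x | x ∈ X ∧ g • x = x}.ncard = {x | x ∈ X ∧ (k * g * k⁻¹) • x = x}.ncard := by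
  refine Set.ncard_congr (fun x _ => k • x) ?_ (fun _ _ _ _ e => smul_left_cancel k e) ?_
  · exact fun x hx => ⟨hX k hk x hx.1, by rw [mul_smul, mul_smul, inv_smul_smul, hx.2]⟩
  · intro x hx
    refine ⟨k⁻¹ • x, ⟨hX _ (inv_mem hk) x hx.1, ?_⟩, smul_inv_smul k x⟩
    have h2 : (k * g * k⁻¹) • x = x := hx.2
    rw [mul_smul, mul_smul, ← eq_inv_smul_iff] at h2
    exact h2

theorem octad_count {g k : Equiv.Perm GolayPt} (hk : k ∈ M24) {R : List ℕ} (h : IsTbl (k * g * k⁻¹) R) :
    {o : Finset GolayPt | o ∈ octads ∧ g • o = o}.ncard = ((cwOfWeight 8).filter (octFix R)).length := by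
  rw [ncard_conj hk octads fun a ha x hx => smul_mem_weight ha hx]
  exact ncard_filter octads toSet _ (cw_nodup.filter _)
    (fun _ ha _ hb e => toSet_inj (cwOfWeight_lt ha) (cwOfWeight_lt hb) e)
    (fun n hn => mem_octads.2 ⟨n, hn, rfl⟩) (fun x hx => mem_octads.1 hx) _ _
    fun n hn => oct_fix_iff h (cwOfWeight_lt hn)

theorem dodecad_count {g k : Equiv.Perm GolayPt} (hk : k ∈ M24) {R : List ℕ} (h : IsTbl (k * g * k⁻¹) R) :
    {o : Finset GolayPt | o ∈ dodecads ∧ g • o = o}.ncard = ((cwOfWeight 12).filter (octFix R)).length := by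
  rw [ncard_conj hk dodecads fun a ha x hx => smul_mem_weight ha hx]
  exact ncard_filter dodecads toSet _ (cw_nodup.filter _)
    (fun _ ha _ hb e => toSet_inj (cwOfWeight_lt ha) (cwOfWeight_lt hb) e)
    (fun n hn => mem_dodecads.2 ⟨n, hn, rfl⟩) (fun x hx => mem_dodecads.1 hx) _ _
    fun n hn => oct_fix_iff h (cwOfWeight_lt hn)

theorem trio_count {g k : Equiv.Perm GolayPt} (hg : g ∈ M24) (hk : k ∈ M24) {R : List ℕ}
    (h : IsTbl (k * g * k⁻¹) R) :
    {T : Finset (Finset GolayPt) | T ∈ trios ∧ g • T = T}.ncard =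
      (M24Trio.allNodes.filter (trFix R)).length := by
  rw [ncard_conj hk trios fun a ha x hx => M24Trio.smul_trio ha hx]
  exact ncard_filter trios M24Trio.tr _ M24Trio.nodes_nodup
    (fun _ ha _ hb e => M24Trio.tr_inj ha hb e) (fun n hn => M24Trio.tr_mem hn)
    (fun x hx => M24Trio.exists_node hx) _ _
    fun n hn => tr_fix_iff (mul_mem (mul_mem hk hg) (inv_mem hk)) h hn

theorem sextet_count {g k : Equiv.Perm GolayPt} (hg : g ∈ M24) (hk : k ∈ M24) {R : List ℕ}
    (hok : okTbl R = true) (h : IsTbl (k * g * k⁻¹) R) :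
    {T : Finset (Finset GolayPt) | T ∈ sextets ∧ g • T = T}.ncard =
      (M24Sextet.allNodes.filter (sxFix R)).length := by
  rw [ncard_conj hk sextets fun a ha x hx => M24Sextet.smul_sextet ha hx]
  exact ncard_filter sextets M24Sextet.sx _ M24Sextet.nodes_nodup
    (fun _ ha _ hb e => M24Sextet.sx_inj ha hb e) (fun n hn => M24Sextet.sx_mem hn)
    (fun x hx => M24Sextet.exists_node hx) _ _
    fun n hn => sx_fix_iff hok (mul_mem (mul_mem hk hg) (inv_mem hk)) h hn

end CfsgLib.ThreeTransp.M24Classes
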