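/-
A fours group V = {1, z, u, zu}: the permutation action of its normalizer on V ∖ {1}.
-/
import Mathlib

set_option autoImplicit false
set_option linter.style.haveILetI false

namespace CfsgLib.ThreeTransp.Fours

variable {G : Type*} [Group G] [Finite G]

/-- The action on the three involutions of a fours group, with two transpositions given. -/
theorem exists_hom {V : Subgroup G} {z u : G}
    (hV : ∀ x : G, x ∈ V ↔ x = 1 ∨ x = z ∨ x = u ∨ x = z * u) (hz : z ≠ 1) (hu : u ≠ 1)
    (hzu : z ≠ u) (hzu1 : z * u ≠ 1) :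
    ∃ f : ↥(Subgroup.normalizer (V : Set G)) →* Equiv.Perm (Fin 3),
      f.ker = (Subgroup.centralizer (V : Set G)).subgroupOf (Subgroup.normalizer (V : Set G)) ∧
      (∀ a : ↥(Subgroup.normalizer (V : Set G)), (a : G) * z * (a : G)⁻¹ = z →
        (a : G) * u * (a : G)⁻¹ = z * u → (a : G) * (z * u) * (a : G)⁻¹ = u →
        f a = Equiv.swap 1 2) ∧
      (∀ b : ↥(Subgroup.normalizer (V : Set G)), (b : G) * u * (b : G)⁻¹ = u →
        (b : G) * z * (b : G)⁻¹ = z * u → (b : G) * (z * u) * (b : G)⁻¹ = z →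
        f b = Equiv.swap 0 2) := by
  classical
  set N := Subgroup.normalizer (V : Set G) with hN
  let p : Fin 3 → G := ![z, u, z * u]
  have hp : Function.Injective p := by
    intro i j h
    fin_cases i <;> fin_cases j <;> simp_all [p]
  have hmem : ∀ i, p i ∈ V := fun i => (hV _).2 (by fin_cases i <;> simp [p])
  have hne : ∀ i, p i ≠ 1 := fun i => by fin_cases i <;> simp [p, hz, hu, hzu1]
  have hsur : ∀ x ∈ V, x ≠ 1 → ∃ i, p i = x := fun x hx hx1 => by
    rcases (hV x).1 hx with e | e | e | e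
    · exact absurd e hx1
    · exact ⟨0, e.symm⟩
    · exact ⟨1, e.symm⟩
    · exact ⟨2, e.symm⟩
  have hact : ∀ (n : N) (i : Fin 3), ∃ j, p j = (n : G) * p i * (n : G)⁻¹ := fun n i =>
    hsur _ ((Subgroup.mem_normalizer_iff.1 n.2 _).1 (hmem i))
      fun e => hne i (conj_eq_one_iff.1 e)
  choose σ hσ using hact
  have hinj : ∀ n, Function.Injective (σ n) := fun n i j h => hp (by
    have := (hσ n i).symm.trans ((congrArg p h).trans (hσ n j))
    simpa using this)
  let f : N →* Equiv.Perm (Fin 3) := MonoidHom.mk'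
    (fun n => Equiv.ofBijective (σ n) (Finite.injective_iff_bijective.1 (hinj n)))
    (fun m n => Equiv.ext fun i => hp (by
      show p (σ (m * n) i) = p (σ m (σ n i))
      rw [hσ, hσ, hσ]; simp [mul_assoc]))
  have hf : ∀ n i, p (f n i) = (n : G) * p i * (n : G)⁻¹ := hσ
  refine ⟨f, ?_, fun a h0 h1 h2 => ?_, fun b h1 h0 h2 => ?_⟩
  · ext n
    rw [Subgroup.mem_subgroupOf, MonoidHom.mem_ker, Subgroup.mem_centralizer_iff]
    constructor
    · intro h x hx
      by_cases hx1 : x = 1
      · simp [hx1]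
      obtain ⟨i, rfl⟩ := hsur x hx hx1
      have := hf n i
      rw [h] at this
      exact (mul_inv_eq_iff_eq_mul.1 this.symm).symm
    · intro h
      refine Equiv.ext fun i => hp ?_
      rw [hf, ← h _ (hmem i), mul_inv_cancel_right]; rfl
  · refine Equiv.ext fun i => hp ?_
    rw [hf]
    fin_cases i
    · simpa [p, Equiv.swap_apply_def] using h0
    · simpa [p, Equiv.swap_apply_def] using h1
    · simpa [p, Equiv.swap_apply_def] using h2
  · refine Equiv.ext fun i => hp ?_
    rw [hf]
    fin_cases i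
    · simpa [p, Equiv.swap_apply_def] using h0
    · simpa [p, Equiv.swap_apply_def] using h1
    · simpa [p, Equiv.swap_apply_def] using h2

/-- The two transpositions generate. -/
theorem eq_top_of_swaps {H : Subgroup (Equiv.Perm (Fin 3))} (h₁ : Equiv.swap 1 2 ∈ H)
    (h₀ : Equiv.swap 0 2 ∈ H) : H = ⊤ := by
  have h01 : Equiv.swap (0 : Fin 3) 1 ∈ H := by
    rw [show Equiv.swap (0 : Fin 3) 1 = Equiv.swap 1 2 * Equiv.swap 0 2 * Equiv.swap 1 2 by decide]
    exact mul_mem (mul_mem h₁ h₀) h₁
  rw [eq_top_iff, ← Equiv.Perm.closure_isSwap, Subgroup.closure_le]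
  rintro σ ⟨x, y, hxy, rfl⟩
  fin_cases x <;> fin_cases y <;>
    first
    | exact absurd rfl hxy
    | assumption
    | (rw [Equiv.swap_comm]; assumption)

end CfsgLib.ThreeTransp.Fours
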