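/-
Two conjugates Q, Q^g of a large extraspecial subgroup with z^g ∈ Q: the subgroup X = ⟨Q, Q^g⟩,
R = C_Q(z^g) C_{Q^g}(z) and X/R ≅ S₃.
-/
import Cfsg.Agent.Lib.ThreeTransp.Extraspecial
import Cfsg.Agent.Lib.ThreeTransp.Fours
import Cfsg.Prelude.Def_MonsterType

set_option autoImplicit false
set_option linter.style.haveILetI false

namespace CfsgLib.ThreeTransp.LargePair

open Subgroup CfsgLib.ThreeTransp.Extraspecial

variable {G : Type*} [Group G] [Finite G]

theorem nonabelian_centralizer {Q : Subgroup G} {z u : G} (h : Extra Q z) {w : ℕ} (hw : 2 ≤ w)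
    (hcard : Nat.card ↥Q = 2 ^ (2 * w + 1)) (huQ : u ∈ Q) (hu1 : u ≠ 1) (huu : u * u = 1)
    (hne : u ≠ z) :
    ∃ b ∈ Q, ∃ c ∈ Q, b * u = u * b ∧ c * u = u * c ∧ b * c ≠ c * b := by
  by_contra hcon
  push_neg at hcon
  have hcentral : ∀ x y : ↥Q, x⁻¹ * y * x * y⁻¹ ∈ Subgroup.center ↥Q := fun x y => by
    rw [← h.ext.1.2.2, _root_.commutator_def]
    simpa [commutatorElement_def] using
      Subgroup.commutator_mem_commutator (Subgroup.mem_top x⁻¹) (Subgroup.mem_top y)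
  set A := Subgroup.zpowers (⟨u, huQ⟩ : ↥Q) with hA
  set B := Subgroup.centralizer (A : Set ↥Q) with hBd
  have hmemB : ∀ x : ↥Q, x ∈ B → (x : G) * u = u * x := fun x hx =>
    (congrArg Subtype.val (Subgroup.mem_centralizer_iff.1 hx _ (Subgroup.mem_zpowers _))).symm
  have hBB : B ≤ Subgroup.centralizer (B : Set ↥Q) := fun x hx =>
    Subgroup.mem_centralizer_iff.2 fun y hy => Subtype.ext
      (hcon y y.2 x x.2 (hmemB y hy) (hmemB x hx))
  have hcA : Nat.card A = 2 := by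
    rw [hA, Nat.card_zpowers, ← Subgroup.orderOf_coe]
    exact orderOf_eq_prime (by rw [pow_two, huu]) hu1
  have hint : A ⊓ Subgroup.center ↥Q = ⊥ := by
    rw [Subgroup.eq_bot_iff_forall]
    rintro x ⟨hx, hxc⟩
    apply Subtype.ext
    have hxu : (x : G) = 1 ∨ (x : G) = u := by
      rcases (mem_zpowers_involution (z := (⟨u, huQ⟩ : ↥Q)) (Subtype.ext huu)).1 hx with e | e
      · exact Or.inl (by rw [e]; rfl)
      · exact Or.inr (by rw [e])
    rcases hxu with e | e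
    · exact e
    rcases h.eq_one_or_z_of_mem_center hxc with e' | e'
    · exact e'
    · exact absurd (e.symm.trans e') hne
  have hZB : Subgroup.center ↥Q ≤ B := Subgroup.center_le_centralizer _
  have d1 := Cfsg.Agent.S2880.double_count A hcentral h.ext.2
  have d2 := Cfsg.Agent.S2880.double_count B hcentral h.ext.2
  rw [hint, Subgroup.card_bot, one_mul, hcA, ← hBd] at d1
  rw [inf_eq_right.2 hZB, h.ext.2] at d2
  have hle : Nat.card B ≤ Nat.card ↥(Subgroup.centralizer (B : Set ↥Q)) :=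
    Nat.card_le_card_of_injective _ (Subgroup.inclusion_injective hBB)
  have h32 : 2 ^ (2 * 2 + 1) ≤ Nat.card ↥Q :=
    hcard ▸ Nat.pow_le_pow_right (by norm_num) (by omega)
  have h4 : Nat.card ↥(Subgroup.centralizer (B : Set ↥Q)) = 4 :=
    Nat.eq_of_mul_eq_mul_right (Nat.card_pos (α := B)) (by linarith)
  norm_num at h32
  omega

/-- The data: two extraspecial subgroups, each containing the other's central involution. -/
structure Pair (Q Q' : Subgroup G) (z u : G) : Prop where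
  hQ : Extra Q z
  hQ' : Extra Q' u
  hC : ∀ x : G, (∀ q ∈ Q, x * q = q * x) → x ∈ Q
  hN : Subgroup.centralizer ({z} : Set G) ≤ Subgroup.normalizer (Q : Set G)
  hN' : Subgroup.centralizer ({u} : Set G) ≤ Subgroup.normalizer (Q' : Set G)
  hu : u ∈ Q
  hz : z ∈ Q'
  hne : u ≠ z
  third : ∀ q ∈ Q, ∀ q' ∈ Q', q * u * q⁻¹ = z * u → q' * z * q'⁻¹ = z * u →
    ∀ x : G, q⁻¹ * x * q ∈ Q' ↔ q'⁻¹ * x * q' ∈ Q

theorem of_large {Q : Subgroup G} {z : G} (hQ : Cfsg.IsLargeExtraspecial Q)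
    (hz : (Subgroup.center ↥Q).map Q.subtype = Subgroup.zpowers z) {w : ℕ} (hw : 2 ≤ w)
    (hcard : Nat.card ↥Q = 2 ^ (2 * w + 1)) {g : G}
    (hgH : g ∉ Subgroup.centralizer ({z} : Set G)) (hgQ : g * z * g⁻¹ ∈ Q) :
    Pair Q (Q.map (MulAut.conj g).toMonoidHom) z (g * z * g⁻¹) := by
  obtain ⟨hE, hCQ, hNQ, -⟩ := hQ
  have hX := Extra.of_center hE hz
  have hC : ∀ x : G, (∀ q ∈ Q, x * q = q * x) → x ∈ Q := fun x hx => by
    have : x ∈ Subgroup.centralizer (Q : Set G) :=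
      Subgroup.mem_centralizer_iff.2 fun q hq => (hx q hq).symm
    rw [hCQ] at this
    exact Subgroup.map_subtype_le _ this
  have hN : Subgroup.centralizer ({z} : Set G) ≤ Subgroup.normalizer (Q : Set G) := by
    rwa [hz, Subgroup.zpowers_eq_closure, Subgroup.centralizer_closure] at hNQ
  have hne : g * z * g⁻¹ ≠ z := fun e =>
    hgH (Subgroup.mem_centralizer_singleton_iff.2 (mul_inv_eq_iff_eq_mul.1 e))
  have hX' := hX.map_conj g
  refine ⟨hX, hX', hC, hN, ?_, hgQ, mem_map_conj.2 ?_, hne, ?_⟩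
  · intro c hc
    exact Subgroup.mem_normalizer_fintype fun x hx => mem_map_conj.2
      (centralizer_conj_le hN g (Subgroup.mem_centralizer_singleton_iff.1 hc) (mem_map_conj.1 hx))
  · exact mem_conj_of_nonabelian hX hC hN hgQ hne
      (nonabelian_centralizer hX hw hcard hgQ hX'.z_ne hX'.z_sq hne)
  · intro q hq q' hq' hqu hq'z x
    rw [mem_map_conj]
    have e : (q * g) * z * (q * g)⁻¹ = q' * z * q'⁻¹ := by
      rw [hq'z, ← hqu]; group
    have := conj_mem_iff hN e x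
    rw [← this]
    simp [mul_assoc]

namespace Pair

variable {Q Q' : Subgroup G} {z u : G}

/-- `R = C_{Q'}(z) C_Q(u)`. -/
def R (Q Q' : Subgroup G) (z u : G) : Subgroup G :=
  (Q' ⊓ Subgroup.centralizer ({z} : Set G)) ⊔ (Q ⊓ Subgroup.centralizer ({u} : Set G))

theorem u_sq (P : Pair Q Q' z u) : u * u = 1 := P.hQ'.z_sq

theorem zu_comm (P : Pair Q Q' z u) : z * u = u * z := P.hQ.z_comm P.hu

theorem zu_ne_one (P : Pair Q Q' z u) : z * u ≠ 1 := fun e =>
  P.hne (by rw [eq_inv_of_mul_eq_one_right e, P.hQ.inv_z])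

theorem mem_closure_iff (P : Pair Q Q' z u) (x : G) :
    x ∈ Subgroup.closure ({z, u} : Set G) ↔ x = 1 ∨ x = z ∨ x = u ∨ x = z * u := by
  constructor
  · intro hx
    induction hx using Subgroup.closure_induction with
    | mem y hy => rcases hy with rfl | rfl <;> simp
    | one => simp
    | inv y _ ih =>
      rcases ih with rfl | rfl | rfl | rfl
      · simp
      · simp [P.hQ.inv_z]
      · simp [P.hQ'.inv_z]
      · right; right; right
        rw [mul_inv_rev, P.hQ'.inv_z, P.hQ.inv_z, P.zu_comm]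
    | mul a b _ _ ha hb =>
      have h1 := P.hQ.z_sq
      have h2 := P.u_sq
      have h3 : u * z = z * u := P.zu_comm.symm
      have h4 : ∀ x : G, z * (z * x) = x := fun x => by rw [← mul_assoc, h1, one_mul]
      have h5 : ∀ x : G, u * (z * x) = z * (u * x) := fun x => by rw [← mul_assoc, h3, mul_assoc]
      rcases ha with rfl | rfl | rfl | rfl <;> rcases hb with rfl | rfl | rfl | rfl <;>
        simp [mul_assoc, h1, h2, h3, h4, h5]
  · have hz : z ∈ Subgroup.closure ({z, u} : Set G) := Subgroup.subset_closure (by simp)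
    have hu : u ∈ Subgroup.closure ({z, u} : Set G) := Subgroup.subset_closure (by simp)
    rintro (rfl | rfl | rfl | rfl)
    exacts [one_mem _, hz, hu, mul_mem hz hu]

theorem mem_centralizer_V (P : Pair Q Q' z u) (x : G) :
    x ∈ Subgroup.centralizer ((Subgroup.closure ({z, u} : Set G) : Subgroup G) : Set G) ↔
      x * z = z * x ∧ x * u = u * x := by
  rw [Subgroup.centralizer_closure, Subgroup.mem_centralizer_iff]
  constructor
  · exact fun h => ⟨(h z (by simp)).symm, (h u (by simp)).symm⟩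
  · rintro ⟨h1, h2⟩ y (rfl | rfl)
    exacts [h1.symm, h2.symm]

theorem B_le_R {Q Q' : Subgroup G} {z u x : G} (hx : x ∈ Q) (hxu : x * u = u * x) :
    x ∈ R Q Q' z u :=
  Subgroup.mem_sup_right ⟨hx, Subgroup.mem_centralizer_singleton_iff.2 hxu⟩

theorem B'_le_R {Q Q' : Subgroup G} {z u x : G} (hx : x ∈ Q') (hxz : x * z = z * x) :
    x ∈ R Q Q' z u :=
  Subgroup.mem_sup_left ⟨hx, Subgroup.mem_centralizer_singleton_iff.2 hxz⟩

theorem R_le (P : Pair Q Q' z u) :
    R Q Q' z u ≤ (Q ⊔ Q') ⊓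
      Subgroup.centralizer ((Subgroup.closure ({z, u} : Set G) : Subgroup G) : Set G) := by
  refine sup_le ?_ ?_
  · rintro x ⟨hx, hxz⟩
    exact ⟨Subgroup.mem_sup_right hx, (P.mem_centralizer_V x).2
      ⟨Subgroup.mem_centralizer_singleton_iff.1 hxz, (P.hQ'.z_comm hx).symm⟩⟩
  · rintro x ⟨hx, hxu⟩
    exact ⟨Subgroup.mem_sup_left hx, (P.mem_centralizer_V x).2
      ⟨(P.hQ.z_comm hx).symm, Subgroup.mem_centralizer_singleton_iff.1 hxu⟩⟩

theorem sup_le_normalizer (P : Pair Q Q' z u) :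
    Q ⊔ Q' ≤ Subgroup.normalizer ((Subgroup.closure ({z, u} : Set G) : Subgroup G) : Set G) := by
  set V := Subgroup.closure ({z, u} : Set G) with hV
  have hz : z ∈ V := Subgroup.subset_closure (by simp)
  have hu : u ∈ V := Subgroup.subset_closure (by simp)
  have key : ∀ g : G, g * z * g⁻¹ ∈ V → g * u * g⁻¹ ∈ V →
      g ∈ Subgroup.normalizer (V : Set G) := fun g h1 h2 =>
    Subgroup.mem_normalizer_fintype fun x hx => by
      rcases (P.mem_closure_iff x).1 hx with rfl | rfl | rfl | rfl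
      · simpa using one_mem V
      · exact h1
      · exact h2
      · rw [← conj_mul]; exact mul_mem h1 h2
  refine sup_le (fun q hq => key q ?_ ?_) (fun q hq => key q ?_ ?_)
  · rw [← P.hQ.z_comm hq, mul_inv_cancel_right]; exact hz
  · rcases P.hQ.conj_cases P.hu hq with e | e <;> rw [e]
    exacts [hu, mul_mem hu hz]
  · rcases P.hQ'.conj_cases P.hz hq with e | e <;> rw [e]
    exacts [hz, mul_mem hz hu]
  · rw [← P.hQ'.z_comm hq, mul_inv_cancel_right]; exact hu

theorem sup_le_normalizer_R (P : Pair Q Q' z u) :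
    Q ⊔ Q' ≤ Subgroup.normalizer (R Q Q' z u : Set G) := by
  have aux : ∀ q ∈ Q ⊔ Q', ∀ b : G,
      b ∈ Subgroup.centralizer ((Subgroup.closure ({z, u} : Set G) : Subgroup G) : Set G) →
      q * b * q⁻¹ * b⁻¹ ∈
        Subgroup.centralizer ((Subgroup.closure ({z, u} : Set G) : Subgroup G) : Set G) := by
    intro q hq b hb
    refine mul_mem ?_ (inv_mem hb)
    have hn := P.sup_le_normalizer hq
    rw [Subgroup.mem_centralizer_iff]
    intro v hv
    have := Subgroup.mem_centralizer_iff.1 hb _ ((Subgroup.mem_normalizer_iff''.1 hn v).1 hv)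
    calc v * (q * b * q⁻¹) = q * ((q⁻¹ * v * q) * b) * q⁻¹ := by group
      _ = q * b * q⁻¹ * v := by rw [this]; group
  refine sup_le (fun q hq => ?_) (fun q hq => ?_) <;>
    refine Subgroup.mem_normalizer_fintype fun r hr => ?_
  · suffices R Q Q' z u ≤ (R Q Q' z u).comap (MulAut.conj q).toMonoidHom from this hr
    refine sup_le ?_ ?_
    · rintro b ⟨hb, hbz⟩
      show q * b * q⁻¹ ∈ R Q Q' z u
      have hbz' := Subgroup.mem_centralizer_singleton_iff.1 hbz
      have hbV := (P.mem_centralizer_V b).2 ⟨hbz', (P.hQ'.z_comm hb).symm⟩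
      have h1 : q * b * q⁻¹ * b⁻¹ ∈ Q := by
        rw [show q * b * q⁻¹ * b⁻¹ = q * (b * q⁻¹ * b⁻¹) by group]
        exact mul_mem hq ((Subgroup.mem_normalizer_iff.1 (P.hN hbz) _).1 (inv_mem hq))
      rw [show q * b * q⁻¹ = q * b * q⁻¹ * b⁻¹ * b by group]
      exact mul_mem (B_le_R h1 ((P.mem_centralizer_V _).1 (aux q (Subgroup.mem_sup_left hq) b hbV)).2)
        (B'_le_R hb hbz')
    · rintro b ⟨hb, hbu⟩
      show q * b * q⁻¹ ∈ R Q Q' z u
      have hbu' := Subgroup.mem_centralizer_singleton_iff.1 hbu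
      rcases P.hQ.conj_cases hb hq with e | e <;> rw [e]
      · exact B_le_R hb hbu'
      · exact mul_mem (B_le_R hb hbu') (B_le_R P.hQ.z_mem P.zu_comm)
  · suffices R Q Q' z u ≤ (R Q Q' z u).comap (MulAut.conj q).toMonoidHom from this hr
    refine sup_le ?_ ?_
    · rintro b ⟨hb, hbz⟩
      show q * b * q⁻¹ ∈ R Q Q' z u
      have hbz' := Subgroup.mem_centralizer_singleton_iff.1 hbz
      rcases P.hQ'.conj_cases hb hq with e | e <;> rw [e]
      · exact B'_le_R hb hbz'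
      · exact mul_mem (B'_le_R hb hbz') (B'_le_R P.hQ'.z_mem P.zu_comm.symm)
    · rintro b ⟨hb, hbu⟩
      show q * b * q⁻¹ ∈ R Q Q' z u
      have hbu' := Subgroup.mem_centralizer_singleton_iff.1 hbu
      have hbV := (P.mem_centralizer_V b).2 ⟨(P.hQ.z_comm hb).symm, hbu'⟩
      have h1 : q * b * q⁻¹ * b⁻¹ ∈ Q' := by
        rw [show q * b * q⁻¹ * b⁻¹ = q * (b * q⁻¹ * b⁻¹) by group]
        exact mul_mem hq ((Subgroup.mem_normalizer_iff.1 (P.hN' hbu) _).1 (inv_mem hq))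
      rw [show q * b * q⁻¹ = q * b * q⁻¹ * b⁻¹ * b by group]
      exact mul_mem (B'_le_R h1 ((P.mem_centralizer_V _).1 (aux q (Subgroup.mem_sup_right hq) b hbV)).1)
        (B_le_R hb hbu')

theorem isPGroup_R (P : Pair Q Q' z u) : IsPGroup 2 ↥(R Q Q' z u) := by
  refine IsPGroup.to_sup_of_normal_left' (P.hQ'.isPGroup.to_le inf_le_left)
    (P.hQ.isPGroup.to_le inf_le_left) fun b hb => Subgroup.mem_normalizer_fintype fun x hx => ?_
  refine ⟨(Subgroup.mem_normalizer_iff.1 (P.hN' hb.2) x).1 hx.1, ?_⟩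
  show b * x * b⁻¹ ∈ Subgroup.centralizer ({z} : Set G)
  rw [Subgroup.mem_centralizer_singleton_iff]
  have h1 := P.hQ.z_comm hb.1
  have h2 := Subgroup.mem_centralizer_singleton_iff.1 hx.2
  have hb' : b * z * b⁻¹ = z := by rw [← h1, mul_inv_cancel_right]
  calc b * x * b⁻¹ * z = b * x * b⁻¹ * (b * z * b⁻¹) := by rw [hb']
    _ = b * (x * z) * b⁻¹ := by group
    _ = (b * z * b⁻¹) * (b * x * b⁻¹) := by rw [h2]; group
    _ = z * (b * x * b⁻¹) := by rw [hb']

/-- Two elements inducing the two transpositions. -/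
theorem exists_swaps (P : Pair Q Q' z u) :
    ∃ a ∈ Q, ∃ b ∈ Q', a * z * a⁻¹ = z ∧ a * u * a⁻¹ = z * u ∧ a * (z * u) * a⁻¹ = u ∧
      b * u * b⁻¹ = u ∧ b * z * b⁻¹ = z * u ∧ b * (z * u) * b⁻¹ = z := by
  obtain ⟨a, ha, hau⟩ := P.hQ.exists_conj_eq P.hu P.hQ'.z_ne P.hne
  obtain ⟨b, hb, hbz⟩ := P.hQ'.exists_conj_eq P.hz P.hQ.z_ne (Ne.symm P.hne)
  have haz : a * z * a⁻¹ = z := by rw [← P.hQ.z_comm ha, mul_inv_cancel_right]
  have hbu : b * u * b⁻¹ = u := by rw [← P.hQ'.z_comm hb, mul_inv_cancel_right]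
  rw [← P.zu_comm] at hau
  refine ⟨a, ha, b, hb, haz, hau, ?_, hbu, hbz, ?_⟩
  · rw [← conj_mul, haz, hau, ← mul_assoc, P.hQ.z_sq, one_mul]
  · rw [← conj_mul, hbz, hbu, mul_assoc, P.u_sq, mul_one]

/-- `X ∩ C(V) = R`. -/
theorem inf_centralizer_eq (P : Pair Q Q' z u) :
    (Q ⊔ Q') ⊓ Subgroup.centralizer ((Subgroup.closure ({z, u} : Set G) : Subgroup G) : Set G) =
      R Q Q' z u := by
  refine le_antisymm ?_ P.R_le
  obtain ⟨a, ha, b, hb, haz, hau, hazu, hbu, hbz, hbzu⟩ := P.exists_swaps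
  set K := R Q Q' z u with hK
  have hmemQ : ∀ x ∈ Q, x ∈ K ∨ a⁻¹ * x ∈ K := by
    intro x hx
    rcases P.hQ.conj_cases P.hu hx with e | e
    · exact Or.inl (B_le_R hx (mul_inv_eq_iff_eq_mul.1 e))
    · refine Or.inr (B_le_R (mul_mem (inv_mem ha) hx) ?_)
      rw [← mul_inv_eq_iff_eq_mul]
      calc a⁻¹ * x * u * (a⁻¹ * x)⁻¹ = a⁻¹ * (x * u * x⁻¹) * a := by group
        _ = a⁻¹ * (a * u * a⁻¹) * a := by rw [e, hau, P.zu_comm]
        _ = u := by group
  have hmemQ' : ∀ x ∈ Q', x ∈ K ∨ b⁻¹ * x ∈ K := by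
    intro x hx
    rcases P.hQ'.conj_cases P.hz hx with e | e
    · exact Or.inl (B'_le_R hx (mul_inv_eq_iff_eq_mul.1 e))
    · refine Or.inr (B'_le_R (mul_mem (inv_mem hb) hx) ?_)
      rw [← mul_inv_eq_iff_eq_mul]
      calc b⁻¹ * x * z * (b⁻¹ * x)⁻¹ = b⁻¹ * (x * z * x⁻¹) * b := by group
        _ = b⁻¹ * (b * z * b⁻¹) * b := by rw [e, hbz]
        _ = z := by group
  -- conjugation inside `X` fixes `K`
  have hKn : ∀ g ∈ Q ⊔ Q', ∀ k ∈ K, g * k * g⁻¹ ∈ K := fun g hg k hk =>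
    (Subgroup.mem_normalizer_iff.1 (P.sup_le_normalizer_R hg) k).1 hk
  have hKn' : ∀ g ∈ Q ⊔ Q', ∀ k ∈ K, g⁻¹ * k * g ∈ K := fun g hg k hk => by
    simpa using hKn g⁻¹ (inv_mem hg) k hk
  have haX : a ∈ Q ⊔ Q' := Subgroup.mem_sup_left ha
  have hbX : b ∈ Q ⊔ Q' := Subgroup.mem_sup_right hb
  have haa : a * a ∈ K := by
    rcases P.hQ.sq_cases ha with e | e <;> rw [e]
    exacts [one_mem K, B_le_R P.hQ.z_mem P.zu_comm]
  have hbb : b * b ∈ K := by
    rcases P.hQ'.sq_cases hb with e | e <;> rw [e]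
    exacts [one_mem K, B'_le_R P.hQ'.z_mem P.zu_comm.symm]
  -- the braid relation modulo `K`
  have hbraid : (a * b * a⁻¹)⁻¹ * (b * a * b⁻¹) ∈ K := by
    have h1 : a⁻¹ * (b * a * b⁻¹) * a ∈ Q' :=
      (P.third a ha b hb hau hbz _).2 (by simpa [mul_assoc] using ha)
    have h2 : b⁻¹ * (a⁻¹ * (b * a * b⁻¹) * a) ∈ Q' := mul_mem (inv_mem hb) h1
    have h3 : b⁻¹ * (a⁻¹ * (b * a * b⁻¹) * a) * z = z * (b⁻¹ * (a⁻¹ * (b * a * b⁻¹) * a)) := by
      have hac : a⁻¹ * z * a = z := by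
        calc a⁻¹ * z * a = a⁻¹ * (a * z * a⁻¹) * a := by rw [haz]
          _ = z := by group
      have hbc : b⁻¹ * (z * u) * b = z := by rw [← hbz]; group
      have hbz' : b⁻¹ * z * b = z * u := by
        calc b⁻¹ * z * b = b⁻¹ * (b * (z * u) * b⁻¹) * b := by rw [hbzu]
          _ = z * u := by group
      rw [← mul_inv_eq_iff_eq_mul]
      calc b⁻¹ * (a⁻¹ * (b * a * b⁻¹) * a) * z * (b⁻¹ * (a⁻¹ * (b * a * b⁻¹) * a))⁻¹
          = b⁻¹ * (a⁻¹ * (b * (a * (b⁻¹ * (a * z * a⁻¹) * b) * a⁻¹) * b⁻¹) * a) * b := by group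
        _ = b⁻¹ * (a⁻¹ * (b * u * b⁻¹) * a) * b := by rw [haz, hbz', hazu]
        _ = b⁻¹ * (a⁻¹ * (a * (z * u) * a⁻¹) * a) * b := by rw [hbu, hazu]
        _ = z := by rw [show a⁻¹ * (a * (z * u) * a⁻¹) * a = z * u by group, hbc]
    have h4 := hKn a haX _ (B'_le_R (z := z) (u := u) (Q := Q) h2 h3)
    rw [show a * (b⁻¹ * (a⁻¹ * (b * a * b⁻¹) * a)) * a⁻¹ =
      (a * b * a⁻¹)⁻¹ * (b * a * b⁻¹) by group] at h4
    exact h4
  set N := Subgroup.normalizer (K : Set G) with hNd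
  have hXN : Q ⊔ Q' ≤ N := P.sup_le_normalizer_R
  haveI : (K.subgroupOf N).Normal := Subgroup.normal_subgroupOf_of_le_normalizer le_rfl
  set π := QuotientGroup.mk' (K.subgroupOf N) with hπ
  have hπeq : ∀ x y : N, π x = π y ↔ (x : G)⁻¹ * y ∈ K := fun x y => by
    rw [hπ, QuotientGroup.mk'_apply, QuotientGroup.mk'_apply, QuotientGroup.eq]; rfl
  set a' : N := ⟨a, hXN haX⟩ with ha'
  set b' : N := ⟨b, hXN hbX⟩ with hb'
  set A := π a' with hA
  set B := π b' with hB
  have hAA : A * A = 1 := by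
    rw [hA, ← map_mul, ← map_one π, hπeq]
    show (a * a)⁻¹ * 1 ∈ K
    simpa using inv_mem haa
  have hBB : B * B = 1 := by
    rw [hB, ← map_mul, ← map_one π, hπeq]
    show (b * b)⁻¹ * 1 ∈ K
    simpa using inv_mem hbb
  have hbr : B * A * B = A * B * A := by
    have h : π (a' * b' * a'⁻¹) = π (b' * a' * b'⁻¹) := (hπeq _ _).2 hbraid
    rw [map_mul, map_mul, map_mul, map_mul, map_inv, map_inv, ← hA, ← hB,
      inv_eq_of_mul_eq_one_right hAA, inv_eq_of_mul_eq_one_right hBB] at h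
    exact h.symm
  let six : Set (N ⧸ K.subgroupOf N) := {1, A, B, A * B, B * A, A * B * A}
  have hAs : ∀ y ∈ six, A * y ∈ six := by
    rintro y (rfl | rfl | rfl | rfl | rfl | rfl)
    · simp [six]
    · simp [six, hAA]
    · simp [six]
    · simp [six, ← mul_assoc, hAA]
    · simp [six, ← mul_assoc]
    · simp [six, ← mul_assoc, hAA]
  have hBs : ∀ y ∈ six, B * y ∈ six := by
    rintro y (rfl | rfl | rfl | rfl | rfl | rfl)
    · simp [six]
    · simp [six]
    · simp [six, hBB]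
    · simp [six, ← mul_assoc, hbr]
    · simp [six, ← mul_assoc, hBB]
    · right; right; right; left
      rw [← hbr, ← mul_assoc, ← mul_assoc, hBB, one_mul]
  have hcl : ∀ y ∈ Subgroup.closure ({A, B} : Set (N ⧸ K.subgroupOf N)), y ∈ six := by
    intro y hy
    induction hy using Subgroup.closure_induction_left with
    | one => simp [six]
    | mul_left s hs y _ ih =>
      rcases hs with rfl | rfl
      exacts [hAs y ih, hBs y ih]
    | inv_mul_cancel s hs y _ ih =>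
      rcases hs with rfl | rfl
      · rw [inv_eq_of_mul_eq_one_right hAA]; exact hAs y ih
      · rw [inv_eq_of_mul_eq_one_right hBB]; exact hBs y ih
  have hXW : Q ⊔ Q' ≤
      ((Subgroup.closure ({A, B} : Set (N ⧸ K.subgroupOf N))).comap π).map N.subtype := by
    have hcase : ∀ (c : G) (hc : c ∈ N), π ⟨c, hc⟩ ∈ Subgroup.closure ({A, B} : Set _) →
        ∀ x ∈ Q ⊔ Q', c⁻¹ * x ∈ K → x ∈ ((Subgroup.closure
          ({A, B} : Set (N ⧸ K.subgroupOf N))).comap π).map N.subtype := by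
      intro c hc hcl x hx hcx
      refine ⟨⟨x, hXN hx⟩, ?_, rfl⟩
      rw [SetLike.mem_coe, Subgroup.mem_comap,
        show π ⟨x, hXN hx⟩ = π ⟨c, hc⟩ from ((hπeq _ _).2 hcx).symm]
      exact hcl
    refine sup_le (fun x hx => ?_) (fun x hx => ?_)
    · rcases hmemQ x hx with h | h
      · refine hcase 1 (one_mem _) ?_ x (Subgroup.mem_sup_left hx) (by simpa using h)
        exact (map_one π).symm ▸ one_mem _
      · exact hcase a (hXN haX) (Subgroup.subset_closure (by simp [hA, ha'])) x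
          (Subgroup.mem_sup_left hx) h
    · rcases hmemQ' x hx with h | h
      · refine hcase 1 (one_mem _) ?_ x (Subgroup.mem_sup_right hx) (by simpa using h)
        exact (map_one π).symm ▸ one_mem _
      · exact hcase b (hXN hbX) (Subgroup.subset_closure (by simp [hB, hb'])) x
          (Subgroup.mem_sup_right hx) h
  rintro x ⟨hxX, hxV⟩
  obtain ⟨y, hy, hyx⟩ := hXW hxX
  have hyx' : (y : G) = x := hyx
  have hpick : ∀ c : N, π y = π c → (c : G) * z = z * c ∧ (c : G) * u = u * c := by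
    intro c hc
    have h1 : (y : G)⁻¹ * c ∈ K := (hπeq _ _).1 hc
    refine (P.mem_centralizer_V _).1 ?_
    rw [show (c : G) = y * ((y : G)⁻¹ * c) by group]
    exact mul_mem (hyx' ▸ hxV) (P.R_le h1).2
  rcases hcl _ hy with h | h | h | h | h | h
  · have h1 : (y : G)⁻¹ * 1 ∈ K := (hπeq y 1).1 (h.trans (map_one π).symm)
    rw [mul_one, hyx'] at h1
    exact inv_mem_iff.1 h1
  · exfalso
    have := (hpick a' h).2
    apply P.hQ.z_ne
    have e : a * u * a⁻¹ = u := mul_inv_eq_iff_eq_mul.2 this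
    rw [hau] at e
    exact mul_eq_right.1 e
  · exfalso
    have := (hpick b' h).1
    apply P.hQ'.z_ne
    have e : b * z * b⁻¹ = z := mul_inv_eq_iff_eq_mul.2 this
    rw [hbz] at e
    exact mul_eq_left.1 e
  · exfalso
    have := (hpick (a' * b') (by rw [h, map_mul])).1
    apply P.hne
    have e : a * b * z * (a * b)⁻¹ = z := mul_inv_eq_iff_eq_mul.2 this
    rwa [show a * b * z * (a * b)⁻¹ = a * (b * z * b⁻¹) * a⁻¹ by group, hbz, hazu] at e
  · exfalso
    have := (hpick (b' * a') (by rw [h, map_mul])).2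
    apply P.hne
    have e : b * a * u * (b * a)⁻¹ = u := mul_inv_eq_iff_eq_mul.2 this
    rw [show b * a * u * (b * a)⁻¹ = b * (a * u * a⁻¹) * b⁻¹ by group, hau, hbzu] at e
    exact e.symm
  · exfalso
    have := (hpick (a' * b' * a') (by rw [h, map_mul, map_mul])).1
    apply P.hne
    have e : a * b * a * z * (a * b * a)⁻¹ = z := mul_inv_eq_iff_eq_mul.2 this
    rwa [show a * b * a * z * (a * b * a)⁻¹ = a * (b * (a * z * a⁻¹) * b⁻¹) * a⁻¹ by group, haz,
      hbz, hazu] at e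

end Pair

end CfsgLib.ThreeTransp.LargePair
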