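import Cfsg.Agent.Lib.ThreeTransp.LeechGen

/-!
# A non-monomial automorphism of the lattice
-/

set_option autoImplicit false

namespace CfsgLib.ThreeTransp.LeechXi

open Cfsg CfsgLib.SmallGroups.LeechBasic CfsgLib.SmallGroups.Golay CfsgLib.ThreeTransp.LeechGen
open Matrix

/-- The tetrads of a sextet, as a labelling of the points. -/
def tet (p : GolayPt) : ℕ :=
  [0, 0, 0, 2, 1, 2, 3, 3, 5, 4, 4, 5, 5, 1, 2, 4, 1, 2, 5, 3, 4, 3, 1, 0].getD (idx p) 0

/-- Twice the matrix of the automorphism. -/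
def entry (p q : GolayPt) : ℤ :=
  if tet p = tet q then (if tet p = 0 then -1 else 1) * ((if p = q then 2 else 0) - 1) else 0

/-- The matrix. -/
def mat : Matrix GolayPt GolayPt ℤ := Matrix.of entry

theorem mat_symm : matᵀ = mat := by
  have h : ∀ p q : GolayPt, entry q p = entry p q := by decide +kernel
  ext p q
  exact h p q

theorem mat_sq : mat * mat = (4 : ℤ) • (1 : Matrix GolayPt GolayPt ℤ) := by
  have h : ∀ p q : GolayPt, (∑ r, entry p r * entry r q) = if p = q then 4 else 0 := by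
    decide +kernel
  ext p q
  rw [mul_apply, Matrix.smul_apply, Matrix.one_apply]
  change (∑ r, entry p r * entry r q) = _
  rw [h]
  split_ifs <;> simp

/-- The double of the automorphism as an additive map. -/
def dblHom : (GolayPt → ℤ) →+ (GolayPt → ℤ) := mat.mulVecLin.toAddMonoidHom

theorem dblHom_dblHom (x : GolayPt → ℤ) : dblHom (dblHom x) = (4 : ℤ) • x := by
  change mat *ᵥ (mat *ᵥ x) = _
  rw [mulVec_mulVec, mat_sq, smul_mulVec, one_mulVec]

theorem sqNorm_dblHom (x : GolayPt → ℤ) : sqNorm (dblHom x) = 4 * sqNorm x := by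
  have h1 : ∀ y : GolayPt → ℤ, sqNorm y = y ⬝ᵥ y := fun y => by
    simp only [sqNorm, dotProduct, sq]
  rw [h1, h1]
  change (mat *ᵥ x) ⬝ᵥ (mat *ᵥ x) = _
  rw [dotProduct_mulVec, ← mulVec_transpose, mat_symm, mulVec_mulVec, mat_sq, smul_mulVec,
    one_mulVec, smul_dotProduct, smul_eq_mul]

/-- The membership test. -/
def okHalf (z : GolayPt → ℤ) : Bool :=
  decide (∀ i, (2 : ℤ) ∣ z i) && decide (∀ i, z i / 2 % 2 = z none / 2 % 2) &&
    decide ((∑ i, z i / 2 - 4 * (z none / 2)) % 8 = 0) &&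
    isCW (mask (wd (fun i => z i / 2) (z none / 2)))

theorem of_okHalf {z : GolayPt → ℤ} (h : okHalf z = true) :
    ∃ y ∈ leechLattice, z = (2 : ℤ) • y := by
  simp only [okHalf, Bool.and_eq_true, decide_eq_true_eq] at h
  obtain ⟨⟨⟨h1, h2⟩, h3⟩, h4⟩ := h
  refine ⟨fun i => z i / 2, mem_lattice.2 ⟨z none / 2, fun i => h2 i, ?_, mem_code_iff_isCW.2 h4⟩, ?_⟩
  · dsimp only; rw [Int.modEq_iff_dvd]; omega
  · funext i
    have := h1 i
    change z i = 2 * (z i / 2)
    omega

theorem ok_gens : (∀ p, okHalf (dblHom (avec p)) = true) ∧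
    okHalf (dblHom fun i => if i = none then 8 else 0) = true ∧ okHalf (dblHom nuVec) = true ∧
    ∀ k < 12, okHalf (dblHom (fvec (word (bas k)))) = true := by
  decide +kernel

theorem exists_half (x : leechLattice) :
    ∃ y ∈ leechLattice, dblHom (x : GolayPt → ℤ) = (2 : ℤ) • y := by
  let S : AddSubgroup leechLattice :=
    ((leechLattice.map (DistribSMul.toAddMonoidHom (GolayPt → ℤ) (2 : ℤ))).comap
      (dblHom.comp leechLattice.subtype))
  have hS : ∀ x : leechLattice, okHalf (dblHom (x : GolayPt → ℤ)) = true → x ∈ S := fun x h => by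
    obtain ⟨y, hy, e⟩ := of_okHalf h
    exact ⟨y, hy, e.symm⟩
  obtain ⟨y, hy, e⟩ := gen_induction S (fun p => hS _ (ok_gens.1 p))
    (hS _ (by rw [funext wL_apply]; exact ok_gens.2.1)) (hS _ ok_gens.2.2.1)
    (fun k hk => hS _ (ok_gens.2.2.2 k hk)) x
  exact ⟨y, hy, e.symm⟩

/-- The automorphism. -/
noncomputable def xiFun (x : leechLattice) : leechLattice :=
  ⟨(exists_half x).choose, (exists_half x).choose_spec.1⟩

theorem two_xi (x : leechLattice) :
    (2 : ℤ) • ((xiFun x : leechLattice) : GolayPt → ℤ) = dblHom (x : GolayPt → ℤ) :=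
  (exists_half x).choose_spec.2.symm

theorem xi_xi (x : leechLattice) : xiFun (xiFun x) = x := by
  apply Subtype.ext
  apply smul_right_injective (GolayPt → ℤ) (four_ne_zero : (4 : ℤ) ≠ 0)
  change (4 : ℤ) • _ = (4 : ℤ) • _
  symm
  rw [← dblHom_dblHom (x : GolayPt → ℤ), ← two_xi x, map_zsmul, ← two_xi (xiFun x), smul_smul]
  norm_num

/-- The automorphism as a permutation of the lattice. -/
noncomputable def xi : Co0 := by
  refine ⟨Function.Involutive.toPerm xiFun xi_xi, fun v w => ?_, fun v => ?_⟩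
  · apply Subtype.ext
    apply smul_right_injective (GolayPt → ℤ) (two_ne_zero : (2 : ℤ) ≠ 0)
    change (2 : ℤ) • ((xiFun (v + w) : leechLattice) : GolayPt → ℤ) =
      (2 : ℤ) • ((xiFun v + xiFun w : leechLattice) : GolayPt → ℤ)
    simp only [AddSubgroup.coe_add, smul_add, two_xi, map_add]
  · change sqNorm ((xiFun v : leechLattice) : GolayPt → ℤ) = _
    have h := congrArg sqNorm (two_xi v)
    rw [sqNorm_dblHom] at h
    have h2 : sqNorm ((2 : ℤ) • ((xiFun v : leechLattice) : GolayPt → ℤ)) =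
        4 * sqNorm ((xiFun v : leechLattice) : GolayPt → ℤ) := by
      simp only [sqNorm, Pi.smul_apply, smul_eq_mul, Finset.mul_sum]
      exact Finset.sum_congr rfl fun i _ => by ring
    omega

theorem xi_moves_parity :
    ((((fL (basC 1 (by norm_num))) : leechLattice) : GolayPt → ℤ) none % 2 = 0) ∧
      (((xi • fL (basC 1 (by norm_num)) : leechLattice) : GolayPt → ℤ) none % 2 = 1) := by
  have h : (fvec (word (bas 1)) none % 2 = 0) ∧ (dblHom (fvec (word (bas 1))) none % 4 = 2) := by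
    decide +kernel
  refine ⟨h.1, ?_⟩
  have e := congrFun (two_xi (fL (basC 1 (by norm_num)))) none
  change (2 : ℤ) * _ = dblHom (fvec (word (bas 1))) none at e
  change ((xiFun (fL (basC 1 (by norm_num))) : leechLattice) : GolayPt → ℤ) none % 2 = 1
  have := h.2
  omega

end CfsgLib.ThreeTransp.LeechXi
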