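import Cfsg.Agent.Lib.SmallGroups.Mathieu
import Cfsg.Agent.Lib.Sporadic.Sextets
import Cfsg.Agent.Lib.SmallGroups.MathieuSets

/-!
# The permutation module of the automorphism group of the Golay code
-/

set_option autoImplicit false

namespace CfsgLib.ThreeTransp.GolayModule

open Cfsg CfsgLib.SmallGroups.Golay CfsgLib.SmallGroups.GolayOctads CfsgLib.SmallGroups.M24Group
open CfsgLib.SmallGroups.MathieuSets

/-- A space of words closed under the coordinate permutations in `M24`. -/
def Inv (W : Submodule (ZMod 2) (GolayPt → ZMod 2)) : Prop :=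
  ∀ g ∈ M24, ∀ w ∈ W, (fun p => w (g p)) ∈ W

theorem inv_of_symm {W : Submodule (ZMod 2) (GolayPt → ZMod 2)}
    (hW : ∀ σ ∈ M24, ∀ w ∈ W, (fun p => w (σ.symm p)) ∈ W) : Inv W := fun g hg w hw => by
  simpa [Equiv.Perm.inv_def] using hW g⁻¹ (inv_mem hg) w hw

theorem comp_mem {g : Equiv.Perm GolayPt} (hg : g ∈ M24) {w : GolayPt → ZMod 2}
    (hw : w ∈ golayCode) : (fun p => w (g p)) ∈ golayCode := by
  obtain ⟨v, hv, e⟩ := smul_mem_supports (inv_mem hg)
    (S := support₂ w) ⟨w, hw, rfl⟩
  rw [← support₂_comp] at e
  exact support₂_injective e ▸ hv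

theorem inv_code : Inv golayCode := fun _ hg _ hw => comp_mem hg hw

theorem inv_sup {W W' : Submodule (ZMod 2) (GolayPt → ZMod 2)} (h : Inv W) (h' : Inv W') :
    Inv (W ⊔ W') := by
  intro g hg w hw
  obtain ⟨a, ha, b, hb, rfl⟩ := Submodule.mem_sup.1 hw
  exact Submodule.mem_sup.2 ⟨_, h g hg a ha, _, h' g hg b hb, rfl⟩

/-- The word of weight two (or zero) at two points. -/
def pairW (a b : GolayPt) : GolayPt → ZMod 2 := fun p =>
  (if p = a then 1 else 0) + (if p = b then 1 else 0)

theorem pairW_comp (g : Equiv.Perm GolayPt) (a b : GolayPt) :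
    (fun p => pairW (g a) (g b) (g p)) = pairW a b := by
  funext p
  simp [pairW]

theorem z2_facts : (∀ a : ZMod 2, a + a = 0) ∧ (∀ a b : ZMod 2, a - b = a + b) ∧
    ∀ a : ZMod 2, a = 0 ∨ a = 1 := by decide

theorem one_mem : (fun _ => 1 : GolayPt → ZMod 2) ∈ golayCode :=
  Submodule.subset_span (Or.inr rfl)

theorem mem_span_one {w : GolayPt → ZMod 2} :
    w ∈ Submodule.span (ZMod 2) {fun _ => (1 : ZMod 2)} ↔ ∀ p q, w p = w q := by
  rw [Submodule.mem_span_singleton]
  constructor
  · rintro ⟨c, rfl⟩ p q; rfl
  · intro h
    exact ⟨w none, funext fun p => by simp [h p none]⟩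

theorem even_le {W : Submodule (ZMod 2) (GolayPt → ZMod 2)} (h : ∀ a b, pairW a b ∈ W)
    {w : GolayPt → ZMod 2} (hw : ∑ p, w p = 0) : w ∈ W := by
  have e : w = ∑ p, w p • pairW p none := by
    funext q
    simp only [Finset.sum_apply, Pi.smul_apply, pairW, smul_eq_mul, mul_add, mul_ite, mul_one,
      mul_zero, Finset.sum_add_distrib, Finset.sum_ite_eq, Finset.mem_univ, if_true]
    split <;> simp [hw]
  rw [e]
  exact sum_mem fun p _ => Submodule.smul_mem _ _ (h p none)

/-- Outside the code an invariant space contains all pairs modulo the code. -/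
theorem pairs_mem {W : Submodule (ZMod 2) (GolayPt → ZMod 2)} (hW : Inv W) (hc : golayCode ≤ W)
    {w : GolayPt → ZMod 2} (hw : w ∈ W) (hwc : w ∉ golayCode) (a b : GolayPt) : pairW a b ∈ W := by
  classical
  obtain ⟨v, hv4, hwv⟩ := CfsgLib.Sporadic.Sextets.exists_leader w
  have hvW : v ∈ W := by
    have := sub_mem hw (hc hwv)
    rwa [sub_sub_cancel] at this
  set t := support₂ v with ht
  obtain ⟨x0, hx0⟩ : t.Nonempty := by
    rw [Finset.nonempty_iff_ne_empty]
    intro h0
    refine hwc ?_
    have : v = 0 := CfsgLib.Sporadic.Sextets.support₂_inj (h0.trans (by ext p; simp [support₂]))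
    rwa [this, sub_zero] at hwv
  obtain ⟨y, hy⟩ : ∃ y, y ∉ t := by
    by_contra hall
    push Not at hall
    have : t = Finset.univ := Finset.eq_univ_iff_forall.2 hall
    rw [this, Finset.card_univ] at hv4
    have h24 : Fintype.card GolayPt = 24 := rfl
    omega
  let x : Fin t.card → GolayPt := fun i => (t.equivFin.symm i : GolayPt)
  let z : Fin t.card → GolayPt := fun i => if x i = x0 then y else x i
  have hx : Function.Injective x := Subtype.val_injective.comp t.equivFin.symm.injective
  have hz : Function.Injective z := by
    intro i j e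
    have hi : x i ∈ t := (t.equivFin.symm i).2
    have hj : x j ∈ t := (t.equivFin.symm j).2
    simp only [z] at e
    split_ifs at e with h1 h2 h2
    · exact hx (h1.trans h2.symm)
    · exact absurd (e ▸ hj) hy
    · exact absurd (e ▸ hi) hy
    · exact hx e
  obtain ⟨g, hg, hgx⟩ := exists_map (show t.card ≤ 5 by omega) x z hx hz
  have hgt : ∀ p ∈ t, g p = if p = x0 then y else p := by
    intro p hp
    have := hgx (t.equivFin ⟨p, hp⟩)
    simp only [x, z, Equiv.symm_apply_apply] at this
    exact this
  have hy0 : pairW x0 y ∈ W := by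
    have h := add_mem hvW (hW g⁻¹ (inv_mem hg) v hvW)
    convert h using 1
    funext p
    have hvt : ∀ r, v r = if r ∈ t then 1 else 0 := fun r => by
      rcases z2_facts.2.2 (v r) with e | e <;> simp [ht, support₂, e]
    have himg : (g⁻¹ p ∈ t) ↔ (p ∈ t ∧ p ≠ x0) ∨ p = y := by
      constructor
      · intro h'
        have h'' := hgt _ h'
        rw [Equiv.Perm.coe_inv, Equiv.apply_symm_apply] at h''
        split_ifs at h'' with hc0
        · exact Or.inr h''
        · refine Or.inl ⟨h'' ▸ h', fun hc1 => hc0 ?_⟩
          rw [Equiv.Perm.coe_inv] at *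
          rw [← h'', hc1]
      · rintro (⟨hp, hne⟩ | rfl)
        · have := hgt p hp
          rw [if_neg hne] at this
          have e : g⁻¹ p = p := by
            conv_lhs => rw [← this]
            simp
          rwa [e]
        · have := hgt x0 hx0
          rw [if_pos rfl] at this
          rw [← this]
          simpa using hx0
    rw [Pi.add_apply, hvt p, hvt (g⁻¹ p)]
    simp only [himg]
    by_cases h1 : p = x0
    · subst h1
      have hne : p ≠ y := fun e => hy (e ▸ hx0)
      simp [pairW, hx0, himg, hne]
    · by_cases h2 : p = y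
      · subst h2
        simp [pairW, hy, himg, h1]
      · by_cases h3 : p ∈ t <;> simp [pairW, h1, h2, h3, himg, z2_facts.1]
  rcases eq_or_ne a b with rfl | hab
  · have : pairW a a = 0 := funext fun p => z2_facts.1 _
    rw [this]
    exact zero_mem _
  obtain ⟨k, hk, hkx⟩ := exists_map (n := 2) (by norm_num) ![a, b] ![x0, y]
    (by intro i j; fin_cases i <;> fin_cases j <;> simp [hab, Ne.symm hab])
    (by intro i j; fin_cases i <;> fin_cases j <;>
      simp [ne_of_mem_of_not_mem hx0 hy, (ne_of_mem_of_not_mem hx0 hy).symm])
  have e0 : k a = x0 := hkx 0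
  have e1 : k b = y := hkx 1
  have := hW k hk _ hy0
  rwa [← e0, ← e1, pairW_comp] at this

/-- The dot product. -/
def dotForm : LinearMap.BilinForm (ZMod 2) (GolayPt → ZMod 2) :=
  dotProductBilin (ZMod 2) (ZMod 2)

theorem dotForm_apply (v w : GolayPt → ZMod 2) : dotForm v w = ∑ p, v p * w p := rfl

theorem dotForm_nondegenerate : dotForm.Nondegenerate := by
  constructor <;> intro v h <;> funext p <;> have := h (Pi.single p 1) <;>
    simpa [dotForm_apply, Pi.single_apply] using this

theorem dotForm_refl : dotForm.IsRefl := fun v w h => by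
  simpa [dotForm_apply, mul_comm] using h

theorem inv_orth {W : Submodule (ZMod 2) (GolayPt → ZMod 2)} (hW : Inv W) :
    Inv (dotForm.orthogonal W) := by
  intro g hg x hx w hw
  have h := hx _ (hW g⁻¹ (inv_mem hg) w hw)
  change dotForm w (fun p => x (g p)) = 0
  rw [← h, dotForm_apply, dotForm_apply]
  exact (Equiv.sum_comp g⁻¹ _).symm.trans (Finset.sum_congr rfl fun p _ => by simp)

/-- An invariant subspace of the code is small or everything. -/
theorem le_code {W : Submodule (ZMod 2) (GolayPt → ZMod 2)} (hW : Inv W) (hWc : W ≤ golayCode) :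
    (∀ w ∈ W, ∀ p q, w p = w q) ∨ W = golayCode := by
  by_contra hne
  push Not at hne
  obtain ⟨⟨v, hv, a, b, hab⟩, hW'⟩ := hne
  have hcO : golayCode ≤ dotForm.orthogonal W := fun x hx w hw => dot_eq_zero (hWc hw) hx
  have hO : dotForm.orthogonal W = golayCode := by
    refine le_antisymm (fun x hx => ?_) hcO
    by_contra hxc
    have h := pairs_mem (inv_orth hW) hcO hx hxc a b v hv
    refine hab ?_
    rw [dotForm_apply] at h
    simp only [pairW, mul_add, mul_ite, mul_one, mul_zero, Finset.sum_add_distrib,
      Finset.sum_ite_eq', Finset.mem_univ, if_true] at h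
    revert h
    generalize v a = i
    generalize v b = j
    revert i j
    decide
  refine hW' (le_antisymm hWc ?_)
  rw [← LinearMap.BilinForm.orthogonal_orthogonal dotForm_nondegenerate dotForm_refl W, hO]
  exact fun x hx w hw => dot_eq_zero hw hx

/-- The invariant subspaces of the permutation module. -/
theorem classify {W : Submodule (ZMod 2) (GolayPt → ZMod 2)} (hW : Inv W) :
    W = ⊥ ∨ W = Submodule.span (ZMod 2) {fun _ => (1 : ZMod 2)} ∨ W = golayCode ∨
      (W : Set (GolayPt → ZMod 2)) = {w | ∑ p, w p = 0} ∨ W = ⊤ := by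
  classical
  by_cases hWc : W ≤ golayCode
  · rcases le_code hW hWc with h | h
    · by_cases hbot : W = ⊥
      · exact Or.inl hbot
      · refine Or.inr (Or.inl (le_antisymm (fun w hw => mem_span_one.2 (h w hw)) ?_))
        obtain ⟨w, hw, hw0⟩ := Submodule.exists_mem_ne_zero_of_ne_bot hbot
        rw [Submodule.span_singleton_le_iff_mem]
        have e : w = fun _ => (1 : ZMod 2) := funext fun p => (z2_facts.2.2 (w p)).resolve_left
          fun h0 => hw0 (funext fun q => (h w hw q p).trans h0)
        exact e ▸ hw
    · exact Or.inr (Or.inr (Or.inl h))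
  · obtain ⟨w, hw, hwc⟩ := SetLike.not_le_iff_exists.1 hWc
    have hsup : ∀ a b, pairW a b ∈ W ⊔ golayCode := pairs_mem (inv_sup hW inv_code) le_sup_right
      (Submodule.mem_sup_left hw) hwc
    have hcW : golayCode ≤ W := by
      have hI : Inv (W ⊓ golayCode) := fun g hg x hx => ⟨hW g hg x hx.1, comp_mem hg hx.2⟩
      rcases le_code hI inf_le_right with hsmall | h
      swap
      · exact h ▸ inf_le_left
      exfalso
      -- lifts of the pairs through `∞`
      have hlift : ∀ p, ∃ k : ZMod 2, pairW p none + (fun _ => k) ∈ W := by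
        intro p
        rcases eq_or_ne p none with rfl | hp
        · refine ⟨0, ?_⟩
          have : pairW (none : GolayPt) none + (fun _ => (0 : ZMod 2)) = 0 :=
            funext fun q => by simp [pairW, z2_facts.1]
          rw [this]
          exact zero_mem _
        obtain ⟨x, hx, c, hc, e⟩ := Submodule.mem_sup.1 (hsup p none)
        have hfix : ∀ g ∈ M24, g p = p → g none = none → ∀ q, c (g q) = c q := by
          intro g hg hgp hgn
          have hd : (fun q => c (g q)) + c ∈ W ⊓ golayCode := by
            refine ⟨?_, add_mem (comp_mem hg hc) hc⟩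
            have := add_mem (hW g hg x hx) hx
            suffices he : (fun q => c (g q)) + c = (fun q => x (g q)) + x by
              rw [he]; exact this
            have hx' : ∀ q, x q = pairW p none q + c q := fun q => by
              rw [← e, Pi.add_apply, add_assoc, z2_facts.1, add_zero]
            funext q
            simp only [Pi.add_apply, hx']
            have : pairW p none (g q) = pairW p none q := by
              conv_rhs => rw [← pairW_comp g p none, hgp, hgn]
            rw [this]
            generalize pairW p none q = i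
            generalize c (g q) = j
            generalize c q = l
            revert i j l
            decide
          intro q
          have h' := hsmall _ hd q p
          simp only [Pi.add_apply, hgp, z2_facts.1] at h'
          revert h'
          generalize c (g q) = j
          generalize c q = l
          revert j l
          decide
        have hex : ∀ r : GolayPt, ∃ q₀ : GolayPt, q₀ ≠ r ∧ q₀ ≠ none := by decide
        obtain ⟨q₀, hq₀⟩ := hex p
        have hconst : ∀ q, q ≠ p → q ≠ none → c q = c q₀ := by
          intro q hq1 hq2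
          obtain ⟨g, hg, hgx⟩ := exists_map (n := 3) (by norm_num) ![p, none, q₀] ![p, none, q]
            (by intro i j; fin_cases i <;> fin_cases j <;>
              simp [hp, Ne.symm hp, hq₀.1, hq₀.2, hq₀.1.symm, hq₀.2.symm])
            (by intro i j; fin_cases i <;> fin_cases j <;>
              simp [hp, Ne.symm hp, hq1, hq2, Ne.symm hq1, Ne.symm hq2])
          have e0 : g p = p := hgx 0
          have e1 : g none = none := hgx 1
          have e2 : g q₀ = q := hgx 2
          rw [← e2]
          exact hfix g hg e0 e1 q₀
        have hc0 : c + c q₀ • (fun _ => (1 : ZMod 2)) = 0 := by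
          refine CfsgLib.Sporadic.Sextets.small_weight_zero
            (add_mem hc (Submodule.smul_mem _ _ one_mem)) ?_
          refine lt_of_le_of_lt (Finset.card_le_card (t := {p, none}) fun q hq => ?_)
            (lt_of_le_of_lt Finset.card_le_two (by norm_num))
          by_contra hn
          simp only [Finset.mem_insert, Finset.mem_singleton, not_or] at hn
          simp [support₂, hconst q hn.1 hn.2, z2_facts.1] at hq
        refine ⟨c q₀, ?_⟩
        convert hx using 1
        funext q
        have h' := congrFun hc0 q
        have e' := congrFun e q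
        simp only [Pi.add_apply, Pi.smul_apply, smul_eq_mul, mul_one, Pi.zero_apply] at h' e' ⊢
        linear_combination h' - e'
      choose k hk using hlift
      set o : GolayPt → ZMod 2 := word octB with ho
      have hsum : (∑ p, o p • (pairW p none + fun _ => k p)) =
          o + fun _ => ∑ p, o p * k p := by
        funext q
        have hpar : ∑ p, o p = 0 := by rw [ho]; decide +kernel
        simp only [Finset.sum_apply, Pi.smul_apply, Pi.add_apply, pairW, smul_eq_mul, mul_add,
          mul_ite, mul_one, mul_zero, Finset.sum_add_distrib, Finset.sum_ite_eq, Finset.mem_univ,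
          if_true]
        split <;> simp [hpar]
      have hoc : o ∈ golayCode := by rw [ho]; exact mem_code_iff_isCW.2 (by decide +kernel)
      have hmem : o + (fun _ => ∑ p, o p * k p) ∈ W ⊓ golayCode := by
        refine ⟨hsum ▸ sum_mem fun p _ => Submodule.smul_mem _ _ (hk p), add_mem hoc ?_⟩
        have : (fun _ : GolayPt => ∑ p, o p * k p) =
            (∑ p, o p * k p) • (fun _ : GolayPt => (1 : ZMod 2)) := by funext q; simp
        rw [this]
        exact Submodule.smul_mem _ _ one_mem
      have h1 : ∀ p q : GolayPt, o p = o q := fun p q => by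
        simpa using hsmall _ hmem p q
      have h2 : ¬ ∀ p q : GolayPt, word octB p = word octB q := by decide +kernel
      exact h2 h1
    rw [sup_eq_left.2 hcW] at hsup
    by_cases hodd : ∃ x ∈ W, ∑ p, x p = 1
    · obtain ⟨x, hx, hx1⟩ := hodd
      refine Or.inr (Or.inr (Or.inr (Or.inr (eq_top_iff.2 fun y _ => ?_))))
      rcases z2_facts.2.2 (∑ p, y p) with h | h
      · exact even_le hsup h
      · have := even_le hsup (w := y + x) (by
          simp only [Pi.add_apply, Finset.sum_add_distrib, h, hx1, z2_facts.1])
        have := add_mem this hx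
        rwa [add_assoc, CharTwo.add_self_eq_zero, add_zero] at this
    · refine Or.inr (Or.inr (Or.inr (Or.inl (Set.ext fun y => ⟨fun hy => ?_, fun hy => even_le hsup hy⟩))))
      exact (z2_facts.2.2 (∑ p, y p)).resolve_right fun h => hodd ⟨y, hy, h⟩

end CfsgLib.ThreeTransp.GolayModule
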