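import Cfsg.Agent.Lib.ThreeTransp.LeechXi
import Cfsg.Agent.Lib.ThreeTransp.GolayModule

/-!
# The lattice modulo twice the lattice as a module
-/

set_option autoImplicit false

namespace CfsgLib.ThreeTransp.LeechModule

open Cfsg CfsgLib.SmallGroups.LeechBasic CfsgLib.SmallGroups.Golay CfsgLib.SmallGroups.GolayOctads
open CfsgLib.ThreeTransp.LeechGen CfsgLib.SmallGroups.M24Group

theorem smul_add' (g : Co0) (u v : leechLattice) : g • (u + v) = g • u + g • v := g.2.1 u v

/-- The action of an automorphism as an additive map. -/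
def actHom (g : Co0) : leechLattice →+ leechLattice := AddMonoidHom.mk' (g • ·) (smul_add' g)

theorem actHom_apply (g : Co0) (v : leechLattice) : actHom g v = g • v := rfl

/-- The word of the coordinates divided by `n`. -/
def patAt (n : ℤ) (x : leechLattice) : GolayPt → ZMod 2 := fun i =>
  ((((x : GolayPt → ℤ) i / n : ℤ)) : ZMod 2)

theorem patAt_add {n : ℤ} (x y : leechLattice) (h : ∀ i, n ∣ (x : GolayPt → ℤ) i) :
    patAt n (x + y) = patAt n x + patAt n y := by
  funext i
  simp only [patAt, AddSubgroup.coe_add, Pi.add_apply]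
  rw [Int.add_ediv_of_dvd_left (h i), Int.cast_add]

theorem hpat_mem {x : leechLattice} (h : ∀ i, (2 : ℤ) ∣ (x : GolayPt → ℤ) i) :
    patAt 2 x ∈ golayCode := by
  obtain ⟨m, h1, -, h3⟩ := mem_lattice.1 x.2
  have hm : (2 : ℤ) ∣ m - 0 := by
    have := (h1 none).dvd
    have := h none
    omega
  have e : patAt 2 x = wd (x : GolayPt → ℤ) 0 := funext fun i => by simp [patAt, wd]
  rw [e, wd_shift hm]
  exact add_mem h3 (Submodule.smul_mem _ _ CfsgLib.SmallGroups.LeechBasic.one_mem_code)

theorem eight_decomp {x : leechLattice} (h : ∀ i, (8 : ℤ) ∣ (x : GolayPt → ℤ) i) :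
    ∃ v : leechLattice, x = v + v + (∑ p, (x : GolayPt → ℤ) p / 8) • wL := by
  refine ⟨∑ p, ((x : GolayPt → ℤ) p / 8) • aL p, ?_⟩
  ext i
  simp only [AddSubgroup.coe_add, AddSubgroup.val_finsetSum, AddSubgroupClass.coe_zsmul,
    Pi.add_apply, Finset.sum_apply, Pi.smul_apply, smul_eq_mul, wL_apply]
  simp only [aL, avec, mul_sub, mul_ite, mul_zero, Finset.sum_sub_distrib, Finset.sum_ite_eq,
    Finset.mem_univ, if_true]
  have := Int.ediv_mul_cancel (h i)
  by_cases hi : i = none
  · simp only [hi, if_true, ← Finset.sum_mul] at *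
    omega
  · simp only [if_neg hi, Finset.sum_const_zero, sub_zero, add_zero]
    omega

/-- The orthogonal space of the code is the code. -/
theorem orth_code {z : GolayPt → ZMod 2} (hz : z ∉ golayCode) :
    ∃ v ∈ golayCode, ∑ p, v p * z p = 1 := by
  by_contra hall
  push Not at hall
  have hz' : z ∈ GolayModule.dotForm.orthogonal golayCode := fun v hv =>
    (GolayModule.z2_facts.2.2 (∑ p, v p * z p)).resolve_right (hall v hv)
  have h := GolayModule.pairs_mem (GolayModule.inv_orth GolayModule.inv_code)
    (fun x hx v hv => dot_eq_zero hv hx) hz' hz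
  have h2 : ∃ a b : GolayPt, word octB a = 1 ∧ word octB b = 0 := by decide +kernel
  obtain ⟨a, b, ha, hb⟩ := h2
  have h3 := h a b (word octB) (mem_code_iff_isCW.2 (by decide +kernel))
  rw [GolayModule.dotForm_apply] at h3
  simp only [GolayModule.pairW, mul_add, mul_ite, mul_one, mul_zero, Finset.sum_add_distrib,
    Finset.sum_ite_eq', Finset.mem_univ, if_true, ha, hb, add_zero, one_ne_zero] at h3

variable (S : AddSubgroup leechLattice) (hdbl : ∀ v, v + v ∈ S)
  (hinv : ∀ (g : Co0) (v : leechLattice), v ∈ S → g • v ∈ S)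

include hdbl in
theorem w_of_eight {x : leechLattice} (h : ∀ i, (8 : ℤ) ∣ (x : GolayPt → ℤ) i) (hx : x ∈ S)
    (hodd : ¬ (2 : ℤ) ∣ ∑ p, (x : GolayPt → ℤ) p / 8) : wL ∈ S := by
  obtain ⟨v, e⟩ := eight_decomp h
  obtain ⟨l, hl⟩ : ∃ l, (∑ p, (x : GolayPt → ℤ) p / 8) = l + l + 1 :=
    ⟨(∑ p, (x : GolayPt → ℤ) p / 8) / 2, by omega⟩
  rw [hl, add_zsmul, add_zsmul, one_zsmul] at e
  have h1 : wL = x - (v + v) - (l • wL + l • wL) := by rw [e]; abel
  rw [h1]
  exact sub_mem (sub_mem hx (hdbl v)) (hdbl _)

include hdbl hinv in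
theorem w_of_four {x : leechLattice} (h4 : ∀ i, (4 : ℤ) ∣ (x : GolayPt → ℤ) i) (hx : x ∈ S)
    (hnd : ∀ v, x ≠ v + v) : wL ∈ S := by
  by_cases hz : patAt 4 x ∈ golayCode
  · set f := fL ⟨_, hz⟩ with hf
    have h8 : ∀ i, (8 : ℤ) ∣ ((x - (f + f) : leechLattice) : GolayPt → ℤ) i := fun i => by
      simp only [AddSubgroupClass.coe_sub, AddSubgroup.coe_add, Pi.sub_apply, Pi.add_apply, hf, fL,
        fvec, patAt]
      rw [ZMod.val_intCast]
      have := h4 i
      norm_num
      omega
    by_cases hodd : (2 : ℤ) ∣ ∑ p, ((x - (f + f) : leechLattice) : GolayPt → ℤ) p / 8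
    · obtain ⟨l, hl⟩ := hodd
      obtain ⟨v, e⟩ := eight_decomp h8
      rw [hl, mul_zsmul, two_zsmul] at e
      exact absurd (by rw [eq_add_of_sub_eq e]; abel : x = (v + l • wL + f) + (v + l • wL + f))
        (hnd _)
    · exact w_of_eight S hdbl h8 (sub_mem hx (hdbl f)) hodd
  · obtain ⟨v, hv, hodd⟩ := orth_code hz
    set d := sign ⟨v, hv⟩ • x - x with hd
    have hcoord : ∀ i, (d : GolayPt → ℤ) i =
        if v i = 0 then 0 else -2 * (x : GolayPt → ℤ) i := fun i => by
      rw [hd, AddSubgroupClass.coe_sub, Pi.sub_apply, LeechGen.sign_apply]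
      by_cases h : v i = 0
      · simp [h]
      · simp only [h, if_false]; ring
    refine w_of_eight S hdbl (x := d) (fun i => ?_) (sub_mem (hinv _ _ hx) hx) fun heven => ?_
    · rw [hcoord]
      have := h4 i
      split_ifs <;> omega
    · have h0 := (ZMod.intCast_zmod_eq_zero_iff_dvd _ 2).2 heven
      rw [Int.cast_sum] at h0
      refine one_ne_zero (α := ZMod 2) ?_
      rw [← hodd, ← h0]
      refine Finset.sum_congr rfl fun i _ => ?_
      have := h4 i
      rw [hcoord]
      rcases GolayModule.z2_facts.2.2 (v i) with h | h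
      · simp [h]
      · rw [h, if_neg one_ne_zero, one_mul, patAt, ZMod.intCast_eq_intCast_iff_dvd_sub]
        omega

theorem and_not_code_list : cw.all (fun c => c == 0 || c == 2 ^ 24 - 1 ||
    (List.range 12).any fun j => !isCW (c &&& bas j)) = true := by
  decide +kernel

theorem and_not_code : ∀ k < 4096, enc k = 0 ∨ enc k = 2 ^ 24 - 1 ∨
    ∃ j < 12, isCW (enc k &&& bas j) = false := by
  intro k hk
  have h := List.all_eq_true.1 and_not_code_list _ (mem_cw.2 ⟨k, hk, rfl⟩)
  simp only [Bool.or_eq_true, beq_iff_eq, List.any_eq_true, List.mem_range, Bool.not_eq_true'] at h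
  exact or_assoc.1 h

include hdbl hinv in
theorem w_mem {x : leechLattice} (hx : x ∈ S) (hnd : ∀ v, x ≠ v + v) : wL ∈ S := by
  -- an element with a proper word of halves
  have hproper : ∀ x' : leechLattice, x' ∈ S → (∀ i, (2 : ℤ) ∣ (x' : GolayPt → ℤ) i) →
      ∀ j, j < 12 → isCW (mask (patAt 2 x') &&& bas j) = false → wL ∈ S := by
    intro x' hx' h2 j hj hcw
    set C : golayCode := basC j hj with hC
    set d := sign C • x' - x' with hd
    have hcoord : ∀ i, (d : GolayPt → ℤ) i =
        if word (bas j) i = 0 then 0 else -2 * (x' : GolayPt → ℤ) i := fun i => by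
      rw [hd, AddSubgroupClass.coe_sub, Pi.sub_apply, LeechGen.sign_apply]
      change (if word (bas j) i = 0 then _ else _) - _ = _
      by_cases h : word (bas j) i = 0
      · simp [h]
      · simp only [h, if_false]; ring
    have h4 : ∀ i, (4 : ℤ) ∣ (d : GolayPt → ℤ) i := fun i => by
      rw [hcoord]
      have := h2 i
      split_ifs <;> omega
    have hpat : patAt 4 d = word (mask (patAt 2 x') &&& bas j) := by
      funext i
      have e : word (mask (patAt 2 x') &&& bas j) i = patAt 2 x' i * word (bas j) i := by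
        conv_rhs => rw [← word_mask (patAt 2 x')]
        simp only [word, Nat.testBit_and]
        cases (mask (patAt 2 x')).testBit (idx i) <;> cases (bas j).testBit (idx i) <;> simp
      rw [e]
      simp only [patAt, hcoord]
      have := h2 i
      rcases GolayModule.z2_facts.2.2 (word (bas j) i) with h | h
      · simp [h]
      · rw [h, if_neg one_ne_zero, mul_one, ZMod.intCast_eq_intCast_iff_dvd_sub]
        omega
    refine w_of_four S hdbl hinv h4 (sub_mem (hinv _ _ hx') hx') fun v hv => ?_
    have hvv : ∀ i, (d : GolayPt → ℤ) i = 2 * (v : GolayPt → ℤ) i := fun i => by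
      rw [hv, AddSubgroup.coe_add, Pi.add_apply]; ring
    have e : patAt 4 d = patAt 2 v := funext fun i => by
      simp only [patAt, hvv]
      have := h4 i
      rw [hvv] at this
      congr 1
      omega
    have hmem : patAt 4 d ∈ golayCode := e ▸ hpat_mem fun i => by
      have := h4 i
      rw [hvv] at this
      omega
    rw [hpat, mem_code_iff_isCW, mask_word (Nat.and_lt_two_pow _ (cwOfWeight_lt' j hj)), hcw] at hmem
    exact Bool.noConfusion hmem
  by_cases hev : ∀ i, (2 : ℤ) ∣ (x : GolayPt → ℤ) i
  · obtain ⟨k, hk, e⟩ := mem_code_iff.1 (hpat_mem hev)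
    have em : mask (patAt 2 x) = enc k := by rw [← e, mask_word (enc_lt k hk).1]
    rcases and_not_code k hk with h | h | ⟨j, hj, hcw⟩
    · refine w_of_four S hdbl hinv (fun i => ?_) hx hnd
      have h1 := congrFun e i
      rw [h, word_zero] at h1
      have h2 := (cast_half (hev i)).1 h1.symm
      exact h2
    · refine w_of_four S hdbl hinv (x := x - (nuL + nuL)) (fun i => ?_) (sub_mem hx (hdbl _))
        fun v hv => hnd (v + nuL) (by rw [eq_add_of_sub_eq hv]; abel)
      have h1 := congrFun e i
      rw [h] at h1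
      have hall : ∀ q : GolayPt, word (2 ^ 24 - 1) q = 1 := by decide +kernel
      have h1' : patAt 2 x i = 1 := by rw [← h1]; exact hall i
      simp only [patAt] at h1'
      rw [show (1 : ZMod 2) = ((1 : ℤ) : ZMod 2) from rfl,
        ZMod.intCast_eq_intCast_iff_dvd_sub] at h1'
      simp only [AddSubgroupClass.coe_sub, AddSubgroup.coe_add, Pi.sub_apply, Pi.add_apply, nuL,
        nuVec]
      have := hev i
      split_ifs <;> omega
    · exact hproper x hx hev j hj (em ▸ hcw)
  · -- an odd vector gives the word of a basis octad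
    set C : golayCode := basC 0 (by norm_num) with hC
    set d := sign C • x - x with hd
    obtain ⟨m, h1, -, -⟩ := mem_lattice.1 x.2
    have hodd : ∀ i, ¬ (2 : ℤ) ∣ (x : GolayPt → ℤ) i := fun i hi => hev fun j => by
      have := (h1 i).dvd
      have := (h1 j).dvd
      omega
    have hcoord : ∀ i, (d : GolayPt → ℤ) i =
        if word (bas 0) i = 0 then 0 else -2 * (x : GolayPt → ℤ) i := fun i => by
      rw [hd, AddSubgroupClass.coe_sub, Pi.sub_apply, LeechGen.sign_apply]
      change (if word (bas 0) i = 0 then _ else _) - _ = _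
      by_cases h : word (bas 0) i = 0
      · simp [h]
      · simp only [h, if_false]; ring
    have hpat : patAt 2 d = word (bas 0) := funext fun i => by
      simp only [patAt, hcoord]
      have := hodd i
      rcases GolayModule.z2_facts.2.2 (word (bas 0) i) with h | h
      · simp [h]
      · rw [h, if_neg one_ne_zero, show (1 : ZMod 2) = ((1 : ℤ) : ZMod 2) from rfl,
          ZMod.intCast_eq_intCast_iff_dvd_sub]
        omega
    have hj : ∃ j < 12, isCW (mask (word (bas 0)) &&& bas j) = false := by decide +kernel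
    obtain ⟨j, hj, hcw⟩ := hj
    refine hproper d (sub_mem (hinv _ _ hx) hx) (fun i => ?_) j hj (by rwa [hpat])
    rw [hcoord]
    split_ifs <;> omega
where
  cwOfWeight_lt' (j : ℕ) (hj : j < 12) : bas j < 2 ^ 24 := by
    interval_cases j <;> decide

/-- The words at level `4` of an invariant subgroup. -/
def level (n : ℤ) : Submodule (ZMod 2) (GolayPt → ZMod 2) where
  carrier := {z | ∃ x ∈ S, (∀ i, n ∣ (x : GolayPt → ℤ) i) ∧ patAt n x = z}
  zero_mem' := ⟨0, zero_mem _, fun i => by simp, funext fun i => by simp [patAt]⟩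
  add_mem' := by
    rintro a b ⟨x, hx, hxn, rfl⟩ ⟨y, hy, hyn, rfl⟩
    exact ⟨x + y, add_mem hx hy, fun i => dvd_add (hxn i) (hyn i), patAt_add x y hxn⟩
  smul_mem' := by
    rintro c z ⟨x, hx, hxn, rfl⟩
    rcases GolayModule.z2_facts.2.2 c with rfl | rfl
    · exact ⟨0, zero_mem _, fun i => by simp, funext fun i => by simp [patAt]⟩
    · exact ⟨x, hx, hxn, (one_smul _ _).symm⟩

include hinv in
theorem level_inv (n : ℤ) : GolayModule.Inv (level S n) := by
  rintro g hg z ⟨x, hx, hxn, rfl⟩
  exact ⟨perm g hg • x, hinv _ _ hx, fun i => hxn (g i), rfl⟩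

theorem xi_apply (v : leechLattice) (i : GolayPt) :
    2 * ((LeechXi.xi • v : leechLattice) : GolayPt → ℤ) i = LeechXi.dblHom (v : GolayPt → ℤ) i :=
  congrFun (LeechXi.two_xi v) i

include hdbl hinv in
/-- An invariant subgroup containing twice the lattice is that or everything. -/
theorem eq_top {x : leechLattice} (hx : x ∈ S) (hnd : ∀ v, x ≠ v + v) (y : leechLattice) :
    y ∈ S := by
  have hw := w_mem S hdbl hinv hx hnd
  have h8S : ∀ u : leechLattice, (∀ i, (8 : ℤ) ∣ (u : GolayPt → ℤ) i) → u ∈ S := fun u hu => by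
    obtain ⟨v, e⟩ := eight_decomp hu
    rw [e]
    exact add_mem (hdbl v) (zsmul_mem hw _)
  have hcl : golayCode ≤ level S 4 := fun z hz =>
    ⟨fL ⟨z, hz⟩ + fL ⟨z, hz⟩, hdbl _, fun i => by
      change (4 : ℤ) ∣ 2 * ((z i).val : ℤ) + 2 * ((z i).val : ℤ)
      omega, funext fun i => by
      change (((2 * ((z i).val : ℤ) + 2 * ((z i).val : ℤ)) / 4 : ℤ) : ZMod 2) = z i
      rw [show (2 * ((z i).val : ℤ) + 2 * ((z i).val : ℤ)) / 4 = ((z i).val : ℤ) by omega,
        Int.cast_natCast, ZMod.natCast_zmod_val]⟩
  have hx4 : ∀ i : GolayPt, (8 : ℤ) ∣ LeechXi.dblHom (fun i => if i = none then 8 else 0) i := by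
    decide +kernel
  have hzc : isCW (mask fun i => (((LeechXi.dblHom (fun i => if i = none then 8 else 0) i / 2) / 4
      : ℤ) : ZMod 2)) = false := by decide +kernel
  have hz0 : patAt 4 (LeechXi.xi • wL) ∈ level S 4 := by
    refine ⟨_, hinv _ _ hw, fun i => ?_, rfl⟩
    have h := xi_apply wL i
    rw [funext wL_apply] at h
    have := hx4 i
    omega
  have hnc : patAt 4 (LeechXi.xi • wL) ∉ golayCode := by
    intro hc
    rw [mem_code_iff_isCW] at hc
    have e : patAt 4 (LeechXi.xi • wL) = fun i =>
        (((LeechXi.dblHom (fun i => if i = none then 8 else 0) i / 2) / 4 : ℤ) : ZMod 2) := by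
      funext i
      have h := xi_apply wL i
      rw [funext wL_apply] at h
      simp only [patAt]
      congr 2
      omega
    rw [e, hzc] at hc
    exact Bool.noConfusion hc
  have ha : ∀ p, aL p ∈ S := by
    intro p
    obtain ⟨u, hu, hu4, e⟩ := GolayModule.pairs_mem (level_inv S hinv 4) hcl hz0 hnc p none
    have h := h8S (u - aL p) fun i => by
      have h1 := congrFun e i
      have hp : GolayModule.pairW p none i = (((avec p i / 4 : ℤ)) : ZMod 2) := by
        simp only [GolayModule.pairW, avec]
        split_ifs <;> decide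
      rw [hp] at h1
      simp only [patAt, ZMod.intCast_eq_intCast_iff_dvd_sub] at h1
      simp only [AddSubgroupClass.coe_sub, Pi.sub_apply, aL]
      have h4a : (4 : ℤ) ∣ avec p i := by simp only [avec]; split_ifs <;> omega
      have := hu4 i
      omega
    have := sub_mem hu h
    rwa [sub_sub_cancel] at this
  have h4S : ∀ u : leechLattice, (∀ i, (4 : ℤ) ∣ (u : GolayPt → ℤ) i) → u ∈ S := fun u hu =>
    four_decomp S ha hw hu
  have heven : ∀ u : leechLattice, (∀ i, (2 : ℤ) ∣ (u : GolayPt → ℤ) i) → u ∈ S := by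
    have hle : level S 2 ≤ golayCode := by
      rintro _ ⟨u, -, hu, rfl⟩
      exact hpat_mem hu
    have hp : (∀ i : GolayPt, (4 : ℤ) ∣ LeechXi.dblHom (avec (some 4)) i) ∧
        (∃ i j : GolayPt, ((LeechXi.dblHom (avec (some 4)) i / 4 : ℤ) : ZMod 2) ≠
          ((LeechXi.dblHom (avec (some 4)) j / 4 : ℤ) : ZMod 2)) := by
      decide +kernel
    have hcode : level S 2 = golayCode := by
      rcases GolayModule.le_code (level_inv S hinv 2) hle with h | h
      swap
      · exact h
      exfalso
      obtain ⟨hdiv, i, j, hij⟩ := hp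
      have hmem : patAt 2 (LeechXi.xi • aL (some 4)) ∈ level S 2 := ⟨_, hinv _ _ (ha _), fun q => by
        have h := xi_apply (aL (some 4)) q
        have := hdiv q
        change _ = LeechXi.dblHom (avec (some 4)) q at h
        omega, rfl⟩
      refine hij ?_
      have e : ∀ q, ((LeechXi.dblHom (avec (some 4)) q / 4 : ℤ) : ZMod 2) =
          patAt 2 (LeechXi.xi • aL (some 4)) q := fun q => by
        have h := xi_apply (aL (some 4)) q
        change _ = LeechXi.dblHom (avec (some 4)) q at h
        simp only [patAt]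
        congr 1
        omega
      rw [e, e]
      exact h _ hmem i j
    intro u hu
    obtain ⟨v, hv, hv2, e⟩ : patAt 2 u ∈ level S 2 := hcode.symm ▸ hpat_mem hu
    have h := h4S (u - v) fun i => by
      have h1 := congrFun e i
      simp only [patAt, ZMod.intCast_eq_intCast_iff_dvd_sub] at h1
      simp only [AddSubgroupClass.coe_sub, Pi.sub_apply]
      have := hu i
      have := hv2 i
      omega
    have := add_mem h hv
    rwa [sub_add_cancel] at this
  have hf : ∀ k (hk : k < 12), fL (basC k hk) ∈ S := fun k hk => heven _ fun i => by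
    change (2 : ℤ) ∣ 2 * _
    exact dvd_mul_right _ _
  refine gen_induction S ha hw ?_ hf y
  obtain ⟨-, h1⟩ := LeechXi.xi_moves_parity
  set u := LeechXi.xi • fL (basC 1 (by norm_num)) with hu
  have h := heven (u - nuL) fun i => by
    obtain ⟨m, hm, -, -⟩ := mem_lattice.1 u.2
    have := (hm i).dvd
    have := (hm none).dvd
    simp only [AddSubgroupClass.coe_sub, Pi.sub_apply, nuL, nuVec]
    split_ifs <;> omega
  have := sub_mem (hinv LeechXi.xi _ (hf 1 (by norm_num))) h
  rwa [← hu, sub_sub_cancel] at this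

/-- An automorphism trivial modulo two is a sign. -/
theorem trivial_mod_two (g : Co0)
    (hg : ∀ v : leechLattice, ∃ w : leechLattice, g • v - v = w + w) :
    (∀ v : leechLattice, g • v = v) ∨ ∀ v : leechLattice, g • v = -v := by
  let E : GolayPt → leechLattice := CfsgLib.SmallGroups.LeechCenter.unitVec
  have hE : ∀ p i, (E p : GolayPt → ℤ) i = if i = p then 8 else 0 := fun p i => by
    simp [E, CfsgLib.SmallGroups.LeechCenter.unitVec, Pi.single_apply]
  have hmin : ∀ u : leechLattice, sqNorm (u : GolayPt → ℤ) = 32 → g • u = u ∨ g • u = -u := by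
    intro u hu
    by_cases heq : g • u = u
    · exact Or.inl heq
    obtain ⟨w, hw⟩ := hg u
    have hn : sqNorm ((g • u : leechLattice) : GolayPt → ℤ) = 32 := (g.2.2 u).trans hu
    rcases LeechShort.short_congr (v := ((g • u : leechLattice) : GolayPt → ℤ)) u.2
        (fun h => heq (Subtype.ext h)) (by omega) (by omega)
        ⟨(w : GolayPt → ℤ), w.2, by rw [← AddSubgroupClass.coe_sub, hw, AddSubgroup.coe_add, two_nsmul]⟩
      with h | ⟨h, -, -⟩
    · exact Or.inr (Subtype.ext (by rw [h, AddSubgroup.coe_neg]))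
    · omega
  have hpair : ∀ p q, p ≠ q → ∃ u1 u2 : leechLattice, E p = u1 + u2 ∧ E q = u1 - u2 ∧
      (g • u1 = u1 ∨ g • u1 = -u1) ∧ (g • u2 = u2 ∨ g • u2 = -u2) := by
    intro p q hpq
    have hn : ∀ i, ((aL p + aL q + wL : leechLattice) : GolayPt → ℤ) i =
        (if i = p then 4 else 0) + (if i = q then 4 else 0) := fun i => by
      simp only [AddSubgroup.coe_add, Pi.add_apply, aL, avec, wL_apply]
      split_ifs <;> omega
    have hn' : ∀ i, ((aL p - aL q : leechLattice) : GolayPt → ℤ) i =
        (if i = p then 4 else 0) - (if i = q then 4 else 0) := fun i => by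
      simp only [AddSubgroupClass.coe_sub, Pi.sub_apply, aL, avec]
      ring
    refine ⟨aL p + aL q + wL, aL p - aL q, ?_, ?_, hmin _ ?_, hmin _ ?_⟩
    · ext i
      rw [AddSubgroup.coe_add, Pi.add_apply, hn, hn', hE]
      split_ifs <;> omega
    · ext i
      rw [AddSubgroupClass.coe_sub, Pi.sub_apply, hn, hn', hE]
      split_ifs <;> omega
    · have e : ∀ i, ((if i = p then (4 : ℤ) else 0) + (if i = q then 4 else 0)) ^ 2 =
          (if i = p then 16 else 0) + (if i = q then 16 else 0) := fun i => by
        split_ifs with h1 h2 <;> first | omega | (exact absurd (h1.symm.trans h2) hpq)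
      simp [sqNorm, hn, e, Finset.sum_add_distrib]
    · have e : ∀ i, ((if i = p then (4 : ℤ) else 0) - (if i = q then 4 else 0)) ^ 2 =
          (if i = p then 16 else 0) + (if i = q then 16 else 0) := fun i => by
        split_ifs with h1 h2 <;> first | omega | (exact absurd (h1.symm.trans h2) hpq)
      simp [sqNorm, hn', e, Finset.sum_add_distrib]
  -- each frame vector goes to plus or minus itself
  have hframe : ∀ p, g • E p = E p ∨ g • E p = -E p := by
    intro p
    have hex : ∀ r : GolayPt, ∃ q s : GolayPt, r ≠ q ∧ r ≠ s ∧ q ≠ s := by decide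
    obtain ⟨q, s, hpq, hps, hqs⟩ := hex p
    have hcase : ∀ q, p ≠ q → g • E p = E p ∨ g • E p = -E p ∨ g • E p = E q ∨ g • E p = -E q := by
      intro q hq
      obtain ⟨u1, u2, e1, e2, h1, h2⟩ := hpair p q hq
      rw [e1, e2, smul_add']
      rcases h1 with h1 | h1 <;> rcases h2 with h2 | h2 <;> rw [h1, h2]
      · exact Or.inl rfl
      · exact Or.inr (Or.inr (Or.inl (by abel)))
      · exact Or.inr (Or.inr (Or.inr (by abel)))
      · exact Or.inr (Or.inl (by abel))
    have key : ∀ a : leechLattice, (a = E q ∨ a = -E q) → (a = E s ∨ a = -E s) → False := by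
      intro a ha hb
      have hq : (a : GolayPt → ℤ) q ≠ 0 := by
        rcases ha with rfl | rfl <;> simp [hE]
      rcases hb with rfl | rfl <;> simp [hE, hqs] at hq
    rcases hcase q hpq with h | h | h | h
    · exact Or.inl h
    · exact Or.inr h
    all_goals
      rcases hcase s hps with h' | h' | h' | h'
      · exact Or.inl h'
      · exact Or.inr h'
      · exact (key (g • E p) (by tauto) (by tauto)).elim
      · exact (key (g • E p) (by tauto) (by tauto)).elim
  -- one sign
  have hsame : ∀ p q, g • E p = E p → g • E q = E q := by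
    intro p q hp
    rcases hframe q with h | h
    · exact h
    rcases eq_or_ne p q with rfl | hpq
    · exact hp
    obtain ⟨u1, u2, e1, e2, h1, -⟩ := hpair p q hpq
    have e : g • (u1 + u1) = E p - E q := by
      rw [show u1 + u1 = E p + E q by rw [e1, e2]; abel, smul_add', hp, h, sub_eq_add_neg]
    rw [smul_add'] at e
    have hp' := congrFun (congrArg Subtype.val e) p
    have hq' := congrFun (congrArg Subtype.val e) q
    have hu1 : ∀ i, 2 * (u1 : GolayPt → ℤ) i = (if i = p then 8 else 0) + (if i = q then 8 else 0) :=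
      fun i => by
        have := congrFun (congrArg Subtype.val e1) i
        have := congrFun (congrArg Subtype.val e2) i
        simp only [AddSubgroup.coe_add, AddSubgroupClass.coe_sub, Pi.add_apply, Pi.sub_apply, hE] at *
        omega
    have a := hu1 p
    have b := hu1 q
    rcases h1 with h1 | h1 <;> rw [h1] at hp' hq' <;>
      simp [hE, hpq, hpq.symm] at hp' hq' a b <;> omega
  have hlin : ∀ v : leechLattice, (8 : ℤ) • v = ∑ p, (v : GolayPt → ℤ) p • E p := fun v => by
    ext i
    simp only [AddSubgroupClass.coe_zsmul, AddSubgroup.val_finsetSum, Pi.smul_apply,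
      Finset.sum_apply, smul_eq_mul, hE, mul_ite, mul_zero, Finset.sum_ite_eq, Finset.mem_univ,
      if_true]
    ring
  have hcancel : ∀ a b : leechLattice, (8 : ℤ) • a = (8 : ℤ) • b → a = b := fun a b h => by
    refine Subtype.ext (smul_right_injective (GolayPt → ℤ) (by norm_num : (8 : ℤ) ≠ 0) ?_)
    exact congrArg Subtype.val h
  rcases hframe none with h | h
  · refine Or.inl fun v => hcancel _ _ ?_
    rw [← actHom_apply, ← map_zsmul, hlin, map_sum]
    exact Finset.sum_congr rfl fun p _ => by
      rw [map_zsmul, actHom_apply, hsame none p h]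
  · refine Or.inr fun v => hcancel _ _ ?_
    rw [← actHom_apply, ← map_zsmul, smul_neg, hlin, map_sum, ← Finset.sum_neg_distrib]
    refine Finset.sum_congr rfl fun p _ => ?_
    rw [map_zsmul, actHom_apply, ← smul_neg]
    refine congrArg _ ((hframe p).resolve_left fun hp => ?_)
    have := (hsame p none hp).symm.trans h
    have h0 := congrFun (congrArg Subtype.val this) none
    simp [hE] at h0

theorem central_of_trivial (g : Co0)
    (hg : ∀ v : leechLattice, ∃ w : leechLattice, g • v - v = w + w) : g ∈ Subgroup.center Co0 := by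
  rw [Subgroup.mem_center_iff]
  intro h
  apply Subtype.ext
  apply Equiv.ext
  intro v
  change h • (g • v) = g • (h • v)
  rcases trivial_mod_two g hg with e | e
  · rw [e, e]
  · rw [e, e, ← actHom_apply, map_neg, actHom_apply]

end CfsgLib.ThreeTransp.LeechModule
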