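import Cfsg.Agent.Lib.ThreeTransp.Width
import Cfsg.Agent.Lib.Involution.Basic

/-! Members of a set of 3-transpositions inside a 2-group commute; commuting members lie in a
common 2-group. -/

namespace CfsgLib.ThreeTransp.SylowWidth

variable {G : Type*} [Group G] {D : Set G}

theorem commute_of_two_group (hS : Cfsg.IsThreeTranspositionSet D) {S : Subgroup G}
    (hp : IsPGroup 2 S) {a b : G} (ha : a ∈ D) (hb : b ∈ D) (haS : a ∈ S) (hbS : b ∈ S) :
    Commute a b := by
  rcases Basic.mul_cases hS ha hb with h | h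
  · exact h
  · exfalso
    obtain ⟨k, hk⟩ := hp ⟨_, S.mul_mem haS hbS⟩
    have h1 : orderOf (a * b) ∣ 2 ^ k :=
      orderOf_dvd_of_pow_eq_one (by simpa using congrArg Subtype.val hk)
    rw [h] at h1
    have := Nat.Prime.dvd_of_dvd_pow Nat.prime_three h1
    omega

theorem isPGroup_closure [Finite G] {E : Set G} (h2 : ∀ e ∈ E, orderOf e = 2)
    (hc : ∀ a ∈ E, ∀ b ∈ E, Commute a b) : IsPGroup 2 (Subgroup.closure E) := by
  haveI := Subgroup.isMulCommutative_closure (k := E) (fun a ha b hb => (hc a ha b hb).eq)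
  rintro ⟨x, hx⟩
  refine ⟨1, Subtype.ext ?_⟩
  show x ^ 2 = 1
  induction hx using Subgroup.closure_induction with
  | mem e he => rw [← h2 e he]; exact pow_orderOf_eq_one e
  | one => exact one_pow 2
  | mul x y hx hy ihx ihy =>
    have : Commute x y := congrArg Subtype.val (mul_comm' (⟨x, hx⟩ : Subgroup.closure E) ⟨y, hy⟩)
    rw [this.mul_pow, ihx, ihy, one_mul]
  | inv x hx ih => rw [inv_pow, ih, inv_one]

theorem width_eq [Finite G] (hS : Cfsg.IsThreeTranspositionSet D)
    (hconj : ∀ g : G, ∀ d ∈ D, g * d * g⁻¹ ∈ D) (T : Sylow 2 G) :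
    {d : G | d ∈ D ∧ d ∈ T}.ncard = Cfsg.commutingWidth D := by
  haveI : Fact (Nat.Prime 2) := ⟨Nat.prime_two⟩
  refine le_antisymm (Width.le_width (fun x hx => hx.1) fun a ha b hb =>
    commute_of_two_group hS T.isPGroup' ha.1 hb.1 ha.2 hb.2) ?_
  obtain ⟨E, hE, hc, hcard⟩ := Width.exists_max D
  obtain ⟨g, hg⟩ := CfsgLib.Involution.Basic.exists_conj_le T
    (isPGroup_closure (fun e he => hS.1 e (hE he)) hc)
  rw [← hcard, ← Set.ncard_image_of_injective E (MulAut.conj g).injective]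
  refine Set.ncard_le_ncard ?_
  rintro _ ⟨e, he, rfl⟩
  exact ⟨hconj g e (hE he), hg e (Subgroup.subset_closure he)⟩

end CfsgLib.ThreeTransp.SylowWidth
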