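import Mathlib

/-!
Recognition of the symmetric group of degree five from four generating involutions with the
braid and commutation relations of a chain.
-/

set_option autoImplicit false

namespace CfsgLib.ThreeTransp.PermFive

variable {G : Type*} [Group G]

/-- A finite set of right translates closed under the generators bounds the generated subgroup. -/
theorem card_le_step [Finite G] (H : Subgroup G) (S R : Set G) (hone : (1 : G) ∈ R)
    (hR : ∀ r ∈ R, ∀ g ∈ S, ∃ h ∈ H, ∃ r' ∈ R, r * g = h * r') :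
    Nat.card (Subgroup.closure S) ≤ Nat.card H * R.ncard := by
  classical
  have hT : ∀ g ∈ Subgroup.closure S, ∃ h ∈ H, ∃ r ∈ R, g = h * r := by
    intro g hg
    rw [← Subgroup.mem_toSubmonoid, Subgroup.closure_toSubmonoid_of_finite] at hg
    induction hg using Submonoid.closure_induction_right with
    | one => exact ⟨1, one_mem H, 1, hone, (one_mul 1).symm⟩
    | mul_right x _ y hy ih =>
      obtain ⟨h, hh, r, hr, rfl⟩ := ih
      obtain ⟨h', hh', r', hr', e⟩ := hR r hr y hy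
      exact ⟨h * h', mul_mem hh hh', r', hr', by rw [mul_assoc, e, ← mul_assoc]⟩
  rw [← Nat.card_coe_set_eq R, ← Nat.card_prod]
  refine Nat.card_le_card_of_surjective
    (fun p : ↥H × ↥R => if hm : (p.1 : G) * p.2 ∈ Subgroup.closure S then ⟨_, hm⟩ else 1) ?_
  rintro ⟨g, hg⟩
  obtain ⟨h, hh, r, hr, rfl⟩ := hT g hg
  exact ⟨(⟨h, hh⟩, ⟨r, hr⟩), by simp [hg]⟩

theorem card_chain [Finite G] {a b c e : G} (aa : a * a = 1) (bb : b * b = 1) (cc : c * c = 1) (ee : e * e = 1)
    (hab : a * b * a = b * a * b) (hbc : b * c * b = c * b * c) (hce : c * e * c = e * c * e)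
    (hac : a * c = c * a) (hae : a * e = e * a) (hbe : b * e = e * b) :
    Nat.card (Subgroup.closure ({a, b, c, e} : Set G)) ≤ 120 := by
  have x : ∀ {u : G} (_ : u * u = 1) (v : G), u * (u * v) = v := fun h v => by rw [← mul_assoc, h, one_mul]
  have n1 : ∀ {u : G} (H : Subgroup G) (_ : u ∈ H) {r r' : G}, r = u * r' → ∃ h ∈ H, ∃ z ∈ ({r'} : Set G),
      r = h * z := fun H hu _ r' h => ⟨_, hu, r', rfl, h⟩
  have c1 : Nat.card (Subgroup.zpowers a) ≤ 2 := by
    rw [Nat.card_zpowers]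
    exact Nat.le_of_dvd two_pos (orderOf_dvd_of_pow_eq_one (by rw [sq, aa]))
  have c2 : Nat.card (Subgroup.closure ({a, b} : Set G)) ≤ 6 := by
    have := card_le_step (Subgroup.zpowers a) {a, b} {1, b, b * a} (by simp) ?_
    · refine this.trans ((Nat.mul_le_mul c1 (Set.ncard_insert_le _ _ |>.trans (Nat.succ_le_succ
        (Set.ncard_insert_le _ _ |>.trans (Nat.succ_le_succ (Set.ncard_singleton _).le))))).trans le_rfl)
    · simp only [Set.mem_insert_iff, Set.mem_singleton_iff, forall_eq_or_imp, forall_eq]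
      have ha := Subgroup.mem_zpowers a
      have h1 := one_mem (Subgroup.zpowers a)
      refine ⟨⟨⟨a, ha, 1, by simp, by simp⟩, ⟨1, h1, b, by simp, by simp⟩⟩,
        ⟨⟨1, h1, b * a, by simp, by simp⟩, ⟨1, h1, 1, by simp, by simp [bb]⟩⟩,
        ⟨⟨1, h1, b, by simp, by simp [mul_assoc, aa]⟩, ⟨a, ha, b * a, by simp, ?_⟩⟩⟩
      rw [← mul_assoc]; exact hab.symm
  have c3 : Nat.card (Subgroup.closure ({a, b, c} : Set G)) ≤ 24 := by
    have := card_le_step (Subgroup.closure ({a, b} : Set G)) {a, b, c} {1, c, c * b, c * b * a} (by simp) ?_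
    · refine this.trans ((Nat.mul_le_mul c2 (Set.ncard_insert_le _ _ |>.trans (Nat.succ_le_succ
        (Set.ncard_insert_le _ _ |>.trans (Nat.succ_le_succ
        (Set.ncard_insert_le _ _ |>.trans (Nat.succ_le_succ (Set.ncard_singleton _).le))))))).trans le_rfl)
    · simp only [Set.mem_insert_iff, Set.mem_singleton_iff, forall_eq_or_imp, forall_eq]
      have ha : a ∈ Subgroup.closure ({a, b} : Set G) := Subgroup.subset_closure (by simp)
      have hb : b ∈ Subgroup.closure ({a, b} : Set G) := Subgroup.subset_closure (by simp)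
      have h1 := one_mem (Subgroup.closure ({a, b} : Set G))
      refine ⟨⟨⟨a, ha, 1, by simp, by simp⟩, ⟨b, hb, 1, by simp, by simp⟩, ⟨1, h1, c, by simp, by simp⟩⟩,
        ⟨⟨a, ha, c, by simp, hac.symm⟩, ⟨1, h1, c * b, by simp, by simp⟩, ⟨1, h1, 1, by simp, by simp [cc]⟩⟩,
        ⟨⟨1, h1, c * b * a, by simp, by simp⟩, ⟨1, h1, c, by simp, by simp [mul_assoc, bb]⟩,
          ⟨b, hb, c * b, by simp, ?_⟩⟩,
        ⟨⟨1, h1, c * b, by simp, by simp [mul_assoc, aa]⟩, ⟨a, ha, c * b * a, by simp, ?_⟩,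
          ⟨b, hb, c * b * a, by simp, ?_⟩⟩⟩
      · rw [← hbc, mul_assoc]
      · calc c * b * a * b = c * (a * b * a) := by rw [hab]; simp only [mul_assoc]
          _ = a * (c * b * a) := by simp only [← mul_assoc]; rw [hac]
      · calc c * b * a * c = c * b * (c * a) := by rw [mul_assoc _ a c, hac]
          _ = (b * c * b) * a := by rw [hbc]; simp only [mul_assoc]
          _ = b * (c * b * a) := by simp only [mul_assoc]
  have := card_le_step (Subgroup.closure ({a, b, c} : Set G)) {a, b, c, e}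
    {1, e, e * c, e * c * b, e * c * b * a} (by simp) ?_
  · refine this.trans ((Nat.mul_le_mul c3 (Set.ncard_insert_le _ _ |>.trans (Nat.succ_le_succ
      (Set.ncard_insert_le _ _ |>.trans (Nat.succ_le_succ
      (Set.ncard_insert_le _ _ |>.trans (Nat.succ_le_succ
      (Set.ncard_insert_le _ _ |>.trans (Nat.succ_le_succ (Set.ncard_singleton _).le))))))))).trans le_rfl)
  simp only [Set.mem_insert_iff, Set.mem_singleton_iff, forall_eq_or_imp, forall_eq]
  have ha : a ∈ Subgroup.closure ({a, b, c} : Set G) := Subgroup.subset_closure (by simp)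
  have hb : b ∈ Subgroup.closure ({a, b, c} : Set G) := Subgroup.subset_closure (by simp)
  have hc : c ∈ Subgroup.closure ({a, b, c} : Set G) := Subgroup.subset_closure (by simp)
  have h1 := one_mem (Subgroup.closure ({a, b, c} : Set G))
  refine ⟨⟨⟨a, ha, 1, by simp, by simp⟩, ⟨b, hb, 1, by simp, by simp⟩, ⟨c, hc, 1, by simp, by simp⟩,
      ⟨1, h1, e, by simp, by simp⟩⟩,
    ⟨⟨a, ha, e, by simp, hae.symm⟩, ⟨b, hb, e, by simp, hbe.symm⟩, ⟨1, h1, e * c, by simp, by simp⟩,
      ⟨1, h1, 1, by simp, by simp [ee]⟩⟩,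
    ⟨⟨a, ha, e * c, by simp, ?_⟩, ⟨1, h1, e * c * b, by simp, by simp⟩,
      ⟨1, h1, e, by simp, by simp [mul_assoc, cc]⟩, ⟨c, hc, e * c, by simp, ?_⟩⟩,
    ⟨⟨1, h1, e * c * b * a, by simp, by simp⟩, ⟨1, h1, e * c, by simp, by simp [mul_assoc, bb]⟩,
      ⟨b, hb, e * c * b, by simp, ?_⟩, ⟨c, hc, e * c * b, by simp, ?_⟩⟩,
    ⟨⟨1, h1, e * c * b, by simp, by simp [mul_assoc, aa]⟩, ⟨a, ha, e * c * b * a, by simp, ?_⟩,
      ⟨b, hb, e * c * b * a, by simp, ?_⟩, ⟨c, hc, e * c * b * a, by simp, ?_⟩⟩⟩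
  · calc e * c * a = e * (a * c) := by rw [mul_assoc, hac]
      _ = a * (e * c) := by rw [← mul_assoc, ← hae, mul_assoc]
  · rw [← hce, mul_assoc]
  · calc e * c * b * c = e * (b * c * b) := by rw [hbc]; simp only [mul_assoc]
      _ = b * (e * c * b) := by simp only [← mul_assoc]; rw [hbe]
  · calc e * c * b * e = e * c * (e * b) := by rw [mul_assoc _ b e, hbe]
      _ = (c * e * c) * b := by rw [hce]; simp only [mul_assoc]
      _ = c * (e * c * b) := by simp only [mul_assoc]
  · calc e * c * b * a * b = e * c * (a * b * a) := by rw [hab]; simp only [mul_assoc]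
      _ = e * (c * a) * (b * a) := by simp only [mul_assoc]
      _ = a * (e * c * b * a) := by rw [← hac]; simp only [← mul_assoc]; rw [hae]
  · calc e * c * b * a * c = e * (c * b * c) * a := by
          rw [mul_assoc _ a c, hac]; simp only [mul_assoc]
      _ = b * (e * c * b * a) := by rw [← hbc]; simp only [← mul_assoc]; rw [hbe]
  · calc e * c * b * a * e = e * c * b * (e * a) := by rw [mul_assoc _ a e, hae]
      _ = e * c * (e * b) * a := by rw [← hbe]; simp only [mul_assoc]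
      _ = (c * e * c) * (b * a) := by rw [hce]; simp only [mul_assoc]
      _ = c * (e * c * b * a) := by simp only [mul_assoc]

theorem swaps_top : Subgroup.closure ({Equiv.swap 0 1, Equiv.swap 1 2, Equiv.swap 2 3, Equiv.swap 3 4} :
    Set (Equiv.Perm (Fin 5))) = ⊤ := by
  rw [eq_top_iff]
  intro x _
  have h := Equiv.Perm.mclosure_swap_castSucc_succ 4
  have hx : x ∈ Submonoid.closure (Set.range fun i : Fin 4 ↦ Equiv.swap i.castSucc i.succ) := by rw [h]; trivial
  refine (Submonoid.closure_le (S := (Subgroup.closure _).toSubmonoid)).2 ?_ hx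
  rintro _ ⟨i, rfl⟩
  refine Subgroup.subset_closure ?_
  fin_cases i <;> simp <;> decide

theorem center_trivial : ∀ k : Equiv.Perm (Fin 5), k * Equiv.swap 0 1 = Equiv.swap 0 1 * k →
    k * Equiv.swap 1 2 = Equiv.swap 1 2 * k → k * Equiv.swap 2 3 = Equiv.swap 2 3 * k →
    k * Equiv.swap 3 4 = Equiv.swap 3 4 * k → k = 1 := by decide +kernel

/-- The symmetric group of degree five from a chain of four transposition-like generators. -/
theorem nonempty_mulEquiv [Finite G] {a b c e : G} (hgen : Subgroup.closure ({a, b, c, e} : Set G) = ⊤)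
    (aa : a * a = 1) (bb : b * b = 1) (cc : c * c = 1) (ee : e * e = 1)
    (hab : a * b * a = b * a * b) (hbc : b * c * b = c * b * c) (hce : c * e * c = e * c * e)
    (hac : a * c = c * a) (hae : a * e = e * a) (hbe : b * e = e * b) (hne : a * b ≠ 1) :
    Nonempty (G ≃* Equiv.Perm (Fin 5)) := by
  let A : G × Equiv.Perm (Fin 5) := (a, Equiv.swap 0 1)
  let B : G × Equiv.Perm (Fin 5) := (b, Equiv.swap 1 2)
  let C : G × Equiv.Perm (Fin 5) := (c, Equiv.swap 2 3)
  let E : G × Equiv.Perm (Fin 5) := (e, Equiv.swap 3 4)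
  set Γ := Subgroup.closure ({A, B, C, E} : Set (G × Equiv.Perm (Fin 5))) with hΓ
  have hc : Nat.card Γ ≤ 120 := card_chain
    (Prod.ext aa (by dsimp [A, B, C, E]; decide)) (Prod.ext bb (by dsimp [A, B, C, E]; decide)) (Prod.ext cc (by dsimp [A, B, C, E]; decide)) (Prod.ext ee (by dsimp [A, B, C, E]; decide))
    (Prod.ext hab (by dsimp [A, B, C, E]; decide)) (Prod.ext hbc (by dsimp [A, B, C, E]; decide)) (Prod.ext hce (by dsimp [A, B, C, E]; decide))
    (Prod.ext hac (by dsimp [A, B, C, E]; decide)) (Prod.ext hae (by dsimp [A, B, C, E]; decide)) (Prod.ext hbe (by dsimp [A, B, C, E]; decide))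
  let π : Γ →* Equiv.Perm (Fin 5) := (MonoidHom.snd G _).comp Γ.subtype
  let ρ : Γ →* G := (MonoidHom.fst G _).comp Γ.subtype
  have mem : ∀ X ∈ ({A, B, C, E} : Set (G × Equiv.Perm (Fin 5))), X ∈ Γ := fun X h => Subgroup.subset_closure h
  have hπ : Function.Surjective π := by
    rw [← MonoidHom.range_eq_top, eq_top_iff, ← swaps_top, Subgroup.closure_le]
    rintro x (rfl | rfl | rfl | rfl)
    exacts [⟨⟨A, mem A (by simp)⟩, rfl⟩, ⟨⟨B, mem B (by simp)⟩, rfl⟩, ⟨⟨C, mem C (by simp)⟩, rfl⟩,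
      ⟨⟨E, mem E (by simp)⟩, rfl⟩]
  have hρ : Function.Surjective ρ := by
    rw [← MonoidHom.range_eq_top, eq_top_iff, ← hgen, Subgroup.closure_le]
    rintro x (rfl | rfl | rfl | rfl)
    exacts [⟨⟨A, mem A (by simp)⟩, rfl⟩, ⟨⟨B, mem B (by simp)⟩, rfl⟩, ⟨⟨C, mem C (by simp)⟩, rfl⟩,
      ⟨⟨E, mem E (by simp)⟩, rfl⟩]
  have hπb : Function.Bijective π := hπ.bijective_of_nat_card_le (by
    rwa [Nat.card_eq_fintype_card (α := Equiv.Perm (Fin 5)), Fintype.card_perm, Fintype.card_fin])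
  let ψ := MulEquiv.ofBijective π hπb
  let φ : Equiv.Perm (Fin 5) →* G := ρ.comp ψ.symm.toMonoidHom
  have hφ : Function.Surjective φ := hρ.comp ψ.symm.surjective
  have hA : φ (Equiv.swap 0 1) = a := by
    show ρ (ψ.symm (π ⟨A, mem A (by simp)⟩)) = a
    rw [show π ⟨A, mem A (by simp)⟩ = ψ ⟨A, mem A (by simp)⟩ from rfl, MulEquiv.symm_apply_apply]; rfl
  have hB : φ (Equiv.swap 1 2) = b := by
    show ρ (ψ.symm (π ⟨B, mem B (by simp)⟩)) = b
    rw [show π ⟨B, mem B (by simp)⟩ = ψ ⟨B, mem B (by simp)⟩ from rfl, MulEquiv.symm_apply_apply]; rfl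
  refine ⟨(MulEquiv.ofBijective φ ⟨(injective_iff_map_eq_one φ).2 fun k hk => ?_, hφ⟩).symm⟩
  haveI : IsSimpleGroup (alternatingGroup (Fin 5)) := alternatingGroup.isSimpleGroup (by simp)
  rcases IsSimpleGroup.eq_bot_or_eq_top_of_normal (φ.ker.subgroupOf (alternatingGroup (Fin 5))) inferInstance with h | h
  · have key : ∀ g : Equiv.Perm (Fin 5), k * g = g * k := fun g => by
      have h1 : k * g * k⁻¹ * g⁻¹ ∈ φ.ker := by
        rw [MonoidHom.mem_ker, map_mul, map_mul, map_mul, map_inv, map_inv, hk]; group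
      have h2 : k * g * k⁻¹ * g⁻¹ ∈ alternatingGroup (Fin 5) := by
        rw [Equiv.Perm.mem_alternatingGroup, map_mul, map_mul, map_mul, map_inv, map_inv, mul_comm (Equiv.Perm.sign k),
          mul_assoc (Equiv.Perm.sign g), mul_inv_cancel, mul_one, mul_inv_cancel]
      have h3 : (⟨_, h2⟩ : alternatingGroup (Fin 5)) ∈ φ.ker.subgroupOf (alternatingGroup (Fin 5)) := h1
      rw [h, Subgroup.mem_bot] at h3
      exact mul_inv_eq_iff_eq_mul.1 (mul_inv_eq_one.1 (congrArg Subtype.val h3 : _))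
    exact center_trivial k (key _) (key _) (key _) (key _)
  · exfalso
    have h2 : (Equiv.swap (0 : Fin 5) 1 * Equiv.swap 1 2) ∈ alternatingGroup (Fin 5) := by
      rw [Equiv.Perm.mem_alternatingGroup]; decide
    have := Subgroup.mem_subgroupOf.1 (h ▸ Subgroup.mem_top (⟨_, h2⟩ : alternatingGroup (Fin 5)))
    rw [MonoidHom.mem_ker, map_mul, hA, hB] at this
    exact hne this

end CfsgLib.ThreeTransp.PermFive
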