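import Cfsg.Prelude.Def_FischerSpaces

/-! Elementary calculus of 3-transpositions. -/

namespace CfsgLib.ThreeTransp.Basic

variable {G : Type*} [Group G] {D : Set G}

theorem sq_one {d : G} (h : orderOf d = 2) : d * d = 1 := by
  rw [← sq, ← h]; exact pow_orderOf_eq_one d

theorem inv_self {d : G} (h : orderOf d = 2) : d⁻¹ = d :=
  inv_eq_of_mul_eq_one_right (sq_one h)

theorem ne_one {d : G} (h : orderOf d = 2) : d ≠ 1 := by
  rintro rfl; simp at h

theorem commute_iff {a b : G} (ha : a * a = 1) (hb : b * b = 1) :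
    Commute a b ↔ (a * b) ^ 2 = 1 := by
  have ha' : a⁻¹ = a := inv_eq_of_mul_eq_one_right ha
  have hb' : b⁻¹ = b := inv_eq_of_mul_eq_one_right hb
  rw [sq, mul_eq_one_iff_eq_inv, mul_inv_rev, ha', hb']
  rfl

theorem braid_iff {a b : G} (ha : a * a = 1) (hb : b * b = 1) :
    a * b * a = b * a * b ↔ (a * b) ^ 3 = 1 := by
  have ha' : a⁻¹ = a := inv_eq_of_mul_eq_one_right ha
  have hb' : b⁻¹ = b := inv_eq_of_mul_eq_one_right hb
  have : (a * b) ^ 3 = (a * b * a) * (b * a * b) := by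
    simp only [pow_succ, pow_zero, one_mul, mul_assoc]
  rw [this, mul_eq_one_iff_eq_inv]
  simp only [mul_inv_rev, ha', hb', mul_assoc]

theorem braid (hD : Cfsg.IsThreeTranspositionSet D) {a b : G} (ha : a ∈ D) (hb : b ∈ D)
    (h : ¬ Commute a b) : a * b * a = b * a * b := by
  have A := sq_one (hD.1 a ha); have B := sq_one (hD.1 b hb)
  rcases hD.2 a ha b hb with h2 | h3
  · exact absurd ((commute_iff A B).2 h2) h
  · exact (braid_iff A B).2 h3

theorem orderOf_mul_three (hD : Cfsg.IsThreeTranspositionSet D) {a b : G} (ha : a ∈ D) (hb : b ∈ D)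
    (h : ¬ Commute a b) : orderOf (a * b) = 3 := by
  have A := sq_one (hD.1 a ha); have B := sq_one (hD.1 b hb)
  haveI : Fact (Nat.Prime 3) := ⟨Nat.prime_three⟩
  apply orderOf_eq_prime
  · rcases hD.2 a ha b hb with h2 | h3
    · exact absurd ((commute_iff A B).2 h2) h
    · exact h3
  · intro h1
    exact h (by rw [commute_iff A B, h1, one_pow])

/-- Two members of `D` commute or their product has order three; in particular a power of
odd order forces the order to be one or three. -/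
theorem mul_cases (hD : Cfsg.IsThreeTranspositionSet D) {a b : G} (ha : a ∈ D) (hb : b ∈ D) :
    Commute a b ∨ orderOf (a * b) = 3 := by
  by_cases h : Commute a b
  · exact Or.inl h
  · exact Or.inr (orderOf_mul_three hD ha hb h)

theorem conj_mem' (hconj : ∀ g : G, ∀ d ∈ D, g * d * g⁻¹ ∈ D) (g : G) {d : G} (hd : d ∈ D) :
    g⁻¹ * d * g ∈ D := by
  simpa using hconj g⁻¹ d hd

theorem conj_mem_mul (hinv : ∀ d ∈ D, orderOf d = 2) (hconj : ∀ g : G, ∀ d ∈ D, g * d * g⁻¹ ∈ D)
    {a b : G} (ha : a ∈ D) (hb : b ∈ D) : a * b * a ∈ D := by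
  simpa [inv_self (hinv a ha)] using hconj a b hb

theorem commute_conj_iff (g a b : G) :
    Commute (g * a * g⁻¹) (g * b * g⁻¹) ↔ Commute a b :=
  Commute.conj_iff g

theorem class_isGroup (hD : Cfsg.IsThreeTranspositionClass D) :
    Cfsg.IsThreeTranspositionGroup D := by
  refine ⟨hD.1, ?_, hD.2.2⟩
  obtain ⟨d, -, hd⟩ := hD.2.1
  intro g x hx
  rw [hd] at hx ⊢; simp only [conjugatesOf, Set.mem_setOf_eq] at hx ⊢
  exact hx.trans (isConj_iff.2 ⟨g, rfl⟩)

theorem class_conj (hD : Cfsg.IsThreeTranspositionClass D) {a b : G} (ha : a ∈ D) (hb : b ∈ D) :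
    ∃ g : G, g * a * g⁻¹ = b := by
  obtain ⟨d, -, hd⟩ := hD.2.1
  simp only [hd, conjugatesOf, Set.mem_setOf_eq] at ha hb
  exact isConj_iff.1 (ha.symm.trans hb)

end CfsgLib.ThreeTransp.Basic
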