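import Cfsg.Prelude.Def_FischerSpaces
import Cfsg.Agent.Lib.ThreeTransp.Basic
import Cfsg.Agent.Lib.Orth.Bridge
import Cfsg.Agent.Lib.Orth.SignHom
import Cfsg.Agent.Lib.Orth.Stab

/-!
# Reflections of one norm over the field with three elements
-/

set_option autoImplicit false
set_option linter.unusedSectionVars false

namespace CfsgLib.ThreeTransp.ReflThree

open QuadraticMap Module CfsgLib.Orth

theorem three_facts : ∀ a b : ZMod 3, a ≠ 0 → b ≠ 0 → a⁻¹ * b * (a⁻¹ * b) = 1 ∧ (2 : ZMod 3) * a ≠ 0 := by
  decide +kernel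

variable {n : ℕ} {Q : QuadraticForm (ZMod 3) (Fin n → ZMod 3)}

local notation "V" => Fin n → ZMod 3

/-- A perpendicular vector of given norm. -/
theorem exists_perp_value (hQ : (polarBilin Q).Nondegenerate) (hn : 5 ≤ n) {a : V} (ha : Q a ≠ 0) (b : V)
    (t : ZMod 3) : ∃ x : V, polar Q a x = 0 ∧ polar Q b x = 0 ∧ Q x = t := by
  set B : LinearMap.BilinForm (ZMod 3) V := polarBilin Q
  have hB : B.IsRefl := fun x y h => by
    show polar Q y x = 0
    rw [polar_comm]; exact h
  set P : Submodule (ZMod 3) V := Submodule.span (ZMod 3) {a, b} with hP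
  have hP2 : finrank (ZMod 3) P ≤ 2 := by
    classical
    have h := finrank_span_finset_le_card (R := ZMod 3) ({a, b} : Finset V)
    rw [Finset.coe_insert, Finset.coe_singleton] at h
    exact h.trans Finset.card_le_two
  have hW : finrank (ZMod 3) ↥(B.orthogonal P) + finrank (ZMod 3) P = n := by
    rw [LinearMap.BilinForm.finrank_orthogonal hQ, Module.finrank_fin_fun]
    have := Submodule.finrank_le P
    rw [Module.finrank_fin_fun] at this
    omega
  have hRa : finrank (ZMod 3) ↥(B.orthogonal P ⊓ B.orthogonal (B.orthogonal P)) < finrank (ZMod 3) P := by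
    rw [LinearMap.BilinForm.orthogonal_orthogonal hQ hB]
    refine Submodule.finrank_lt_finrank_of_lt (lt_of_le_of_ne inf_le_right fun e => ha ?_)
    have haP : a ∈ P := Submodule.subset_span (by simp)
    have : a ∈ B.orthogonal P := (e.symm ▸ haP : a ∈ B.orthogonal P ⊓ P).1
    have h := this a haP
    change polar Q a a = 0 at h
    rw [polar_self'] at h
    exact (mul_eq_zero.1 h).resolve_left (by decide)
  obtain ⟨x, hx, hxt⟩ := exists_value (Q := Q) (B.orthogonal P)
    (by
      change finrank (ZMod 3) ↥(B.orthogonal P ⊓ B.orthogonal (B.orthogonal P)) + 2 ≤ _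
      omega) t
  exact ⟨x, hx a (Submodule.subset_span (by simp)), hx b (Submodule.subset_span (by simp)), hxt⟩

variable (Q)

/-- The reflections of norm `c`. -/
def D0 (c : ZMod 3) : Set (orthGroup Q) := {g | ∃ v, Q v = c ∧ refl Q v = g}

/-- The group they generate. -/
def R0 (c : ZMod 3) : Subgroup (orthGroup Q) := Subgroup.closure (D0 Q c)

variable {Q} {c : ZMod 3}

theorem refl_ne_one {a : V} (ha : Q a ≠ 0) : refl Q a ≠ 1 := by
  intro h
  have e := refl_self Q ha
  rw [h] at e
  change a = -a at e
  rw [eq_neg_iff_add_eq_zero, ← two_smul (ZMod 3) a, smul_eq_zero] at e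
  rcases e with e | e
  · exact absurd e (by decide)
  · exact ha (by rw [e, QuadraticMap.map_zero])

theorem refl_order {a : V} (ha : Q a ≠ 0) : orderOf (refl Q a) = 2 := by
  have : Fact (Nat.Prime 2) := ⟨Nat.prime_two⟩
  exact orderOf_eq_prime (by rw [_root_.sq, refl_mul_self]) (refl_ne_one ha)

theorem conj_refl' (a b : V) : refl Q a * refl Q b * refl Q a = refl Q ((refl Q a).1 b) := by
  have h := conj_refl Q (refl Q a) b
  rwa [refl_inv] at h

theorem commute_of_orth {a b : V} (h : polar Q a b = 0) : refl Q a * refl Q b = refl Q b * refl Q a := by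
  have h1 := conj_refl' (Q := Q) a b
  rw [refl_fix Q h] at h1
  calc refl Q a * refl Q b = refl Q a * refl Q b * refl Q a * refl Q a := by
        rw [mul_assoc _ (refl Q a), refl_mul_self, mul_one]
    _ = refl Q b * refl Q a := by rw [h1]

theorem braid_refl (hc : c ≠ 0) {u v : V} (hu : Q u = c) (hv : Q v = c) (h : polar Q u v ≠ 0) :
    refl Q u * refl Q v * refl Q u = refl Q v * refl Q u * refl Q v := by
  rw [conj_refl', conj_refl', refl_apply, refl_apply, hu, hv, polar_comm (⇑Q) v u]
  obtain ⟨hs, -⟩ := three_facts c (polar Q u v) hc h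
  set s := c⁻¹ * polar Q u v
  have e : u - s • v = (-s) • (v - s • u) := by
    rw [smul_sub, smul_smul, neg_smul, show -s * s = -(s * s) by ring, hs, neg_smul, one_smul]
    abel
  rw [e, refl_smul Q (neg_ne_zero.2 fun h0 => by rw [h0, mul_zero] at hs; exact zero_ne_one hs)]

theorem product_cases (hc : c ≠ 0) {u v : V} (hu : Q u = c) (hv : Q v = c) :
    (refl Q u * refl Q v) ^ 2 = 1 ∨ (refl Q u * refl Q v) ^ 3 = 1 := by
  by_cases h : polar Q u v = 0
  · exact Or.inl ((Basic.commute_iff (refl_mul_self Q u) (refl_mul_self Q v)).1 (commute_of_orth h))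
  · exact Or.inr ((Basic.braid_iff (refl_mul_self Q u) (refl_mul_self Q v)).1 (braid_refl hc hu hv h))

theorem refl_mem {v : V} (hv : Q v = c) : refl Q v ∈ R0 Q c := Subgroup.subset_closure ⟨v, hv, rfl⟩

theorem conj_step (hc : c ≠ 0) {u v : V} (hu : Q u = c) (hv : Q v = c) (h : polar Q u v ≠ 0) :
    ∃ x ∈ R0 Q c, x * refl Q u * x⁻¹ = refl Q v := by
  refine ⟨refl Q u * refl Q v, mul_mem (refl_mem hu) (refl_mem hv), ?_⟩
  rw [mul_inv_rev, refl_inv, refl_inv]
  calc refl Q u * refl Q v * refl Q u * (refl Q v * refl Q u)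
      = refl Q v * (refl Q u * refl Q v * refl Q v * refl Q u) := by
        rw [braid_refl hc hu hv h]; simp only [mul_assoc]
    _ = refl Q v := by
        rw [show refl Q u * refl Q v * refl Q v * refl Q u = 1 by rw [mul_assoc (refl Q u), refl_mul_self, mul_one, refl_mul_self], mul_one]

theorem conjugate (hQ : (polarBilin Q).Nondegenerate) (hn : 5 ≤ n) (hc : c ≠ 0) {u v : V} (hu : Q u = c)
    (hv : Q v = c) : ∃ x ∈ R0 Q c, x * refl Q u * x⁻¹ = refl Q v := by
  by_cases h : polar Q u v = 0
  swap
  · exact conj_step hc hu hv h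
  obtain ⟨x, hux, hvx, hx⟩ := exists_perp_value hQ hn (a := u) (by rw [hu]; exact hc) v (-c)
  set w := u + v + x
  have hw : Q w = c := by
    rw [show w = u + v + x from rfl, quad_add', quad_add', polar_add_left, hu, hv, h, hux, hvx, hx]
    ring
  have h1 : polar Q u w ≠ 0 := by
    rw [show w = u + v + x from rfl, polar_add_right, polar_add_right, h, hux, polar_self', hu, add_zero, add_zero]
    exact (three_facts c c hc hc).2
  have h2 : polar Q w v ≠ 0 := by
    rw [polar_comm, show w = u + v + x from rfl, polar_add_right, polar_add_right, polar_comm (⇑Q) v u, h, hvx,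
      polar_self', hv, add_zero, zero_add]
    exact (three_facts c c hc hc).2
  obtain ⟨y, hy, hye⟩ := conj_step hc hu hw h1
  obtain ⟨z, hz, hze⟩ := conj_step hc hw hv h2
  refine ⟨z * y, mul_mem hz hy, ?_⟩
  rw [← hze, ← hye]
  group

theorem conj_mem_D0 (g : orthGroup Q) {d : orthGroup Q} (hd : d ∈ D0 Q c) : g * d * g⁻¹ ∈ D0 Q c := by
  obtain ⟨v, hv, rfl⟩ := hd
  exact ⟨g.1 v, by rw [apply_quad, hv], (conj_refl Q g v).symm⟩

instance R0_normal : (R0 Q c).Normal := by
  refine ⟨fun x hx g => ?_⟩
  induction hx using Subgroup.closure_induction with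
  | mem y hy => exact Subgroup.subset_closure (conj_mem_D0 g hy)
  | one => simp [(R0 Q c).one_mem]
  | mul y z _ _ hy hz =>
    rw [show g * (y * z) * g⁻¹ = g * y * g⁻¹ * (g * z * g⁻¹) by group]
    exact mul_mem hy hz
  | inv y _ hy =>
    rw [show g * y⁻¹ * g⁻¹ = (g * y * g⁻¹)⁻¹ by group]
    exact inv_mem hy

/-! ### The index -/

theorem pair_orth (hc : c ≠ 0) {a b : V} (ha : Q a = -c) (hb : Q b = -c) (h : polar Q a b = 0) :
    refl Q a * refl Q b ∈ R0 Q c := by
  have h1 : Q (a + b) = c := by
    rw [quad_add', ha, hb, h, show (-c + -c + 0 : ZMod 3) = c * -2 by ring, show (-2 : ZMod 3) = 1 by decide, mul_one]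
  have h2 : Q (a - b) = c := by
    rw [sub_eq_add_neg, quad_add', QuadraticMap.map_neg, polar_neg_right, ha, hb, h,
      show (-c + -c + -0 : ZMod 3) = c * -2 by ring, show (-2 : ZMod 3) = 1 by decide, mul_one]
  have h12 : polar Q (a + b) (a - b) = 0 := by
    simp only [polar_add_left, polar_sub_right, polar_self', ha, hb, h, polar_comm (⇑Q) b a]
    ring
  have key : refl Q a * refl Q b = refl Q (a + b) * refl Q (a - b) := by
    refine Subtype.ext (LinearEquiv.ext fun x => ?_)
    show (refl Q a).1 ((refl Q b).1 x) = (refl Q (a + b)).1 ((refl Q (a - b)).1 x)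
    have e1 : polar Q a ((refl Q b).1 x) = polar Q a x := by
      rw [refl_apply, sub_eq_add_neg, polar_add_right, polar_neg_right, polar_smul_r', h, mul_zero, neg_zero, add_zero]
    have e2 : polar Q (a + b) ((refl Q (a - b)).1 x) = polar Q (a + b) x := by
      rw [refl_apply, sub_eq_add_neg, polar_add_right, polar_neg_right, polar_smul_r', h12, mul_zero, neg_zero, add_zero]
    rw [refl_apply Q a, refl_apply Q (a + b), e1, e2, refl_apply, refl_apply]
    simp only [h1, h2, ha, hb, polar_add_left, polar_sub_left, inv_neg]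
    have h3 : (3 : ZMod 3) = 0 := by decide
    match_scalars
    · ring
    · linear_combination (c⁻¹ * polar Q b x) * h3
    · linear_combination (c⁻¹ * polar Q a x) * h3
  rw [key]
  exact mul_mem (refl_mem h1) (refl_mem h2)

theorem pair_any (hQ : (polarBilin Q).Nondegenerate) (hn : 5 ≤ n) (hc : c ≠ 0) {a b : V} (ha : Q a = -c)
    (hb : Q b = -c) : refl Q a * refl Q b ∈ R0 Q c := by
  obtain ⟨w, h1, h2, hw⟩ := exists_perp_value hQ hn (a := a) (by rw [ha]; exact neg_ne_zero.2 hc) b (-c)
  have e : refl Q a * refl Q b = refl Q a * refl Q w * (refl Q w * refl Q b) := by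
    rw [mul_assoc, ← mul_assoc (refl Q w), refl_mul_self, one_mul]
  rw [e]
  exact mul_mem (pair_orth hc ha hw h1) (pair_orth hc hw hb (by rw [polar_comm]; exact h2))

theorem index_eq_two (hQ : (polarBilin Q).Nondegenerate) (hn : 5 ≤ n) (hc : c ≠ 0) : (R0 Q c).index = 2 := by
  classical
  obtain ⟨v, hv⟩ : ∃ v : V, Q v ≠ 0 := by
    by_contra hall
    push Not at hall
    have hB := hQ.1 (Pi.single (⟨0, by omega⟩ : Fin n) (1 : ZMod 3)) fun y => by
      show polar Q _ y = 0
      simp [polar, hall]
    have := congrFun hB (⟨0, by omega⟩ : Fin n)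
    simp at this
  obtain ⟨b, -, -, hb⟩ := exists_perp_value hQ hn hv v (-c)
  set t := refl Q b
  rw [Subgroup.index_eq_two_iff]
  refine ⟨t, fun g => ?_⟩
  -- the separating homomorphism
  let χ : orthGroup Q →* ℤˣ := levelSign Q c
  have hmem : ∀ g, g ∈ Subgroup.closure (D0 Q c) →
      (LinearMap.det (g.1 : V →ₗ[ZMod 3] V) = 1 ↔ χ g = 1) := by
    intro g hg
    have key : LinearMap.det (g.1 : V →ₗ[ZMod 3] V) = ((χ g : ℤ) : ZMod 3) := by
      induction hg using Subgroup.closure_induction with
      | mem y hy =>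
        obtain ⟨u, hu, rfl⟩ := hy
        rw [det_refl Q (by rw [hu]; exact hc), show χ (refl Q u) = -1 by
          show levelSign Q c (refl Q u) = -1
          rw [levelSign_refl Q (by decide) hc (by rw [hu]; exact hc), if_pos (by rw [hu]; exact ⟨c, rfl⟩)]]
        simp
      | one =>
        rw [map_one]
        simpa using LinearMap.det_id
      | mul y z _ _ hy hz =>
        show LinearMap.det ((y.1 : V →ₗ[ZMod 3] V) * (z.1 : V →ₗ[ZMod 3] V)) = _
        rw [map_mul, map_mul, hy, hz]
        simp
      | inv y _ hy =>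
        have h : LinearMap.det ((y.1 : V →ₗ[ZMod 3] V) * ((y⁻¹).1 : V →ₗ[ZMod 3] V)) = 1 := by
          rw [show (y.1 : V →ₗ[ZMod 3] V) * ((y⁻¹).1 : V →ₗ[ZMod 3] V) = LinearMap.id from
            LinearMap.ext fun x => y.1.apply_symm_apply x, LinearMap.det_id]
        rw [map_mul, hy] at h
        rw [map_inv, Int.units_inv_eq_self]
        rcases Int.units_eq_one_or (χ y) with e | e <;> rw [e] at h ⊢ <;> simp at h ⊢ <;> first | linear_combination h | linear_combination -h
    rw [key]
    rcases Int.units_eq_one_or (χ g) with e | e <;> rw [e] <;> simp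
    decide
  have ht : t ∉ R0 Q c := by
    intro h
    have h1 := hmem t h
    rw [det_refl Q (by rw [hb]; exact neg_ne_zero.2 hc)] at h1
    have h2 : χ t = 1 := by
      show levelSign Q c (refl Q b) = 1
      rw [levelSign_refl Q (by decide) hc (by rw [hb]; exact neg_ne_zero.2 hc), if_neg]
      rw [hb]
      exact (by decide : ∀ c : ZMod 3, c ≠ 0 → ¬ IsSquare (c * -c)) c hc
    exact absurd (h1.2 h2) (by decide)
  have hgen : ∀ g : orthGroup Q, g ∈ R0 Q c ∨ g * t ∈ R0 Q c := by
    intro g
    have hg : g ∈ reflGroup Q := by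
      rw [reflGroup_eq_top hQ (good_of_two_ne (by decide))]; trivial
    have hswap : ∀ x, t * x * t ∈ R0 Q c ↔ x ∈ R0 Q c := fun x => by
      have hn' := (R0_normal (Q := Q) (c := c)).conj_mem
      constructor
      · intro h
        have := hn' _ h t
        rw [show t⁻¹ = t from refl_inv Q b] at this
        have e : t * (t * x * t) * t = x := by
          rw [← mul_assoc, ← mul_assoc, show t * t = 1 from refl_mul_self Q b, one_mul, mul_assoc,
            show t * t = 1 from refl_mul_self Q b, mul_one]
        rwa [e] at this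
      · intro h
        have := hn' _ h t
        rwa [show t⁻¹ = t from refl_inv Q b] at this
    induction hg using Subgroup.closure_induction with
    | mem y hy =>
      obtain ⟨u, rfl⟩ := hy
      by_cases h0 : Q u = 0
      · left
        rw [show refl Q u = 1 from Subtype.ext (LinearEquiv.ext fun x => by
          show (refl Q u).1 x = x
          simp [refl_apply, h0])]
        exact one_mem _
      · rcases (by decide : ∀ q c : ZMod 3, q ≠ 0 → c ≠ 0 → q = c ∨ q = -c) (Q u) c h0 hc with h | h
        · exact Or.inl (refl_mem h)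
        · exact Or.inr (pair_any hQ hn hc h hb)
    | one => exact Or.inl (one_mem _)
    | mul y z _ _ hy hz =>
      have tt : t * t = 1 := refl_mul_self Q b
      rcases hy with hy | hy <;> rcases hz with hz | hz
      · exact Or.inl (mul_mem hy hz)
      · exact Or.inr (by rw [mul_assoc]; exact mul_mem hy hz)
      · refine Or.inr ?_
        rw [show y * z * t = y * t * (t * z * t) by simp only [mul_assoc]; rw [← mul_assoc t t, tt, one_mul]]
        exact mul_mem hy ((hswap z).2 hz)
      · refine Or.inl ?_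
        rw [show y * z = y * t * (t * (z * t) * t) by
          simp only [mul_assoc]; rw [← mul_assoc t t, tt, one_mul, mul_one]]
        exact mul_mem hy ((hswap _).2 hz)
    | inv y _ hy =>
      rcases hy with hy | hy
      · exact Or.inl (inv_mem hy)
      · refine Or.inr ?_
        have h := (hswap _).2 (inv_mem hy)
        rw [mul_inv_rev, show t⁻¹ = t from refl_inv Q b, ← mul_assoc, refl_mul_self, one_mul] at h
        exact h
  rcases hgen g with h | h
  · exact Or.inr ⟨h, fun h' => ht ((mul_mem_cancel_left h).1 h')⟩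
  · exact Or.inl ⟨h, fun h' => ht ((mul_mem_cancel_left h').1 h)⟩

/-! ### The matrix groups -/

variable (Q c)

theorem reflectionsOfNorm_eq :
    Cfsg.reflectionsOfNorm (⇑Q) c = (toOrth Q (fun _ => rfl)) ⁻¹' D0 Q c := by
  ext g
  simp only [Cfsg.reflectionsOfNorm, D0, Set.mem_preimage, Set.mem_ofPred_eq]
  refine exists_congr fun v => and_congr_right fun _ => ⟨fun h => ?_, fun h => ?_⟩
  · rw [← (toOrth Q (fun _ => rfl)).apply_symm_apply (refl Q v)]
    congr 1
    exact Subtype.ext (Units.ext (by rw [toOrth_symm_coe, matOf_refl, h]))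
  · rw [← (toOrth Q (fun _ => rfl)).symm_apply_apply g, ← h, toOrth_symm_coe, matOf_refl]

theorem reflectionSubgroup_eq :
    Cfsg.reflectionSubgroup (⇑Q) c = (R0 Q c).comap (toOrth Q (fun _ => rfl)).toMonoidHom := by
  rw [Cfsg.reflectionSubgroup, reflectionsOfNorm_eq, R0, Subgroup.comap_equiv_eq_map_symm',
    MonoidHom.map_closure]
  congr 1
  exact ((toOrth Q (fun _ => rfl)).toEquiv.image_symm_eq_preimage _).symm

end CfsgLib.ThreeTransp.ReflThree
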