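import Cfsg.Agent.Lib.ThreeTransp.LeechXi
import Cfsg.Agent.Lib.SmallGroups.LeechIndex

/-!
# The invariant quadratic forms on the lattice modulo twice the lattice
-/

set_option autoImplicit false

namespace CfsgLib.ThreeTransp.LeechForm

open Cfsg CfsgLib.SmallGroups.LeechBasic CfsgLib.SmallGroups.Golay CfsgLib.SmallGroups.M24Group
open CfsgLib.SmallGroups.LeechCenter CfsgLib.SmallGroups.GolayOctads
open CfsgLib.ThreeTransp.LeechGen

theorem z2_rules : (∀ a : ZMod 2, a + a = 0) ∧ (∀ a : ZMod 2, -a = a) ∧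
    ∀ a : ZMod 2, a = 0 ∨ a = 1 := by decide

/-- An invariant quadratic form, constant on the classes modulo two. -/
structure Form (Q : leechLattice → ZMod 2) : Prop where
  coset : ∀ v w, Q (v + (w + w)) = Q v
  quad : ∀ u v w, Q (u + v + w) + Q u + Q v + Q w = Q (u + v) + Q (u + w) + Q (v + w)
  inv : ∀ (g : Co0) (v : leechLattice), Q (g • v) = Q v

/-- The polar form. -/
def pol (Q : leechLattice → ZMod 2) (u v : leechLattice) : ZMod 2 := Q (u + v) + Q u + Q v

theorem smul_add' (g : Co0) (u v : leechLattice) : g • (u + v) = g • u + g • v := g.2.1 u v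

namespace Form

variable {Q : leechLattice → ZMod 2}

theorem zero (h : Form Q) : Q 0 = 0 := by
  have := h.quad 0 0 0
  simp only [add_zero] at this
  revert this
  generalize Q 0 = a
  revert a
  decide

theorem pol_self (h : Form Q) (u : leechLattice) : pol Q u u = 0 := by
  have : Q (u + u) = 0 := by rw [← zero_add (u + u), h.coset 0 u, h.zero]
  rw [pol, this, zero_add, z2_rules.1]

theorem pol_comm (h : Form Q) (u v : leechLattice) : pol Q u v = pol Q v u := by
  rw [pol, pol, add_comm u v, add_right_comm]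

theorem pol_add (h : Form Q) (u v w : leechLattice) : pol Q u (v + w) = pol Q u v + pol Q u w := by
  have h1 := h.quad u v w
  rw [pol, pol, pol, ← add_assoc u v w]
  revert h1
  generalize Q (u + v + w) = a
  generalize Q (u + v) = b
  generalize Q (u + w) = c
  generalize Q (v + w) = d
  generalize Q u = e
  generalize Q v = f
  generalize Q w = g
  revert a b c d e f g
  decide

/-- The polar form in the second argument. -/
def polHom (h : Form Q) (u : leechLattice) : leechLattice →+ ZMod 2 :=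
  AddMonoidHom.mk' (pol Q u) (h.pol_add u)

theorem polHom_apply (h : Form Q) (u v : leechLattice) : h.polHom u v = pol Q u v := rfl

theorem pol_neg (h : Form Q) (u v : leechLattice) : pol Q u (-v) = pol Q u v := by
  rw [← h.polHom_apply, map_neg, z2_rules.2.1, h.polHom_apply]

theorem pol_double (h : Form Q) (u v : leechLattice) : pol Q u (v + v) = 0 := by
  rw [h.pol_add, z2_rules.1]

theorem pol_sub (h : Form Q) (u v w : leechLattice) : pol Q u (v - w) = pol Q u v + pol Q u w := by
  rw [sub_eq_add_neg, h.pol_add, h.pol_neg]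

theorem map_add (h : Form Q) (u v : leechLattice) : Q (u + v) = Q u + Q v + pol Q u v := by
  rw [pol]
  generalize Q (u + v) = a
  generalize Q u = b
  generalize Q v = c
  revert a b c
  decide

theorem map_neg (h : Form Q) (u : leechLattice) : Q (-u) = Q u := by
  have := h.coset (-u) u
  rw [neg_add_cancel_left] at this
  exact this.symm

theorem map_sub (h : Form Q) (u v : leechLattice) : Q (u - v) = Q u + Q v + pol Q u v := by
  rw [sub_eq_add_neg, h.map_add, h.map_neg, h.pol_neg]

theorem pol_smul (h : Form Q) (g : Co0) (u v : leechLattice) :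
    pol Q (g • u) (g • v) = pol Q u v := by
  rw [pol, pol, ← smul_add', h.inv, h.inv, h.inv]

theorem pol_zsmul (h : Form Q) (u v : leechLattice) (k : ℤ) (hv : pol Q u v = 0) :
    pol Q u (k • v) = 0 := by
  rw [← h.polHom_apply, map_zsmul, h.polHom_apply, hv, smul_zero]

/-- Orthogonality to everything can be checked on the generators. -/
theorem pol_eq_zero (h : Form Q) (u : leechLattice) (ha : ∀ p, pol Q u (aL p) = 0)
    (hw : pol Q u wL = 0) (hnu : pol Q u nuL = 0)
    (hf : ∀ k (hk : k < 12), pol Q u (fL (basC k hk)) = 0) (x : leechLattice) : pol Q u x = 0 :=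
  gen_induction (h.polHom u).ker ha hw hnu hf x

end Form

/-- An additive map invariant under the permutations kills the `4 e_p - 4 e_∞`. -/
theorem kill_avec (F : leechLattice →+ ZMod 2)
    (hF : ∀ (σ : Equiv.Perm GolayPt) (hσ : σ ∈ M24) (p : GolayPt),
      F (perm σ hσ • aL p) = F (aL p)) (p : GolayPt) : F (aL p) = 0 := by
  rcases eq_or_ne p none with rfl | hp
  · rw [aL_none, map_zero]
  have hmove : ∀ p j k : GolayPt, p ≠ none → j ≠ k → F (aL j) + F (aL k) = F (aL p) := by
    intro p j k hp hjk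
    obtain ⟨g, hg, hgx⟩ := exists_map (n := 2) (by norm_num) ![p, none] ![j, k]
      (by intro a b; fin_cases a <;> fin_cases b <;> simp [hp, Ne.symm hp])
      (by intro a b; fin_cases a <;> fin_cases b <;> simp [hjk, Ne.symm hjk])
    have e0 : g p = j := hgx 0
    have e1 : g none = k := hgx 1
    have := hF g⁻¹ (inv_mem hg) p
    rw [perm_aL, map_sub, Equiv.Perm.inv_def, Equiv.symm_symm, e0, e1, sub_eq_add_neg,
      z2_rules.2.1] at this
    exact this
  obtain ⟨j, hj, hjp⟩ : ∃ j : GolayPt, j ≠ none ∧ j ≠ p := by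
    revert p
    decide
  have h1 := hmove p j none hp hj
  have h2 := hmove p j p hp hjp
  rw [aL_none, map_zero, add_zero] at h1
  rw [h1, z2_rules.1] at h2
  exact h2.symm

/-- The image of a basis word under a generating permutation. -/
def img (g j : ℕ) : ℕ := mask fun p => word (bas j) (sgenFun g p)

/-- Expression of the basis words in differences `σ c + c`. -/
def cert : List (List (ℕ × ℕ)) :=
  [[(0, 0), (0, 1), (0, 3), (0, 8), (1, 2)], [(0, 0), (0, 1)],
    [(0, 0), (0, 2), (0, 3), (0, 8), (1, 2)], [(0, 0), (0, 1), (0, 2), (0, 3)],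
    [(0, 0), (0, 2), (0, 4), (0, 8), (1, 2)], [(0, 0), (0, 2), (0, 4), (0, 5), (0, 8), (1, 2)],
    [(0, 0), (0, 2), (0, 4), (0, 5), (0, 6), (0, 8), (1, 2)],
    [(0, 0), (0, 1), (0, 2), (0, 3), (0, 4), (0, 5), (0, 6), (0, 7)],
    [(0, 0), (0, 1), (0, 2), (0, 3), (0, 4), (0, 5), (0, 6), (0, 7), (0, 8)],
    [(0, 0), (0, 1), (0, 2), (0, 3), (0, 4), (0, 5), (0, 6), (0, 7), (0, 8), (0, 9)],
    [(0, 0), (0, 2), (0, 4), (0, 5), (0, 6), (0, 7), (0, 9), (0, 10), (1, 2)],
    [(0, 1), (0, 3), (0, 8), (1, 2)]]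

theorem cert_ok : ∀ k < 12, (∀ r ∈ cert.getD k [], r.2 < 12) ∧
    (cert.getD k []).foldr (fun r acc => (img r.1 r.2 ^^^ bas r.2) ^^^ acc) 0 = bas k := by
  decide +kernel

/-- An invariant linear functional on the code vanishes. -/
theorem kill_code (φ : (GolayPt → ZMod 2) → ZMod 2)
    (hadd : ∀ v w, v ∈ golayCode → w ∈ golayCode → φ (v + w) = φ v + φ w)
    (hinv : ∀ (σ : Equiv.Perm GolayPt), σ ∈ M24 → ∀ v ∈ golayCode,
      φ (fun p => v (σ p)) = φ v) {v : GolayPt → ZMod 2} (hv : v ∈ golayCode) : φ v = 0 := by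
  have h0 : φ 0 = 0 := by
    have := hadd 0 0 (zero_mem _) (zero_mem _)
    rwa [add_zero, eq_comm, add_eq_left] at this
  refine (code_induction (P := fun v => v ∈ golayCode ∧ φ v = 0) ⟨zero_mem _, h0⟩ ?_ ?_ hv).2
  · intro k hk
    refine ⟨word_bas_mem hk, ?_⟩
    obtain ⟨hlt, e⟩ := cert_ok k hk
    rw [← e]
    suffices H : ∀ l : List (ℕ × ℕ), (∀ r ∈ l, r.2 < 12) →
        word (l.foldr (fun r acc => (img r.1 r.2 ^^^ bas r.2) ^^^ acc) 0) ∈ golayCode ∧
        φ (word (l.foldr (fun r acc => (img r.1 r.2 ^^^ bas r.2) ^^^ acc) 0)) = 0 from (H _ hlt).2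
    intro l
    induction l with
    | nil => intro _; rw [List.foldr_nil, word_zero]; exact ⟨zero_mem _, h0⟩
    | cons r l ih =>
      intro hl
      obtain ⟨hm, hz⟩ := ih fun s hs => hl s (List.mem_cons_of_mem _ hs)
      have hb := word_bas_mem (hl r List.mem_cons_self)
      have himg : word (img r.1 r.2) = fun p => word (bas r.2) (sgen r.1 p) := by
        rw [img, word_mask]
        funext p
        rw [sgen_apply]
      have hmi : word (img r.1 r.2) ∈ golayCode := by
        rw [himg]; exact comp_mem_code (sgen_mem r.1) hb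
      rw [List.foldr_cons, word_xor, word_xor]
      refine ⟨add_mem (add_mem hmi hb) hm, ?_⟩
      rw [hadd _ _ (add_mem hmi hb) hm, hadd _ _ hmi hb, hz, himg,
        hinv _ (sgen_mem r.1) _ hb, z2_rules.1, add_zero]
  · rintro a b ⟨ha, ha0⟩ ⟨hb, hb0⟩
    exact ⟨add_mem ha hb, by rw [hadd a b ha hb, ha0, hb0, add_zero]⟩

/-- The parity of the coordinates. -/
def par : leechLattice →+ ZMod 2 :=
  AddMonoidHom.mk' (fun x => (((x : GolayPt → ℤ) none : ℤ) : ZMod 2)) fun x y => by
    simp [AddSubgroup.coe_add]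

theorem eight_dvd_dot (u v : leechLattice) :
    (8 : ℤ) ∣ dotInt (u : GolayPt → ℤ) (v : GolayPt → ℤ) := by
  have h1 := sixteen_dvd (mem_lattice.1 u.2)
  have h2 := sixteen_dvd (mem_lattice.1 v.2)
  have h3 := sixteen_dvd (mem_lattice.1 (add_mem u.2 v.2))
  rw [LeechShort.sqNorm_add] at h3
  omega

/-- The norm form. -/
def qf (v : leechLattice) : ZMod 2 := ((sqNorm (v : GolayPt → ℤ) / 16 : ℤ) : ZMod 2)

theorem pol_qf (u v : leechLattice) :
    pol qf u v = ((dotInt (u : GolayPt → ℤ) (v : GolayPt → ℤ) / 8 : ℤ) : ZMod 2) := by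
  rw [pol, qf, qf, qf, AddSubgroup.coe_add, LeechShort.sqNorm_add, ← Int.cast_add, ← Int.cast_add,
    ZMod.intCast_eq_intCast_iff_dvd_sub]
  have h1 := sixteen_dvd (mem_lattice.1 u.2)
  have h2 := sixteen_dvd (mem_lattice.1 v.2)
  have h3 := eight_dvd_dot u v
  omega

theorem form_qf : Form qf where
  coset v w := by
    have h : pol qf v (w + w) = 0 ∧ qf (w + w) = 0 := by
      constructor
      · rw [pol_qf, AddSubgroup.coe_add, ZMod.intCast_zmod_eq_zero_iff_dvd]
        have h1 := eight_dvd_dot v w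
        have e : dotInt (v : GolayPt → ℤ) ((w : GolayPt → ℤ) + (w : GolayPt → ℤ)) =
            2 * dotInt (v : GolayPt → ℤ) (w : GolayPt → ℤ) := by
          simp only [dotInt, Pi.add_apply, Finset.mul_sum]
          exact Finset.sum_congr rfl fun i _ => by ring
        rw [e]
        omega
      · rw [qf, AddSubgroup.coe_add, ← two_nsmul, LeechShort.sqNorm_two_nsmul,
          ZMod.intCast_zmod_eq_zero_iff_dvd]
        have h1 := sixteen_dvd (mem_lattice.1 w.2)
        omega
    obtain ⟨h1, h2⟩ := h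
    rw [pol, h2, add_zero] at h1
    exact (eq_neg_of_add_eq_zero_left h1).trans (z2_rules.2.1 _)
  quad u v w := by
    have e : pol qf u (v + w) = pol qf u v + pol qf u w := by
      rw [pol_qf, pol_qf, pol_qf, AddSubgroup.coe_add, ← Int.cast_add]
      have e : dotInt (u : GolayPt → ℤ) ((v : GolayPt → ℤ) + (w : GolayPt → ℤ)) =
          dotInt (u : GolayPt → ℤ) (v : GolayPt → ℤ) + dotInt (u : GolayPt → ℤ) (w : GolayPt → ℤ) := by
        simp only [dotInt, Pi.add_apply, mul_add, Finset.sum_add_distrib]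
      rw [e, Int.add_ediv_of_dvd_left (eight_dvd_dot u v)]
    rw [pol, pol, pol, ← add_assoc u v w] at e
    revert e
    generalize qf (u + v + w) = a
    generalize qf (u + v) = b
    generalize qf (u + w) = c
    generalize qf (v + w) = d
    generalize qf u = e
    generalize qf v = f
    generalize qf w = g
    revert a b c d e f g
    decide
  inv g v := congrArg (fun z : ℤ => ((z / 16 : ℤ) : ZMod 2)) (g.2.2 v)

theorem pol_qf_wL (v : leechLattice) : pol qf wL v = par v := by
  rw [pol_qf]
  have e : dotInt (wL : GolayPt → ℤ) (v : GolayPt → ℤ) = 8 * (v : GolayPt → ℤ) none := by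
    simp [dotInt, wL_apply]
  rw [e, Int.mul_ediv_cancel_left _ (by norm_num)]
  rfl

theorem par_vals : (∀ p, par (aL p) = 0) ∧ par wL = 0 ∧ par nuL = 1 ∧
    ∀ v : golayCode, par (fL v) = 0 := by
  refine ⟨fun p => ?_, ?_, rfl, fun v => ?_⟩
  · change ((avec p none : ℤ) : ZMod 2) = 0
    unfold avec
    split_ifs <;> decide
  · change (((wL : GolayPt → ℤ) none : ℤ) : ZMod 2) = 0
    rw [wL_apply, if_pos rfl]
    decide
  · change ((fvec v none : ℤ) : ZMod 2) = 0
    rw [fvec, Int.cast_mul, show ((2 : ℤ) : ZMod 2) = 0 from rfl, zero_mul]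

section derivation

variable {T : leechLattice → ZMod 2} (h : Form T) (hperp : ∀ v, pol T wL v = 0)
include h hperp

theorem w_zero : T wL = 0 := by
  obtain ⟨C, hC, hpC, hn⟩ := separates none (some 0) (by decide)
  obtain ⟨v, hv, rfl⟩ := hC
  have hp1 : (v : GolayPt → ZMod 2) (some 0) ≠ 0 := by simpa [support₂] using hpC
  have hn1 : v none = 0 := by simpa [support₂] using hn
  have e : sign ⟨v, hv⟩ • aL (some 0) = -(aL (some 0) + wL) := by
    ext i
    rw [sign_apply, AddSubgroup.coe_neg, AddSubgroup.coe_add, Pi.neg_apply, Pi.add_apply, wL_apply]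
    simp only [aL, avec]
    rcases eq_or_ne i none with rfl | hi
    · simp [hn1]
    · rcases eq_or_ne i (some 0) with rfl | hi'
      · simp [hp1]
      · simp [hi, hi']
  have h1 := h.inv (sign ⟨v, hv⟩) (aL (some 0))
  rw [e, h.map_neg, h.map_add, h.pol_comm, hperp, add_zero, add_eq_left] at h1
  exact h1

theorem pol_wL_right (u : leechLattice) : pol T u wL = 0 := by rw [h.pol_comm, hperp]

theorem avec_facts : (∀ p, T (aL p) = 0) ∧ ∀ p r, pol T (aL p) (aL r) = 0 := by
  set τ := T (aL (some 0)) with hτ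
  have hmove : ∀ j k : GolayPt, j ≠ k → T (aL j - aL k) = τ := by
    intro j k hjk
    obtain ⟨g, hg, hgx⟩ := exists_map (n := 2) (by norm_num) ![some 0, none] ![j, k]
      (by intro a b; fin_cases a <;> fin_cases b <;> simp)
      (by intro a b; fin_cases a <;> fin_cases b <;> simp [hjk, Ne.symm hjk])
    have e0 : g (some 0) = j := hgx 0
    have e1 : g none = k := hgx 1
    have := h.inv (perm g⁻¹ (inv_mem hg)) (aL (some 0))
    rwa [perm_aL, Equiv.Perm.inv_def, Equiv.symm_symm, e0, e1] at this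
  have hval : ∀ p, p ≠ none → T (aL p) = τ := fun p hp => by
    have := hmove p none hp
    rwa [aL_none, sub_zero] at this
  have hpol : ∀ p r, p ≠ none → r ≠ none → p ≠ r → pol T (aL p) (aL r) = τ := fun p r hp hr hpr => by
    have := hmove p r hpr
    rwa [h.map_sub, hval p hp, hval r hr, z2_rules.1, zero_add] at this
  obtain ⟨C, hC, hpC, hn⟩ := separates none (some 0) (by decide)
  obtain ⟨v, hv, rfl⟩ := hC
  have e : ∑ r ∈ support₂ v, aL r =
      (fL ⟨v, hv⟩ + fL ⟨v, hv⟩) - (((support₂ v).card : ℤ) / 2) • wL := by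
    ext i
    rw [AddSubgroup.val_finsetSum, Finset.sum_apply, AddSubgroupClass.coe_sub, AddSubgroup.coe_add,
      AddSubgroupClass.coe_zsmul, Pi.sub_apply, Pi.add_apply, Pi.smul_apply, smul_eq_mul, wL_apply]
    simp only [aL, avec, fL, fvec, Finset.sum_sub_distrib, Finset.sum_ite_eq]
    have h4 := (card_support hv).1
    rcases eq_or_ne i none with rfl | hi
    · have hn1 : v none = 0 := by simpa [support₂] using hn
      simp only [if_pos, if_neg hn, hn1, ZMod.val_zero, Finset.sum_const, nsmul_eq_mul]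
      omega
    · simp only [if_neg hi, Finset.sum_const_zero, sub_zero, mul_zero]
      rcases z2_rules.2.2 (v i) with hv1 | hv1 <;> simp [support₂, hv1, ZMod.val_one]
  have hτ0 : τ = 0 := by
    have h1 : pol T (aL (some 0)) (∑ r ∈ support₂ v, aL r) = 0 := by
      rw [e, h.pol_sub, h.pol_double, h.pol_zsmul _ _ _ (pol_wL_right h hperp _), add_zero]
    have hterm : ∀ r ∈ (support₂ v).erase (some 0), h.polHom (aL (some 0)) (aL r) = τ := by
      intro r hr
      obtain ⟨hr0, hrC⟩ := Finset.mem_erase.1 hr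
      exact hpol _ r (Option.some_ne_none _) (fun hc => hn (hc ▸ hrC)) (Ne.symm hr0)
    rw [← h.polHom_apply, map_sum, ← Finset.add_sum_erase _ _ hpC, h.polHom_apply, h.pol_self,
      zero_add, Finset.sum_congr rfl hterm, Finset.sum_const, nsmul_eq_mul] at h1
    have hodd : (((support₂ v).erase (some 0)).card : ZMod 2) = 1 := by
      rw [Finset.card_erase_of_mem hpC, ZMod.natCast_eq_one_iff_odd]
      have h4 := (card_support hv).1
      have := Finset.card_pos.2 ⟨_, hpC⟩
      obtain ⟨c, hc⟩ := h4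
      exact ⟨2 * c - 1, by omega⟩
    rwa [hodd, one_mul] at h1
  constructor
  · intro p
    rcases eq_or_ne p none with rfl | hp
    · rw [aL_none, h.zero]
    · rw [hval p hp, hτ0]
  · intro p r
    rcases eq_or_ne p none with rfl | hp
    · rw [aL_none, h.pol_comm, ← h.polHom_apply, map_zero]
    rcases eq_or_ne r none with rfl | hr
    · rw [aL_none, ← h.polHom_apply, map_zero]
    rcases eq_or_ne p r with rfl | hpr
    · exact h.pol_self _
    · rw [hpol p r hp hr hpr, hτ0]

theorem pol_aL_fL (p : GolayPt) (v : golayCode) : pol T (aL p) (fL v) = 0 := by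
  have h1 := h.pol_smul (sign v) (aL p) nuL
  obtain ⟨k, hk⟩ := sign_aL v p
  obtain ⟨l, hl⟩ := sign_nuL v
  have hkill : ∀ u, pol T u (k • wL) = 0 := fun u => h.pol_zsmul _ _ _ (pol_wL_right h hperp u)
  have hkill' : ∀ u, pol T u (l • wL) = 0 := fun u => h.pol_zsmul _ _ _ (pol_wL_right h hperp u)
  have e : pol T (sign v • aL p) (sign v • nuL) = pol T (aL p) (nuL - fL v + l • wL) := by
    rw [hl, h.pol_comm]
    rcases hk with hk | hk <;> rw [hk, h.pol_add, hkill, add_zero]
    · exact h.pol_comm _ _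
    · rw [h.pol_neg]; exact h.pol_comm _ _
  rw [e, h.pol_add, hkill', add_zero, h.pol_sub, add_eq_left] at h1
  exact h1

theorem pol_nu_aL (p : GolayPt) : pol T nuL (aL p) = 0 := by
  refine kill_avec (h.polHom nuL) (fun σ hσ p => ?_) p
  rw [h.polHom_apply, h.polHom_apply]
  have h1 := h.pol_smul (perm σ hσ) nuL (aL p)
  rw [perm_nuL, h.pol_comm, h.pol_sub] at h1
  have h2 : pol T (perm σ hσ • aL p) (aL (σ.symm none)) = 0 := by
    rw [perm_aL, h.pol_comm, h.pol_sub, (avec_facts h hperp).2, (avec_facts h hperp).2, add_zero]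
  rw [h2, add_zero, h.pol_comm] at h1
  exact h1

theorem pol_aL (p : GolayPt) (x : leechLattice) : pol T (aL p) x = 0 :=
  h.pol_eq_zero _ ((avec_facts h hperp).2 p) (pol_wL_right h hperp _)
    (by rw [h.pol_comm]; exact pol_nu_aL h hperp p) (fun _ _ => pol_aL_fL h hperp p _) x

/-- The radical contains the vectors divisible by four. -/
theorem four_radical {x : leechLattice} (h4 : ∀ i, (4 : ℤ) ∣ (x : GolayPt → ℤ) i) :
    T x = 0 ∧ ∀ y, pol T x y = 0 := by
  let S : AddSubgroup leechLattice :=
    { carrier := {x | T x = 0 ∧ ∀ y, pol T x y = 0}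
      zero_mem' := ⟨h.zero, fun y => by rw [h.pol_comm, ← h.polHom_apply, _root_.map_zero]⟩
      add_mem' := fun {a b} ha hb =>
        ⟨by rw [h.map_add, ha.1, hb.1, ha.2, add_zero, add_zero],
          fun y => by rw [h.pol_comm, h.pol_add, h.pol_comm, ha.2, h.pol_comm, hb.2, add_zero]⟩
      neg_mem' := fun {a} ha =>
        ⟨by rw [h.map_neg, ha.1], fun y => by rw [h.pol_comm, h.pol_neg, h.pol_comm, ha.2]⟩ }
  exact four_decomp S (fun p => ⟨(avec_facts h hperp).1 p, pol_aL h hperp p⟩)
    ⟨w_zero h hperp, hperp⟩ h4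

theorem fL_zero (v : golayCode) : T (fL v) = 0 ∧ pol T nuL (fL v) = 0 := by
  have hlin : ∀ v : golayCode, T (fL v) = pol T nuL (fL v) := by
    intro v
    have h1 := h.inv (sign v) nuL
    obtain ⟨l, hl⟩ := sign_nuL v
    have hl4 : ∀ i, (4 : ℤ) ∣ ((l • wL : leechLattice) : GolayPt → ℤ) i := fun i => by
      rw [AddSubgroupClass.coe_zsmul, Pi.smul_apply, smul_eq_mul, wL_apply]
      refine Dvd.dvd.mul_left ?_ _
      split_ifs <;> norm_num
    rw [hl, h.map_add, (four_radical h hperp hl4).1, h.pol_comm, (four_radical h hperp hl4).2,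
      add_zero, add_zero, h.map_sub, add_assoc, add_eq_left] at h1
    exact (eq_neg_of_add_eq_zero_left h1).trans (z2_rules.2.1 _)
  classical
  let φ : (GolayPt → ZMod 2) → ZMod 2 := fun v => if hv : v ∈ golayCode then T (fL ⟨v, hv⟩) else 0
  have h0 : φ v = 0 := by
    refine kill_code φ ?_ ?_ v.2
    · intro a b ha hb
      simp only [φ, dif_pos ha, dif_pos hb, dif_pos (add_mem ha hb)]
      rw [hlin, hlin, hlin, ← h.pol_add]
      have h4 := (four_radical h hperp (x := fL ⟨a, ha⟩ + fL ⟨b, hb⟩ - fL ⟨a + b, add_mem ha hb⟩)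
        (fun i => fvec_add_four a b i)).2 nuL
      rw [h.pol_comm, h.pol_sub] at h4
      exact ((eq_neg_of_add_eq_zero_left h4).trans (z2_rules.2.1 _)).symm
    · intro σ hσ a ha
      simp only [φ, dif_pos ha, dif_pos (comp_mem_code hσ ha)]
      rw [← perm_fL σ hσ ⟨a, ha⟩, h.inv]
  simp only [φ, dif_pos v.2] at h0
  exact ⟨h0, by rw [← hlin]; exact h0⟩

theorem pol_fL_fL (v v' : golayCode) : pol T (fL v) (fL v') = 0 := by
  set d := fL v + fL v' - fL (v + v') with hd
  have hrad := four_radical h hperp (x := d)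
    (fun i => fvec_add_four (v : GolayPt → ZMod 2) (v' : GolayPt → ZMod 2) i)
  have e : fL v + fL v' = fL (v + v') + d := by rw [hd]; abel
  have h1 := h.map_add (fL v) (fL v')
  rw [e, h.map_add, (fL_zero h hperp v).1, (fL_zero h hperp v').1, (fL_zero h hperp (v + v')).1,
    hrad.1, h.pol_comm, hrad.2] at h1
  simpa using h1.symm

theorem eq_par (x : leechLattice) : T x = T nuL * par x := by
  have hzero : ∀ u y, pol T u y = 0 := by
    intro u y
    have hN : ∀ x, pol T nuL x = 0 := h.pol_eq_zero _ (pol_nu_aL h hperp)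
      (pol_wL_right h hperp _) (h.pol_self _) fun _ _ => (fL_zero h hperp _).2
    refine h.pol_eq_zero u (fun p => ?_) (pol_wL_right h hperp _) ?_ (fun k hk => ?_) y
    · rw [h.pol_comm]; exact pol_aL h hperp p u
    · rw [h.pol_comm]; exact hN u
    · rw [h.pol_comm]
      exact h.pol_eq_zero _ (fun p => by rw [h.pol_comm]; exact pol_aL h hperp p _)
        (pol_wL_right h hperp _) (by rw [h.pol_comm]; exact hN _)
        (fun _ _ => pol_fL_fL h hperp _ _) u
  let F : leechLattice →+ ZMod 2 := AddMonoidHom.mk'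
    (fun x => T x + T nuL * par x) fun a b => by
      rw [h.map_add, hzero, _root_.map_add]; ring
  have := gen_induction F.ker (fun p => ?_) ?_ ?_ (fun k hk => ?_) x
  · exact (eq_neg_of_add_eq_zero_left this).trans (z2_rules.2.1 _)
  · change T (aL p) + T nuL * par (aL p) = 0
    rw [(avec_facts h hperp).1, par_vals.1, mul_zero, add_zero]
  · change T wL + T nuL * par wL = 0
    rw [w_zero h hperp, par_vals.2.1, mul_zero, add_zero]
  · change T nuL + T nuL * par nuL = 0
    rw [par_vals.2.2.1, mul_one, z2_rules.1]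
  · change T _ + T nuL * par _ = 0
    rw [(fL_zero h hperp _).1, par_vals.2.2.2, mul_zero, add_zero]

end derivation

/-- Every invariant form is a multiple of the norm form. -/
theorem eq_qf {Q : leechLattice → ZMod 2} (h : Form Q) : ∃ δ, ∀ v, Q v = δ * qf v := by
  -- the functional of `w` on the part with even coordinates
  have hwperm : ∀ (σ : Equiv.Perm GolayPt) (hσ : σ ∈ M24) (x : leechLattice),
      pol Q wL (perm σ hσ • x) = pol Q wL x := by
    intro σ hσ x
    have h1 := h.pol_smul (perm σ hσ) wL x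
    rw [perm_wL, h.pol_comm, h.pol_add, h.pol_double, zero_add, h.pol_comm] at h1
    exact h1
  have hwa : ∀ p, pol Q wL (aL p) = 0 := kill_avec (h.polHom wL) fun σ hσ p => hwperm σ hσ _
  have hwf : ∀ v : golayCode, pol Q wL (fL v) = 0 := by
    intro v
    classical
    let φ : (GolayPt → ZMod 2) → ZMod 2 :=
      fun v => if hv : v ∈ golayCode then pol Q wL (fL ⟨v, hv⟩) else 0
    have h0 : φ v = 0 := by
      refine kill_code φ ?_ ?_ v.2
      · intro a b ha hb
        simp only [φ, dif_pos ha, dif_pos hb, dif_pos (add_mem ha hb)]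
        have h4 : fL ⟨a, ha⟩ + fL ⟨b, hb⟩ - fL ⟨a + b, add_mem ha hb⟩ ∈ (h.polHom wL).ker :=
          four_decomp _ hwa (h.pol_self _) fun i => fvec_add_four a b i
        change pol Q wL _ = 0 at h4
        rw [h.pol_sub, h.pol_add] at h4
        exact ((eq_neg_of_add_eq_zero_left h4).trans (z2_rules.2.1 _)).symm
      · intro σ hσ a ha
        simp only [φ, dif_pos ha, dif_pos (comp_mem_code hσ ha)]
        rw [← perm_fL σ hσ ⟨a, ha⟩, hwperm]
    simpa only [φ, dif_pos v.2] using h0
  refine ⟨pol Q wL nuL, ?_⟩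
  set δ := pol Q wL nuL with hδ
  set T : leechLattice → ZMod 2 := fun v => Q v + δ * qf v with hT
  have hpolT : ∀ u v, pol T u v = pol Q u v + δ * pol qf u v := fun u v => by
    simp only [hT, pol]; ring
  have hFT : Form T :=
    { coset := fun v w => by simp only [hT, h.coset, form_qf.coset]
      quad := fun u v w => by
        simp only [hT]
        linear_combination h.quad u v w + δ * form_qf.quad u v w
      inv := fun g v => by simp only [hT, h.inv, form_qf.inv] }
  have hperp : ∀ v, pol T wL v = 0 := by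
    refine hFT.pol_eq_zero _ (fun p => ?_) (hFT.pol_self _) ?_ (fun k hk => ?_)
    · rw [hpolT, hwa, pol_qf_wL, par_vals.1, mul_zero, add_zero]
    · rw [hpolT, pol_qf_wL, par_vals.2.2.1, mul_one, ← hδ, z2_rules.1]
    · rw [hpolT, hwf, pol_qf_wL, par_vals.2.2.2, mul_zero, add_zero]
  have heps : T nuL = 0 := by
    obtain ⟨h0, h1⟩ := LeechXi.xi_moves_parity
    have e := hFT.inv LeechXi.xi (fL (basC 1 (by norm_num)))
    rw [eq_par hFT hperp, eq_par hFT hperp (fL _)] at e
    have p0 : par (fL (basC 1 (by norm_num))) = 0 := par_vals.2.2.2 _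
    have p1 : par (LeechXi.xi • fL (basC 1 (by norm_num))) = 1 := by
      change ((_ : ℤ) : ZMod 2) = ((1 : ℤ) : ZMod 2)
      rw [ZMod.intCast_eq_intCast_iff']
      exact h1
    rwa [p0, p1, mul_one, mul_zero] at e
  intro v
  have := eq_par hFT hperp v
  rw [heps, zero_mul] at this
  exact (eq_neg_of_add_eq_zero_left this).trans (z2_rules.2.1 _)

/-- A nonzero invariant form is the norm form. -/
theorem eq_qf_of_ne {Q : leechLattice → ZMod 2} (h : Form Q) (hne : ∃ v, Q v ≠ 0) (v : leechLattice) :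
    Q v = qf v := by
  obtain ⟨δ, hδ⟩ := eq_qf h
  rcases z2_rules.2.2 δ with rfl | rfl
  · obtain ⟨u, hu⟩ := hne
    exact absurd (by rw [hδ, zero_mul]) hu
  · rw [hδ, one_mul]

end CfsgLib.ThreeTransp.LeechForm
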