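import Cfsg.Agent.Lib.SmallGroups.LeechBasic

/-!
# Short lattice vectors modulo twice the lattice
-/

set_option autoImplicit false

namespace CfsgLib.ThreeTransp.LeechShort

open Cfsg CfsgLib.SmallGroups.LeechBasic

theorem sqNorm_add (x y : GolayPt → ℤ) : sqNorm (x + y) = sqNorm x + sqNorm y + 2 * dotInt x y := by
  simp only [sqNorm, dotInt, Pi.add_apply, Finset.mul_sum, ← Finset.sum_add_distrib]
  exact Finset.sum_congr rfl fun i _ => by ring

theorem sqNorm_sub (x y : GolayPt → ℤ) : sqNorm (x - y) = sqNorm x + sqNorm y - 2 * dotInt x y := by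
  simp only [sqNorm, dotInt, Pi.sub_apply, Finset.mul_sum, ← Finset.sum_add_distrib,
    ← Finset.sum_sub_distrib]
  exact Finset.sum_congr rfl fun i _ => by ring

theorem sqNorm_two_nsmul (z : GolayPt → ℤ) : sqNorm (2 • z) = 4 * sqNorm z := by
  simp only [sqNorm, Pi.smul_apply, Finset.mul_sum, nsmul_eq_mul]
  exact Finset.sum_congr rfl fun i _ => by push_cast; ring

/-- Congruent short vectors are opposite or form an orthogonal pair of norm `64`. -/
theorem short_congr {v w : GolayPt → ℤ} (hw : w ∈ leechLattice) (hne : v ≠ w)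
    (hvn : sqNorm v ≤ 64) (hwn : sqNorm w ≤ 64) (hc : ∃ z ∈ leechLattice, v - w = 2 • z) :
    v = -w ∨ (sqNorm v = 64 ∧ sqNorm w = 64 ∧ dotInt v w = 0) := by
  obtain ⟨z, hz, hd⟩ := hc
  by_cases hop : v + w = 0
  · exact Or.inl (eq_neg_of_add_eq_zero_left hop)
  have hs : v + w = 2 • (z + w) := by
    have e : v = 2 • z + w := eq_add_of_sub_eq hd
    rw [e, smul_add, two_nsmul w, ← add_assoc]
  have h1 : 128 ≤ sqNorm (v - w) := by
    rw [hd, sqNorm_two_nsmul]
    have := thirtytwo_le (mem_lattice.1 hz) (fun h => hne (sub_eq_zero.1 (by rw [hd, h, smul_zero])))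
    omega
  have h2 : 128 ≤ sqNorm (v + w) := by
    rw [hs, sqNorm_two_nsmul]
    have := thirtytwo_le (mem_lattice.1 (add_mem hz hw)) (fun h => hop (by rw [hs, h, smul_zero]))
    omega
  rw [sqNorm_add] at h2
  rw [sqNorm_sub] at h1
  exact Or.inr ⟨by omega, by omega, by omega⟩

theorem sqNorm_neg (x : GolayPt → ℤ) : sqNorm (-x) = sqNorm x := by
  simp [sqNorm]

end CfsgLib.ThreeTransp.LeechShort
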