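import Cfsg.Agent.Lib.SmallGroups.LeechIndex
import Cfsg.Agent.Lib.ThreeTransp.LeechShort

/-!
# A complex structure on the lattice and a maximal totally singular subspace
-/

set_option autoImplicit false

namespace CfsgLib.ThreeTransp.LeechPolar

open Cfsg CfsgLib.SmallGroups.LeechBasic CfsgLib.SmallGroups.LeechIndex CfsgLib.SmallGroups.M24Group
open CfsgLib.SmallGroups.Golay

/-- A codeword with one point in each orbit of `x ↦ -1/x`. -/
def cset : Finset GolayPt := toSet (enc 238)

theorem cset_mem : cset ∈ supports (golayCode : Set (GolayPt → ZMod 2)) := by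
  rw [cset, ← support₂_word]
  exact mem_supports_word (word_enc_mem 238)

theorem cset_pair : ∀ p, (p ∈ cset ↔ projInv p ∉ cset) ∧ projInv (projInv p) = p := by
  decide +kernel

/-- A square root of `-1`. -/
def imag : (GolayPt → ℤ) →+ (GolayPt → ℤ) where
  toFun x p := if p ∈ cset then -x (projInv p) else x (projInv p)
  map_zero' := by funext p; simp
  map_add' x y := by funext p; simp only [Pi.add_apply]; split <;> ring

theorem imag_imag (x : GolayPt → ℤ) : imag (imag x) = -x := by
  funext p
  obtain ⟨h, e⟩ := cset_pair p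
  simp only [imag, AddMonoidHom.coe_mk, ZeroHom.coe_mk, Pi.neg_apply, e]
  by_cases hp : p ∈ cset
  · simp [hp, h.1 hp]
  · simp [hp, not_not.1 (mt h.2 hp)]

theorem imag_mem {x : GolayPt → ℤ} (hx : x ∈ leechLattice) : imag x ∈ leechLattice := by
  refine mem_lattice.2 ?_
  have h : Good fun p => x (projInv p) := good_perm (sgen_mem 1) (mem_lattice.1 hx)
  exact good_sign cset_mem h

theorem sqNorm_imag (x : GolayPt → ℤ) : sqNorm (imag x) = sqNorm x := by
  rw [sqNorm, sqNorm, ← Equiv.sum_comp projInv fun p => x p ^ 2]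
  refine Finset.sum_congr rfl fun p _ => ?_
  change (if p ∈ cset then -x (projInv p) else x (projInv p)) ^ 2 = _
  split <;> ring

theorem dot_imag (x : GolayPt → ℤ) : dotInt x (imag x) = 0 := by
  have h : dotInt x (imag x) = -dotInt x (imag x) := by
    rw [dotInt, ← Finset.sum_neg_distrib]
    conv_lhs => rw [← Equiv.sum_comp projInv]
    refine Finset.sum_congr rfl fun p _ => ?_
    obtain ⟨h, e⟩ := cset_pair p
    simp only [imag, AddMonoidHom.coe_mk, ZeroHom.coe_mk, e]
    by_cases hp : p ∈ cset
    · rw [if_pos hp, if_neg (h.1 hp)]; ring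
    · rw [if_neg hp, if_pos (not_not.1 (mt h.2 hp))]; ring
  omega

/-- Multiplication by `1 + i`. -/
def onePlus : (GolayPt → ℤ) →+ (GolayPt → ℤ) := AddMonoidHom.id _ + imag

theorem onePlus_apply (x : GolayPt → ℤ) : onePlus x = x + imag x := rfl

theorem sqNorm_onePlus (x : GolayPt → ℤ) : sqNorm (onePlus x) = 2 * sqNorm x := by
  rw [onePlus_apply, LeechShort.sqNorm_add, sqNorm_imag, dot_imag]; ring

theorem onePlus_onePlus (x : GolayPt → ℤ) : onePlus (onePlus x) = (2 : ℤ) • imag x := by
  simp only [onePlus_apply, map_add, imag_imag]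
  rw [two_zsmul]; abel

theorem onePlus_injective : Function.Injective onePlus := by
  rw [injective_iff_map_eq_zero]
  intro x hx
  have h := sqNorm_onePlus x
  rw [hx] at h
  have h0 : ∑ i, x i ^ 2 = 0 := by simpa [sqNorm] using h.symm
  funext i
  have := (Finset.sum_eq_zero_iff_of_nonneg fun j _ => sq_nonneg (x j)).1 h0 i (Finset.mem_univ _)
  simpa using this

/-- Doubling. -/
def dbl : (GolayPt → ℤ) →+ (GolayPt → ℤ) :=
  DistribSMul.toAddMonoidHom (GolayPt → ℤ) (2 : ℤ)

/-- The totally singular subgroup. -/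
def half : AddSubgroup (GolayPt → ℤ) := leechLattice.map onePlus

theorem half_le : half ≤ leechLattice := by
  rintro _ ⟨x, hx, rfl⟩
  exact add_mem hx (imag_mem hx)

theorem map_half : half.map onePlus = leechLattice.map dbl := by
  apply le_antisymm
  · rintro _ ⟨_, ⟨x, hx, rfl⟩, rfl⟩
    exact ⟨imag x, imag_mem hx, (onePlus_onePlus x).symm⟩
  · rintro _ ⟨x, hx, rfl⟩
    refine ⟨onePlus (-imag x), ⟨_, neg_mem (imag_mem hx), rfl⟩, ?_⟩
    rw [onePlus_onePlus, map_neg, imag_imag, neg_neg]
    rfl

theorem double_mem {v : GolayPt → ℤ} (hv : v ∈ leechLattice) : (2 : ℤ) • v ∈ half := by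
  refine ⟨v - imag v, sub_mem hv (imag_mem hv), ?_⟩
  rw [onePlus_apply, map_sub, imag_imag, two_zsmul]; abel

theorem sqNorm_dvd {v : GolayPt → ℤ} (hv : v ∈ half) : (32 : ℤ) ∣ sqNorm v := by
  obtain ⟨x, hx, rfl⟩ := hv
  rw [sqNorm_onePlus]
  exact mul_dvd_mul_left 2 (sixteen_dvd (mem_lattice.1 hx))

theorem index_dbl_range : dbl.range.index = 2 ^ 24 := by
  let g : (GolayPt → ℤ) →+ (GolayPt → ZMod 2) :=
    { toFun := fun x i => (x i : ZMod 2)
      map_zero' := by funext i; simp
      map_add' := fun x y => by funext i; simp }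
  have hk : g.ker = dbl.range := by
    ext x
    constructor
    · intro hx
      refine ⟨fun i => x i / 2, funext fun i => ?_⟩
      have h : ((x i : ℤ) : ZMod 2) = 0 := congrFun hx i
      rw [ZMod.intCast_zmod_eq_zero_iff_dvd] at h
      change (2 : ℤ) * (x i / 2) = x i
      omega
    · rintro ⟨y, rfl⟩
      funext i
      change (((2 : ℤ) * y i : ℤ) : ZMod 2) = 0
      rw [Int.cast_mul, show ((2 : ℤ) : ZMod 2) = 0 from rfl, zero_mul]
  rw [← hk, AddSubgroup.index_ker, AddMonoidHom.range_eq_top.2]
  · simp [AddSubgroup.card_top, Nat.card_eq_fintype_card, GolayPt]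
  · exact fun f => ⟨fun i => ((f i).val : ℤ), funext fun i => by simp [g]⟩

theorem index_half : (half.addSubgroupOf leechLattice).index = 2 ^ 12 := by
  have hinj : onePlus.ker = ⊥ := onePlus.ker_eq_bot_iff.2 onePlus_injective
  have hdinj : dbl.ker = ⊥ := dbl.ker_eq_bot_iff.2 fun x y h => smul_right_injective _ two_ne_zero h
  have h1 := AddSubgroup.index_map (H := leechLattice) onePlus
  rw [hinj, sup_bot_eq] at h1
  have h2 := AddSubgroup.index_map (H := half) onePlus
  rw [hinj, sup_bot_eq, map_half, AddSubgroup.index_map, hdinj, sup_bot_eq, index_dbl_range] at h2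
  have h3 := AddSubgroup.relIndex_mul_index half_le
  change half.index = _ at h1
  rw [index_lattice] at h1 h2 h3
  change half.relIndex leechLattice = _
  generalize half.relIndex leechLattice = a at *
  generalize onePlus.range.index = r at *
  generalize half.index = b at *
  have ha : a = r := Nat.eq_of_mul_eq_mul_right (by norm_num : 0 < 2 ^ 36) (by rw [h3, h1, mul_comm])
  subst ha
  rw [h1, mul_assoc] at h2
  have : a * a = (2 ^ 12) * (2 ^ 12) := by
    rw [← Nat.eq_of_mul_eq_mul_left (by norm_num : 0 < 2 ^ 36) h2]; norm_num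
  exact Nat.mul_self_inj.1 this

end CfsgLib.ThreeTransp.LeechPolar
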