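import Cfsg.Prelude.Def_MonsterType
import Cfsg.Agent.Lib.ThreeTransp.Extraspecial
import Cfsg.Agent.Lib.ThreeTransp.LeechForm
import Cfsg.Agent.Lib.ThreeTransp.LeechPolar

/-!
# The squaring map of the extraspecial subgroup in a group of Monster type
-/

set_option autoImplicit false

namespace CfsgLib.ThreeTransp.LeechMonster

open Cfsg CfsgLib.ThreeTransp.Extraspecial

section square

variable {C : Type*} [Group C] [Finite C] {Q : Subgroup C} {t : C}

open scoped Classical in
/-- `0` on elements with trivial square, `1` otherwise. -/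
noncomputable def sqv (a : C) : ZMod 2 := if a * a = 1 then 0 else 1

theorem mul_t_sq (h : Extra Q t) {a k : C} (ha : a ∈ Q) (hk : k = 1 ∨ k = t) :
    a * k * (a * k) = a * a := by
  rcases hk with rfl | rfl
  · simp
  · rw [mul_assoc, ← mul_assoc k a k, h.z_comm ha, mul_assoc a k k, h.z_sq, mul_one]

theorem conj_t (h : Extra Q t) {a b : C} (ha : a ∈ Q) (hb : b ∈ Q) :
    ∃ k : C, (k = 1 ∨ k = t) ∧ b * a = a * b * k := by
  rcases h.conj_cases ha hb with e | e
  · exact ⟨1, Or.inl rfl, by rw [mul_one]; exact mul_inv_eq_iff_eq_mul.1 e⟩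
  · refine ⟨t, Or.inr rfl, ?_⟩
    rw [mul_inv_eq_iff_eq_mul.1 e, mul_assoc a t b, h.z_comm hb, ← mul_assoc]

open scoped Classical in
/-- The indicator of non-commuting pairs. -/
noncomputable def cv (a b : C) : ZMod 2 := if a * b = b * a then 0 else 1

open scoped Classical in
theorem cv_of (h : Extra Q t) {a b k : C} (hk : k = 1 ∨ k = t) (e : b * a = a * b * k) :
    cv a b = if k = t then 1 else 0 := by
  rcases hk with rfl | rfl
  · rw [cv, if_pos (by rw [e, mul_one]), if_neg h.z_ne.symm]
  · rw [cv, if_neg, if_pos rfl]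
    intro hc
    rw [← hc] at e
    exact h.z_ne (mul_eq_left.1 e.symm)

theorem sqv_mul (h : Extra Q t) {a b : C} (ha : a ∈ Q) (hb : b ∈ Q) :
    sqv (a * b) = sqv a + sqv b + cv a b := by
  obtain ⟨k, hk, e⟩ := conj_t h ha hb
  rw [cv_of h hk e]
  have hsq : a * b * (a * b) = a * a * (b * b) * k := by
    calc a * b * (a * b) = a * (b * a) * b := by group
      _ = a * (a * b) * (k * b) := by rw [e]; group
      _ = a * (a * b) * (b * k) := by
          rcases hk with rfl | rfl
          · simp
          · rw [h.z_comm hb]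
      _ = a * a * (b * b) * k := by group
  have hne := h.z_ne
  have htt := h.z_sq
  rcases h.sq_cases ha with h1 | h1 <;> rcases h.sq_cases hb with h2 | h2 <;>
    rcases hk with rfl | rfl <;>
    simp [sqv, hsq, h1, h2, hne, hne.symm, htt] <;> decide

theorem cv_mul (h : Extra Q t) {a b d : C} (ha : a ∈ Q) (hb : b ∈ Q) (hd : d ∈ Q) :
    cv a (b * d) = cv a b + cv a d := by
  obtain ⟨k, hk, e⟩ := conj_t h ha hb
  obtain ⟨l, hl, e'⟩ := conj_t h ha hd
  have hkd : k * d = d * k := by
    rcases hk with rfl | rfl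
    · simp
    · exact h.z_comm hd
  have hkl : k * l = 1 ∨ k * l = t := by
    rcases hk with rfl | rfl <;> rcases hl with rfl | rfl <;> simp [h.z_sq]
  have e2 : b * d * a = a * (b * d) * (k * l) := by
    calc b * d * a = b * (d * a) := by group
      _ = b * a * d * l := by rw [e']; group
      _ = a * b * (k * d) * l := by rw [e]; group
      _ = a * (b * d) * (k * l) := by rw [hkd]; group
  rw [cv_of h hk e, cv_of h hl e', cv_of h hkl e2]
  rcases hk with rfl | rfl <;> rcases hl with rfl | rfl <;>
    simp [h.z_ne, h.z_ne.symm, h.z_sq] <;> decide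

omit [Finite C] in
theorem sqv_congr {a b : C} (hab : a * a = 1 ↔ b * b = 1) : sqv a = sqv b := by
  classical
  rw [sqv, sqv]
  by_cases h : a * a = 1
  · rw [if_pos h, if_pos (hab.1 h)]
  · rw [if_neg h, if_neg (mt hab.2 h)]

theorem quad_sqv (h : Extra Q t) {a b d : C} (ha : a ∈ Q) (hb : b ∈ Q) (hd : d ∈ Q) :
    sqv (a * b * d) + sqv a + sqv b + sqv d = sqv (a * b) + sqv (a * d) + sqv (b * d) := by
  rw [mul_assoc a b d, sqv_mul h ha (mul_mem hb hd), cv_mul h ha hb hd, sqv_mul h ha hb,
    sqv_mul h ha hd, sqv_mul h hb hd]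
  generalize sqv a = u
  generalize sqv b = v
  generalize sqv d = w
  generalize cv a b = x
  generalize cv a d = y
  generalize cv b d = z
  revert u v w x y z
  decide

end square

variable {G : Type*} [Group G] [Finite G] {z : G} {Q : Subgroup (Subgroup.centralizer ({z} : Set G))}
  [Q.Normal]

theorem exists_elementary (hM : IsOfMonsterType z Q) :
    ∃ E : Subgroup Q, IsElementaryAbelian 2 E ∧ Nat.card E = 2 ^ 13 := by
  classical
  obtain ⟨⟨-, -, hext, hcard, -⟩, e, ψ, hadd, hsurj, hker, heq⟩ := hM
  obtain ⟨t, ht⟩ := exists_extra hext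
  -- the square only depends on the image
  have hlift : ∀ (v : leechLattice) (q q' : Q), ψ v = QuotientGroup.mk q → ψ v = QuotientGroup.mk q' →
      sqv (q' : Subgroup.centralizer ({z} : Set G)) = sqv (q : Subgroup.centralizer ({z} : Set G)) := by
    intro v q q' h1 h2
    have hc : q⁻¹ * q' ∈ Subgroup.center Q := QuotientGroup.eq.1 (h1.symm.trans h2)
    have hk := ht.eq_one_or_z_of_mem_center hc
    have e : (q' : Subgroup.centralizer ({z} : Set G)) =
        (q : Subgroup.centralizer ({z} : Set G)) *
          ((q⁻¹ * q' : Q) : Subgroup.centralizer ({z} : Set G)) := by simp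
    rw [sqv, sqv, e, mul_t_sq ht q.2 hk]
  have hex : ∀ v, ∃ q : Q, ψ v = QuotientGroup.mk q := fun v => by
    obtain ⟨q, hq⟩ := QuotientGroup.mk_surjective (ψ v)
    exact ⟨q, hq.symm⟩
  choose lift hlift' using hex
  set F : leechLattice → ZMod 2 := fun v => sqv (lift v : Subgroup.centralizer ({z} : Set G))
    with hF
  have hFq : ∀ (v : leechLattice) (q : Q), ψ v = QuotientGroup.mk q →
      F v = sqv (q : Subgroup.centralizer ({z} : Set G)) := fun v q hq => hlift v q _ hq (hlift' v)
  have hmul : ∀ u v, ψ (u + v) = QuotientGroup.mk (lift u * lift v) := fun u v => by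
    rw [hadd, hlift' u, hlift' v, QuotientGroup.mk_mul]
  have hdbl : ∀ v w, ψ (v + (w + w)) = ψ v := fun v w => by
    rw [hadd, (hker (w + w)).2 ⟨w, rfl⟩, mul_one]
  have hform : LeechForm.Form F := by
    refine ⟨fun v w => ?_, fun u v w => ?_, fun g v => ?_⟩
    · exact hFq _ _ ((hdbl v w).trans (hlift' v))
    · have h3 : ψ (u + v + w) = QuotientGroup.mk (lift u * lift v * lift w) := by
        rw [hadd, hmul u v, hlift' w, ← QuotientGroup.mk_mul]
      rw [hFq _ _ h3, hFq _ _ (hmul u v), hFq _ _ (hmul u w), hFq _ _ (hmul v w)]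
      exact quad_sqv ht (lift u).2 (lift v).2 (lift w).2
    · obtain ⟨h, hh⟩ := QuotientGroup.mk_surjective (e.symm (QuotientGroup.mk g))
      have hge : (QuotientGroup.mk g : Spor.Co1) = e (QuotientGroup.mk h) := by
        rw [hh, e.apply_symm_apply]
      rw [hFq _ _ (heq h g hge v (lift v) (hlift' v))]
      simp only [hF]
      refine sqv_congr ?_
      constructor
      · intro hc
        have := congrArg (fun x => h⁻¹ * x * h) hc
        simpa [mul_assoc] using this
      · intro hc
        calc h * (lift v : Subgroup.centralizer ({z} : Set G)) * h⁻¹ *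
              (h * (lift v : Subgroup.centralizer ({z} : Set G)) * h⁻¹) =
            h * ((lift v : Subgroup.centralizer ({z} : Set G)) * lift v) * h⁻¹ := by group
          _ = 1 := by rw [hc]; group
  have hsq : ∀ q : Q, sqv (q : Subgroup.centralizer ({z} : Set G)) = 0 → q * q = 1 := by
    intro q hq
    rw [sqv] at hq
    by_contra hne
    rw [if_neg (fun hc => hne (Subtype.ext (by simpa using hc)))] at hq
    exact one_ne_zero hq
  have hne : ∃ v, F v ≠ 0 := by
    by_contra hall
    push Not at hall
    have h2 : ∀ q : Q, q * q = 1 := fun q => by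
      obtain ⟨v, hv⟩ := hsurj (QuotientGroup.mk q)
      exact hsq q (by rw [← hFq v q hv, hall v])
    have hcomm : ∀ a b : Q, a * b = b * a := by
      intro a b
      have := h2 (a * b)
      calc a * b = (a * b)⁻¹ := eq_inv_of_mul_eq_one_left this
        _ = b * a := by rw [mul_inv_rev, inv_eq_of_mul_eq_one_left (h2 a),
              inv_eq_of_mul_eq_one_left (h2 b)]
    have htop : Subgroup.center Q = ⊤ :=
      eq_top_iff.2 fun a _ => Subgroup.mem_center_iff.2 fun b => hcomm b a
    have h4 := hext.2
    rw [htop, Subgroup.card_top, hcard] at h4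
    norm_num at h4
  -- the preimage of the singular subspace
  let f : Multiplicative leechLattice →* Q ⧸ Subgroup.center Q :=
    MonoidHom.mk' (fun x => ψ (Multiplicative.toAdd x)) fun x y => hadd _ _
  let A : Subgroup (Multiplicative leechLattice) :=
    (LeechPolar.half.addSubgroupOf leechLattice).toSubgroup
  have hfA : f.ker ≤ A := by
    intro x hx
    obtain ⟨w, hw⟩ := (hker (Multiplicative.toAdd x)).1 hx
    change ((Multiplicative.toAdd x : leechLattice) : GolayPt → ℤ) ∈ LeechPolar.half
    rw [hw, AddSubgroup.coe_add, ← two_zsmul]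
    exact LeechPolar.double_mem w.2
  have hA : A.index = 2 ^ 12 := by
    rw [← LeechPolar.index_half]
    exact AddSubgroup.index_toSubgroup _
  set E := (A.map f).comap (QuotientGroup.mk' (Subgroup.center Q)) with hE
  have hEidx : E.index = 2 ^ 12 := by
    rw [hE, Subgroup.index_comap_of_surjective _ (QuotientGroup.mk'_surjective _), Subgroup.index_map,
      sup_eq_left.2 hfA, MonoidHom.range_eq_top.2, Subgroup.index_top, mul_one, hA]
    intro y
    obtain ⟨v, hv⟩ := hsurj y
    exact ⟨Multiplicative.ofAdd v, hv⟩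
  have hE2 : ∀ q ∈ E, q * q = 1 := by
    rintro q ⟨x, hxA, hxq⟩
    refine hsq q ?_
    rw [← hFq (Multiplicative.toAdd x) q hxq, LeechForm.eq_qf_of_ne hform hne, LeechForm.qf,
      ZMod.intCast_zmod_eq_zero_iff_dvd]
    have h := LeechPolar.sqNorm_dvd (v := ((Multiplicative.toAdd x : leechLattice) : GolayPt → ℤ)) hxA
    omega
  refine ⟨E, ⟨⟨⟨fun a b => ?_⟩⟩, fun a ha => by rw [pow_two]; exact hE2 a ha⟩, ?_⟩
  · apply Subtype.ext
    have h := hE2 _ (mul_mem a.2 b.2)
    change (a : Q) * b = b * a
    calc (a : Q) * b = ((a : Q) * b)⁻¹ := eq_inv_of_mul_eq_one_left h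
      _ = b * a := by rw [mul_inv_rev, inv_eq_of_mul_eq_one_left (hE2 _ a.2),
            inv_eq_of_mul_eq_one_left (hE2 _ b.2)]
  · have h := Subgroup.card_mul_index E
    rw [hEidx, hcard] at h
    norm_num at h ⊢
    omega

end CfsgLib.ThreeTransp.LeechMonster
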