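import Cfsg.Agent.Lib.Orth.Bridge
import Cfsg.Agent.Lib.Orth.Dickson
import Cfsg.Agent.Lib.Orth.Witt

/-!
# Crossed homomorphisms of small orthogonal groups over the field with two elements

Vectors are bit masks and an isometry is a list of reflection vectors.  A certificate gives two
generators of the commutator subgroup, products expressing all products of two reflections, and
relations that force a normalised crossed homomorphism to vanish.
-/

set_option autoImplicit false
set_option linter.unusedSectionVars false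

namespace CfsgLib.ThreeTransp.H1Vanish

open CfsgLib.Orth QuadraticMap Module

/-- A certificate. -/
structure Cert where
  qmask : ℕ
  a₀ : ℕ
  A : List ℕ
  B : List ℕ
  cls : List (List Bool × ℕ × ℕ)
  pairs : List (ℕ × List Bool × ℕ)
  conj : List (ℕ × List ℕ)
  rels : List (List Bool)

variable (c : Cert)

/-- The form on masks. -/
def Cert.q (x : ℕ) : Bool := c.qmask.testBit x

/-- A reflection on masks. -/
def Cert.rN (a v : ℕ) : ℕ := if c.q (a ^^^ v) == c.q v then v ^^^ a else v

/-- A product of reflections on masks. -/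
def Cert.evN (L : List ℕ) (v : ℕ) : ℕ := L.foldr c.rN v

/-- The generators. -/
def Cert.gen (b : Bool) : List ℕ := if b then c.B else c.A

/-- A word in the generators. -/
def Cert.word (w : List Bool) : List ℕ := w.flatMap c.gen

/-- The value on a word of a crossed homomorphism which is `0` on the first generator and `x` on the second. -/
def Cert.valN (x : ℕ) : List Bool → ℕ
  | [] => 0
  | b :: w => c.evN (c.gen b) (Cert.valN x w) ^^^ (if b then x else 0)

/-- Two products agree on the basis. -/
def Cert.same (n : ℕ) (L M : List ℕ) : Bool :=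
  (List.range n).all fun i => c.evN L (2 ^ i) == c.evN M (2 ^ i)

/-- The anisotropic masks. -/
def Cert.aniso (n : ℕ) : List ℕ := (List.range (2 ^ n)).filter c.q

/-- A list of anisotropic masks. -/
def Cert.valid (n : ℕ) (L : List ℕ) : Bool := L.all fun a => decide (a < 2 ^ n) && c.q a

/-- The whole check. -/
def Cert.ok (n : ℕ) : Bool :=
  c.valid n (c.a₀ :: c.A ++ c.B) && c.A.length % 2 == 0 && c.B.length % 2 == 0 &&
  (c.cls.all fun t => c.valid n [t.2.1, t.2.2] && c.same n (c.word t.1) [t.2.1, t.2.2]) &&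
  ((c.aniso n).all fun b => b == c.a₀ || c.pairs.any fun t =>
    t.1 == b && (match c.cls[t.2.2]? with
      | some s => c.evN (c.word t.2.1) s.2.1 == c.a₀ && c.evN (c.word t.2.1) s.2.2 == b
      | none => false)) &&
  ((c.aniso n).all fun b => c.conj.any fun t => t.1 == b && c.valid n t.2 && c.evN t.2 c.a₀ == b) &&
  ((List.range (2 ^ n)).all fun v => v == 0 || c.evN c.A v != v) &&
  (c.rels.all fun w => c.same n (c.word w) []) &&
  ((List.range (2 ^ n)).all fun x => x == 0 || c.rels.any fun w => c.valN x w != 0)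

variable {n : ℕ} {ι : Type} [Fintype ι] [DecidableEq ι] (e : ι ≃ Fin n)

/-- The vector of a mask. -/
def dec (x : ℕ) : ι → ZMod 2 := fun i => if x.testBit (e i) then 1 else 0

theorem dec_xor (x y : ℕ) : dec e (x ^^^ y) = dec e x + dec e y := by
  funext i
  simp only [dec, Pi.add_apply, Nat.testBit_xor]
  cases x.testBit (e i) <;> cases y.testBit (e i) <;> decide

theorem dec_zero : dec e 0 = 0 := by
  funext i; simp [dec]

theorem dec_inj {x y : ℕ} (hx : x < 2 ^ n) (hy : y < 2 ^ n) (h : dec e x = dec e y) : x = y := by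
  refine Nat.eq_of_testBit_eq fun i => ?_
  by_cases hi : i < n
  · have := congrFun h (e.symm ⟨i, hi⟩)
    simp only [dec, Equiv.apply_symm_apply] at this
    revert this
    cases x.testBit i <;> cases y.testBit i <;> decide
  · rw [Nat.testBit_lt_two_pow (hx.trans_le (Nat.pow_le_pow_right two_pos (not_lt.1 hi))),
      Nat.testBit_lt_two_pow (hy.trans_le (Nat.pow_le_pow_right two_pos (not_lt.1 hi)))]

theorem dec_surj (v : ι → ZMod 2) : ∃ x < 2 ^ n, dec e x = v := by
  have hb : Function.Bijective (fun x : Fin (2 ^ n) => dec e x.1) := by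
    rw [Fintype.bijective_iff_injective_and_card]
    exact ⟨fun a b h => Fin.ext (dec_inj e a.2 b.2 h), by simp [Fintype.card_congr e]⟩
  obtain ⟨x, hx⟩ := hb.2 v
  exact ⟨x.1, x.2, hx⟩

theorem single_eq (i : ι) : Pi.single i (1 : ZMod 2) = dec e (2 ^ (e i).1) := by
  funext j
  by_cases h : j = i
  · subst h; simp [dec, Nat.testBit_two_pow_self]
  · have : (e i).1 ≠ (e j).1 := fun h' => h (e.injective (Fin.ext h'.symm))
    simp [dec, Pi.single_apply, h, Nat.testBit_two_pow_of_ne this]

variable (Q : QuadraticForm (ZMod 2) (ι → ZMod 2))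

/-- The product of the reflections of a list. -/
def elt (L : List ℕ) : orthGroup Q := (L.map fun a => refl Q (dec e a)).prod

theorem elt_nil : elt e Q [] = 1 := rfl

theorem elt_cons (a : ℕ) (L : List ℕ) : elt e Q (a :: L) = refl Q (dec e a) * elt e Q L := List.prod_cons

theorem elt_append (L M : List ℕ) : elt e Q (L ++ M) = elt e Q L * elt e Q M := by
  simp [elt]

theorem elt_word_cons (b : Bool) (w : List Bool) :
    elt e Q (c.word (b :: w)) = elt e Q (c.gen b) * elt e Q (c.word w) := by
  rw [Cert.word, List.flatMap_cons, elt_append]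
  rfl

variable (hq : ∀ x < 2 ^ n, Q (dec e x) = if c.q x then 1 else 0)
include hq

theorem refl_dec {a v : ℕ} (ha : a < 2 ^ n) (haq : c.q a = true) (hv : v < 2 ^ n) :
    c.rN a v < 2 ^ n ∧ (refl Q (dec e a)).1 (dec e v) = dec e (c.rN a v) := by
  have hx : a ^^^ v < 2 ^ n := Nat.xor_lt_two_pow ha hv
  refine ⟨?_, ?_⟩
  · unfold Cert.rN
    split
    · rw [Nat.xor_comm]; exact hx
    · exact hv
  · rw [refl_apply, polar, ← dec_xor, hq _ hx, hq _ ha, hq _ hv, haq]
    unfold Cert.rN
    cases c.q (a ^^^ v) <;> cases c.q v <;> simp [dec_xor, sub_eq_add_neg] <;> funext i <;> simp [CharTwo.neg_eq]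

theorem elt_dec : ∀ L : List ℕ, c.valid n L = true → ∀ v < 2 ^ n,
    c.evN L v < 2 ^ n ∧ (elt e Q L).1 (dec e v) = dec e (c.evN L v) := by
  intro L
  induction L with
  | nil => intro _ v hv; exact ⟨hv, rfl⟩
  | cons a L ih =>
    intro hL v hv
    simp only [Cert.valid, List.all_cons, Bool.and_eq_true, decide_eq_true_eq] at hL
    obtain ⟨⟨ha, haq⟩, hL'⟩ := hL
    obtain ⟨h1, h2⟩ := ih hL' v hv
    obtain ⟨h3, h4⟩ := refl_dec c e Q hq ha haq h1
    refine ⟨h3, ?_⟩
    rw [elt_cons]
    show (refl Q (dec e a)).1 ((elt e Q L).1 (dec e v)) = _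
    rw [h2, h4]
    rfl

theorem elt_eq_of_same {L M : List ℕ} (hL : c.valid n L = true) (hM : c.valid n M = true)
    (h : c.same n L M = true) : elt e Q L = elt e Q M := by
  refine Subtype.ext (LinearEquiv.toLinearMap_injective (LinearMap.pi_ext' fun i => LinearMap.ext_ring ?_))
  show (elt e Q L).1 (Pi.single i 1) = (elt e Q M).1 (Pi.single i 1)
  have hi : 2 ^ (e i).1 < 2 ^ n := Nat.pow_lt_pow_right one_lt_two (e i).2
  rw [single_eq e, (elt_dec c e Q hq L hL _ hi).2, (elt_dec c e Q hq M hM _ hi).2]
  simp only [Cert.same, List.all_eq_true, List.mem_range, beq_iff_eq] at h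
  rw [h _ (e i).2]

/-- **Vanishing.**  A crossed homomorphism of the commutator subgroup is principal. -/
theorem principal (hQ : (polarBilin Q).Nondegenerate) (hgen : ∀ g : orthGroup Q, g ∈ reflGroup Q)
    (hok : c.ok n = true) (f : orthGroup Q → (ι → ZMod 2))
    (hf : ∀ g ∈ commutator (orthGroup Q), ∀ h ∈ commutator (orthGroup Q), f (g * h) = f g + g.1 (f h)) :
    ∃ v : ι → ZMod 2, ∀ g ∈ commutator (orthGroup Q), f g = g.1 v - v := by
  classical
  simp only [Cert.ok, Bool.and_eq_true, List.all_eq_true, beq_iff_eq, Bool.or_eq_true, List.any_eq_true,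
    List.mem_range, bne_iff_ne, Cert.aniso, List.mem_filter] at hok
  obtain ⟨⟨⟨⟨⟨⟨⟨⟨hv0, hA2⟩, hB2⟩, hcls⟩, hpairs⟩, hconj⟩, hfree⟩, hrels⟩, hzero⟩ := hok
  simp only [Cert.valid, List.all_eq_true, List.cons_append, List.mem_cons, List.mem_append, Bool.and_eq_true,
    decide_eq_true_eq] at hv0
  obtain ⟨ha0, ha0q⟩ := hv0 c.a₀ (Or.inl rfl)
  have hvgen : ∀ b, c.valid n (c.gen b) = true := fun b => by
    simp only [Cert.valid, List.all_eq_true, Bool.and_eq_true, decide_eq_true_eq]
    intro x hx
    cases b
    · exact hv0 x (Or.inr (Or.inl hx))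
    · exact hv0 x (Or.inr (Or.inr hx))
  have hvword : ∀ w, c.valid n (c.word w) = true := fun w => by
    simp only [Cert.valid, Cert.word, List.all_eq_true, List.mem_flatMap]
    rintro x ⟨b, -, hx⟩
    have := hvgen b
    simp only [Cert.valid, List.all_eq_true] at this
    exact this x hx
  set r₀ := refl Q (dec e c.a₀) with hr₀
  have hr0sq : r₀ * r₀ = 1 := refl_mul_self Q _
  set Ω := commutator (orthGroup Q) with hΩ
  -- products of two reflections are commutators
  have hpair0 : ∀ b < 2 ^ n, c.q b = true → r₀ * refl Q (dec e b) ∈ Ω := by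
    intro b hb hbq
    obtain ⟨t, -, ⟨htb, htv⟩, hte⟩ := hconj b ⟨hb, hbq⟩
    have h := (elt_dec c e Q hq t.2 htv _ ha0).2
    rw [hte] at h
    have he : refl Q (dec e b) = elt e Q t.2 * r₀ * (elt e Q t.2)⁻¹ := by rw [conj_refl, h]
    rw [he, ← mul_assoc, ← mul_assoc]
    rw [show r₀ * elt e Q t.2 * r₀ = r₀ * elt e Q t.2 * r₀⁻¹ by rw [inv_eq_of_mul_eq_one_right hr0sq]]
    exact Subgroup.commutator_mem_commutator trivial trivial
  have heven : ∀ L : List ℕ, c.valid n L = true → L.length % 2 = 0 → elt e Q L ∈ Ω := by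
    intro L
    induction L using List.twoStepInduction with
    | nil => intro _ _; exact one_mem _
    | singleton x => intro _ h; simp at h
    | cons_cons x y L ih _ =>
      intro hv hlen
      simp only [Cert.valid, List.all_cons, Bool.and_eq_true, decide_eq_true_eq] at hv
      rw [elt_cons, elt_cons, ← mul_assoc]
      refine mul_mem ?_ (ih hv.2.2 (by simp only [List.length_cons] at hlen; omega))
      have h := mul_mem (inv_mem (hpair0 x hv.1.1 hv.1.2)) (hpair0 y hv.2.1.1 hv.2.1.2)
      rw [mul_inv_rev, refl_inv, inv_eq_of_mul_eq_one_right hr0sq, mul_assoc, ← mul_assoc r₀, hr0sq, one_mul] at h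
      exact h
  have hgΩ : ∀ b, elt e Q (c.gen b) ∈ Ω := fun b => heven _ (hvgen b) (by cases b <;> assumption)
  have hwΩ : ∀ w, elt e Q (c.word w) ∈ Ω := by
    intro w
    induction w with
    | nil => exact one_mem _
    | cons b w ih => rw [elt_word_cons]; exact mul_mem (hgΩ b) ih
  -- normalise on the first generator
  have : Finite (ι → ZMod 2) := inferInstance
  set t := elt e Q c.A with ht
  obtain ⟨v, hv⟩ : ∃ v, t.1 v - v = f t := by
    let T : (ι → ZMod 2) →+ (ι → ZMod 2) := (t.1 : (ι → ZMod 2) →ₗ[ZMod 2] (ι → ZMod 2)).toAddMonoidHom -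
      AddMonoidHom.id _
    have hinj : Function.Injective T := (injective_iff_map_eq_zero T).2 fun u hu => by
      obtain ⟨x, hx, rfl⟩ := dec_surj e u
      have hu' : t.1 (dec e x) = dec e x := sub_eq_zero.1 hu
      have h2 := elt_dec c e Q hq c.A (hvgen false) x hx
      rw [h2.2] at hu'
      rcases hfree x hx with h | h
      · rw [h, dec_zero]
      · exact absurd (dec_inj e h2.1 hx hu') h
    exact ⟨_, ((Finite.injective_iff_surjective.1 hinj) (f t)).choose_spec⟩
  refine ⟨v, ?_⟩
  set F : orthGroup Q → (ι → ZMod 2) := fun g => f g - (g.1 v - v) with hF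
  have hFm : ∀ g ∈ Ω, ∀ h ∈ Ω, F (g * h) = F g + g.1 (F h) := fun g hg h hh => by
    simp only [hF, hf g hg h hh, map_sub, Subgroup.coe_mul, LinearEquiv.mul_apply]
    abel
  have hF1 : F 1 = 0 := by
    have h := hFm 1 (one_mem _) 1 (one_mem _)
    rw [one_mul] at h
    exact left_eq_add.1 h
  have hFt : F t = 0 := sub_eq_zero.2 hv.symm
  obtain ⟨x, hx, hxe⟩ := dec_surj e (F (elt e Q c.B))
  have hval : ∀ w, c.valN x w < 2 ^ n ∧ F (elt e Q (c.word w)) = dec e (c.valN x w) := by
    intro w
    induction w with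
    | nil => exact ⟨Nat.two_pow_pos n, hF1.trans (dec_zero e).symm⟩
    | cons b w ih =>
      obtain ⟨h1, h2⟩ := elt_dec c e Q hq (c.gen b) (hvgen b) _ ih.1
      have hlt : (if b then x else 0) < 2 ^ n := by
        cases b
        · exact Nat.two_pow_pos n
        · exact hx
      refine ⟨Nat.xor_lt_two_pow h1 hlt, ?_⟩
      rw [elt_word_cons, hFm _ (hgΩ b) _ (hwΩ w), ih.2, h2, Cert.valN, dec_xor, add_comm]
      congr 1
      cases b
      · show F t = dec e 0
        rw [hFt, dec_zero]
      · exact hxe.symm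
  have hx0 : x = 0 := by
    rcases hzero x hx with h | ⟨w, hw, hne⟩
    · exact h
    · refine absurd ?_ hne
      refine dec_inj e (hval w).1 (Nat.two_pow_pos n) ?_
      rw [← (hval w).2, dec_zero, elt_eq_of_same c e Q hq (hvword w) rfl (hrels w hw), elt_nil, hF1]
  have hFB : F (elt e Q c.B) = 0 := by rw [← hxe, hx0, dec_zero]
  -- vanishing on the generated subgroup
  set K := Subgroup.closure {g | ∃ b, elt e Q (c.gen b) = g} with hK
  have hKF : ∀ g ∈ K, g ∈ Ω ∧ F g = 0 := by
    intro g hg
    induction hg using Subgroup.closure_induction with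
    | mem y hy =>
      obtain ⟨b, rfl⟩ := hy
      refine ⟨hgΩ b, ?_⟩
      cases b
      · exact hFt
      · exact hFB
    | one => exact ⟨one_mem _, hF1⟩
    | mul a b _ _ ha hb => exact ⟨mul_mem ha.1 hb.1, by rw [hFm a ha.1 b hb.1, ha.2, hb.2, map_zero, add_zero]⟩
    | inv a _ ha =>
      refine ⟨inv_mem ha.1, ?_⟩
      have h := hFm a ha.1 a⁻¹ (inv_mem ha.1)
      rw [mul_inv_cancel, hF1, ha.2, zero_add] at h
      exact a.1.map_eq_zero_iff.1 h.symm
  have hwK : ∀ w, elt e Q (c.word w) ∈ K := by
    intro w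
    induction w with
    | nil => exact one_mem _
    | cons b w ih => rw [elt_word_cons]; exact mul_mem (Subgroup.subset_closure ⟨b, rfl⟩) ih
  have hpK : ∀ b < 2 ^ n, c.q b = true → r₀ * refl Q (dec e b) ∈ K := by
    intro b hb hbq
    rcases hpairs b ⟨hb, hbq⟩ with h | ⟨t, -, htb, hm⟩
    · rw [h, refl_mul_self]; exact one_mem _
    · rcases hs : c.cls[t.2.2]? with _ | s
      · rw [hs] at hm; exact absurd hm (by simp)
      · rw [hs] at hm
        simp only [Bool.and_eq_true, beq_iff_eq] at hm
        obtain ⟨hsv, hsame⟩ := hcls s (List.mem_of_getElem? hs)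
        have hsv' := hsv
        simp only [Cert.valid, List.all_cons, List.all_nil, Bool.and_true, Bool.and_eq_true, decide_eq_true_eq] at hsv'
        have hp : refl Q (dec e s.2.1) * refl Q (dec e s.2.2) ∈ K := by
          have h := hwK s.1
          rwa [elt_eq_of_same c e Q hq (hvword _) hsv hsame, elt_cons, elt_cons, elt_nil, mul_one] at h
        set g := elt e Q (c.word t.2.1)
        have e1 := (elt_dec c e Q hq _ (hvword t.2.1) _ hsv'.1.1).2
        have e2 := (elt_dec c e Q hq _ (hvword t.2.1) _ hsv'.2.1).2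
        rw [hm.1] at e1
        rw [hm.2] at e2
        have hgoal : r₀ * refl Q (dec e b) = g * (refl Q (dec e s.2.1) * refl Q (dec e s.2.2)) * g⁻¹ := by
          rw [hr₀, ← e1, ← e2, ← conj_refl, ← conj_refl]
          simp only [g]
          group
        rw [hgoal]
        exact mul_mem (mul_mem (hwK _) hp) (inv_mem (hwK _))
  have hall : ∀ g : orthGroup Q, g ∈ K ∨ g * r₀ ∈ K := by
    intro g
    have hg := hgen g
    induction hg using Subgroup.closure_induction_right with
    | one => exact Or.inl (one_mem _)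
    | mul_right y hy z hz ih =>
      obtain ⟨u, rfl⟩ := hz
      obtain ⟨b, hb, rfl⟩ := dec_surj e u
      by_cases hbq : c.q b = true
      · rcases ih with h | h
        · right
          have h' := mul_mem h (inv_mem (hpK b hb hbq))
          rw [mul_inv_rev, refl_inv, inv_eq_of_mul_eq_one_right hr0sq, ← mul_assoc] at h'
          exact h'
        · left
          have h' := mul_mem h (hpK b hb hbq)
          rwa [mul_assoc, ← mul_assoc r₀, hr0sq, one_mul] at h'
      · have h0 : Q (dec e b) = 0 := by rw [hq b hb, if_neg hbq]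
        rw [show refl Q (dec e b) = 1 from Subtype.ext (LinearEquiv.ext fun x => by
          show (refl Q (dec e b)).1 x = x
          simp [refl_apply, h0]), mul_one]
        exact ih
    | mul_inv_cancel y hy z hz ih =>
      obtain ⟨u, rfl⟩ := hz
      rw [refl_inv]
      obtain ⟨b, hb, rfl⟩ := dec_surj e u
      by_cases hbq : c.q b = true
      · rcases ih with h | h
        · right
          have h' := mul_mem h (inv_mem (hpK b hb hbq))
          rw [mul_inv_rev, refl_inv, inv_eq_of_mul_eq_one_right hr0sq, ← mul_assoc] at h'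
          exact h'
        · left
          have h' := mul_mem h (hpK b hb hbq)
          rwa [mul_assoc, ← mul_assoc r₀, hr0sq, one_mul] at h'
      · have h0 : Q (dec e b) = 0 := by rw [hq b hb, if_neg hbq]
        rw [show refl Q (dec e b) = 1 from Subtype.ext (LinearEquiv.ext fun x => by
          show (refl Q (dec e b)).1 x = x
          simp [refl_apply, h0]), mul_one]
        exact ih
  intro g hg
  rcases hall g with h | h
  · exact sub_eq_zero.1 (hKF g h).2
  · obtain ⟨κ, hκ⟩ := exists_dickson Q hQ
    have hr : r₀ ∈ Ω := by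
      have h' := mul_mem (inv_mem hg) (hKF _ h).1
      rwa [inv_mul_cancel_left] at h'
    have h1 : κ r₀ = 1 := MonoidHom.mem_ker.1 (Abelianization.commutator_subset_ker κ hr)
    rw [hr₀, hκ _ (by rw [hq _ ha0, ha0q]; exact one_ne_zero)] at h1
    exact absurd (congrArg Multiplicative.toAdd h1) one_ne_zero

end CfsgLib.ThreeTransp.H1Vanish
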