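import Cfsg.Prelude.Def_AxialAlgebras

/-! Elementary eigenvector calculus for Majorana axes. -/

namespace CfsgLib.ThreeTransp.Axial

open Cfsg.Axial

variable {V : Type*} [AddCommGroup V] [Module ℝ V]
variable {mul : V →ₗ[ℝ] V →ₗ[ℝ] V} {B : LinearMap.BilinForm ℝ V} {μ : V ≃ₗ[ℝ] V} {a : V}

theorem mem_eigen {c : ℝ} {v : V} : v ∈ eigen mul a c ↔ mul a v = c • v :=
  Module.End.mem_eigenspace_iff

theorem mem_eigenSum_pair {c d : ℝ} {v : V} :
    v ∈ eigenSum mul a {c, d} ↔ ∃ p ∈ eigen mul a c, ∃ q ∈ eigen mul a d, p + q = v := by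
  rw [eigenSum, iSup_insert, iSup_singleton, Submodule.mem_sup]

theorem law_zero_zero : monsterLaw (1 / 4 : ℝ) (1 / 32) 0 0 = {0} := by
  norm_num [monsterLaw]

theorem law_quarter_quarter : monsterLaw (1 / 4 : ℝ) (1 / 32) (1 / 4) (1 / 4) = {1, 0} := by
  norm_num [monsterLaw]

theorem law_zero_quarter : monsterLaw (1 / 4 : ℝ) (1 / 32) 0 (1 / 4) = {1 / 4} := by
  norm_num [monsterLaw]

theorem one_mem : (1 : ℝ) ∈ majoranaSpectrum := by simp [majoranaSpectrum]
theorem zero_mem : (0 : ℝ) ∈ majoranaSpectrum := by simp [majoranaSpectrum]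
theorem quarter_mem : (1 / 4 : ℝ) ∈ majoranaSpectrum := by simp [majoranaSpectrum]
theorem thirtysecond_mem : (1 / 32 : ℝ) ∈ majoranaSpectrum := by simp [majoranaSpectrum]

variable (h : IsMajoranaPair mul B μ a)
include h

theorem idem : mul a a = a := h.2.2.1.1.2.1

theorem ne_zero : a ≠ 0 := h.2.2.1.1.1

theorem self_mem : a ∈ eigen mul a 1 := mem_eigen.2 (by rw [idem h, one_smul])

theorem eigen_one {v : V} (hv : mul a v = v) : ∃ r : ℝ, v = r • a := by
  have h1 : v ∈ eigen mul a 1 := mem_eigen.2 (by rw [hv, one_smul])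
  rw [h.2.2.1.2, Submodule.mem_span_singleton] at h1
  obtain ⟨r, hr⟩ := h1
  exact ⟨r, hr.symm⟩

theorem mul_zero_zero {u v : V} (hu : mul a u = 0) (hv : mul a v = 0) :
    mul a (mul u v) = 0 := by
  have := h.2.2.1.1.2.2.2 0 zero_mem 0 zero_mem u (mem_eigen.2 (by simpa using hu))
    v (mem_eigen.2 (by simpa using hv))
  rw [law_zero_zero, eigenSum, iSup_singleton, mem_eigen, zero_smul] at this
  exact this

theorem mul_zero_quarter {u v : V} (hu : mul a u = 0) (hv : mul a v = (1 / 4 : ℝ) • v) :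
    mul a (mul u v) = (1 / 4 : ℝ) • mul u v := by
  have := h.2.2.1.1.2.2.2 0 zero_mem _ quarter_mem u (mem_eigen.2 (by simpa using hu))
    v (mem_eigen.2 hv)
  rw [law_zero_quarter, eigenSum, iSup_singleton, mem_eigen] at this
  exact this

/-- The product of two `1/4`-eigenvectors is a multiple of the axis plus a `0`-eigenvector. -/
theorem mul_quarter_quarter {u v : V} (hu : mul a u = (1 / 4 : ℝ) • u)
    (hv : mul a v = (1 / 4 : ℝ) • v) :
    ∃ (r : ℝ) (s : V), mul a s = 0 ∧ mul u v = r • a + s := by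
  have := h.2.2.1.1.2.2.2 _ quarter_mem _ quarter_mem u (mem_eigen.2 hu) v (mem_eigen.2 hv)
  rw [law_quarter_quarter, mem_eigenSum_pair] at this
  obtain ⟨p, hp, q, hq, hpq⟩ := this
  obtain ⟨r, rfl⟩ := eigen_one h (by simpa using mem_eigen.1 hp)
  exact ⟨r, q, by simpa using mem_eigen.1 hq, hpq.symm⟩

/-- Decomposition of a vector along the four eigenspaces. -/
theorem decomp (v : V) : ∃ (r : ℝ) (z q w : V), mul a z = 0 ∧ mul a q = (1 / 4 : ℝ) • q ∧
    mul a w = (1 / 32 : ℝ) • w ∧ v = r • a + z + q + w := by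
  have hv : v ∈ eigenSum mul a majoranaSpectrum := by
    rw [h.2.2.1.1.2.2.1]; trivial
  rw [eigenSum, majoranaSpectrum, iSup_insert, iSup_insert, iSup_insert, iSup_singleton,
    Submodule.mem_sup] at hv
  obtain ⟨p, hp, x, hx, rfl⟩ := hv
  rw [Submodule.mem_sup] at hx
  obtain ⟨z, hz, y, hy, rfl⟩ := hx
  rw [Submodule.mem_sup] at hy
  obtain ⟨q, hq, w, hw, rfl⟩ := hy
  obtain ⟨r, rfl⟩ := eigen_one h (by simpa using mem_eigen.1 hp)
  refine ⟨r, z, q, w, by simpa using mem_eigen.1 hz, mem_eigen.1 hq, mem_eigen.1 hw, ?_⟩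
  abel

theorem tau_plus {v : V} {c : ℝ} (hc : c = 1 ∨ c = 0 ∨ c = 1 / 4) (hv : mul a v = c • v) :
    μ v = v := by
  apply h.2.2.2.1
  exact Submodule.mem_iSup_of_mem c (Submodule.mem_iSup_of_mem (by simpa using hc) (mem_eigen.2 hv))

theorem tau_minus {v : V} (hv : mul a v = (1 / 32 : ℝ) • v) : μ v = -v :=
  h.2.2.2.2 v (mem_eigen.2 hv)

/-- A vector fixed by the involution has no `1/32`-component. -/
theorem decomp_fixed {v : V} (hfix : μ v = v) : ∃ (r : ℝ) (z q : V), mul a z = 0 ∧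
    mul a q = (1 / 4 : ℝ) • q ∧ v = r • a + z + q := by
  obtain ⟨r, z, q, w, hz, hq, hw, rfl⟩ := decomp h v
  refine ⟨r, z, q, hz, hq, ?_⟩
  have ha : μ a = a := tau_plus h (Or.inl rfl) (by rw [idem h, one_smul])
  have hz' : μ z = z := tau_plus h (Or.inr (Or.inl rfl)) (by rw [hz, zero_smul])
  have hq' : μ q = q := tau_plus h (Or.inr (Or.inr rfl)) hq
  rw [map_add, map_add, map_add, map_smul, ha, hz', hq', tau_minus h hw] at hfix
  have h2 : (-w : V) = w := by linear_combination (norm := abel) hfix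
  have h3 : (2 : ℝ) • w = 0 := by
    rw [two_smul]
    nth_rewrite 1 [← h2]
    exact neg_add_cancel w
  rw [(smul_eq_zero.1 h3).resolve_left two_ne_zero, add_zero]

omit h in
/-- Eigenvectors for different eigenvalues are orthogonal for an associating form. -/
theorem orth (hV : IsMajoranaAmbient mul B) {u v : V} {c d : ℝ} (hu : mul a u = c • u)
    (hv : mul a v = d • v) (hcd : c ≠ d) : B u v = 0 := by
  obtain ⟨hc, hs, -, hassoc, -⟩ := hV
  have h1 : B (mul a u) v = B u (mul a v) := by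
    rw [hc a u, ← hassoc u a v]
  rw [hu, hv, map_smul, LinearMap.smul_apply, map_smul, smul_eq_mul, smul_eq_mul] at h1
  by_contra hne
  exact hcd (mul_right_cancel₀ hne h1)

omit h in
/-- An automorphism commuting with a Majorana involution that has only one axis fixes that axis. -/
theorem fixed_of_commute {mul : V →ₗ[ℝ] V →ₗ[ℝ] V} {B : LinearMap.BilinForm ℝ V} {μ ν : V ≃ₗ[ℝ] V}
    {a : V} (h : IsMajoranaPair mul B μ a) (hu : ∀ b : V, IsMajoranaPair mul B μ b → b = a)
    (hν : ∀ u v : V, ν (mul u v) = mul (ν u) (ν v)) (hc : ν * μ = μ * ν) : ν a = a := by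
  apply hu
  obtain ⟨hμ, hB, ⟨hax, hprim⟩, hτ⟩ := h
  have heig : ∀ c : ℝ, eigen mul (ν a) c = (eigen mul a c).map (ν : V →ₗ[ℝ] V) := by
    intro c; ext v
    rw [Submodule.mem_map_equiv, mem_eigen, mem_eigen]
    constructor
    · intro h
      apply ν.injective
      rw [hν, map_smul, LinearEquiv.apply_symm_apply, h]
    · intro h
      have := congrArg ν h
      rwa [hν, map_smul, LinearEquiv.apply_symm_apply] at this
  have hsum : ∀ S : Set ℝ, eigenSum mul (ν a) S = (eigenSum mul a S).map (ν : V →ₗ[ℝ] V) := by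
    intro S; simp only [eigenSum, Submodule.map_iSup, heig]
  refine ⟨hμ, hB, ⟨⟨?_, ?_, ?_, ?_⟩, ?_⟩, ?_, ?_⟩
  · simpa using hax.1
  · rw [← hν, hax.2.1]
  · rw [hsum, hax.2.2.1, Submodule.map_top, LinearEquiv.range]
  · intro c hc d hd u hu v hv
    rw [heig] at hu hv
    obtain ⟨u', hu', rfl⟩ := hu
    obtain ⟨v', hv', rfl⟩ := hv
    rw [hsum]
    exact ⟨mul u' v', hax.2.2.2 c hc d hd u' hu' v' hv', hν u' v'⟩
  · rw [heig, hprim, Submodule.map_span, Set.image_singleton]; rfl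
  · intro v hv
    rw [hsum] at hv
    obtain ⟨w, hw, rfl⟩ := hv
    have := hτ.1 w hw
    show μ (ν w) = ν w
    rw [← LinearEquiv.mul_apply, ← hc, LinearEquiv.mul_apply]
    exact congrArg ν this
  · intro v hv
    rw [heig] at hv
    obtain ⟨w, hw, rfl⟩ := hv
    have := hτ.2 w hw
    show μ (ν w) = -(ν w)
    rw [← LinearEquiv.mul_apply, ← hc, LinearEquiv.mul_apply, ← map_neg]
    exact congrArg ν this

end CfsgLib.ThreeTransp.Axial
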