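import Cfsg.Agent.Lib.SmallGroups.SteinerCode

/-!
# A [24,12] binary code without non-zero words of weight below 8: coset leaders and octads
-/

set_option autoImplicit false

namespace CfsgLib.ThreeTransp.CodeLeaders

open Cfsg Finset CfsgLib.SmallGroups.CodeUnique

/-- The ambient space. -/
abbrev W24 : Type := Fin 24 → ZMod 2

/-- No non-zero word of weight below eight, dimension twelve. -/
structure IsBig (C : Submodule (ZMod 2) W24) : Prop where
  rank : Module.finrank (ZMod 2) C = 12
  min : ∀ w ∈ C, w ≠ 0 → 8 ≤ hammingNorm w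

variable {C : Submodule (ZMod 2) W24}

/-- The class of a set. -/
def cls (C : Submodule (ZMod 2) W24) (T : Finset (Fin 24)) : W24 ⧸ C := Submodule.Quotient.mk (ind T)

theorem cls_eq {T T' : Finset (Fin 24)} : cls C T = cls C T' ↔ ind (symmDiff T T') ∈ C := by
  rw [cls, cls, Submodule.Quotient.eq, ← ind_add]
  have e : ind T - ind T' = ind T + ind T' := funext fun p => CharTwo.sub_eq_add (ind T p) (ind T' p)
  rw [e]

theorem IsBig.eight_le (h : IsBig C) {T T' : Finset (Fin 24)} (he : cls C T = cls C T')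
    (hne : T ≠ T') : 8 ≤ (symmDiff T T').card := by
  have := h.min _ (cls_eq.1 he) fun h0 => hne <| symmDiff_eq_bot.1 <| by
    rw [← supp_ind (symmDiff T T'), h0]; simp [supp]
  rwa [hammingNorm_eq, supp_ind] at this

theorem IsBig.four_four (h : IsBig C) {T T' : Finset (Fin 24)} (he : cls C T = cls C T')
    (hne : T ≠ T') (hT : T.card ≤ 4) (hT' : T'.card ≤ 4) :
    T.card = 4 ∧ T'.card = 4 ∧ Disjoint T T' := by
  have := h.eight_le he hne
  have := card_symmDiff' T T'
  exact ⟨by omega, by omega, disjoint_iff_inter_eq_empty.2 (card_eq_zero.1 (by omega))⟩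

/-- The quads of a class. -/
noncomputable def quads (C : Submodule (ZMod 2) W24) (q : W24 ⧸ C) : Finset (Finset (Fin 24)) := by
  classical exact ((univ : Finset (Fin 24)).powersetCard 4).filter fun T => cls C T = q

theorem mem_quads {q : W24 ⧸ C} {T : Finset (Fin 24)} :
    T ∈ quads C q ↔ T.card = 4 ∧ cls C T = q := by
  simp [quads]

theorem IsBig.card_quads_le (h : IsBig C) (q : W24 ⧸ C) : (quads C q).card ≤ 6 := by
  have hd : ((quads C q : Finset _) : Set (Finset (Fin 24))).PairwiseDisjoint id := by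
    intro T hT T' hT' hne
    rw [Finset.mem_coe, mem_quads] at hT hT'
    exact (h.four_four (hT.2.trans hT'.2.symm) hne hT.1.le hT'.1.le).2.2
  have h1 := card_le_univ ((quads C q).biUnion id)
  rw [card_biUnion hd, sum_congr rfl (g := fun _ => 4) (f := fun T => (id T).card) (fun T hT => (mem_quads.1 hT).1), sum_const,
    smul_eq_mul, Fintype.card_fin] at h1
  omega

/-- Every coset has a unique leader of weight at most three or six of weight four. -/
theorem IsBig.dichotomy (h : IsBig C) (q : W24 ⧸ C) :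
    (∃ T : Finset (Fin 24), T.card ≤ 3 ∧ cls C T = q) ∨ (quads C q).card = 6 := by
  classical
  have : Fintype (W24 ⧸ C) := Fintype.ofFinite _
  have hq : Fintype.card (W24 ⧸ C) = 4096 := by
    rw [Module.card_eq_pow_finrank (K := ZMod 2), ZMod.card,
      Submodule.finrank_quotient, Module.finrank_pi, Fintype.card_fin, h.rank]
    norm_num
  by_contra hcon
  push Not at hcon
  obtain ⟨hA, hB⟩ := hcon
  set S := (range 4).biUnion fun k => (univ : Finset (Fin 24)).powersetCard k with hS
  have hmem : ∀ T, T ∈ S ↔ T.card ≤ 3 := fun T => by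
    simp [hS, mem_powersetCard, Nat.lt_succ_iff]
  have hcard : S.card = 2325 := by
    rw [hS, card_biUnion (fun a _ b _ hab => disjoint_left.2 fun T h1 h2 => hab
      ((mem_powersetCard.1 h1).2.symm.trans (mem_powersetCard.1 h2).2))]
    simp [card_powersetCard, sum_range_succ, Nat.choose_succ_succ]
  have hinj : Set.InjOn (cls C) S := fun T hT T' hT' e => by
    by_contra hne
    have := (h.four_four e hne ((hmem T).1 hT |>.trans (by norm_num))
      ((hmem T').1 hT' |>.trans (by norm_num))).1
    have := (hmem T).1 hT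
    omega
  set R := univ \ S.image (cls C) with hR
  have hRcard : R.card = 1771 := by
    rw [hR, card_sdiff_of_subset (subset_univ _), card_univ, hq, card_image_of_injOn hinj, hcard]
  have hmaps : ∀ T ∈ (univ : Finset (Fin 24)).powersetCard 4, cls C T ∈ R := by
    intro T hT
    rw [mem_powersetCard] at hT
    rw [hR, mem_sdiff, mem_image]
    refine ⟨mem_univ _, fun ⟨T', hT', e⟩ => ?_⟩
    have hT3 := (hmem T').1 hT'
    by_cases hne : T' = T
    · subst hne
      omega
    · have := (h.four_four e hne (by omega) (by omega)).1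
      omega
  have hqR : q ∈ R := by
    rw [hR, mem_sdiff, mem_image]
    exact ⟨mem_univ _, fun ⟨T, hT, e⟩ => hA T ((hmem T).1 hT) e⟩
  have h2 := card_eq_sum_card_fiberwise hmaps
  rw [card_powersetCard, card_univ, Fintype.card_fin] at h2
  have h3 : ∑ r ∈ R, (quads C r).card < ∑ _r ∈ R, 6 :=
    sum_lt_sum (fun r _ => h.card_quads_le r)
      ⟨q, hqR, lt_of_le_of_ne (h.card_quads_le q) hB⟩
  rw [sum_const, hRcard, smul_eq_mul] at h3
  have h4 : ∀ r, quads C r = ((univ : Finset (Fin 24)).powersetCard 4).filter fun T => cls C T = r :=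
    fun r => by ext T; simp [mem_quads]
  simp only [← h4] at h2
  rw [← h2] at h3
  norm_num [Nat.choose_succ_succ] at h3

theorem IsBig.quads_cover (h : IsBig C) {q : W24 ⧸ C} (h6 : (quads C q).card = 6) (p : Fin 24) :
    ∃ T ∈ quads C q, p ∈ T := by
  have hd : ((quads C q : Finset _) : Set (Finset (Fin 24))).PairwiseDisjoint id := by
    intro T hT T' hT' hne
    rw [Finset.mem_coe, mem_quads] at hT hT'
    exact (h.four_four (hT.2.trans hT'.2.symm) hne hT.1.le hT'.1.le).2.2
  have hu : (quads C q).biUnion id = univ := by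
    refine eq_univ_of_card _ ?_
    rw [card_biUnion hd, sum_congr rfl (g := fun _ => 4) (f := fun T => (id T).card) (fun T hT => (mem_quads.1 hT).1), sum_const,
      smul_eq_mul, h6, Fintype.card_fin]
  have hp := mem_univ p
  rw [← hu, mem_biUnion] at hp
  exact hp

theorem mem_octs {S : Finset (Fin 24)} :
    S ∈ wordsOfWeight (C : Set W24) 8 ↔ S.card = 8 ∧ ind S ∈ C := by
  constructor
  · rintro ⟨⟨w, hw, rfl⟩, h8⟩
    exact ⟨h8, by rwa [show support₂ w = supp w from rfl, ind_supp]⟩
  · rintro ⟨h8, hS⟩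
    exact ⟨⟨ind S, hS, supp_ind S⟩, h8⟩

/-- The octads form a Steiner system. -/
theorem IsBig.steiner (h : IsBig C) : IsSteinerSystem 5 8 (wordsOfWeight (C : Set W24) 8) := by
  classical
  refine ⟨fun b hb => (mem_octs.1 hb).1, fun P hP => ?_⟩
  obtain ⟨p, hp⟩ := card_pos.1 (by omega : 0 < P.card)
  have hT4 : (P.erase p).card = 4 := by rw [card_erase_of_mem hp]; omega
  have hTq : P.erase p ∈ quads C (cls C (P.erase p)) := mem_quads.2 ⟨hT4, rfl⟩
  rcases h.dichotomy (cls C (P.erase p)) with ⟨U, hU, e⟩ | h6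
  · have hne : U ≠ P.erase p := fun h0 => by rw [← h0] at hT4; omega
    have := (h.four_four e hne (by omega) hT4.le).1
    omega
  · obtain ⟨U, hU, hpU⟩ := h.quads_cover h6 p
    rw [mem_quads] at hU
    have hne : P.erase p ≠ U := fun h0 => notMem_erase p P (h0 ▸ hpU)
    obtain ⟨-, -, hd⟩ := h.four_four hU.2.symm hne hT4.le hU.1.le
    have hs : symmDiff (P.erase p) U = P.erase p ∪ U := hd.symmDiff_eq_sup
    have hmem : P.erase p ∪ U ∈ wordsOfWeight (C : Set W24) 8 := by
      refine mem_octs.2 ⟨?_, hs ▸ cls_eq.1 hU.2.symm⟩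
      rw [card_union_of_disjoint hd, hT4, hU.1]
    have hsub : P ⊆ P.erase p ∪ U := fun x hx => by
      by_cases hxp : x = p
      · exact mem_union_right _ (hxp ▸ hpU)
      · exact mem_union_left _ (mem_erase.2 ⟨hxp, hx⟩)
    refine ⟨_, ⟨hmem, hsub⟩, fun b hb => ?_⟩
    by_contra hbne
    have hbC := mem_octs.1 hb.1
    have hC := mem_octs.1 hmem
    have h8 := h.eight_le (cls_eq.2 (by rw [← ind_add]; exact add_mem hbC.2 hC.2)) hbne
    have := card_symmDiff' b (P.erase p ∪ U)
    have := card_le_card (subset_inter hb.2 hsub)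
    omega

/-- The code is the span of its octads. -/
theorem IsBig.code_eq (h : IsBig C) :
    CfsgLib.SmallGroups.SteinerCode.code (wordsOfWeight (C : Set W24) 8) = C := by
  refine Submodule.eq_of_le_of_finrank_eq (Submodule.span_le.2 ?_) ?_
  · rintro _ ⟨S, hS, rfl⟩
    exact (mem_octs.1 hS).2
  · rw [(CfsgLib.SmallGroups.SteinerCode.isDE24 (Fintype.card_fin 24) h.steiner).rank, h.rank]

end CfsgLib.ThreeTransp.CodeLeaders
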