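/-
Fixed subgroups of an odd order group acting on an extraspecial 2-group, and the passage of
largeness to sections.
-/
import Cfsg.Agent.Lib.ThreeTransp.Extraspecial
import Cfsg.Agent.Lib.ThreeTransp.LargePair
import Cfsg.Agent.Lib.Coprime.Action
import Cfsg.Agent.Lib.LocalEven.Residual

set_option autoImplicit false
set_option linter.style.haveILetI false

namespace CfsgLib.ThreeTransp.ExtraspecialFixed

open Subgroup CfsgLib.ThreeTransp.Extraspecial
open scoped commutatorElement

variable {G : Type*} [Group G] [Finite G]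

theorem nonabelian_centralizer {Q : Subgroup G} {z u : G} (h : Extra Q z)
    (h32 : 32 ≤ Nat.card ↥Q) (huQ : u ∈ Q) (hu1 : u ≠ 1) (huu : u * u = 1)
    (hne : u ≠ z) :
    ∃ b ∈ Q, ∃ c ∈ Q, b * u = u * b ∧ c * u = u * c ∧ b * c ≠ c * b := by
  by_contra hcon
  push_neg at hcon
  have hcentral : ∀ x y : ↥Q, x⁻¹ * y * x * y⁻¹ ∈ Subgroup.center ↥Q := fun x y => by
    rw [← h.ext.1.2.2, _root_.commutator_def]
    simpa [commutatorElement_def] using
      Subgroup.commutator_mem_commutator (Subgroup.mem_top x⁻¹) (Subgroup.mem_top y)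
  set A := Subgroup.zpowers (⟨u, huQ⟩ : ↥Q) with hA
  set B := Subgroup.centralizer (A : Set ↥Q) with hBd
  have hmemB : ∀ x : ↥Q, x ∈ B → (x : G) * u = u * x := fun x hx =>
    (congrArg Subtype.val (Subgroup.mem_centralizer_iff.1 hx _ (Subgroup.mem_zpowers _))).symm
  have hBB : B ≤ Subgroup.centralizer (B : Set ↥Q) := fun x hx =>
    Subgroup.mem_centralizer_iff.2 fun y hy => Subtype.ext
      (hcon y y.2 x x.2 (hmemB y hy) (hmemB x hx))
  have hcA : Nat.card A = 2 := by
    rw [hA, Nat.card_zpowers, ← Subgroup.orderOf_coe]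
    exact orderOf_eq_prime (by rw [pow_two, huu]) hu1
  have hint : A ⊓ Subgroup.center ↥Q = ⊥ := by
    rw [Subgroup.eq_bot_iff_forall]
    rintro x ⟨hx, hxc⟩
    apply Subtype.ext
    have hxu : (x : G) = 1 ∨ (x : G) = u := by
      rcases (mem_zpowers_involution (z := (⟨u, huQ⟩ : ↥Q)) (Subtype.ext huu)).1 hx with e | e
      · exact Or.inl (by rw [e]; rfl)
      · exact Or.inr (by rw [e])
    rcases hxu with e | e
    · exact e
    rcases h.eq_one_or_z_of_mem_center hxc with e' | e'
    · exact e'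
    · exact absurd (e.symm.trans e') hne
  have hZB : Subgroup.center ↥Q ≤ B := Subgroup.center_le_centralizer _
  have d1 := Cfsg.Agent.S2880.double_count A hcentral h.ext.2
  have d2 := Cfsg.Agent.S2880.double_count B hcentral h.ext.2
  rw [hint, Subgroup.card_bot, one_mul, hcA, ← hBd] at d1
  rw [inf_eq_right.2 hZB, h.ext.2] at d2
  have hle : Nat.card B ≤ Nat.card ↥(Subgroup.centralizer (B : Set ↥Q)) :=
    Nat.card_le_card_of_injective _ (Subgroup.inclusion_injective hBB)
  have h4 : Nat.card ↥(Subgroup.centralizer (B : Set ↥Q)) = 4 :=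
    Nat.eq_of_mul_eq_mul_right (Nat.card_pos (α := B)) (by linarith)
  omega

/-- The fixed points of an odd order group on an extraspecial group are extraspecial. -/
theorem extra_fixed {Q A : Subgroup G} {z : G} (h : Extra Q z)
    (hAQ : A ≤ Subgroup.normalizer (Q : Set G)) (hA : Odd (Nat.card ↥A))
    (hAz : ∀ a ∈ A, a * z = z * a) {v : G} (hv : v ∈ Q ⊓ Subgroup.centralizer (A : Set G))
    (hv1 : v ≠ 1) (hvz : v ≠ z) :
    Extra (Q ⊓ Subgroup.centralizer (A : Set G)) z := by
  haveI : Fact (Nat.Prime 2) := ⟨Nat.prime_two⟩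
  set R := Q ⊓ Subgroup.centralizer (A : Set G) with hR
  have hRQ : R ≤ Q := inf_le_left
  have hzR : z ∈ R := ⟨h.z_mem, Subgroup.mem_centralizer_iff.2 fun a ha => hAz a ha⟩
  have hcop : (Nat.card A).Coprime (Nat.card Q) := by
    obtain ⟨n, hn⟩ := h.isPGroup.exists_card_eq
    rw [hn]
    exact (Nat.coprime_two_right.2 hA).pow_right n
  have hsolv : Group.IsSolvable Q := by
    haveI := h.isPGroup.isNilpotent
    infer_instance
  have hcen : ∀ x ∈ R, (∀ r ∈ R, x * r = r * x) → x = 1 ∨ x = z := by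
    intro x hx hxr
    refine h.mem_center_cases (hRQ hx) ?_
    have hle : Q ≤ Subgroup.centralizer ({x} : Set G) := by
      rw [← CfsgLib.Coprime.commutator_sup_centralizer hAQ hcop (Or.inr hsolv), sup_le_iff]
      refine ⟨?_, fun r hr => Subgroup.mem_centralizer_singleton_iff.2 (hxr r hr).symm⟩
      rw [Subgroup.commutator_le]
      intro q hq a ha
      rw [Subgroup.mem_centralizer_singleton_iff]
      have hxa : a * x = x * a := Subgroup.mem_centralizer_iff.1 hx.2 a ha
      have haz : a * z * a⁻¹ = z := by rw [hAz a ha, mul_inv_cancel_right]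
      have hxa' : a * x * a⁻¹ = x := by rw [hxa, mul_inv_cancel_right]
      have hq' : a * q * a⁻¹ ∈ Q := (Subgroup.mem_normalizer_iff.1 (hAQ ha) q).1 hq
      have hxq : a * q * a⁻¹ * x * (a * q * a⁻¹)⁻¹ = q * x * q⁻¹ := by
        rw [show a * q * a⁻¹ * x * (a * q * a⁻¹)⁻¹ = a * (q * (a⁻¹ * x * a) * q⁻¹) * a⁻¹ by group,
          show a⁻¹ * x * a = x by rw [mul_assoc, ← hxa, inv_mul_cancel_left]]
        rcases h.conj_cases (hRQ hx) hq with e | e <;> rw [e]
        · exact hxa'
        · rw [← conj_mul, hxa', haz]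
      rw [← mul_inv_eq_iff_eq_mul]
      calc ⁅q, a⁆ * x * ⁅q, a⁆⁻¹ = q * ((a * q⁻¹ * a⁻¹) * x * (a * q⁻¹ * a⁻¹)⁻¹) * q⁻¹ := by
            rw [commutatorElement_def]; group
        _ = x := by
            have e : (a * q * a⁻¹)⁻¹ = a * q⁻¹ * a⁻¹ := by group
            rcases h.conj_cases (hRQ hx) (Q.inv_mem hq') with e' | e'
            · rw [← e, e']
              rcases h.conj_cases (hRQ hx) hq with e'' | e''
              · exact e''
              · exfalso
                have : (a * q * a⁻¹) * x * (a * q * a⁻¹)⁻¹ = x := by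
                  calc _ = (a * q * a⁻¹) * ((a * q * a⁻¹)⁻¹ * x * (a * q * a⁻¹)⁻¹⁻¹) * (a * q * a⁻¹)⁻¹ := by rw [e']
                    _ = x := by group
                rw [hxq, e''] at this
                exact h.z_ne (mul_eq_left.1 this)
            · rw [← e, e', ← conj_mul]
              rcases h.conj_cases (hRQ hx) hq with e'' | e''
              · exfalso
                have h1 : (a * q * a⁻¹) * x * (a * q * a⁻¹)⁻¹ = x := by rw [hxq, e'']
                have h2 : (a * q * a⁻¹)⁻¹ * x * (a * q * a⁻¹)⁻¹⁻¹ = x := by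
                  calc _ = (a * q * a⁻¹)⁻¹ * ((a * q * a⁻¹) * x * (a * q * a⁻¹)⁻¹) * (a * q * a⁻¹) := by
                        rw [h1]; group
                    _ = x := by group
                rw [e'] at h2
                exact h.z_ne (mul_eq_left.1 h2)
              · rw [e'', show q * z * q⁻¹ = z by rw [← h.z_comm hq, mul_inv_cancel_right], mul_assoc,
                  h.z_sq, mul_one]
    exact fun q hq => (Subgroup.mem_centralizer_singleton_iff.1 (hle hq)).symm
  have hcc : ∀ y : ↥R, y ∈ Subgroup.center ↥R ↔ (y : G) = 1 ∨ (y : G) = z := by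
    intro y
    refine ⟨fun hy => hcen y y.2 fun r hr =>
      (congrArg Subtype.val (Subgroup.mem_center_iff.1 hy ⟨r, hr⟩)).symm, fun hy => ?_⟩
    rw [Subgroup.mem_center_iff]
    intro r
    apply Subtype.ext
    show (r : G) * y = y * r
    rcases hy with e | e <;> rw [e]
    · simp
    · exact (h.z_comm (hRQ r.2)).symm
  have hmap : (Subgroup.center ↥R).map R.subtype = Subgroup.zpowers z := by
    ext y
    rw [mem_zpowers_involution h.z_sq]
    constructor
    · rintro ⟨y, hy, rfl⟩; exact (hcc y).1 hy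
    · intro hy
      have hyR : y ∈ R := by rcases hy with rfl | rfl; exacts [one_mem R, hzR]
      exact ⟨⟨y, hyR⟩, (hcc _).2 hy, rfl⟩
  obtain ⟨r, hr, hrv⟩ : ∃ r ∈ R, r * v * r⁻¹ = v * z := by
    by_contra hne
    push Not at hne
    rcases hcen v hv fun r hr => by
      rcases h.conj_cases (hRQ hv) (hRQ hr) with e | e
      · exact (mul_inv_eq_iff_eq_mul.1 e).symm
      · exact absurd e (hne r hr) with e | e
    · exact hv1 e
    · exact hvz e
  have hcomm : ∀ a b : ↥R, ⁅a, b⁆ ∈ Subgroup.center ↥R := fun a b => (hcc _).2 (by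
    show (a : G) * b * (a : G)⁻¹ * (b : G)⁻¹ = 1 ∨ (a : G) * b * (a : G)⁻¹ * (b : G)⁻¹ = z
    rcases h.conj_cases (hRQ b.2) (hRQ a.2) with e | e <;> rw [e]
    · exact Or.inl (mul_inv_cancel _)
    · exact Or.inr (by rw [← h.z_comm (hRQ b.2), mul_inv_cancel_right]))
  have hzc : Subgroup.center ↥R ≤ commutator ↥R := by
    intro y hy
    rcases (hcc y).1 hy with e | e
    · rw [show y = 1 from Subtype.ext e]; exact one_mem _
    · have e2 : ⁅(⟨r, hr⟩ : ↥R), (⟨v, hv⟩ : ↥R)⁆ = y := Subtype.ext (by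
        show r * v * r⁻¹ * v⁻¹ = y
        rw [hrv, e, ← h.z_comm (hRQ hv), mul_inv_cancel_right])
      rw [← e2, _root_.commutator_def]
      exact Subgroup.commutator_mem_commutator (Subgroup.mem_top _) (Subgroup.mem_top _)
  have hp : IsPGroup 2 ↥R := h.isPGroup.to_le hRQ
  have hc2 : commutator ↥R = Subgroup.center ↥R := le_antisymm (by
    rw [_root_.commutator_def, Subgroup.commutator_le]
    exact fun a _ b _ => hcomm a b) hzc
  have hf : frattini ↥R = Subgroup.center ↥R := le_antisymm
    (CfsgLib.LocalEven.Residual.frattini_le (p := 2) hcomm fun a => (hcc _).2 (by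
      show (a : G) ^ 2 = 1 ∨ (a : G) ^ 2 = z
      rw [pow_two]; exact h.sq_cases (hRQ a.2)))
    (hzc.trans (by
      rw [_root_.commutator_def, Subgroup.commutator_le]
      exact fun a _ b _ => CfsgLib.PGroup.Frattini.commutatorElement_mem_frattini hp a b))
  refine ⟨⟨⟨hp, hf, hc2⟩, ?_⟩, h.z_ne, h.z_sq, hmap⟩
  rw [← Subgroup.card_map_of_injective R.subtype_injective, hmap, Nat.card_zpowers]
  exact orderOf_eq_prime (by rw [pow_two, h.z_sq]) h.z_ne

end CfsgLib.ThreeTransp.ExtraspecialFixed
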