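import Mathlib
import Cfsg.Prelude
import Cfsg.Agent.Lib.Classical.PSU32

/-!
The groups of order 54 generated by an involution inverting two non-commuting elements of order three
with central commutator, and the derived group of the three dimensional special unitary group over
four elements.
-/

set_option autoImplicit false
set_option linter.unusedSectionVars false

namespace CfsgLib.ThreeTransp.FiftyFour

open scoped commutatorElement

/-- index set of the normal forms -/
abbrev I54 := ZMod 2 × ZMod 3 × ZMod 3 × ZMod 3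

/-- sign of the involution part -/
def sgn (e : ZMod 2) : ZMod 3 := if e = 0 then 1 else -1

/-- The model group. -/
@[ext] structure Std54 where
  v : I54
deriving DecidableEq, Fintype

/-- product of normal forms -/
def mulI (i j : I54) : I54 :=
  (i.1 + j.1, sgn j.1 * i.2.1 + j.2.1, sgn j.1 * i.2.2.1 + j.2.2.1,
    i.2.2.2 + j.2.2.2 - j.2.1 * (sgn j.1 * i.2.2.1))

/-- inverse of normal forms -/
def invI (i : I54) : I54 :=
  (i.1, -(sgn i.1 * i.2.1), -(sgn i.1 * i.2.2.1), -i.2.2.2 - (sgn i.1 * i.2.1) * (sgn i.1 * i.2.2.1))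

instance : Mul Std54 := ⟨fun a b => ⟨mulI a.v b.v⟩⟩
instance : One Std54 := ⟨⟨(0, 0, 0, 0)⟩⟩
instance : Inv Std54 := ⟨fun a => ⟨invI a.v⟩⟩

theorem sgn_add : ∀ e f : ZMod 2, sgn (e + f) = sgn e * sgn f := by decide
theorem sgn_mul_self : ∀ e : ZMod 2, sgn e * sgn e = 1 := by decide

instance : Group Std54 where
  mul_assoc a b c := by
    refine Std54.ext ?_
    show mulI (mulI a.v b.v) c.v = mulI a.v (mulI b.v c.v)
    simp only [mulI, sgn_add, Prod.mk.injEq]
    refine ⟨by ring, by ring, by ring, ?_⟩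
    linear_combination (b.v.2.1 * (sgn b.v.1 * a.v.2.2.1)) * (sgn_mul_self c.v.1)
  one_mul a := by
    refine Std54.ext ?_
    show mulI (0, 0, 0, 0) a.v = a.v
    simp [mulI]
  mul_one a := by
    refine Std54.ext ?_
    show mulI a.v (0, 0, 0, 0) = a.v
    simp [mulI, sgn]
  inv_mul_cancel a := by
    refine Std54.ext ?_
    show mulI (invI a.v) a.v = (0, 0, 0, 0)
    revert a
    exact fun a => (by decide +kernel : ∀ i : I54, mulI (invI i) i = (0, 0, 0, 0)) a.v

theorem card_std : Nat.card Std54 = 54 := by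
  rw [Nat.card_eq_fintype_card]; decide +kernel

theorem key54 : ∀ s : Std54, s ≠ 1 → ∃ g k : Std54,
    s = ⟨(0, 0, 0, 1)⟩ ∨ s * s = ⟨(0, 0, 0, 1)⟩ ∨
    ⁅s, g⁆ = ⟨(0, 0, 0, 1)⟩ ∨ ⁅s, g⁆ * ⁅s, g⁆ = ⟨(0, 0, 0, 1)⟩ ∨
    ⁅⁅s, g⁆, k⁆ = ⟨(0, 0, 0, 1)⟩ ∨ ⁅⁅s, g⁆, k⁆ * ⁅⁅s, g⁆, k⁆ = ⟨(0, 0, 0, 1)⟩ := by
  have h : ∀ s : Std54, s ≠ 1 → ∃ g ∈ ({⟨(0, 1, 0, 0)⟩, ⟨(0, 0, 1, 0)⟩} : Finset Std54),
      ∃ k ∈ ({⟨(0, 1, 0, 0)⟩, ⟨(0, 0, 1, 0)⟩} : Finset Std54),
      s = ⟨(0, 0, 0, 1)⟩ ∨ s * s = ⟨(0, 0, 0, 1)⟩ ∨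
      ⁅s, g⁆ = ⟨(0, 0, 0, 1)⟩ ∨ ⁅s, g⁆ * ⁅s, g⁆ = ⟨(0, 0, 0, 1)⟩ ∨
      ⁅⁅s, g⁆, k⁆ = ⟨(0, 0, 0, 1)⟩ ∨ ⁅⁅s, g⁆, k⁆ * ⁅⁅s, g⁆, k⁆ = ⟨(0, 0, 0, 1)⟩ := by
    decide +kernel
  intro s hs
  obtain ⟨g, -, k, -, hgk⟩ := h s hs
  exact ⟨g, k, hgk⟩

section
variable {G : Type*} [Group G] (d x y : G)

/-- the normal form map -/
def phi (i : I54) : G := d ^ i.1.val * (x ^ i.2.1.val * y ^ i.2.2.1.val * (x * y * x⁻¹ * y⁻¹) ^ i.2.2.2.val)

variable {d x y}

theorem pow_val_add {g : G} {n : ℕ} [NeZero n] (hg : g ^ n = 1) (a b : ZMod n) :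
    g ^ (a + b).val = g ^ a.val * g ^ b.val := by
  rw [← pow_add, ZMod.val_add, pow_eq_pow_mod (a.val + b.val) hg]

theorem pow_val_nat {g : G} {n : ℕ} [NeZero n] (hg : g ^ n = 1) (m : ℕ) : g ^ (m : ZMod n).val = g ^ m := by
  rw [ZMod.val_natCast, ← pow_eq_pow_mod m hg]

theorem pow_val_neg {g : G} {n : ℕ} [NeZero n] (hg : g ^ n = 1) (a : ZMod n) : g ^ (-a).val = (g ^ a.val)⁻¹ :=
  eq_inv_of_mul_eq_one_left (by rw [← pow_val_add hg, neg_add_cancel, ZMod.val_zero, pow_zero])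

variable (dd : d * d = 1) (x3 : x ^ 3 = 1) (y3 : y ^ 3 = 1) (dx : d * x * d = x⁻¹) (dy : d * y * d = y⁻¹)
  (cx : x * y * x⁻¹ * y⁻¹ * x = x * (x * y * x⁻¹ * y⁻¹)) (cy : x * y * x⁻¹ * y⁻¹ * y = y * (x * y * x⁻¹ * y⁻¹))
include dd x3 y3 dx dy cx cy

theorem relations : (x * y * x⁻¹ * y⁻¹) ^ 3 = 1 ∧ d * (x * y * x⁻¹ * y⁻¹) = (x * y * x⁻¹ * y⁻¹) * d ∧
    ∀ m n : ℕ, y ^ m * x ^ n * (x * y * x⁻¹ * y⁻¹) ^ (n * m) = x ^ n * y ^ m := by
  obtain ⟨c, hc⟩ : ∃ c, c = x * y * x⁻¹ * y⁻¹ := ⟨_, rfl⟩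
  rw [← hc] at cx cy ⊢
  have key : x * y = c * (y * x) := by rw [hc]; group
  have hxy : ∀ n : ℕ, x ^ n * y = c ^ n * (y * x ^ n) := by
    intro n
    induction n with
    | zero => simp
    | succ n ih =>
      calc x ^ (n + 1) * y = x ^ n * (x * y) := by rw [pow_succ, mul_assoc]
        _ = x ^ n * c * (y * x) := by rw [key, mul_assoc]
        _ = c * (x ^ n * y) * x := by
          rw [((Commute.pow_left (show Commute x c from cx.symm) n)).eq]
          simp only [mul_assoc]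
        _ = c ^ (n + 1) * (y * x ^ (n + 1)) := by
          rw [ih, pow_succ' c, pow_succ x]; simp only [mul_assoc]
  refine ⟨?_, ?_, ?_⟩
  · have := hxy 3
    rw [x3, one_mul, mul_one] at this
    exact mul_eq_right.1 this.symm
  · have hc2 : c = x⁻¹ * y⁻¹ * x * y := by
      calc c = (y * x)⁻¹ * (c * (y * x)) := by
            rw [(Commute.mul_right cy cx : Commute c (y * x)).eq, inv_mul_cancel_left]
        _ = _ := by rw [← key]; group
    have di : d⁻¹ = d := inv_eq_of_mul_eq_one_right dd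
    have e : d * c * d⁻¹ = c := by
      conv_lhs => rw [hc]
      have ex : d * x * d⁻¹ = x⁻¹ := by rw [di]; exact dx
      have ey : d * y * d⁻¹ = y⁻¹ := by rw [di]; exact dy
      calc d * (x * y * x⁻¹ * y⁻¹) * d⁻¹ = (d * x * d⁻¹) * (d * y * d⁻¹) * (d * x * d⁻¹)⁻¹ * (d * y * d⁻¹)⁻¹ := by
            group
        _ = c := by rw [ex, ey, inv_inv, inv_inv]; exact hc2.symm
    exact mul_inv_eq_iff_eq_mul.1 e
  · intro m n
    induction m with
    | zero => simp
    | succ m ih =>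
      have h1 : Commute c (y ^ m) := (show Commute c y from cy).pow_right m
      calc y ^ (m + 1) * x ^ n * c ^ (n * (m + 1))
          = y * (y ^ m * x ^ n * c ^ (n * m)) * c ^ n := by
            rw [pow_succ', Nat.mul_succ, pow_add]; simp only [mul_assoc]
        _ = y * x ^ n * (y ^ m * c ^ n) := by rw [ih]; simp only [mul_assoc]
        _ = (y * x ^ n * c ^ n) * y ^ m := by rw [← (h1.pow_left n).eq]; simp only [mul_assoc]
        _ = x ^ n * y * y ^ m := by
          rw [hxy n, ((show Commute c y from cy).mul_right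
            ((show Commute c x from cx).pow_right n) |>.pow_left n).eq]
        _ = x ^ n * y ^ (m + 1) := by rw [pow_succ', mul_assoc]

theorem phi_mul (i j : I54) : phi d x y i * phi d x y j = phi d x y (mulI i j) := by
  obtain ⟨c3, cd, hswap⟩ := relations dd x3 y3 dx dy cx cy
  obtain ⟨e, a, b, k⟩ := i
  obtain ⟨e', a', b', k'⟩ := j
  obtain ⟨c, hc⟩ : ∃ c, c = x * y * x⁻¹ * y⁻¹ := ⟨_, rfl⟩
  simp only [phi, mulI]
  rw [← hc] at c3 cd hswap cx cy ⊢
  have d2 : d ^ 2 = 1 := by rw [sq, dd]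
  have di : d⁻¹ = d := inv_eq_of_mul_eq_one_right dd
  have hmove : x ^ a.val * y ^ b.val * c ^ k.val * d ^ e'.val
      = d ^ e'.val * (x ^ (sgn e' * a).val * y ^ (sgn e' * b).val * c ^ k.val) := by
    rcases (by decide : ∀ e : ZMod 2, e = 0 ∨ e = 1) e' with rfl | rfl
    · simp [sgn]
    · have hv : ZMod.val (1 : ZMod 2) = 1 := rfl
      simp only [sgn]
      rw [if_neg (by decide), neg_one_mul, neg_one_mul, hv, pow_one, pow_val_neg x3, pow_val_neg y3,
        ← inv_pow, ← inv_pow, ← dx, ← dy]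
      have hp : ∀ (g : G) (n : ℕ), (d * g * d) ^ n = d * g ^ n * d := fun g n => by
        conv_lhs => arg 1; arg 2; rw [← di]
        rw [conj_pow, di]
      rw [hp, hp]
      calc x ^ a.val * y ^ b.val * c ^ k.val * d
          = x ^ a.val * y ^ b.val * (d * c ^ k.val) := by
            rw [((show Commute d c from cd).pow_right k.val).eq]; simp only [mul_assoc]
        _ = d * (d * x ^ a.val * d * (d * y ^ b.val * d) * c ^ k.val) := by
            simp only [mul_assoc]
            rw [← mul_assoc d d, dd, one_mul, ← mul_assoc d d, dd, one_mul]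
  generalize hA : sgn e' * a = A at *
  generalize hB : sgn e' * b = B at *
  have hcx : ∀ p q : ℕ, Commute (c ^ p) (x ^ q) := fun p q => ((show Commute c x from cx).pow_left p).pow_right q
  have hcy : ∀ p q : ℕ, Commute (c ^ p) (y ^ q) := fun p q => ((show Commute c y from cy).pow_left p).pow_right q
  have hs : y ^ B.val * x ^ a'.val = x ^ a'.val * y ^ B.val * c ^ (-(a' * B)).val := by
    rw [pow_val_neg c3, ← hswap B.val a'.val, show a' * B = ((a'.val * B.val : ℕ) : ZMod 3) by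
      push_cast [ZMod.natCast_zmod_val]; rfl, pow_val_nat c3, mul_inv_cancel_right]
  calc d ^ e.val * (x ^ a.val * y ^ b.val * c ^ k.val) * (d ^ e'.val * (x ^ a'.val * y ^ b'.val * c ^ k'.val))
      = d ^ e.val * ((x ^ a.val * y ^ b.val * c ^ k.val * d ^ e'.val) * (x ^ a'.val * y ^ b'.val * c ^ k'.val)) := by
        simp only [mul_assoc]
    _ = d ^ (e + e').val * (x ^ A.val * y ^ B.val * c ^ k.val * (x ^ a'.val * (y ^ b'.val * c ^ k'.val))) := by
        rw [hmove, pow_val_add d2]; simp only [mul_assoc]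
    _ = d ^ (e + e').val * (x ^ A.val * (y ^ B.val * x ^ a'.val) * (c ^ k.val * (y ^ b'.val * c ^ k'.val))) := by
        simp only [mul_assoc]
        rw [← mul_assoc (c ^ k.val) (x ^ a'.val), (hcx _ _).eq]
        simp only [mul_assoc]
    _ = d ^ (e + e').val * (x ^ (A + a').val * y ^ (B + b').val * c ^ (k + k' - a' * B).val) := by
        rw [hs, sub_eq_add_neg, pow_val_add x3, pow_val_add y3, pow_val_add c3 (k + k'), pow_val_add c3 k]
        congr 1
        simp only [mul_assoc]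
        congr 2
        congr 1
        rw [← mul_assoc (c ^ (-(a' * B)).val), ← mul_assoc (c ^ (-(a' * B)).val * c ^ k.val),
          ← pow_add, (hcy _ _).eq, pow_add]
        simp only [mul_assoc]
        rw [← pow_add, ← pow_add, ← pow_add, ← pow_add]
        congr 2
        ring

/-- The homomorphism from the model group. -/
def phiHom : Std54 →* G :=
  MonoidHom.mk' (fun s => phi d x y s.v) fun s t => (phi_mul dd x3 y3 dx dy cx cy s.v t.v).symm

theorem phiHom_injective (hxy : x * y ≠ y * x) : Function.Injective (phiHom dd x3 y3 dx dy cx cy) := by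
  obtain ⟨c3, cd, -⟩ := relations dd x3 y3 dx dy cx cy
  set f := phiHom dd x3 y3 dx dy cx cy
  have fx : f ⟨(0, 1, 0, 0)⟩ = x := by
    show phi d x y (0, 1, 0, 0) = x
    simp [phi, ZMod.val_one]
  have fy : f ⟨(0, 0, 1, 0)⟩ = y := by
    show phi d x y (0, 0, 1, 0) = y
    simp [phi, ZMod.val_one]
  have fc : f ⟨(0, 0, 0, 1)⟩ = x * y * x⁻¹ * y⁻¹ := by
    show phi d x y (0, 0, 0, 1) = _
    simp [phi, ZMod.val_one]
  have hc1 : f ⟨(0, 0, 0, 1)⟩ ≠ 1 := fun h => hxy (by
    rw [fc] at h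
    exact mul_inv_eq_iff_eq_mul.1 (mul_inv_eq_one.1 h))
  refine (injective_iff_map_eq_one f).2 fun s hs => ?_
  by_contra hs1
  obtain ⟨g, k, hgk⟩ := key54 s hs1
  have h1 : f ⁅s, g⁆ = 1 := by rw [map_commutatorElement, hs, commutatorElement_one_left]
  have h2 : f ⁅⁅s, g⁆, k⁆ = 1 := by rw [map_commutatorElement, h1, commutatorElement_one_left]
  rcases hgk with e | e | e | e | e | e
  · exact hc1 (e ▸ hs)
  · exact hc1 (by rw [← e, map_mul, hs, one_mul])
  · exact hc1 (e ▸ h1)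
  · exact hc1 (by rw [← e, map_mul, h1, one_mul])
  · exact hc1 (e ▸ h2)
  · exact hc1 (by rw [← e, map_mul, h2, one_mul])

/-- A group of order 54 with these generators and relations is the model group. -/
theorem equiv_of_card [Finite G] (hxy : x * y ≠ y * x) (h54 : Nat.card G = 54) : Nonempty (G ≃* Std54) := by
  have hbij : Function.Bijective (phiHom dd x3 y3 dx dy cx cy) :=
    (phiHom_injective dd x3 y3 dx dy cx cy hxy).bijective_of_nat_card_le
      (by rw [h54, card_std])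
  exact ⟨(MulEquiv.ofBijective _ hbij).symm⟩

/-- A group generated by these generators is the model group. -/
theorem equiv_of_gen (hxy : x * y ≠ y * x) (hgen : Subgroup.closure ({d, x, y} : Set G) = ⊤) :
    Nonempty (G ≃* Std54) := by
  refine ⟨(MulEquiv.ofBijective (phiHom dd x3 y3 dx dy cx cy)
    ⟨phiHom_injective dd x3 y3 dx dy cx cy hxy, ?_⟩).symm⟩
  rw [← MonoidHom.range_eq_top, eq_top_iff, ← hgen, Subgroup.closure_le]
  rintro g hg
  simp only [Set.mem_insert_iff, Set.mem_singleton_iff] at hg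
  rcases hg with rfl | rfl | rfl
  · exact ⟨⟨(1, 0, 0, 0)⟩, by show phi _ _ _ (1, 0, 0, 0) = _; simp [phi, ZMod.val_one]⟩
  · exact ⟨⟨(0, 1, 0, 0)⟩, by show phi _ _ _ (0, 1, 0, 0) = _; simp [phi, ZMod.val_one]⟩
  · exact ⟨⟨(0, 0, 1, 0)⟩, by show phi _ _ _ (0, 0, 1, 0) = _; simp [phi, ZMod.val_one]⟩

end

open Matrix in
theorem su32_data (F : Type) [Field F] [Fintype F] (hF : Fintype.card F = 4) :
    Nonempty (↥(commutator ↥(Cfsg.SU 3 F 2)) ≃* Std54) := by
  classical
  have h2 : (2 : F) = 0 := by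
    have h4 : (Fintype.card F : F) = 0 := Nat.cast_card_eq_zero F
    rw [hF] at h4
    exact pow_eq_zero_iff two_ne_zero |>.1 (show (2 : F) ^ 2 = 0 by rw [← h4]; norm_num)
  obtain ⟨ω, hω0, hω1⟩ : ∃ ω : F, ω ≠ 0 ∧ ω ≠ 1 := by
    by_contra hall
    push Not at hall
    have : (Finset.univ : Finset F) ⊆ {0, 1} := fun x _ => by
      simpa using (em (x = 0)).imp_right (hall x)
    have := (Finset.card_le_card this).trans Finset.card_le_two
    rw [Finset.card_univ, hF] at this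
    omega
  have hω3 : ω * ω * ω = 1 := by
    have := FiniteField.pow_card_sub_one_eq_one ω hω0
    rw [hF] at this
    linear_combination this
  have mk : ∀ (M : Matrix (Fin 3) (Fin 3) F), M.det = 1 →
      (∀ u v : Fin 3 → F, Cfsg.hermForm 3 F 2 (M *ᵥ u) (M *ᵥ v) = Cfsg.hermForm 3 F 2 u v) →
      ∃ g : ↥(Cfsg.SU 3 F 2), (g.1.1 : Matrix (Fin 3) (Fin 3) F) = M :=
    fun M hdet hpres => ⟨⟨⟨M, hdet⟩, hpres⟩, rfl⟩
  obtain ⟨P, hP⟩ := mk !![0, 1, 0; 0, 0, 1; 1, 0, 0] (by simp [Matrix.det_fin_three]) (fun u v => by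
    simp [Cfsg.hermForm, Matrix.mulVec, dotProduct, Fin.sum_univ_three]; ring)
  obtain ⟨T, hT⟩ := mk !![0, 1, 0; 1, 0, 0; 0, 0, 1] (by
      simp [Matrix.det_fin_three]; linear_combination -h2) (fun u v => by
    simp [Cfsg.hermForm, Matrix.mulVec, dotProduct, Fin.sum_univ_three]; ring)
  obtain ⟨D, hD⟩ := mk !![ω, 0, 0; 0, ω * ω, 0; 0, 0, 1] (by
      simp [Matrix.det_fin_three]; linear_combination hω3) (fun u v => by
    simp [Cfsg.hermForm, Matrix.mulVec, dotProduct, Fin.sum_univ_three]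
    linear_combination (u 0 * v 0 ^ 2 + u 1 * v 1 ^ 2 * (ω ^ 3 + 1)) * hω3)
  have cext : ∀ g k : ↥(Cfsg.SU 3 F 2), g.1.1 = k.1.1 → g = k := fun g k h => Subtype.ext (Subtype.ext h)
  have hmul : ∀ g k : ↥(Cfsg.SU 3 F 2), (g * k).1.1 = g.1.1 * k.1.1 := fun _ _ => rfl
  have hone : (1 : ↥(Cfsg.SU 3 F 2)).1.1 = 1 := rfl
  have hP3 : P ^ 3 = 1 := cext _ _ (by
    rw [pow_succ, pow_two, hmul, hmul, hone, hP]; ext i j; fin_cases i <;> fin_cases j <;> simp [Matrix.mul_apply, Fin.sum_univ_three])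
  have hD3 : D ^ 3 = 1 := cext _ _ (by
    rw [pow_succ, pow_two, hmul, hmul, hone, hD]; ext i j
    fin_cases i <;> fin_cases j <;> simp [Matrix.mul_apply, Fin.sum_univ_three]
    · linear_combination hω3
    · linear_combination (ω ^ 3 + 1) * hω3)
  have hTP : T * P * T = P⁻¹ := eq_inv_of_mul_eq_one_right (cext _ _ (by
    rw [hmul, hmul, hmul, hone, hP, hT]; ext i j; fin_cases i <;> fin_cases j <;> simp [Matrix.mul_apply, Fin.sum_univ_three]))
  have hTD : T * D * T = D⁻¹ := eq_inv_of_mul_eq_one_right (cext _ _ (by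
    rw [hmul, hmul, hmul, hone, hD, hT]; ext i j
    fin_cases i <;> fin_cases j <;> simp [Matrix.mul_apply, Fin.sum_univ_three]
    · linear_combination hω3
    · linear_combination hω3))
  have hTT : T * T = 1 := cext _ _ (by
    rw [hmul, hone, hT]; ext i j; fin_cases i <;> fin_cases j <;> simp [Matrix.mul_apply, Fin.sum_univ_three])
  have hPD : P * D ≠ D * P := fun h => by
    have e := congrArg (fun g : ↥(Cfsg.SU 3 F 2) => g.1.1 0 1) h
    simp only [hmul, hP, hD] at e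
    simp [Matrix.mul_apply, Fin.sum_univ_three] at e
    exact hω1 (mul_left_cancel₀ hω0 (by linear_combination e))
  set C := commutator ↥(Cfsg.SU 3 F 2) with hC
  have hinC : ∀ X : ↥(Cfsg.SU 3 F 2), X ^ 3 = 1 → T * X * T = X⁻¹ → X ∈ C := by
    intro X hX hTX
    have h : ⁅T, X⁆ ∈ C := by
      rw [hC, commutator_def]; exact Subgroup.commutator_mem_commutator (Subgroup.mem_top _) (Subgroup.mem_top _)
    rw [commutatorElement_def, inv_eq_of_mul_eq_one_right hTT, hTX] at h
    have e : X⁻¹ * X⁻¹ = X := by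
      rw [← _root_.mul_inv_rev, inv_eq_of_mul_eq_one_right (by rw [← hX, pow_succ, pow_two] : X * X * X = 1)]
    rwa [e] at h
  have hPC := hinC P hP3 hTP
  have hDC := hinC D hD3 hTD
  obtain ⟨S, hS⟩ := mk !![ω, 0, 0; 0, ω, 0; 0, 0, ω] (by
      simp [Matrix.det_fin_three]; linear_combination hω3) (fun u v => by
    simp [Cfsg.hermForm, Matrix.mulVec, dotProduct, Fin.sum_univ_three]
    linear_combination (u 0 * v 0 ^ 2 + u 1 * v 1 ^ 2 + u 2 * v 2 ^ 2) * hω3)
  have hSPD : P * D = S * (D * P) := cext _ _ (by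
    rw [hmul, hmul, hmul, hS, hP, hD]; ext i j
    fin_cases i <;> fin_cases j <;> simp [Matrix.mul_apply, Fin.sum_univ_three]
    linear_combination -hω3)
  have hScen : ∀ g : ↥(Cfsg.SU 3 F 2), S * g = g * S := fun g => cext _ _ (by
    rw [hmul, hmul, hS]; ext i j
    fin_cases i <;> fin_cases j <;> simp [Matrix.mul_apply, Fin.sum_univ_three, mul_comm])
  suffices hh : Nat.card ↥(commutator ↥(Cfsg.SU 3 F 2)) = 54 ∧ T ∈ C by
    refine (⟨?_⟩ : Nonempty _)
    have hS' : P * D * P⁻¹ * D⁻¹ = S := by rw [hSPD]; group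
    exact Classical.choice (equiv_of_card (G := ↥C) (d := ⟨T, hh.2⟩) (x := ⟨P, hPC⟩) (y := ⟨D, hDC⟩)
      (Subtype.ext hTT) (Subtype.ext hP3) (Subtype.ext hD3) (Subtype.ext hTP) (Subtype.ext hTD)
      (Subtype.ext (by simpa only [Subgroup.coe_mul, Subgroup.coe_inv, hS'] using hScen P))
      (Subtype.ext (by simpa only [Subgroup.coe_mul, Subgroup.coe_inv, hS'] using hScen D))
      (fun h => hPD (congrArg Subtype.val h))
      hh.1)
  obtain ⟨h72, -, N, hNn, hN9, -, ⟨eQ⟩⟩ := CfsgLib.Classical.psu32_structure hF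
  have hcen : Nat.card (Subgroup.center ↥(Cfsg.SU 3 F 2)) = 3 :=
    CfsgLib.Classical.card_center_SU (show Fintype.card F = 2 ^ 2 from hF) (by norm_num)
  let π : ↥(Cfsg.SU 3 F 2) →* QuaternionGroup 2 :=
    eQ.toMonoidHom.comp ((QuotientGroup.mk' N).comp (QuotientGroup.mk' _))
  have hπ : Function.Surjective π :=
    eQ.surjective.comp ((QuotientGroup.mk'_surjective N).comp (QuotientGroup.mk'_surjective _))
  have h216 : Nat.card ↥(Cfsg.SU 3 F 2) = 216 := by
    rw [Subgroup.card_eq_card_quotient_mul_card_subgroup (Subgroup.center ↥(Cfsg.SU 3 F 2)), hcen,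
      show Nat.card (↥(Cfsg.SU 3 F 2) ⧸ Subgroup.center ↥(Cfsg.SU 3 F 2)) = 72 from h72]
  have hker : Nat.card ↥π.ker = 27 := by
    have h := π.ker.card_mul_index
    rw [Subgroup.index_ker, MonoidHom.range_eq_top.2 hπ, Subgroup.card_top, Nat.card_eq_fintype_card (α := QuaternionGroup 2),
      QuaternionGroup.card, h216] at h
    omega
  have hrange : C.map π = (commutator (QuaternionGroup 2)) := by
    rw [hC, commutator_def, Subgroup.map_commutator, Subgroup.map_top_of_surjective π hπ, commutator_def]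
  have hq2 : Nat.card ↥(commutator (QuaternionGroup 2)) = 2 := by
    have hle : commutator (QuaternionGroup 2) ≤ Subgroup.zpowers (QuaternionGroup.a 2) := by
      rw [commutator_eq_closure, Subgroup.closure_le]
      rintro _ ⟨p, q, rfl⟩
      have : ∀ p q : QuaternionGroup 2, ⁅p, q⁆ = 1 ∨ ⁅p, q⁆ = QuaternionGroup.a 2 := by decide +kernel
      rcases this p q with e | e <;> rw [e]
      · exact one_mem _
      · exact Subgroup.mem_zpowers _
    have hge : Subgroup.zpowers (QuaternionGroup.a 2) ≤ commutator (QuaternionGroup 2) := by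
      rw [Subgroup.zpowers_le, commutator_eq_closure]
      exact Subgroup.subset_closure ⟨QuaternionGroup.a 1, QuaternionGroup.xa 0, by decide +kernel⟩
    rw [le_antisymm hle hge, Nat.card_zpowers]
    exact orderOf_eq_prime (hp := ⟨Nat.prime_two⟩) (by decide +kernel) (by decide +kernel)
  have hcube : ∀ X : ↥(Cfsg.SU 3 F 2), X ^ 3 = 1 → X ∈ π.ker := fun X hX => by
    have : (π X) ^ 3 = 1 := by rw [← map_pow, hX, map_one]
    rw [MonoidHom.mem_ker]
    exact (by decide +kernel : ∀ q : QuaternionGroup 2, q ^ 3 = 1 → q = 1) _ this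
  have hle : π.ker ≤ C := by
    have : Fact (Nat.Prime 3) := ⟨by norm_num⟩
    set M := π.ker ⊓ C with hM
    have hMd : Nat.card ↥M ∣ 3 ^ 3 := by
      rw [show 3 ^ 3 = Nat.card ↥π.ker by rw [hker]; norm_num]
      exact Subgroup.card_dvd_of_le inf_le_left
    obtain ⟨k, hk, hMk⟩ := (Nat.dvd_prime_pow (by norm_num)).1 hMd
    have hk3 : k = 3 := by
      by_contra hne
      have hcm : ∀ x y : ↥M, x * y = y * x := by
        interval_cases k
        · intro x y
          have := (Nat.card_eq_one_iff_unique.1 (by rw [hMk, pow_zero])).1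
          exact Subsingleton.elim _ _
        · intro x y
          have : IsCyclic ↥M := isCyclic_of_prime_card (p := 3) (by rw [hMk, pow_one])
          exact mul_comm' x y
        · intro x y
          have := IsPGroup.isMulCommutative_of_card_eq_prime_sq (G := ↥M) hMk
          exact mul_comm' x y
        · exact absurd rfl hne
      exact hPD (congrArg Subtype.val (hcm ⟨P, hcube _ hP3, hPC⟩ ⟨D, hcube _ hD3, hDC⟩))
    have : M = π.ker := Subgroup.eq_of_le_of_card_ge inf_le_left (by rw [hker, hMk, hk3]; norm_num)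
    exact this ▸ inf_le_right
  have h := Subgroup.relIndex_mul_index hle
  have hC2 : Nat.card ↥C = Nat.card ↥π.ker * Nat.card ↥(C.map π) := by
    have e1 := (π.comp C.subtype).ker.card_mul_index
    rw [Subgroup.index_ker, MonoidHom.range_comp, Subgroup.range_subtype] at e1
    rw [← e1]
    congr 1
    exact Nat.card_congr
      { toFun := fun x => ⟨((x : ↥C) : ↥(Cfsg.SU 3 F 2)), x.2⟩
        invFun := fun y => ⟨⟨(y : ↥(Cfsg.SU 3 F 2)), hle y.2⟩, y.2⟩
        left_inv := fun x => rfl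
        right_inv := fun y => rfl }
  refine ⟨by rw [hC2, hker, hrange, hq2], ?_⟩
  have hTm : π T ∈ C.map π := by
    rw [hrange]
    have : (π T) * π T = 1 := by rw [← map_mul, hTT, map_one]
    rcases (by decide +kernel : ∀ q : QuaternionGroup 2, q * q = 1 → q = 1 ∨ q = QuaternionGroup.a 2) _ this with e | e <;> rw [e]
    · exact one_mem _
    · rw [commutator_eq_closure]
      exact Subgroup.subset_closure ⟨QuaternionGroup.a 1, QuaternionGroup.xa 0, by decide +kernel⟩
  obtain ⟨cc, hcc, hccT⟩ := hTm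
  have : cc⁻¹ * T ∈ π.ker := by rw [MonoidHom.mem_ker, map_mul, map_inv, hccT, inv_mul_cancel]
  simpa using mul_mem hcc (hle this)


end CfsgLib.ThreeTransp.FiftyFour
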