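import Cfsg.Agent.Lib.SmallGroups.Mathieu
import Cfsg.Agent.Lib.Sporadic.M24Orbits
import Cfsg.Agent.Lib.ThreeTransp.GolayModule

/-!
# The stabiliser of a codeword fixes no nonzero class modulo the code
-/

set_option autoImplicit false

namespace CfsgLib.ThreeTransp.GolayStab

open Cfsg CfsgLib.SmallGroups.Golay CfsgLib.SmallGroups.GolayOctads CfsgLib.SmallGroups.M24Group
open CfsgLib.Sporadic.M24Orbits CfsgLib.SmallGroups.Mathieu
open scoped Pointwise

/-- The mask of a word moved by a table. -/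
def pre (t : List ℕ) (n : ℕ) : ℕ := mask fun p => word n (tblFun t p)

/-- The tables fix `n` and move every class of high bits modulo the code. -/
def moves (n : ℕ) (L : List (List ℕ)) : Bool :=
  (L.all fun t => okTbl t && (mask (word n) == pre t n)) &&
    (List.range 4096).all fun k =>
      k == 0 || L.any fun t => !isCW (pre t (k <<< 12) ^^^ (k <<< 12))

/-- Tables for the zero word. -/
def tblZero : List (List ℕ) :=
  [[1, 2, 3, 4, 5, 6, 7, 8, 9, 10, 11, 12, 13, 14, 15, 16, 17, 18, 19, 20, 21, 22, 0, 23],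
   [23, 22, 11, 15, 17, 9, 19, 13, 20, 5, 16, 2, 21, 7, 18, 3, 10, 4, 14, 6, 8, 12, 1, 0]]

/-- Tables fixing the standard octad. -/
def tblOct : List (List ℕ) :=
  [[12, 13, 9, 11, 5, 7, 8, 3, 2, 1, 15, 6, 22, 19, 18, 20, 0, 23, 16, 4, 21, 10, 14, 17],
   [14, 6, 21, 5, 10, 8, 2, 20, 3, 1, 4, 11, 22, 9, 0, 7, 17, 23, 16, 19, 15, 13, 18, 12]]

/-- Tables fixing the standard dodecad. -/
def tblDod : List (List ℕ) :=
  [[12, 0, 10, 6, 23, 14, 8, 7, 20, 9, 18, 19, 15, 17, 4, 1, 21, 16, 3, 11, 22, 5, 2, 13],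
   [16, 1, 3, 20, 0, 23, 8, 10, 19, 18, 22, 11, 14, 4, 15, 12, 21, 13, 9, 7, 2, 17, 6, 5]]

theorem moves_zero : moves 0 tblZero = true := by decide +kernel

theorem moves_oct : moves octB tblOct = true := by decide +kernel

theorem moves_dod : moves dodB tblDod = true := by decide +kernel

/-- A class is moved by the stabiliser of the word `n`. -/
theorem exists_move {n : ℕ} {L : List (List ℕ)} (h : moves n L = true) {w : GolayPt → ZMod 2}
    (hw : w ∉ golayCode) :
    ∃ g ∈ M24, (fun p => word n (g p)) = word n ∧ (fun p => w (g p)) - w ∉ golayCode := by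
  simp only [moves, Bool.and_eq_true, List.all_eq_true, List.mem_range, Bool.or_eq_true, beq_iff_eq,
    List.any_eq_true, Bool.not_eq_true'] at h
  obtain ⟨h1, h2⟩ := h
  set m := mask w with hm
  have hmlt : m < 2 ^ 24 := Nat.ofBits_lt_two_pow _
  set c := enc (m % 4096) with hc
  have hc4 := enc_lt (m % 4096) (Nat.mod_lt _ (by norm_num))
  rw [← hc] at hc4
  set k := (m ^^^ c) >>> 12 with hk
  have hx : (m ^^^ c) < 2 ^ 24 := Nat.xor_lt_two_pow hmlt hc4.1
  have hlow : (m ^^^ c) % 2 ^ 12 = 0 := by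
    rw [Nat.xor_mod_two_pow, show (2 : ℕ) ^ 12 = 4096 from rfl, hc4.2, Nat.xor_self]
  have hkx : k <<< 12 = m ^^^ c := by
    rw [hk, Nat.shiftRight_eq_div_pow, Nat.shiftLeft_eq]
    have := Nat.div_add_mod (m ^^^ c) (2 ^ 12)
    omega
  have hk4 : k < 4096 := by
    rw [hk, Nat.shiftRight_eq_div_pow]
    omega
  have hcc : word c ∈ golayCode := word_enc_mem _
  have hw' : word (k <<< 12) = w + word c := by rw [hkx, word_xor, hm, word_mask]
  have hk0 : k ≠ 0 := by
    intro h0
    refine hw ?_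
    rw [h0, Nat.zero_shiftLeft, word_zero] at hw'
    have e : w = word c := by
      funext p
      have h := congrFun hw' p
      simp only [Pi.zero_apply, Pi.add_apply] at h
      revert h
      generalize w p = a
      generalize word c p = b
      revert a b
      decide
    rw [e]; exact hcc
  obtain ⟨t, ht, htm⟩ := (h2 k hk4).resolve_left hk0
  obtain ⟨hok, hfix⟩ := h1 t ht
  obtain ⟨g, hg, hgt⟩ := exists_elt hok
  have hgp : ∀ p, g p = tblFun t p := fun p => by rw [tblFun, ← hgt p, pt_idx]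
  have hpre : ∀ j, word (pre t j) = fun p => word j (g p) := fun j => by
    rw [pre, word_mask]; simp only [hgp]
  refine ⟨g, hg, ?_, fun hcon => ?_⟩
  · rw [← hpre, ← hfix, word_mask]
  have hmem : word (pre t (k <<< 12) ^^^ (k <<< 12)) ∈ golayCode := by
    rw [word_xor, hpre, hw']
    have e : (fun p => (w + word c) (g p)) + (w + word c) =
        ((fun p => w (g p)) - w) + ((fun p => word c (g p)) + word c) := by
      funext p
      simp only [Pi.add_apply, Pi.sub_apply]
      rw [GolayModule.z2_facts.2.1]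
      ring
    rw [e]
    exact add_mem hcon (add_mem (GolayModule.comp_mem hg hcc) hcc)
  have hlt : pre t (k <<< 12) < 2 ^ 24 := Nat.ofBits_lt_two_pow _
  rw [mem_code_iff_isCW, mask_word (Nat.xor_lt_two_pow hlt (hkx ▸ hx))] at hmem
  rw [hmem] at htm
  exact Bool.noConfusion htm

/-- Transport along an element of `M24`. -/
theorem transport {u w : GolayPt → ZMod 2} {h : Equiv.Perm GolayPt} (hh : h ∈ M24) {n : ℕ}
    {L : List (List ℕ)} (hn : (fun p => u (h p)) = word n) (hm : moves n L = true)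
    (hw : w ∉ golayCode) :
    ∃ σ ∈ M24, (fun p => u (σ.symm p)) = u ∧ (fun p => w (σ.symm p)) - w ∉ golayCode := by
  have hw' : (fun p => w (h p)) ∉ golayCode := fun hc => hw (by
    simpa [Equiv.Perm.inv_def] using GolayModule.comp_mem (inv_mem hh) hc)
  obtain ⟨g, hg, h1, h2⟩ := exists_move hm hw'
  refine ⟨h * g⁻¹ * h⁻¹, mul_mem (mul_mem hh (inv_mem hg)) (inv_mem hh), ?_, fun hc => h2 ?_⟩
  · funext p
    have e1 := congrFun h1 (h.symm p)
    rw [← hn] at e1
    simpa [Equiv.Perm.inv_def, Equiv.Perm.mul_def] using e1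
  · have := GolayModule.comp_mem hh hc
    convert this using 1
    funext p
    simp [Equiv.Perm.inv_def, Equiv.Perm.mul_def]

theorem moved_of_octad {u w : GolayPt → ZMod 2} (hu : u ∈ golayCode) (h8 : (support₂ u).card = 8)
    (hw : w ∉ golayCode) :
    ∃ σ ∈ M24, (fun p => u (σ.symm p)) = u ∧ (fun p => w (σ.symm p)) - w ∉ golayCode := by
  obtain ⟨g, hg, e⟩ := exists_to_octB (o := support₂ u) ⟨⟨u, hu, rfl⟩, h8⟩
  refine transport (inv_mem hg) ?_ moves_oct hw
  apply CfsgLib.Sporadic.Sextets.support₂_inj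
  rw [support₂_comp, inv_inv, e, support₂_word]

theorem moved_of_dodecad {u w : GolayPt → ZMod 2} (hu : u ∈ golayCode)
    (h12 : (support₂ u).card = 12) (hw : w ∉ golayCode) :
    ∃ σ ∈ M24, (fun p => u (σ.symm p)) = u ∧ (fun p => w (σ.symm p)) - w ∉ golayCode := by
  obtain ⟨g, hg, e⟩ := exists_to_dodB (d := support₂ u) ⟨⟨u, hu, rfl⟩, h12⟩
  refine transport (inv_mem hg) ?_ moves_dod hw
  apply CfsgLib.Sporadic.Sextets.support₂_inj
  rw [support₂_comp, inv_inv, e, support₂_word]

theorem moved {u w : GolayPt → ZMod 2} (hu : u ∈ golayCode) (hw : w ∉ golayCode) :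
    ∃ σ ∈ M24, (fun p => u (σ.symm p)) = u ∧ (fun p => w (σ.symm p)) - w ∉ golayCode := by
  have hcw : mask u ∈ cw := by
    obtain ⟨k, hk, rfl⟩ := mem_code_iff.1 hu
    rw [mask_word (enc_lt k hk).1]
    exact mem_cw.2 ⟨k, hk, rfl⟩
  have hcard : (support₂ u).card = pc (mask u) := by rw [← toSet_mask, card_toSet]
  have hpad : ∀ {v : GolayPt → ZMod 2}, v = u + (fun _ => 1) →
      (∃ σ ∈ M24, (fun p => v (σ.symm p)) = v ∧ (fun p => w (σ.symm p)) - w ∉ golayCode) →
      ∃ σ ∈ M24, (fun p => u (σ.symm p)) = u ∧ (fun p => w (σ.symm p)) - w ∉ golayCode := by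
    rintro v rfl ⟨σ, hσ, h1, h2⟩
    exact ⟨σ, hσ, funext fun p => by simpa using congrFun h1 p, h2⟩
  have hcompl : (support₂ (u + fun _ => 1)).card = 24 - (support₂ u).card := by
    have e : support₂ (u + fun _ => 1) = (support₂ u)ᶜ := by
      ext p
      simp only [support₂, Finset.mem_filter, Finset.mem_univ, true_and, Pi.add_apply,
        Finset.mem_compl]
      generalize u p = z
      revert z
      decide
    rw [e, Finset.card_compl]
    rfl
  have hzero : ∀ v : GolayPt → ZMod 2, (support₂ v).card = 0 → v = word 0 := fun v h0 => by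
    rw [word_zero]
    exact CfsgLib.Sporadic.Sextets.support₂_inj
      ((Finset.card_eq_zero.1 h0).trans (by ext p; simp [support₂]))
  rcases weights _ hcw with h | h | h | h | h
  · exact transport (one_mem M24) (hzero u (hcard.trans h)) moves_zero hw
  · exact moved_of_octad hu (hcard.trans h) hw
  · exact moved_of_dodecad hu (hcard.trans h) hw
  · refine hpad rfl (moved_of_octad (add_mem hu GolayModule.one_mem) ?_ hw)
    rw [hcompl, hcard, h]
  · refine hpad rfl (transport (one_mem M24) (hzero _ ?_) moves_zero hw)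
    simp only [Equiv.Perm.one_apply]
    rw [hcompl, hcard, h]

end CfsgLib.ThreeTransp.GolayStab
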