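import Cfsg.Agent.Lib.ThreeTransp.H1Vanish

/-!
# Certificates for three orthogonal groups over the field with two elements
-/

set_option autoImplicit false

namespace CfsgLib.ThreeTransp.H1Vanish

/-- The certificate for the group in dimension 4. -/
def fourCert : Cert where
  qmask := 30584
  a₀ := 3
  A := [6, 12, 10, 14, 3, 5]
  B := [4, 10]
  cls := [([true, false], 3, 12),
    ([true], 4, 10)]
  pairs := [(4, [false, false, true, true, false, false], 0),
    (5, [true, false, false, true, true, false, false, true], 1),
    (6, [false, true, true], 1),
    (8, [true, true, false, true, true, false, false, false], 0),
    (9, [true, false, false, true, true], 1),
    (10, [false, true, true, false, false, true], 1),
    (12, [], 0),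
    (13, [true, false, true, true, false, false], 1),
    (14, [true, true, false, false], 1)]
  conj := [(3, []),
    (4, [14, 9]),
    (5, [6]),
    (6, [5]),
    (8, [14, 5]),
    (9, [10]),
    (10, [9]),
    (12, [10, 5]),
    (13, [14]),
    (14, [13])]
  rels := [[true, true, true],
    [false, true, false, true]]

/-- A product of reflections for each isometry in dimension 4. -/
def fourIsometries : List (List ℕ) := [[],
  [3],
  [4],
  [5],
  [6],
  [8],
  [9],
  [10],
  [12],
  [13],
  [14],
  [4, 3],
  [5, 3],
  [6, 3],
  [8, 3],
  [9, 3],
  [10, 3],
  [12, 3],
  [13, 3],
  [14, 3],
  [5, 4],
  [6, 4],
  [8, 4],
  [9, 4],
  [10, 4],
  [12, 4],
  [13, 4],
  [14, 4],
  [8, 5],
  [9, 5],
  [10, 5],
  [12, 5],
  [13, 5],
  [14, 5],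
  [8, 6],
  [9, 6],
  [10, 6],
  [12, 6],
  [13, 6],
  [14, 6],
  [9, 8],
  [10, 8],
  [14, 9],
  [13, 10],
  [13, 12],
  [14, 12],
  [5, 4, 3],
  [6, 4, 3],
  [8, 4, 3],
  [9, 4, 3],
  [10, 4, 3],
  [12, 4, 3],
  [13, 4, 3],
  [14, 4, 3],
  [8, 5, 3],
  [9, 5, 3],
  [10, 5, 3],
  [12, 5, 3],
  [13, 5, 3],
  [14, 5, 3],
  [8, 6, 3],
  [9, 6, 3],
  [10, 6, 3],
  [12, 6, 3],
  [13, 6, 3],
  [14, 6, 3],
  [9, 8, 3],
  [10, 8, 3],
  [14, 9, 3],
  [13, 10, 3],
  [13, 12, 3],
  [14, 12, 3],
  [8, 5, 4],
  [9, 5, 4],
  [10, 5, 4],
  [12, 5, 4],
  [13, 5, 4],
  [14, 5, 4],
  [8, 6, 4],
  [9, 6, 4],
  [10, 6, 4],
  [12, 6, 4],
  [13, 6, 4],
  [14, 6, 4],
  [9, 8, 4],
  [10, 8, 4],
  [13, 12, 4],
  [14, 12, 4],
  [10, 8, 5],
  [14, 9, 5],
  [13, 10, 5],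
  [14, 12, 5],
  [9, 8, 6],
  [14, 9, 6],
  [13, 10, 6],
  [13, 12, 6],
  [8, 5, 4, 3],
  [9, 5, 4, 3],
  [10, 5, 4, 3],
  [12, 5, 4, 3],
  [13, 5, 4, 3],
  [14, 5, 4, 3],
  [8, 6, 4, 3],
  [9, 6, 4, 3],
  [10, 6, 4, 3],
  [12, 6, 4, 3],
  [13, 6, 4, 3],
  [14, 6, 4, 3],
  [9, 8, 4, 3],
  [10, 8, 4, 3],
  [13, 12, 4, 3],
  [14, 12, 4, 3],
  [10, 8, 5, 3],
  [14, 9, 5, 3],
  [13, 10, 5, 3],
  [14, 12, 5, 3],
  [9, 8, 6, 3],
  [14, 9, 6, 3],
  [13, 10, 6, 3],
  [13, 12, 6, 3]]

/-- The certificate for the group in dimension 6. -/
def sixCert : Cert where
  qmask := 10619368485066599584
  a₀ := 5
  A := [41, 35, 49, 51, 28, 60]
  B := [38, 44]
  cls := [([false, true, false, true, true, false, false, true, false], 5, 40),
    ([true], 10, 38)]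
  pairs := [(7, [false, true, false], 0),
    (10, [true, true, false, false, true, false], 0),
    (11, [false, false, true, true, false, true, false, false], 1),
    (13, [true, true, false, false, true, false, false, true, false, false, true, false], 0),
    (14, [true, false, false, false, true, true, false], 1),
    (16, [false, true, false, false, true, true, false, true, false], 0),
    (17, [false, true, false, true, false, true, false, true, false, false], 1),
    (18, [false, true, true, false, true, false], 0),
    (19, [false, false, true, false, true, false, false], 1),
    (20, [false, false, false, false, true, true, false], 1),
    (22, [true, false, true, false, false, true, true, false], 1),
    (24, [false, true, false, false, true, false], 0),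
    (25, [true, false, false, true, false, true, true, false, true, true], 1),
    (28, [true, false, true, true, false, false, true, true, false], 1),
    (31, [true, true, false, true, true, false], 0),
    (32, [false, true, true], 0),
    (33, [true, false, true, false, false, true, false, true, true], 1),
    (34, [false, true, false, true, true, false], 0),
    (35, [false, false, false, true, false, false], 1),
    (36, [true, false, false, true, false, false], 1),
    (38, [true, false, true, false, false, true, false, false, true], 1),
    (40, [], 0),
    (41, [false, true, false, true, false, false, true, false, false], 1),
    (44, [false, false, false, false, true, false, false, true], 1),
    (47, [true, true, false, false, true, true], 0),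
    (48, [false, true, true, false, true, false, false, true, false], 0),
    (49, [false, true, false, false, false, false, true, false, false], 1),
    (50, [true, true, false], 0),
    (51, [true, false, false, false, true, false, true, true], 1),
    (52, [false, false, true, false, false, true, false, false, true], 1),
    (54, [true, false, true, true, false, true, false, false], 1),
    (56, [false, true, false, false, true, false, false, true, false], 0),
    (57, [true, true, false, false, false, false, false, true, true, false], 1),
    (60, [true, false, true, false, true, false, false], 1),
    (63, [false, true, false, false, true, true, false, true, false, false, true, false], 0)]
  conj := [(5, []),
    (7, [19, 17]),
    (10, [28, 19]),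
    (11, [14]),
    (13, [25, 17]),
    (14, [11]),
    (16, [52, 33]),
    (17, [20]),
    (18, [28, 11]),
    (19, [22]),
    (20, [17]),
    (22, [19]),
    (24, [22, 11]),
    (25, [28]),
    (28, [25]),
    (31, [17, 11]),
    (32, [52, 17]),
    (33, [36]),
    (34, [44, 11]),
    (35, [38]),
    (36, [33]),
    (38, [35]),
    (40, [38, 11]),
    (41, [44]),
    (44, [41]),
    (47, [33, 11]),
    (48, [36, 17]),
    (49, [52]),
    (50, [60, 11]),
    (51, [54]),
    (52, [49]),
    (54, [51]),
    (56, [54, 11]),
    (57, [60]),
    (60, [57]),
    (63, [49, 11])]
  rels := [[true, true, true],
    [true, false, false, true, false, false, true, false, false, true, false, false, true, false, false]]

/-- The certificate for the group in dimension 8. -/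
def eightCert : Cert where
  qmask := 47759223636507730209801550344371119078934783318887441289834004656231277002752
  a₀ := 17
  A := [25, 39, 84, 127, 138, 107, 188, 212]
  B := [177, 214]
  cls := [([true], 177, 214),
    ([false, true, false, true, false, false, false, false, true, false, true, false, false, false, false, true, false, true, false, false, false, false, true, false, true, false, false, false], 34, 113)]
  pairs := [(19, [false, true, false, true, false, true, false, true, false, false, false, true, false, false, false], 0),
    (21, [false, true, false, false, false, true, false, true, false, false, false, false, false, true, false, false], 0),
    (23, [false, true, false, true, false, false, false, false, true, false, false, false, false, false, false, false], 0),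
    (25, [false, true, false, false, false, false, false, true, false, true, false, false, true, false, false], 0),
    (27, [true, false, false, false, true, false, true, false, true, false, false, false, false, false, true, false], 0),
    (29, [true, false, false, false, true, false, true, false, true, false, false, false, false, false, false], 0),
    (31, [false, true, false, true, false, false, false, false, true, false, false, false, false, false, false, true, false], 0),
    (34, [true, false, false, false, false, true, false, false, false, true, false, true, false], 0),
    (35, [false, true, false, false, false, false, true, false, false, false, false, false, false, true], 1),
    (38, [false, false, false, false, false, false, false, true, false, true, false, true, false, false, false], 0),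
    (39, [false, false, false, false, true, false, false, false, false, false, false, true, false, true, false, false, false, false, false], 1),
    (42, [false, false, false, false, true, false, true, false, false, false, false, true, false, true, false, true, false, false, false], 0),
    (43, [true, false, false, false, false, false, false, true, false, false, false, false, false, false, true], 1),
    (46, [false, true, false, true, false, false, false, false, true, false, true, false, false, true, false, false], 0),
    (47, [true, false, false, true, false, false, false, false, false, true, false, false, false, true, false, false, true, false, true, false, true, false], 1),
    (49, [false, true, false, true, false, true, false, true, false, false, false, false, false, true, false], 0),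
    (50, [false, true, false, false, true, false, true, false, true, false, false, false, false, false, true, false, false, false, true, false, true], 1),
    (53, [false, false, false, true, false, false, true, false, false, true, false, false, true, false, true, false, true, false], 0),
    (54, [false, false, false, true, false, false, false, false, false, true, false, false, false, true], 1),
    (57, [false, false, false, true, false, true, false, false, false, true, false, false, false, true, false, false], 0),
    (58, [false, true, false, true, false, true, false, false, true, false, false, false, true, false, true, false, false, false, false, false, false, true], 1),
    (61, [false, false, false, true, false, false, true, false, true, false, true, false, true, false, false, false, false], 0),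
    (62, [true, false, true, false, false, false, false, true, false, true, false, false, false, true, false, false, false, false, false, true, false], 1),
    (68, [false, true, false, false, true, false, false, false, true, false, false], 0),
    (69, [true, false, false, false, false, false, false, false, true, false, true, false, true, false, true, false, false, true, false, false], 1),
    (70, [false, false, false, true, false, true, false, false, true, false, true, false, false, false, true, false, false], 0),
    (71, [false, false, true, false, false, false, false, true, false, true, false, false, false, true, false, false, true, false, false], 1),
    (76, [false, false, false, false, false, false, false, true, false, true, false, false, false, false], 0),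
    (77, [false, false, false, false, true, false, true, false, true, false, false, false, true, false, false, false, true, false, true, false], 1),
    (78, [false, true, false, true, false, true, false, true, false, false, false, true, false, false, true, false], 0),
    (79, [false, true, false, true, false, false, false, false, false, false, false, false, true, false, false, true, false, false], 1),
    (81, [true, false, true, false, true, false, false, true, false, false, true, false, true, false, true, false], 0),
    (83, [true, false, true, false, true, false, false, true, false, false, true, false, true, false, false], 0),
    (84, [true, false, true, false, false, false, true, false, false, false, false, true, false, true], 1),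
    (86, [false, true, false, false, false, false, false, false, true, false, true, false, true, false], 1),
    (89, [false, false, true, false, false, false, false, false, true, false, true, false, false, false, true, false], 0),
    (91, [false, true, false, false, true, false, true, false, false, false, false, false, false], 0),
    (92, [true, false, true, false, false, false, false, true, false, true, false, false, false, false, false], 1),
    (94, [false, false, true, false, false, true, false, false, false, false, false, true, false, false, false, false, true, false, true], 1),
    (98, [true, false, true, false, true, false, false, true, false, false, false, false, true, false, false, true, false, false, false, false], 0),
    (99, [false, false, false, false, true, false, false, false, true, false, false, true, false, false, false, true, false, false, true, false, false], 1),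
    (100, [true, false, false, false, false, false, true, false, true, false, false, false, true, false, false, false, true, false, false, false], 0),
    (101, [false, false, false, true, false, false, false, false, false, true, false, true, false, false, false, false, false], 1),
    (106, [true, false, false, false, true, false, true, false, false, false, true, false, false], 0),
    (107, [false, false, true, false, true, false, true, false, false, false, false, false, true, false, false, false, false, false, false, true], 1),
    (108, [false, true, false, true, false, true, false, true, false, false, false, false, false, false], 0),
    (109, [true, false, true, false, false, false, false, true, false, false, false, true], 1),
    (113, [true, false, true, false, false, false, false, true, false, false, true, false, false, false, true, false, true, false, false, true, false], 0),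
    (114, [false, false, false, true, false, true, false, false, false, false, false, false, false, true, false, true, false, true, false], 1),
    (116, [false, false, true, false, true, false, false, true, false, false, true, false, false, false, true, false, false, true, false, false], 1),
    (119, [true, false, false, false, false, false, false, false, true, false, false, false, false, false, false, true, false], 0),
    (121, [false, true, false, false, true, false, true, false, false, false, true, false, false, true, false], 0),
    (122, [true, false, false, false, true, false, false, false, true, false, false, false, false, false, false, true], 1),
    (124, [false, false, true, false, true, false, false, false, false, true, false, true, false, false, false, true, false, true], 1),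
    (127, [false, false, false, false, false, false, true, false, true, false, true, false, true, false, true, false, false], 0),
    (136, [false, false, false, false, false, false, true, false, true, false, false, true, false, true, false, false], 0),
    (137, [true, false, true, false, false, true, false, true, false, false, false, false, true, false, true], 1),
    (138, [true, false, false, false, false, true, false, true, false, false, false, false, false, true, false], 0),
    (139, [false, false, false, false, true, false, true, false, false, false, true, false, false, true, false, true, false], 1),
    (140, [false, false, true, false, true, false, false, true, false, false, true, false, true, false, true, false, true, false, false], 0),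
    (141, [true, false, false, false, false, false, true, false, false, false, true, false, true, false, false, false, true, false, true, false], 1),
    (142, [false, true, false, false, false, false, false, true, false, false, false, false, false, false, true, false], 0),
    (143, [false, false, true, false, false, false, false, true, false, false, false, true, false, false, true, false, true, false, true, false], 1),
    (145, [true, false, false, false, false, false, false, false, false, false, false, true, false, true, false, false], 0),
    (147, [true, false, true, false, true, false, true, false, false, false, false, false, false, false, false, true, false, true, false], 0),
    (149, [false, true, false, false, false, true, false, false, false, false, false, false, true, false, false, false, true, false, true, false], 0),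
    (151, [false, true, false, false, true, false, true, false, false, false, false, false, true, false], 0),
    (152, [false, false, false, false, true, false, false, false, true, false, false, false, true, false, true, false], 1),
    (154, [true, false, false, false, true, false, false, false, false, false, true, false, true, false, true, false], 1),
    (156, [true, false, false, true, false, true, false, false, true, false, true, false, false, false, true, false, false, true, false, true, false], 1),
    (158, [false, false, false, false, false, false, true, false, false, false, true, false, false, true, false, true, false, true, false], 1),
    (162, [false, true, false, false, true, false, false, false, true, false, true, false], 0),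
    (163, [false, false, true, false, false, false, true, false, false, false, true, false, false, false, true, false, true, false, true, false, true, false], 1),
    (166, [false, true, false, false, false, false, false, false, false, false, true, false, true, false, false], 0),
    (167, [true, false, false, true, false, false, false, false, false, true, false, false, true, false, true, false], 1),
    (168, [false, false, true, false, true, false, true, false, false, false, true, false, false, false, true, false, false], 0),
    (169, [false, false, true, false, true, false, false, true, false, false, false, true, false, true, false], 1),
    (172, [false, false, true, false, true, false, false, true, false, true, false, true, false, true, false, false, false, false], 0),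
    (173, [false, true, false, false, true, false, false, true, false, true, false, false, true, false, false], 1),
    (177, [false, true, false, false, false, false, false, true, false, false, false, false, false, false, false], 0),
    (178, [true, false, true, false, true, false, false, false, true, false, true, false], 1),
    (181, [false, true, false, false, true, false, true, false, false, false, true, false, false, false], 0),
    (182, [false, false, true, false, true, false, false, false, false, false, true, false, false, false, true], 1),
    (184, [false, false, false, true, false, false, true, false, false, false, true, false, true, false], 1),
    (187, [true, false, true, false, true, false, false, true, false, true, false, true, false, true, false, false], 0),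
    (188, [true, false, true, false, false, false, true, false, true, false, false, false, true, false, true], 1),
    (191, [true, false, true, false, true, false, true, false, true, false, true, false, false, false, true, false], 0),
    (196, [false, true, false, false, true, false, false, false, false, true, false, false, false, true, false, true, false, false, false, true, false, false], 0),
    (197, [true, false, true, false, true, false, false, false, false, false, false, false, false, false, false, true], 1),
    (198, [true, false, false, false, false, false, false, false, true, false, true, false, false, true, false, true, false], 0),
    (199, [false, true, false, true, false, false, false, false, false, true, false, true, false, true, false], 1),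
    (200, [false, false, false, false, false, false, false, true, false, true, false, false, false, true, false], 0),
    (201, [false, false, true, false, true, false, false, false, false, true, false, false, false, false, true, false, true], 1),
    (202, [true, false, false, false, true, false, false, false, false, true, false, false, false, false, false, false, false], 0),
    (203, [true, false, false, false, false, false, false, false, false, true, false, true, false, true, false], 1),
    (209, [true, false, false, true, false, false, false, false, false, false, true, false, true, false, true, false, false, false], 0),
    (211, [false, true, false, false, false, true, false, true, false, false, true, false, false, false, false, false, false, true, false, true, false, false], 0),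
    (212, [false, true, false, false, false, false, true, false, true, false, true, false, true, false, false, false, false, false, false], 1),
    (214, [true, false, true, false, true, false, false, false, false, false, true, false, true, false, true, false, false, false, false, false, false], 1),
    (216, [false, false, false, true, false, false, false, false, true, false, false, false, false, true, false, true], 1),
    (218, [false, false, true, false, true, false, false, false, true, false, true, false, false, false, false, true, false, true], 1),
    (221, [true, false, false, false, false, true, false, true, false, false, false, false, false, false], 0),
    (223, [false, true, false, false, false, true, false, true, false, true, false, false, false, false, true, false, false], 0),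
    (226, [false, true, false, true, false, true, false, false, false, true, false, false], 0),
    (227, [true, false, false, false, false, false, false, true, false, true, false, true, false, true, false, false, false, false, false, false], 1),
    (228, [true, false, false, false, false, false, false, false, true, false, false, false, false, true, false, false, false], 0),
    (229, [false, false, true, false, true, false, false, false, false, false, true, false, true, false, false, false, false, false], 1),
    (232, [true, false, false, false, false, true, false, true, false, false, false, true, false, false, false], 0),
    (233, [false, false, false, false, false, false, true, false, false, true, false, true, false], 1),
    (238, [false, false, true, false, false, false, false, true, false, true, false, true, false, true, false, true, false, false], 0),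
    (239, [true, false, false, true, false, true, false, true, false, false, true, false, false, false, true, false, true, false], 1),
    (241, [false, true, false, false, false, true, false, true, false, false, false, true, false, false, false, false, false, true, false], 0),
    (242, [false, false, true, false, true, false, true, false, false, false, false, false, false, false, true, false, true, false, true, false], 1),
    (244, [true, false, true, false, true, false, false, true, false, false, false, true, false, false, true, false, false], 1),
    (247, [false, true, false, false, false, false, false, true, false, false, false, false, true, false, false, true, false], 0),
    (248, [false, false, true, false, false, false, false, true, false, false, true, false, true, false], 1),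
    (251, [true, false, false, false, false, true, false, false, false, true, false, false], 0),
    (253, [true, false, false, false, false, false, false, false, true, false, true, false, false, true, false, false], 0),
    (254, [true, false, false, true, false, false, true, false, false, true, false, false, false, true, false, true, false], 1)]
  conj := [(17, []),
    (19, [71, 69]),
    (21, [39, 35]),
    (23, [101, 99]),
    (25, [43, 35]),
    (27, [79, 69]),
    (29, [47, 35]),
    (31, [109, 99]),
    (34, [116, 71]),
    (35, [50]),
    (38, [114, 69]),
    (39, [54]),
    (42, [124, 71]),
    (43, [58]),
    (46, [122, 69]),
    (47, [62]),
    (49, [101, 69]),
    (50, [35]),
    (53, [99, 71]),
    (54, [39]),
    (57, [109, 69]),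
    (58, [43]),
    (61, [107, 71]),
    (62, [47]),
    (68, [114, 39]),
    (69, [84]),
    (70, [116, 35]),
    (71, [86]),
    (76, [122, 39]),
    (77, [92]),
    (78, [124, 35]),
    (79, [94]),
    (81, [99, 35]),
    (83, [101, 39]),
    (84, [69]),
    (86, [71]),
    (89, [107, 35]),
    (91, [109, 39]),
    (92, [77]),
    (94, [79]),
    (98, [84, 39]),
    (99, [114]),
    (100, [86, 35]),
    (101, [116]),
    (106, [92, 39]),
    (107, [122]),
    (108, [94, 35]),
    (109, [124]),
    (113, [71, 39]),
    (114, [99]),
    (116, [101]),
    (119, [69, 35]),
    (121, [79, 39]),
    (122, [107]),
    (124, [109]),
    (127, [77, 35]),
    (136, [178, 43]),
    (137, [152]),
    (138, [184, 35]),
    (139, [154]),
    (140, [182, 43]),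
    (141, [156]),
    (142, [188, 35]),
    (143, [158]),
    (145, [163, 35]),
    (147, [169, 43]),
    (149, [167, 35]),
    (151, [173, 43]),
    (152, [137]),
    (154, [139]),
    (156, [141]),
    (158, [143]),
    (162, [152, 43]),
    (163, [178]),
    (166, [156, 43]),
    (167, [182]),
    (168, [154, 35]),
    (169, [184]),
    (172, [158, 35]),
    (173, [188]),
    (177, [139, 43]),
    (178, [163]),
    (181, [143, 43]),
    (182, [167]),
    (184, [169]),
    (187, [137, 35]),
    (188, [173]),
    (191, [141, 35]),
    (196, [242, 39]),
    (197, [212]),
    (198, [244, 35]),
    (199, [214]),
    (200, [254, 39]),
    (201, [216]),
    (202, [248, 35]),
    (203, [218]),
    (209, [227, 35]),
    (211, [229, 39]),
    (212, [197]),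
    (214, [199]),
    (216, [201]),
    (218, [203]),
    (221, [239, 35]),
    (223, [233, 39]),
    (226, [212, 39]),
    (227, [242]),
    (228, [214, 35]),
    (229, [244]),
    (232, [218, 35]),
    (233, [248]),
    (238, [216, 39]),
    (239, [254]),
    (241, [199, 39]),
    (242, [227]),
    (244, [229]),
    (247, [197, 35]),
    (248, [233]),
    (251, [201, 35]),
    (253, [203, 39]),
    (254, [239])]
  rels := [[true, true],
    [true, false, false, true, false, false, true, false, false, true, false, false, true, false, false, true, false, false],
    [false, true, false, false, false, false, true, false, false, false, false, true, false, false, false, false, true, false, false, false, false, true, false, false, false, false, true, false, false, false, false, true, false, false, false, false, true, false, false, false, false, true, false, false, false, false, true, false, false, false],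
    [false, true, false, true, false, false, false, true, false, true, false, false, false, true, false, true, false, false, false, true, false, true, false, false, false, true, false, true, false, false, false, true, false, true, false, false, false, true, false, true, false, false, false, true, false, true, false, false, false, true, false, true, false, false]]

theorem fourCert_ok : fourCert.ok 4 = true := by decide +kernel

theorem sixCert_ok : sixCert.ok 6 = true := by decide +kernel

theorem eightCert_ok : eightCert.ok 8 = true := by decide +kernel

/-- Every tuple of images of the basis with the right values of the form is realised. -/
def fourTuples : Bool :=
  let q := fourCert.q
  let R := List.range 16
  R.all fun a => q a != q 1 || R.all fun b => q b != q 2 || q (a ^^^ b) != q 3 || R.all fun c =>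
    q c != q 4 || q (a ^^^ c) != q 5 || q (b ^^^ c) != q 6 || R.all fun d =>
      q d != q 8 || q (a ^^^ d) != q 9 || q (b ^^^ d) != q 10 || q (c ^^^ d) != q 12 ||
        fourIsometries.any fun L => fourCert.valid 4 L && fourCert.evN L 1 == a && fourCert.evN L 2 == b &&
          fourCert.evN L 4 == c && fourCert.evN L 8 == d

theorem fourTuples_ok : fourTuples = true := by decide +kernel

end CfsgLib.ThreeTransp.H1Vanish
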