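import Mathlib.Data.ZMod.Basic
import Mathlib.Tactic.Ring

/-!
Four points of a Hall triple system generate at most the system with 81 points: in any
idempotent commutative involutory self-distributive operation, there is an equivariant map from
the model on `(ZMod 3)^4` for the translations by four given elements.
Generated certificate: each step is one instance of an axiom applied to earlier steps.
-/

set_option linter.style.longLine false

namespace CfsgLib.ThreeTransp.HallTriple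

universe u

/-- Four points in a Hall triple system (given by its binary operation). -/
structure Quad (α : Type u) where
  op : α → α → α
  x0 : α
  x1 : α
  x2 : α
  x3 : α
  idem : ∀ x, op x x = x
  comm : ∀ x y, op x y = op y x
  invol : ∀ x y, op x (op x y) = y
  dist : ∀ x y z, op x (op y z) = op (op x y) (op x z)

/-- Points of the model with 81 points. -/
abbrev V : Type := (ZMod 3 × ZMod 3 × ZMod 3) × ZMod 3

/-- The operation of the model with 81 points. -/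
def opV (v w : V) : V :=
  ((-v.1.1 - w.1.1, -v.1.2.1 - w.1.2.1, -v.1.2.2 - w.1.2.2),
    -v.2 - w.2 + (v.1.2.2 - w.1.2.2) * (v.1.1 * w.1.2.1 - v.1.2.1 * w.1.1))

variable {α : Type u} (S : Quad α)

def t0 : α := S.x0
def t27 : α := S.x1
def t9 : α := S.x2
def t3 : α := S.x3
def t54 : α := S.op (t27 S) (t0 S)
def t18 : α := S.op (t9 S) (t0 S)
def t6 : α := S.op (t3 S) (t0 S)
def t72 : α := S.op (t9 S) (t27 S)
def t60 : α := S.op (t3 S) (t27 S)
def t24 : α := S.op (t3 S) (t9 S)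
def t45 : α := S.op (t9 S) (t54 S)
def t33 : α := S.op (t3 S) (t54 S)
def t63 : α := S.op (t27 S) (t18 S)
def t15 : α := S.op (t3 S) (t18 S)
def t57 : α := S.op (t27 S) (t6 S)
def t21 : α := S.op (t9 S) (t6 S)
def t36 : α := S.op (t0 S) (t72 S)
def t42 : α := S.op (t3 S) (t72 S)
def t30 : α := S.op (t0 S) (t60 S)
def t49 : α := S.op (t9 S) (t60 S)
def t12 : α := S.op (t0 S) (t24 S)
def t68 : α := S.op (t27 S) (t24 S)
def t69 : α := S.op (t3 S) (t45 S)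
def t77 : α := S.op (t9 S) (t33 S)
def t51 : α := S.op (t3 S) (t63 S)
def t76 : α := S.op (t27 S) (t15 S)
def t53 : α := S.op (t9 S) (t57 S)
def t70 : α := S.op (t27 S) (t21 S)
def t78 : α := S.op (t3 S) (t36 S)
def t75 : α := S.op (t0 S) (t42 S)
def t79 : α := S.op (t9 S) (t30 S)
def t71 : α := S.op (t0 S) (t49 S)
def t80 : α := S.op (t27 S) (t12 S)
def t52 : α := S.op (t0 S) (t68 S)
def t48 : α := S.op (t0 S) (t69 S)
def t22 : α := S.op (t27 S) (t69 S)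
def t40 : α := S.op (t9 S) (t69 S)
def t43 : α := S.op (t0 S) (t77 S)
def t17 : α := S.op (t27 S) (t77 S)
def t66 : α := S.op (t0 S) (t51 S)
def t41 : α := S.op (t27 S) (t51 S)
def t59 : α := S.op (t9 S) (t51 S)
def t44 : α := S.op (t0 S) (t76 S)
def t34 : α := S.op (t9 S) (t76 S)
def t67 : α := S.op (t0 S) (t53 S)
def t39 : α := S.op (t27 S) (t53 S)
def t64 : α := S.op (t3 S) (t53 S)
def t50 : α := S.op (t0 S) (t70 S)
def t47 : α := S.op (t3 S) (t70 S)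
def t14 : α := S.op (t27 S) (t78 S)
def t31 : α := S.op (t9 S) (t78 S)
def t16 : α := S.op (t27 S) (t75 S)
def t35 : α := S.op (t9 S) (t75 S)
def t13 : α := S.op (t27 S) (t79 S)
def t38 : α := S.op (t3 S) (t79 S)
def t23 : α := S.op (t27 S) (t71 S)
def t46 : α := S.op (t3 S) (t71 S)
def t32 : α := S.op (t9 S) (t80 S)
def t37 : α := S.op (t3 S) (t80 S)
def t58 : α := S.op (t9 S) (t52 S)
def t65 : α := S.op (t3 S) (t52 S)
def t61 : α := S.op (t9 S) (t48 S)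
def t8 : α := S.op (t9 S) (t22 S)
def t74 : α := S.op (t3 S) (t43 S)
def t19 : α := S.op (t3 S) (t17 S)
def t26 : α := S.op (t27 S) (t66 S)
def t7 : α := S.op (t27 S) (t59 S)
def t73 : α := S.op (t3 S) (t44 S)
def t56 : α := S.op (t3 S) (t34 S)
def t25 : α := S.op (t27 S) (t67 S)
def t20 : α := S.op (t27 S) (t64 S)
def t62 : α := S.op (t9 S) (t50 S)
def t55 : α := S.op (t9 S) (t47 S)
def t5 : α := S.op (t27 S) (t61 S)
def t29 : α := S.op (t3 S) (t61 S)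
def t4 : α := S.op (t0 S) (t8 S)
def t1 : α := S.op (t3 S) (t8 S)
def t10 : α := S.op (t27 S) (t74 S)
def t28 : α := S.op (t9 S) (t74 S)
def t11 : α := S.op (t0 S) (t19 S)
def t2 : α := S.op (t9 S) (t19 S)

theorem e27_0 : S.op (t27 S) (t0 S) = (t54 S) := rfl
theorem e9_0 : S.op (t9 S) (t0 S) = (t18 S) := rfl
theorem e3_0 : S.op (t3 S) (t0 S) = (t6 S) := rfl
theorem e9_27 : S.op (t9 S) (t27 S) = (t72 S) := rfl
theorem e3_27 : S.op (t3 S) (t27 S) = (t60 S) := rfl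
theorem e3_9 : S.op (t3 S) (t9 S) = (t24 S) := rfl
theorem e9_54 : S.op (t9 S) (t54 S) = (t45 S) := rfl
theorem e3_54 : S.op (t3 S) (t54 S) = (t33 S) := rfl
theorem e27_18 : S.op (t27 S) (t18 S) = (t63 S) := rfl
theorem e3_18 : S.op (t3 S) (t18 S) = (t15 S) := rfl
theorem e27_6 : S.op (t27 S) (t6 S) = (t57 S) := rfl
theorem e9_6 : S.op (t9 S) (t6 S) = (t21 S) := rfl
theorem e0_72 : S.op (t0 S) (t72 S) = (t36 S) := rfl
theorem e3_72 : S.op (t3 S) (t72 S) = (t42 S) := rfl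
theorem e0_60 : S.op (t0 S) (t60 S) = (t30 S) := rfl
theorem e9_60 : S.op (t9 S) (t60 S) = (t49 S) := rfl
theorem e0_24 : S.op (t0 S) (t24 S) = (t12 S) := rfl
theorem e27_24 : S.op (t27 S) (t24 S) = (t68 S) := rfl
theorem e3_45 : S.op (t3 S) (t45 S) = (t69 S) := rfl
theorem e9_33 : S.op (t9 S) (t33 S) = (t77 S) := rfl
theorem e3_63 : S.op (t3 S) (t63 S) = (t51 S) := rfl
theorem e27_15 : S.op (t27 S) (t15 S) = (t76 S) := rfl
theorem e9_57 : S.op (t9 S) (t57 S) = (t53 S) := rfl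
theorem e27_21 : S.op (t27 S) (t21 S) = (t70 S) := rfl
theorem e3_36 : S.op (t3 S) (t36 S) = (t78 S) := rfl
theorem e0_42 : S.op (t0 S) (t42 S) = (t75 S) := rfl
theorem e9_30 : S.op (t9 S) (t30 S) = (t79 S) := rfl
theorem e0_49 : S.op (t0 S) (t49 S) = (t71 S) := rfl
theorem e27_12 : S.op (t27 S) (t12 S) = (t80 S) := rfl
theorem e0_68 : S.op (t0 S) (t68 S) = (t52 S) := rfl
theorem e0_69 : S.op (t0 S) (t69 S) = (t48 S) := rfl
theorem e27_69 : S.op (t27 S) (t69 S) = (t22 S) := rfl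
theorem e9_69 : S.op (t9 S) (t69 S) = (t40 S) := rfl
theorem e0_77 : S.op (t0 S) (t77 S) = (t43 S) := rfl
theorem e27_77 : S.op (t27 S) (t77 S) = (t17 S) := rfl
theorem e0_51 : S.op (t0 S) (t51 S) = (t66 S) := rfl
theorem e27_51 : S.op (t27 S) (t51 S) = (t41 S) := rfl
theorem e9_51 : S.op (t9 S) (t51 S) = (t59 S) := rfl
theorem e0_76 : S.op (t0 S) (t76 S) = (t44 S) := rfl
theorem e9_76 : S.op (t9 S) (t76 S) = (t34 S) := rfl
theorem e0_53 : S.op (t0 S) (t53 S) = (t67 S) := rfl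
theorem e27_53 : S.op (t27 S) (t53 S) = (t39 S) := rfl
theorem e3_53 : S.op (t3 S) (t53 S) = (t64 S) := rfl
theorem e0_70 : S.op (t0 S) (t70 S) = (t50 S) := rfl
theorem e3_70 : S.op (t3 S) (t70 S) = (t47 S) := rfl
theorem e27_78 : S.op (t27 S) (t78 S) = (t14 S) := rfl
theorem e9_78 : S.op (t9 S) (t78 S) = (t31 S) := rfl
theorem e27_75 : S.op (t27 S) (t75 S) = (t16 S) := rfl
theorem e9_75 : S.op (t9 S) (t75 S) = (t35 S) := rfl
theorem e27_79 : S.op (t27 S) (t79 S) = (t13 S) := rfl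
theorem e3_79 : S.op (t3 S) (t79 S) = (t38 S) := rfl
theorem e27_71 : S.op (t27 S) (t71 S) = (t23 S) := rfl
theorem e3_71 : S.op (t3 S) (t71 S) = (t46 S) := rfl
theorem e9_80 : S.op (t9 S) (t80 S) = (t32 S) := rfl
theorem e3_80 : S.op (t3 S) (t80 S) = (t37 S) := rfl
theorem e9_52 : S.op (t9 S) (t52 S) = (t58 S) := rfl
theorem e3_52 : S.op (t3 S) (t52 S) = (t65 S) := rfl
theorem e9_48 : S.op (t9 S) (t48 S) = (t61 S) := rfl
theorem e9_22 : S.op (t9 S) (t22 S) = (t8 S) := rfl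
theorem e3_43 : S.op (t3 S) (t43 S) = (t74 S) := rfl
theorem e3_17 : S.op (t3 S) (t17 S) = (t19 S) := rfl
theorem e27_66 : S.op (t27 S) (t66 S) = (t26 S) := rfl
theorem e27_59 : S.op (t27 S) (t59 S) = (t7 S) := rfl
theorem e3_44 : S.op (t3 S) (t44 S) = (t73 S) := rfl
theorem e3_34 : S.op (t3 S) (t34 S) = (t56 S) := rfl
theorem e27_67 : S.op (t27 S) (t67 S) = (t25 S) := rfl
theorem e27_64 : S.op (t27 S) (t64 S) = (t20 S) := rfl
theorem e9_50 : S.op (t9 S) (t50 S) = (t62 S) := rfl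
theorem e9_47 : S.op (t9 S) (t47 S) = (t55 S) := rfl
theorem e27_61 : S.op (t27 S) (t61 S) = (t5 S) := rfl
theorem e3_61 : S.op (t3 S) (t61 S) = (t29 S) := rfl
theorem e0_8 : S.op (t0 S) (t8 S) = (t4 S) := rfl
theorem e3_8 : S.op (t3 S) (t8 S) = (t1 S) := rfl
theorem e27_74 : S.op (t27 S) (t74 S) = (t10 S) := rfl
theorem e9_74 : S.op (t9 S) (t74 S) = (t28 S) := rfl
theorem e0_19 : S.op (t0 S) (t19 S) = (t11 S) := rfl
theorem e9_19 : S.op (t9 S) (t19 S) = (t2 S) := rfl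
theorem e0_0 : S.op (t0 S) (t0 S) = (t0 S) := S.idem _
theorem e3_3 : S.op (t3 S) (t3 S) = (t3 S) := S.idem _
theorem e9_9 : S.op (t9 S) (t9 S) = (t9 S) := S.idem _
theorem e27_27 : S.op (t27 S) (t27 S) = (t27 S) := S.idem _
theorem e0_27 : S.op (t0 S) (t27 S) = (t54 S) := (S.comm _ _).trans (e27_0 S)
theorem e27_54 : S.op (t27 S) (t54 S) = (t0 S) := (congrArg (S.op (t27 S)) (e27_0 S)).symm.trans (S.invol (t27 S) (t0 S))
theorem e0_9 : S.op (t0 S) (t9 S) = (t18 S) := (S.comm _ _).trans (e9_0 S)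
theorem e9_18 : S.op (t9 S) (t18 S) = (t0 S) := (congrArg (S.op (t9 S)) (e9_0 S)).symm.trans (S.invol (t9 S) (t0 S))
theorem e0_3 : S.op (t0 S) (t3 S) = (t6 S) := (S.comm _ _).trans (e3_0 S)
theorem e3_6 : S.op (t3 S) (t6 S) = (t0 S) := (congrArg (S.op (t3 S)) (e3_0 S)).symm.trans (S.invol (t3 S) (t0 S))
theorem e27_9 : S.op (t27 S) (t9 S) = (t72 S) := (S.comm _ _).trans (e9_27 S)
theorem e9_72 : S.op (t9 S) (t72 S) = (t27 S) := (congrArg (S.op (t9 S)) (e9_27 S)).symm.trans (S.invol (t9 S) (t27 S))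
theorem e27_3 : S.op (t27 S) (t3 S) = (t60 S) := (S.comm _ _).trans (e3_27 S)
theorem e3_60 : S.op (t3 S) (t60 S) = (t27 S) := (congrArg (S.op (t3 S)) (e3_27 S)).symm.trans (S.invol (t3 S) (t27 S))
theorem e9_3 : S.op (t9 S) (t3 S) = (t24 S) := (S.comm _ _).trans (e3_9 S)
theorem e3_24 : S.op (t3 S) (t24 S) = (t9 S) := (congrArg (S.op (t3 S)) (e3_9 S)).symm.trans (S.invol (t3 S) (t9 S))
theorem e54_9 : S.op (t54 S) (t9 S) = (t45 S) := (S.comm _ _).trans (e9_54 S)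
theorem e9_45 : S.op (t9 S) (t45 S) = (t54 S) := (congrArg (S.op (t9 S)) (e9_54 S)).symm.trans (S.invol (t9 S) (t54 S))
theorem e54_3 : S.op (t54 S) (t3 S) = (t33 S) := (S.comm _ _).trans (e3_54 S)
theorem e3_33 : S.op (t3 S) (t33 S) = (t54 S) := (congrArg (S.op (t3 S)) (e3_54 S)).symm.trans (S.invol (t3 S) (t54 S))
theorem e18_27 : S.op (t18 S) (t27 S) = (t63 S) := (S.comm _ _).trans (e27_18 S)
theorem e27_63 : S.op (t27 S) (t63 S) = (t18 S) := (congrArg (S.op (t27 S)) (e27_18 S)).symm.trans (S.invol (t27 S) (t18 S))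
theorem e18_3 : S.op (t18 S) (t3 S) = (t15 S) := (S.comm _ _).trans (e3_18 S)
theorem e3_15 : S.op (t3 S) (t15 S) = (t18 S) := (congrArg (S.op (t3 S)) (e3_18 S)).symm.trans (S.invol (t3 S) (t18 S))
theorem e6_27 : S.op (t6 S) (t27 S) = (t57 S) := (S.comm _ _).trans (e27_6 S)
theorem e27_57 : S.op (t27 S) (t57 S) = (t6 S) := (congrArg (S.op (t27 S)) (e27_6 S)).symm.trans (S.invol (t27 S) (t6 S))
theorem e6_9 : S.op (t6 S) (t9 S) = (t21 S) := (S.comm _ _).trans (e9_6 S)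
theorem e9_21 : S.op (t9 S) (t21 S) = (t6 S) := (congrArg (S.op (t9 S)) (e9_6 S)).symm.trans (S.invol (t9 S) (t6 S))
theorem e72_0 : S.op (t72 S) (t0 S) = (t36 S) := (S.comm _ _).trans (e0_72 S)
theorem e0_36 : S.op (t0 S) (t36 S) = (t72 S) := (congrArg (S.op (t0 S)) (e0_72 S)).symm.trans (S.invol (t0 S) (t72 S))
theorem e72_3 : S.op (t72 S) (t3 S) = (t42 S) := (S.comm _ _).trans (e3_72 S)
theorem e3_42 : S.op (t3 S) (t42 S) = (t72 S) := (congrArg (S.op (t3 S)) (e3_72 S)).symm.trans (S.invol (t3 S) (t72 S))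
theorem e60_0 : S.op (t60 S) (t0 S) = (t30 S) := (S.comm _ _).trans (e0_60 S)
theorem e0_30 : S.op (t0 S) (t30 S) = (t60 S) := (congrArg (S.op (t0 S)) (e0_60 S)).symm.trans (S.invol (t0 S) (t60 S))
theorem e60_9 : S.op (t60 S) (t9 S) = (t49 S) := (S.comm _ _).trans (e9_60 S)
theorem e9_49 : S.op (t9 S) (t49 S) = (t60 S) := (congrArg (S.op (t9 S)) (e9_60 S)).symm.trans (S.invol (t9 S) (t60 S))
theorem e24_0 : S.op (t24 S) (t0 S) = (t12 S) := (S.comm _ _).trans (e0_24 S)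
theorem e0_12 : S.op (t0 S) (t12 S) = (t24 S) := (congrArg (S.op (t0 S)) (e0_24 S)).symm.trans (S.invol (t0 S) (t24 S))
theorem e24_27 : S.op (t24 S) (t27 S) = (t68 S) := (S.comm _ _).trans (e27_24 S)
theorem e27_68 : S.op (t27 S) (t68 S) = (t24 S) := (congrArg (S.op (t27 S)) (e27_24 S)).symm.trans (S.invol (t27 S) (t24 S))
theorem e45_3 : S.op (t45 S) (t3 S) = (t69 S) := (S.comm _ _).trans (e3_45 S)
theorem e3_69 : S.op (t3 S) (t69 S) = (t45 S) := (congrArg (S.op (t3 S)) (e3_45 S)).symm.trans (S.invol (t3 S) (t45 S))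
theorem e33_9 : S.op (t33 S) (t9 S) = (t77 S) := (S.comm _ _).trans (e9_33 S)
theorem e9_77 : S.op (t9 S) (t77 S) = (t33 S) := (congrArg (S.op (t9 S)) (e9_33 S)).symm.trans (S.invol (t9 S) (t33 S))
theorem e63_3 : S.op (t63 S) (t3 S) = (t51 S) := (S.comm _ _).trans (e3_63 S)
theorem e3_51 : S.op (t3 S) (t51 S) = (t63 S) := (congrArg (S.op (t3 S)) (e3_63 S)).symm.trans (S.invol (t3 S) (t63 S))
theorem e15_27 : S.op (t15 S) (t27 S) = (t76 S) := (S.comm _ _).trans (e27_15 S)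
theorem e27_76 : S.op (t27 S) (t76 S) = (t15 S) := (congrArg (S.op (t27 S)) (e27_15 S)).symm.trans (S.invol (t27 S) (t15 S))
theorem e57_9 : S.op (t57 S) (t9 S) = (t53 S) := (S.comm _ _).trans (e9_57 S)
theorem e9_53 : S.op (t9 S) (t53 S) = (t57 S) := (congrArg (S.op (t9 S)) (e9_57 S)).symm.trans (S.invol (t9 S) (t57 S))
theorem e21_27 : S.op (t21 S) (t27 S) = (t70 S) := (S.comm _ _).trans (e27_21 S)
theorem e27_70 : S.op (t27 S) (t70 S) = (t21 S) := (congrArg (S.op (t27 S)) (e27_21 S)).symm.trans (S.invol (t27 S) (t21 S))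
theorem e36_3 : S.op (t36 S) (t3 S) = (t78 S) := (S.comm _ _).trans (e3_36 S)
theorem e3_78 : S.op (t3 S) (t78 S) = (t36 S) := (congrArg (S.op (t3 S)) (e3_36 S)).symm.trans (S.invol (t3 S) (t36 S))
theorem e42_0 : S.op (t42 S) (t0 S) = (t75 S) := (S.comm _ _).trans (e0_42 S)
theorem e0_75 : S.op (t0 S) (t75 S) = (t42 S) := (congrArg (S.op (t0 S)) (e0_42 S)).symm.trans (S.invol (t0 S) (t42 S))
theorem e30_9 : S.op (t30 S) (t9 S) = (t79 S) := (S.comm _ _).trans (e9_30 S)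
theorem e9_79 : S.op (t9 S) (t79 S) = (t30 S) := (congrArg (S.op (t9 S)) (e9_30 S)).symm.trans (S.invol (t9 S) (t30 S))
theorem e49_0 : S.op (t49 S) (t0 S) = (t71 S) := (S.comm _ _).trans (e0_49 S)
theorem e0_71 : S.op (t0 S) (t71 S) = (t49 S) := (congrArg (S.op (t0 S)) (e0_49 S)).symm.trans (S.invol (t0 S) (t49 S))
theorem e12_27 : S.op (t12 S) (t27 S) = (t80 S) := (S.comm _ _).trans (e27_12 S)
theorem e27_80 : S.op (t27 S) (t80 S) = (t12 S) := (congrArg (S.op (t27 S)) (e27_12 S)).symm.trans (S.invol (t27 S) (t12 S))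
theorem e68_0 : S.op (t68 S) (t0 S) = (t52 S) := (S.comm _ _).trans (e0_68 S)
theorem e0_52 : S.op (t0 S) (t52 S) = (t68 S) := (congrArg (S.op (t0 S)) (e0_68 S)).symm.trans (S.invol (t0 S) (t68 S))
theorem e69_0 : S.op (t69 S) (t0 S) = (t48 S) := (S.comm _ _).trans (e0_69 S)
theorem e0_48 : S.op (t0 S) (t48 S) = (t69 S) := (congrArg (S.op (t0 S)) (e0_69 S)).symm.trans (S.invol (t0 S) (t69 S))
theorem e69_27 : S.op (t69 S) (t27 S) = (t22 S) := (S.comm _ _).trans (e27_69 S)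
theorem e27_22 : S.op (t27 S) (t22 S) = (t69 S) := (congrArg (S.op (t27 S)) (e27_69 S)).symm.trans (S.invol (t27 S) (t69 S))
theorem e69_9 : S.op (t69 S) (t9 S) = (t40 S) := (S.comm _ _).trans (e9_69 S)
theorem e9_40 : S.op (t9 S) (t40 S) = (t69 S) := (congrArg (S.op (t9 S)) (e9_69 S)).symm.trans (S.invol (t9 S) (t69 S))
theorem e77_0 : S.op (t77 S) (t0 S) = (t43 S) := (S.comm _ _).trans (e0_77 S)
theorem e0_43 : S.op (t0 S) (t43 S) = (t77 S) := (congrArg (S.op (t0 S)) (e0_77 S)).symm.trans (S.invol (t0 S) (t77 S))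
theorem e77_27 : S.op (t77 S) (t27 S) = (t17 S) := (S.comm _ _).trans (e27_77 S)
theorem e27_17 : S.op (t27 S) (t17 S) = (t77 S) := (congrArg (S.op (t27 S)) (e27_77 S)).symm.trans (S.invol (t27 S) (t77 S))
theorem e51_0 : S.op (t51 S) (t0 S) = (t66 S) := (S.comm _ _).trans (e0_51 S)
theorem e0_66 : S.op (t0 S) (t66 S) = (t51 S) := (congrArg (S.op (t0 S)) (e0_51 S)).symm.trans (S.invol (t0 S) (t51 S))
theorem e51_27 : S.op (t51 S) (t27 S) = (t41 S) := (S.comm _ _).trans (e27_51 S)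
theorem e27_41 : S.op (t27 S) (t41 S) = (t51 S) := (congrArg (S.op (t27 S)) (e27_51 S)).symm.trans (S.invol (t27 S) (t51 S))
theorem e51_9 : S.op (t51 S) (t9 S) = (t59 S) := (S.comm _ _).trans (e9_51 S)
theorem e9_59 : S.op (t9 S) (t59 S) = (t51 S) := (congrArg (S.op (t9 S)) (e9_51 S)).symm.trans (S.invol (t9 S) (t51 S))
theorem e76_0 : S.op (t76 S) (t0 S) = (t44 S) := (S.comm _ _).trans (e0_76 S)
theorem e0_44 : S.op (t0 S) (t44 S) = (t76 S) := (congrArg (S.op (t0 S)) (e0_76 S)).symm.trans (S.invol (t0 S) (t76 S))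
theorem e76_9 : S.op (t76 S) (t9 S) = (t34 S) := (S.comm _ _).trans (e9_76 S)
theorem e9_34 : S.op (t9 S) (t34 S) = (t76 S) := (congrArg (S.op (t9 S)) (e9_76 S)).symm.trans (S.invol (t9 S) (t76 S))
theorem e53_0 : S.op (t53 S) (t0 S) = (t67 S) := (S.comm _ _).trans (e0_53 S)
theorem e0_67 : S.op (t0 S) (t67 S) = (t53 S) := (congrArg (S.op (t0 S)) (e0_53 S)).symm.trans (S.invol (t0 S) (t53 S))
theorem e53_27 : S.op (t53 S) (t27 S) = (t39 S) := (S.comm _ _).trans (e27_53 S)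
theorem e27_39 : S.op (t27 S) (t39 S) = (t53 S) := (congrArg (S.op (t27 S)) (e27_53 S)).symm.trans (S.invol (t27 S) (t53 S))
theorem e53_3 : S.op (t53 S) (t3 S) = (t64 S) := (S.comm _ _).trans (e3_53 S)
theorem e3_64 : S.op (t3 S) (t64 S) = (t53 S) := (congrArg (S.op (t3 S)) (e3_53 S)).symm.trans (S.invol (t3 S) (t53 S))
theorem e70_0 : S.op (t70 S) (t0 S) = (t50 S) := (S.comm _ _).trans (e0_70 S)
theorem e0_50 : S.op (t0 S) (t50 S) = (t70 S) := (congrArg (S.op (t0 S)) (e0_70 S)).symm.trans (S.invol (t0 S) (t70 S))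
theorem e70_3 : S.op (t70 S) (t3 S) = (t47 S) := (S.comm _ _).trans (e3_70 S)
theorem e3_47 : S.op (t3 S) (t47 S) = (t70 S) := (congrArg (S.op (t3 S)) (e3_70 S)).symm.trans (S.invol (t3 S) (t70 S))
theorem e78_27 : S.op (t78 S) (t27 S) = (t14 S) := (S.comm _ _).trans (e27_78 S)
theorem e27_14 : S.op (t27 S) (t14 S) = (t78 S) := (congrArg (S.op (t27 S)) (e27_78 S)).symm.trans (S.invol (t27 S) (t78 S))
theorem e78_9 : S.op (t78 S) (t9 S) = (t31 S) := (S.comm _ _).trans (e9_78 S)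
theorem e9_31 : S.op (t9 S) (t31 S) = (t78 S) := (congrArg (S.op (t9 S)) (e9_78 S)).symm.trans (S.invol (t9 S) (t78 S))
theorem e75_27 : S.op (t75 S) (t27 S) = (t16 S) := (S.comm _ _).trans (e27_75 S)
theorem e27_16 : S.op (t27 S) (t16 S) = (t75 S) := (congrArg (S.op (t27 S)) (e27_75 S)).symm.trans (S.invol (t27 S) (t75 S))
theorem e75_9 : S.op (t75 S) (t9 S) = (t35 S) := (S.comm _ _).trans (e9_75 S)
theorem e9_35 : S.op (t9 S) (t35 S) = (t75 S) := (congrArg (S.op (t9 S)) (e9_75 S)).symm.trans (S.invol (t9 S) (t75 S))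
theorem e79_27 : S.op (t79 S) (t27 S) = (t13 S) := (S.comm _ _).trans (e27_79 S)
theorem e27_13 : S.op (t27 S) (t13 S) = (t79 S) := (congrArg (S.op (t27 S)) (e27_79 S)).symm.trans (S.invol (t27 S) (t79 S))
theorem e79_3 : S.op (t79 S) (t3 S) = (t38 S) := (S.comm _ _).trans (e3_79 S)
theorem e3_38 : S.op (t3 S) (t38 S) = (t79 S) := (congrArg (S.op (t3 S)) (e3_79 S)).symm.trans (S.invol (t3 S) (t79 S))
theorem e71_27 : S.op (t71 S) (t27 S) = (t23 S) := (S.comm _ _).trans (e27_71 S)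
theorem e27_23 : S.op (t27 S) (t23 S) = (t71 S) := (congrArg (S.op (t27 S)) (e27_71 S)).symm.trans (S.invol (t27 S) (t71 S))
theorem e71_3 : S.op (t71 S) (t3 S) = (t46 S) := (S.comm _ _).trans (e3_71 S)
theorem e3_46 : S.op (t3 S) (t46 S) = (t71 S) := (congrArg (S.op (t3 S)) (e3_71 S)).symm.trans (S.invol (t3 S) (t71 S))
theorem e80_9 : S.op (t80 S) (t9 S) = (t32 S) := (S.comm _ _).trans (e9_80 S)
theorem e9_32 : S.op (t9 S) (t32 S) = (t80 S) := (congrArg (S.op (t9 S)) (e9_80 S)).symm.trans (S.invol (t9 S) (t80 S))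
theorem e80_3 : S.op (t80 S) (t3 S) = (t37 S) := (S.comm _ _).trans (e3_80 S)
theorem e3_37 : S.op (t3 S) (t37 S) = (t80 S) := (congrArg (S.op (t3 S)) (e3_80 S)).symm.trans (S.invol (t3 S) (t80 S))
theorem e52_9 : S.op (t52 S) (t9 S) = (t58 S) := (S.comm _ _).trans (e9_52 S)
theorem e9_58 : S.op (t9 S) (t58 S) = (t52 S) := (congrArg (S.op (t9 S)) (e9_52 S)).symm.trans (S.invol (t9 S) (t52 S))
theorem e52_3 : S.op (t52 S) (t3 S) = (t65 S) := (S.comm _ _).trans (e3_52 S)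
theorem e3_65 : S.op (t3 S) (t65 S) = (t52 S) := (congrArg (S.op (t3 S)) (e3_52 S)).symm.trans (S.invol (t3 S) (t52 S))
theorem e48_9 : S.op (t48 S) (t9 S) = (t61 S) := (S.comm _ _).trans (e9_48 S)
theorem e9_61 : S.op (t9 S) (t61 S) = (t48 S) := (congrArg (S.op (t9 S)) (e9_48 S)).symm.trans (S.invol (t9 S) (t48 S))
theorem e22_9 : S.op (t22 S) (t9 S) = (t8 S) := (S.comm _ _).trans (e9_22 S)
theorem e9_8 : S.op (t9 S) (t8 S) = (t22 S) := (congrArg (S.op (t9 S)) (e9_22 S)).symm.trans (S.invol (t9 S) (t22 S))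
theorem e43_3 : S.op (t43 S) (t3 S) = (t74 S) := (S.comm _ _).trans (e3_43 S)
theorem e3_74 : S.op (t3 S) (t74 S) = (t43 S) := (congrArg (S.op (t3 S)) (e3_43 S)).symm.trans (S.invol (t3 S) (t43 S))
theorem e17_3 : S.op (t17 S) (t3 S) = (t19 S) := (S.comm _ _).trans (e3_17 S)
theorem e3_19 : S.op (t3 S) (t19 S) = (t17 S) := (congrArg (S.op (t3 S)) (e3_17 S)).symm.trans (S.invol (t3 S) (t17 S))
theorem e66_27 : S.op (t66 S) (t27 S) = (t26 S) := (S.comm _ _).trans (e27_66 S)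
theorem e27_26 : S.op (t27 S) (t26 S) = (t66 S) := (congrArg (S.op (t27 S)) (e27_66 S)).symm.trans (S.invol (t27 S) (t66 S))
theorem e59_27 : S.op (t59 S) (t27 S) = (t7 S) := (S.comm _ _).trans (e27_59 S)
theorem e27_7 : S.op (t27 S) (t7 S) = (t59 S) := (congrArg (S.op (t27 S)) (e27_59 S)).symm.trans (S.invol (t27 S) (t59 S))
theorem e44_3 : S.op (t44 S) (t3 S) = (t73 S) := (S.comm _ _).trans (e3_44 S)
theorem e3_73 : S.op (t3 S) (t73 S) = (t44 S) := (congrArg (S.op (t3 S)) (e3_44 S)).symm.trans (S.invol (t3 S) (t44 S))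
theorem e34_3 : S.op (t34 S) (t3 S) = (t56 S) := (S.comm _ _).trans (e3_34 S)
theorem e3_56 : S.op (t3 S) (t56 S) = (t34 S) := (congrArg (S.op (t3 S)) (e3_34 S)).symm.trans (S.invol (t3 S) (t34 S))
theorem e67_27 : S.op (t67 S) (t27 S) = (t25 S) := (S.comm _ _).trans (e27_67 S)
theorem e27_25 : S.op (t27 S) (t25 S) = (t67 S) := (congrArg (S.op (t27 S)) (e27_67 S)).symm.trans (S.invol (t27 S) (t67 S))
theorem e64_27 : S.op (t64 S) (t27 S) = (t20 S) := (S.comm _ _).trans (e27_64 S)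
theorem e27_20 : S.op (t27 S) (t20 S) = (t64 S) := (congrArg (S.op (t27 S)) (e27_64 S)).symm.trans (S.invol (t27 S) (t64 S))
theorem e50_9 : S.op (t50 S) (t9 S) = (t62 S) := (S.comm _ _).trans (e9_50 S)
theorem e9_62 : S.op (t9 S) (t62 S) = (t50 S) := (congrArg (S.op (t9 S)) (e9_50 S)).symm.trans (S.invol (t9 S) (t50 S))
theorem e47_9 : S.op (t47 S) (t9 S) = (t55 S) := (S.comm _ _).trans (e9_47 S)
theorem e9_55 : S.op (t9 S) (t55 S) = (t47 S) := (congrArg (S.op (t9 S)) (e9_47 S)).symm.trans (S.invol (t9 S) (t47 S))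
theorem e61_27 : S.op (t61 S) (t27 S) = (t5 S) := (S.comm _ _).trans (e27_61 S)
theorem e27_5 : S.op (t27 S) (t5 S) = (t61 S) := (congrArg (S.op (t27 S)) (e27_61 S)).symm.trans (S.invol (t27 S) (t61 S))
theorem e61_3 : S.op (t61 S) (t3 S) = (t29 S) := (S.comm _ _).trans (e3_61 S)
theorem e3_29 : S.op (t3 S) (t29 S) = (t61 S) := (congrArg (S.op (t3 S)) (e3_61 S)).symm.trans (S.invol (t3 S) (t61 S))
theorem e8_0 : S.op (t8 S) (t0 S) = (t4 S) := (S.comm _ _).trans (e0_8 S)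
theorem e0_4 : S.op (t0 S) (t4 S) = (t8 S) := (congrArg (S.op (t0 S)) (e0_8 S)).symm.trans (S.invol (t0 S) (t8 S))
theorem e8_3 : S.op (t8 S) (t3 S) = (t1 S) := (S.comm _ _).trans (e3_8 S)
theorem e3_1 : S.op (t3 S) (t1 S) = (t8 S) := (congrArg (S.op (t3 S)) (e3_8 S)).symm.trans (S.invol (t3 S) (t8 S))
theorem e74_27 : S.op (t74 S) (t27 S) = (t10 S) := (S.comm _ _).trans (e27_74 S)
theorem e27_10 : S.op (t27 S) (t10 S) = (t74 S) := (congrArg (S.op (t27 S)) (e27_74 S)).symm.trans (S.invol (t27 S) (t74 S))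
theorem e74_9 : S.op (t74 S) (t9 S) = (t28 S) := (S.comm _ _).trans (e9_74 S)
theorem e9_28 : S.op (t9 S) (t28 S) = (t74 S) := (congrArg (S.op (t9 S)) (e9_74 S)).symm.trans (S.invol (t9 S) (t74 S))
theorem e19_0 : S.op (t19 S) (t0 S) = (t11 S) := (S.comm _ _).trans (e0_19 S)
theorem e0_11 : S.op (t0 S) (t11 S) = (t19 S) := (congrArg (S.op (t0 S)) (e0_19 S)).symm.trans (S.invol (t0 S) (t19 S))
theorem e19_9 : S.op (t19 S) (t9 S) = (t2 S) := (S.comm _ _).trans (e9_19 S)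
theorem e9_2 : S.op (t9 S) (t2 S) = (t19 S) := (congrArg (S.op (t9 S)) (e9_19 S)).symm.trans (S.invol (t9 S) (t19 S))
theorem e0_54 : S.op (t0 S) (t54 S) = (t27 S) := (congrArg (S.op (t0 S)) (e0_27 S)).symm.trans (S.invol (t0 S) (t27 S))
theorem e54_27 : S.op (t54 S) (t27 S) = (t0 S) := (S.comm _ _).trans (e27_54 S)
theorem e0_18 : S.op (t0 S) (t18 S) = (t9 S) := (congrArg (S.op (t0 S)) (e0_9 S)).symm.trans (S.invol (t0 S) (t9 S))
theorem e18_9 : S.op (t18 S) (t9 S) = (t0 S) := (S.comm _ _).trans (e9_18 S)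
theorem e0_6 : S.op (t0 S) (t6 S) = (t3 S) := (congrArg (S.op (t0 S)) (e0_3 S)).symm.trans (S.invol (t0 S) (t3 S))
theorem e6_3 : S.op (t6 S) (t3 S) = (t0 S) := (S.comm _ _).trans (e3_6 S)
theorem e27_72 : S.op (t27 S) (t72 S) = (t9 S) := (congrArg (S.op (t27 S)) (e27_9 S)).symm.trans (S.invol (t27 S) (t9 S))
theorem e27_60 : S.op (t27 S) (t60 S) = (t3 S) := (congrArg (S.op (t27 S)) (e27_3 S)).symm.trans (S.invol (t27 S) (t3 S))
theorem e60_3 : S.op (t60 S) (t3 S) = (t27 S) := (S.comm _ _).trans (e3_60 S)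
theorem e9_24 : S.op (t9 S) (t24 S) = (t3 S) := (congrArg (S.op (t9 S)) (e9_3 S)).symm.trans (S.invol (t9 S) (t3 S))
theorem e24_3 : S.op (t24 S) (t3 S) = (t9 S) := (S.comm _ _).trans (e3_24 S)
theorem e45_9 : S.op (t45 S) (t9 S) = (t54 S) := (S.comm _ _).trans (e9_45 S)
theorem e33_3 : S.op (t33 S) (t3 S) = (t54 S) := (S.comm _ _).trans (e3_33 S)
theorem e63_27 : S.op (t63 S) (t27 S) = (t18 S) := (S.comm _ _).trans (e27_63 S)
theorem e18_15 : S.op (t18 S) (t15 S) = (t3 S) := (congrArg (S.op (t18 S)) (e18_3 S)).symm.trans (S.invol (t18 S) (t3 S))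
theorem e15_3 : S.op (t15 S) (t3 S) = (t18 S) := (S.comm _ _).trans (e3_15 S)
theorem e57_27 : S.op (t57 S) (t27 S) = (t6 S) := (S.comm _ _).trans (e27_57 S)
theorem e6_21 : S.op (t6 S) (t21 S) = (t9 S) := (congrArg (S.op (t6 S)) (e6_9 S)).symm.trans (S.invol (t6 S) (t9 S))
theorem e21_9 : S.op (t21 S) (t9 S) = (t6 S) := (S.comm _ _).trans (e9_21 S)
theorem e36_0 : S.op (t36 S) (t0 S) = (t72 S) := (S.comm _ _).trans (e0_36 S)
theorem e42_3 : S.op (t42 S) (t3 S) = (t72 S) := (S.comm _ _).trans (e3_42 S)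
theorem e30_0 : S.op (t30 S) (t0 S) = (t60 S) := (S.comm _ _).trans (e0_30 S)
theorem e49_9 : S.op (t49 S) (t9 S) = (t60 S) := (S.comm _ _).trans (e9_49 S)
theorem e24_12 : S.op (t24 S) (t12 S) = (t0 S) := (congrArg (S.op (t24 S)) (e24_0 S)).symm.trans (S.invol (t24 S) (t0 S))
theorem e12_0 : S.op (t12 S) (t0 S) = (t24 S) := (S.comm _ _).trans (e0_12 S)
theorem e68_27 : S.op (t68 S) (t27 S) = (t24 S) := (S.comm _ _).trans (e27_68 S)
theorem e69_3 : S.op (t69 S) (t3 S) = (t45 S) := (S.comm _ _).trans (e3_69 S)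
theorem e77_9 : S.op (t77 S) (t9 S) = (t33 S) := (S.comm _ _).trans (e9_77 S)
theorem e51_3 : S.op (t51 S) (t3 S) = (t63 S) := (S.comm _ _).trans (e3_51 S)
theorem e76_27 : S.op (t76 S) (t27 S) = (t15 S) := (S.comm _ _).trans (e27_76 S)
theorem e53_9 : S.op (t53 S) (t9 S) = (t57 S) := (S.comm _ _).trans (e9_53 S)
theorem e70_27 : S.op (t70 S) (t27 S) = (t21 S) := (S.comm _ _).trans (e27_70 S)
theorem e78_3 : S.op (t78 S) (t3 S) = (t36 S) := (S.comm _ _).trans (e3_78 S)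
theorem e75_0 : S.op (t75 S) (t0 S) = (t42 S) := (S.comm _ _).trans (e0_75 S)
theorem e79_9 : S.op (t79 S) (t9 S) = (t30 S) := (S.comm _ _).trans (e9_79 S)
theorem e71_0 : S.op (t71 S) (t0 S) = (t49 S) := (S.comm _ _).trans (e0_71 S)
theorem e80_27 : S.op (t80 S) (t27 S) = (t12 S) := (S.comm _ _).trans (e27_80 S)
theorem e52_0 : S.op (t52 S) (t0 S) = (t68 S) := (S.comm _ _).trans (e0_52 S)
theorem e48_0 : S.op (t48 S) (t0 S) = (t69 S) := (S.comm _ _).trans (e0_48 S)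
theorem e69_22 : S.op (t69 S) (t22 S) = (t27 S) := (congrArg (S.op (t69 S)) (e69_27 S)).symm.trans (S.invol (t69 S) (t27 S))
theorem e22_27 : S.op (t22 S) (t27 S) = (t69 S) := (S.comm _ _).trans (e27_22 S)
theorem e40_9 : S.op (t40 S) (t9 S) = (t69 S) := (S.comm _ _).trans (e9_40 S)
theorem e43_0 : S.op (t43 S) (t0 S) = (t77 S) := (S.comm _ _).trans (e0_43 S)
theorem e77_17 : S.op (t77 S) (t17 S) = (t27 S) := (congrArg (S.op (t77 S)) (e77_27 S)).symm.trans (S.invol (t77 S) (t27 S))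
theorem e17_27 : S.op (t17 S) (t27 S) = (t77 S) := (S.comm _ _).trans (e27_17 S)
theorem e66_0 : S.op (t66 S) (t0 S) = (t51 S) := (S.comm _ _).trans (e0_66 S)
theorem e41_27 : S.op (t41 S) (t27 S) = (t51 S) := (S.comm _ _).trans (e27_41 S)
theorem e51_59 : S.op (t51 S) (t59 S) = (t9 S) := (congrArg (S.op (t51 S)) (e51_9 S)).symm.trans (S.invol (t51 S) (t9 S))
theorem e59_9 : S.op (t59 S) (t9 S) = (t51 S) := (S.comm _ _).trans (e9_59 S)
theorem e44_0 : S.op (t44 S) (t0 S) = (t76 S) := (S.comm _ _).trans (e0_44 S)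
theorem e76_34 : S.op (t76 S) (t34 S) = (t9 S) := (congrArg (S.op (t76 S)) (e76_9 S)).symm.trans (S.invol (t76 S) (t9 S))
theorem e34_9 : S.op (t34 S) (t9 S) = (t76 S) := (S.comm _ _).trans (e9_34 S)
theorem e67_0 : S.op (t67 S) (t0 S) = (t53 S) := (S.comm _ _).trans (e0_67 S)
theorem e39_27 : S.op (t39 S) (t27 S) = (t53 S) := (S.comm _ _).trans (e27_39 S)
theorem e64_3 : S.op (t64 S) (t3 S) = (t53 S) := (S.comm _ _).trans (e3_64 S)
theorem e50_0 : S.op (t50 S) (t0 S) = (t70 S) := (S.comm _ _).trans (e0_50 S)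
theorem e47_3 : S.op (t47 S) (t3 S) = (t70 S) := (S.comm _ _).trans (e3_47 S)
theorem e23_27 : S.op (t23 S) (t27 S) = (t71 S) := (S.comm _ _).trans (e27_23 S)
theorem e65_3 : S.op (t65 S) (t3 S) = (t52 S) := (S.comm _ _).trans (e3_65 S)
theorem e48_61 : S.op (t48 S) (t61 S) = (t9 S) := (congrArg (S.op (t48 S)) (e48_9 S)).symm.trans (S.invol (t48 S) (t9 S))
theorem e61_9 : S.op (t61 S) (t9 S) = (t48 S) := (S.comm _ _).trans (e9_61 S)
theorem e8_9 : S.op (t8 S) (t9 S) = (t22 S) := (S.comm _ _).trans (e9_8 S)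
theorem e74_3 : S.op (t74 S) (t3 S) = (t43 S) := (S.comm _ _).trans (e3_74 S)
theorem e19_3 : S.op (t19 S) (t3 S) = (t17 S) := (S.comm _ _).trans (e3_19 S)
theorem e66_26 : S.op (t66 S) (t26 S) = (t27 S) := (congrArg (S.op (t66 S)) (e66_27 S)).symm.trans (S.invol (t66 S) (t27 S))
theorem e26_27 : S.op (t26 S) (t27 S) = (t66 S) := (S.comm _ _).trans (e27_26 S)
theorem e25_27 : S.op (t25 S) (t27 S) = (t67 S) := (S.comm _ _).trans (e27_25 S)
theorem e5_27 : S.op (t5 S) (t27 S) = (t61 S) := (S.comm _ _).trans (e27_5 S)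
theorem e29_3 : S.op (t29 S) (t3 S) = (t61 S) := (S.comm _ _).trans (e3_29 S)
theorem e4_0 : S.op (t4 S) (t0 S) = (t8 S) := (S.comm _ _).trans (e0_4 S)
theorem e1_3 : S.op (t1 S) (t3 S) = (t8 S) := (S.comm _ _).trans (e3_1 S)
theorem e28_9 : S.op (t28 S) (t9 S) = (t74 S) := (S.comm _ _).trans (e9_28 S)
theorem e11_0 : S.op (t11 S) (t0 S) = (t19 S) := (S.comm _ _).trans (e0_11 S)
theorem e2_9 : S.op (t2 S) (t9 S) = (t19 S) := (S.comm _ _).trans (e9_2 S)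
theorem e54_0 : S.op (t54 S) (t0 S) = (t27 S) := (S.comm _ _).trans (e0_54 S)
theorem e18_0 : S.op (t18 S) (t0 S) = (t9 S) := (S.comm _ _).trans (e0_18 S)
theorem e6_0 : S.op (t6 S) (t0 S) = (t3 S) := (S.comm _ _).trans (e0_6 S)
theorem e72_27 : S.op (t72 S) (t27 S) = (t9 S) := (S.comm _ _).trans (e27_72 S)
theorem e60_27 : S.op (t60 S) (t27 S) = (t3 S) := (S.comm _ _).trans (e27_60 S)
theorem e24_9 : S.op (t24 S) (t9 S) = (t3 S) := (S.comm _ _).trans (e9_24 S)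
theorem e15_18 : S.op (t15 S) (t18 S) = (t3 S) := (S.comm _ _).trans (e18_15 S)
theorem e21_6 : S.op (t21 S) (t6 S) = (t9 S) := (S.comm _ _).trans (e6_21 S)
theorem e12_24 : S.op (t12 S) (t24 S) = (t0 S) := (S.comm _ _).trans (e24_12 S)
theorem e22_69 : S.op (t22 S) (t69 S) = (t27 S) := (S.comm _ _).trans (e69_22 S)
theorem e17_77 : S.op (t17 S) (t77 S) = (t27 S) := (S.comm _ _).trans (e77_17 S)
theorem e59_51 : S.op (t59 S) (t51 S) = (t9 S) := (S.comm _ _).trans (e51_59 S)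
theorem e61_48 : S.op (t61 S) (t48 S) = (t9 S) := (S.comm _ _).trans (e48_61 S)
theorem e26_66 : S.op (t26 S) (t66 S) = (t27 S) := (S.comm _ _).trans (e66_26 S)
theorem e60_6 : S.op (t60 S) (t6 S) = (t33 S) := ((congrArg (S.op (t3 S)) (e27_0 S)).symm.trans ((S.dist (t3 S) (t27 S) (t0 S)).trans (congrArg₂ S.op (e3_27 S) (e3_0 S)))).symm.trans (e3_54 S)
theorem e6_60 : S.op (t6 S) (t60 S) = (t33 S) := (S.comm _ _).trans (e60_6 S)
theorem e6_33 : S.op (t6 S) (t33 S) = (t60 S) := (congrArg (S.op (t6 S)) (e6_60 S)).symm.trans (S.invol (t6 S) (t60 S))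
theorem e33_6 : S.op (t33 S) (t6 S) = (t60 S) := (S.comm _ _).trans (e6_33 S)
theorem e72_18 : S.op (t72 S) (t18 S) = (t45 S) := ((congrArg (S.op (t9 S)) (e27_0 S)).symm.trans ((S.dist (t9 S) (t27 S) (t0 S)).trans (congrArg₂ S.op (e9_27 S) (e9_0 S)))).symm.trans (e9_54 S)
theorem e18_72 : S.op (t18 S) (t72 S) = (t45 S) := (S.comm _ _).trans (e72_18 S)
theorem e72_45 : S.op (t72 S) (t45 S) = (t18 S) := (congrArg (S.op (t72 S)) (e72_18 S)).symm.trans (S.invol (t72 S) (t18 S))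
theorem e18_45 : S.op (t18 S) (t45 S) = (t72 S) := (congrArg (S.op (t18 S)) (e18_72 S)).symm.trans (S.invol (t18 S) (t72 S))
theorem e45_72 : S.op (t45 S) (t72 S) = (t18 S) := (S.comm _ _).trans (e72_45 S)
theorem e45_18 : S.op (t45 S) (t18 S) = (t72 S) := (S.comm _ _).trans (e18_45 S)
theorem e24_6 : S.op (t24 S) (t6 S) = (t15 S) := ((congrArg (S.op (t3 S)) (e9_0 S)).symm.trans ((S.dist (t3 S) (t9 S) (t0 S)).trans (congrArg₂ S.op (e3_9 S) (e3_0 S)))).symm.trans (e3_18 S)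
theorem e6_24 : S.op (t6 S) (t24 S) = (t15 S) := (S.comm _ _).trans (e24_6 S)
theorem e24_15 : S.op (t24 S) (t15 S) = (t6 S) := (congrArg (S.op (t24 S)) (e24_6 S)).symm.trans (S.invol (t24 S) (t6 S))
theorem e6_15 : S.op (t6 S) (t15 S) = (t24 S) := (congrArg (S.op (t6 S)) (e6_24 S)).symm.trans (S.invol (t6 S) (t24 S))
theorem e15_24 : S.op (t15 S) (t24 S) = (t6 S) := (S.comm _ _).trans (e24_15 S)
theorem e15_6 : S.op (t15 S) (t6 S) = (t24 S) := (S.comm _ _).trans (e6_15 S)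
theorem e72_54 : S.op (t72 S) (t54 S) = (t63 S) := ((congrArg (S.op (t27 S)) (e9_0 S)).symm.trans ((S.dist (t27 S) (t9 S) (t0 S)).trans (congrArg₂ S.op (e27_9 S) (e27_0 S)))).symm.trans (e27_18 S)
theorem e54_72 : S.op (t54 S) (t72 S) = (t63 S) := (S.comm _ _).trans (e72_54 S)
theorem e72_63 : S.op (t72 S) (t63 S) = (t54 S) := (congrArg (S.op (t72 S)) (e72_54 S)).symm.trans (S.invol (t72 S) (t54 S))
theorem e54_63 : S.op (t54 S) (t63 S) = (t72 S) := (congrArg (S.op (t54 S)) (e54_72 S)).symm.trans (S.invol (t54 S) (t72 S))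
theorem e63_72 : S.op (t63 S) (t72 S) = (t54 S) := (S.comm _ _).trans (e72_63 S)
theorem e63_54 : S.op (t63 S) (t54 S) = (t72 S) := (S.comm _ _).trans (e54_63 S)
theorem e9_36 : S.op (t9 S) (t36 S) = (t63 S) := ((congrArg (S.op (t72 S)) (e27_0 S)).symm.trans ((S.dist (t72 S) (t27 S) (t0 S)).trans (congrArg₂ S.op (e72_27 S) (e72_0 S)))).symm.trans (e72_54 S)
theorem e36_9 : S.op (t36 S) (t9 S) = (t63 S) := (S.comm _ _).trans (e9_36 S)
theorem e9_63 : S.op (t9 S) (t63 S) = (t36 S) := (congrArg (S.op (t9 S)) (e9_36 S)).symm.trans (S.invol (t9 S) (t36 S))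
theorem e63_9 : S.op (t63 S) (t9 S) = (t36 S) := (S.comm _ _).trans (e9_63 S)
theorem e18_54 : S.op (t18 S) (t54 S) = (t36 S) := ((congrArg (S.op (t18 S)) (e27_0 S)).symm.trans ((S.dist (t18 S) (t27 S) (t0 S)).trans (congrArg₂ S.op (e18_27 S) (e18_0 S)))).trans (e63_9 S)
theorem e54_18 : S.op (t54 S) (t18 S) = (t36 S) := (S.comm _ _).trans (e18_54 S)
theorem e18_36 : S.op (t18 S) (t36 S) = (t54 S) := (congrArg (S.op (t18 S)) (e18_54 S)).symm.trans (S.invol (t18 S) (t54 S))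
theorem e54_36 : S.op (t54 S) (t36 S) = (t18 S) := (congrArg (S.op (t54 S)) (e54_18 S)).symm.trans (S.invol (t54 S) (t18 S))
theorem e36_18 : S.op (t36 S) (t18 S) = (t54 S) := (S.comm _ _).trans (e18_36 S)
theorem e36_54 : S.op (t36 S) (t54 S) = (t18 S) := (S.comm _ _).trans (e54_36 S)
theorem e45_27 : S.op (t45 S) (t27 S) = (t36 S) := ((congrArg (S.op (t54 S)) (e9_0 S)).symm.trans ((S.dist (t54 S) (t9 S) (t0 S)).trans (congrArg₂ S.op (e54_9 S) (e54_0 S)))).symm.trans (e54_18 S)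
theorem e27_45 : S.op (t27 S) (t45 S) = (t36 S) := (S.comm _ _).trans (e45_27 S)
theorem e27_36 : S.op (t27 S) (t36 S) = (t45 S) := (congrArg (S.op (t27 S)) (e27_45 S)).symm.trans (S.invol (t27 S) (t45 S))
theorem e36_27 : S.op (t36 S) (t27 S) = (t45 S) := (S.comm _ _).trans (e27_36 S)
theorem e24_18 : S.op (t24 S) (t18 S) = (t21 S) := ((congrArg (S.op (t9 S)) (e3_0 S)).symm.trans ((S.dist (t9 S) (t3 S) (t0 S)).trans (congrArg₂ S.op (e9_3 S) (e9_0 S)))).symm.trans (e9_6 S)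
theorem e18_24 : S.op (t18 S) (t24 S) = (t21 S) := (S.comm _ _).trans (e24_18 S)
theorem e18_21 : S.op (t18 S) (t21 S) = (t24 S) := (congrArg (S.op (t18 S)) (e18_24 S)).symm.trans (S.invol (t18 S) (t24 S))
theorem e21_18 : S.op (t21 S) (t18 S) = (t24 S) := (S.comm _ _).trans (e18_21 S)
theorem e3_12 : S.op (t3 S) (t12 S) = (t21 S) := ((congrArg (S.op (t24 S)) (e9_0 S)).symm.trans ((S.dist (t24 S) (t9 S) (t0 S)).trans (congrArg₂ S.op (e24_9 S) (e24_0 S)))).symm.trans (e24_18 S)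
theorem e12_3 : S.op (t12 S) (t3 S) = (t21 S) := (S.comm _ _).trans (e3_12 S)
theorem e3_21 : S.op (t3 S) (t21 S) = (t12 S) := (congrArg (S.op (t3 S)) (e3_12 S)).symm.trans (S.invol (t3 S) (t12 S))
theorem e21_3 : S.op (t21 S) (t3 S) = (t12 S) := (S.comm _ _).trans (e3_21 S)
theorem e6_18 : S.op (t6 S) (t18 S) = (t12 S) := ((congrArg (S.op (t6 S)) (e9_0 S)).symm.trans ((S.dist (t6 S) (t9 S) (t0 S)).trans (congrArg₂ S.op (e6_9 S) (e6_0 S)))).trans (e21_3 S)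
theorem e18_6 : S.op (t18 S) (t6 S) = (t12 S) := (S.comm _ _).trans (e6_18 S)
theorem e6_12 : S.op (t6 S) (t12 S) = (t18 S) := (congrArg (S.op (t6 S)) (e6_18 S)).symm.trans (S.invol (t6 S) (t18 S))
theorem e12_6 : S.op (t12 S) (t6 S) = (t18 S) := (S.comm _ _).trans (e6_12 S)
theorem e15_9 : S.op (t15 S) (t9 S) = (t12 S) := ((congrArg (S.op (t18 S)) (e3_0 S)).symm.trans ((S.dist (t18 S) (t3 S) (t0 S)).trans (congrArg₂ S.op (e18_3 S) (e18_0 S)))).symm.trans (e18_6 S)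
theorem e9_15 : S.op (t9 S) (t15 S) = (t12 S) := (S.comm _ _).trans (e15_9 S)
theorem e9_12 : S.op (t9 S) (t12 S) = (t15 S) := (congrArg (S.op (t9 S)) (e9_15 S)).symm.trans (S.invol (t9 S) (t15 S))
theorem e12_9 : S.op (t12 S) (t9 S) = (t15 S) := (S.comm _ _).trans (e9_12 S)
theorem e60_54 : S.op (t60 S) (t54 S) = (t57 S) := ((congrArg (S.op (t27 S)) (e3_0 S)).symm.trans ((S.dist (t27 S) (t3 S) (t0 S)).trans (congrArg₂ S.op (e27_3 S) (e27_0 S)))).symm.trans (e27_6 S)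
theorem e54_60 : S.op (t54 S) (t60 S) = (t57 S) := (S.comm _ _).trans (e60_54 S)
theorem e60_57 : S.op (t60 S) (t57 S) = (t54 S) := (congrArg (S.op (t60 S)) (e60_54 S)).symm.trans (S.invol (t60 S) (t54 S))
theorem e54_57 : S.op (t54 S) (t57 S) = (t60 S) := (congrArg (S.op (t54 S)) (e54_60 S)).symm.trans (S.invol (t54 S) (t60 S))
theorem e57_60 : S.op (t57 S) (t60 S) = (t54 S) := (S.comm _ _).trans (e60_57 S)
theorem e57_54 : S.op (t57 S) (t54 S) = (t60 S) := (S.comm _ _).trans (e54_57 S)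
theorem e3_30 : S.op (t3 S) (t30 S) = (t57 S) := ((congrArg (S.op (t60 S)) (e27_0 S)).symm.trans ((S.dist (t60 S) (t27 S) (t0 S)).trans (congrArg₂ S.op (e60_27 S) (e60_0 S)))).symm.trans (e60_54 S)
theorem e30_3 : S.op (t30 S) (t3 S) = (t57 S) := (S.comm _ _).trans (e3_30 S)
theorem e3_57 : S.op (t3 S) (t57 S) = (t30 S) := (congrArg (S.op (t3 S)) (e3_30 S)).symm.trans (S.invol (t3 S) (t30 S))
theorem e57_3 : S.op (t57 S) (t3 S) = (t30 S) := (S.comm _ _).trans (e3_57 S)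
theorem e6_54 : S.op (t6 S) (t54 S) = (t30 S) := ((congrArg (S.op (t6 S)) (e27_0 S)).symm.trans ((S.dist (t6 S) (t27 S) (t0 S)).trans (congrArg₂ S.op (e6_27 S) (e6_0 S)))).trans (e57_3 S)
theorem e54_6 : S.op (t54 S) (t6 S) = (t30 S) := (S.comm _ _).trans (e6_54 S)
theorem e6_30 : S.op (t6 S) (t30 S) = (t54 S) := (congrArg (S.op (t6 S)) (e6_54 S)).symm.trans (S.invol (t6 S) (t54 S))
theorem e54_30 : S.op (t54 S) (t30 S) = (t6 S) := (congrArg (S.op (t54 S)) (e54_6 S)).symm.trans (S.invol (t54 S) (t6 S))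
theorem e30_6 : S.op (t30 S) (t6 S) = (t54 S) := (S.comm _ _).trans (e6_30 S)
theorem e30_54 : S.op (t30 S) (t54 S) = (t6 S) := (S.comm _ _).trans (e54_30 S)
theorem e33_27 : S.op (t33 S) (t27 S) = (t30 S) := ((congrArg (S.op (t54 S)) (e3_0 S)).symm.trans ((S.dist (t54 S) (t3 S) (t0 S)).trans (congrArg₂ S.op (e54_3 S) (e54_0 S)))).symm.trans (e54_6 S)
theorem e27_33 : S.op (t27 S) (t33 S) = (t30 S) := (S.comm _ _).trans (e33_27 S)
theorem e27_30 : S.op (t27 S) (t30 S) = (t33 S) := (congrArg (S.op (t27 S)) (e27_33 S)).symm.trans (S.invol (t27 S) (t33 S))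
theorem e30_27 : S.op (t30 S) (t27 S) = (t33 S) := (S.comm _ _).trans (e27_30 S)
theorem e24_60 : S.op (t24 S) (t60 S) = (t42 S) := ((congrArg (S.op (t3 S)) (e9_27 S)).symm.trans ((S.dist (t3 S) (t9 S) (t27 S)).trans (congrArg₂ S.op (e3_9 S) (e3_27 S)))).symm.trans (e3_72 S)
theorem e60_24 : S.op (t60 S) (t24 S) = (t42 S) := (S.comm _ _).trans (e24_60 S)
theorem e60_42 : S.op (t60 S) (t42 S) = (t24 S) := (congrArg (S.op (t60 S)) (e60_24 S)).symm.trans (S.invol (t60 S) (t24 S))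
theorem e42_60 : S.op (t42 S) (t60 S) = (t24 S) := (S.comm _ _).trans (e60_42 S)
theorem e0_63 : S.op (t0 S) (t63 S) = (t45 S) := ((congrArg (S.op (t18 S)) (e9_27 S)).symm.trans ((S.dist (t18 S) (t9 S) (t27 S)).trans (congrArg₂ S.op (e18_9 S) (e18_27 S)))).symm.trans (e18_72 S)
theorem e63_0 : S.op (t63 S) (t0 S) = (t45 S) := (S.comm _ _).trans (e0_63 S)
theorem e0_45 : S.op (t0 S) (t45 S) = (t63 S) := (congrArg (S.op (t0 S)) (e0_63 S)).symm.trans (S.invol (t0 S) (t63 S))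
theorem e45_0 : S.op (t45 S) (t0 S) = (t63 S) := (S.comm _ _).trans (e0_45 S)
theorem e0_57 : S.op (t0 S) (t57 S) = (t33 S) := ((congrArg (S.op (t6 S)) (e3_27 S)).symm.trans ((S.dist (t6 S) (t3 S) (t27 S)).trans (congrArg₂ S.op (e6_3 S) (e6_27 S)))).symm.trans (e6_60 S)
theorem e57_0 : S.op (t57 S) (t0 S) = (t33 S) := (S.comm _ _).trans (e0_57 S)
theorem e0_33 : S.op (t0 S) (t33 S) = (t57 S) := (congrArg (S.op (t0 S)) (e0_57 S)).symm.trans (S.invol (t0 S) (t57 S))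
theorem e33_0 : S.op (t33 S) (t0 S) = (t57 S) := (S.comm _ _).trans (e0_33 S)
theorem e24_72 : S.op (t24 S) (t72 S) = (t49 S) := ((congrArg (S.op (t9 S)) (e3_27 S)).symm.trans ((S.dist (t9 S) (t3 S) (t27 S)).trans (congrArg₂ S.op (e9_3 S) (e9_27 S)))).symm.trans (e9_60 S)
theorem e72_24 : S.op (t72 S) (t24 S) = (t49 S) := (S.comm _ _).trans (e24_72 S)
theorem e72_49 : S.op (t72 S) (t49 S) = (t24 S) := (congrArg (S.op (t72 S)) (e72_24 S)).symm.trans (S.invol (t72 S) (t24 S))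
theorem e49_72 : S.op (t49 S) (t72 S) = (t24 S) := (S.comm _ _).trans (e72_49 S)
theorem e3_68 : S.op (t3 S) (t68 S) = (t49 S) := ((congrArg (S.op (t24 S)) (e9_27 S)).symm.trans ((S.dist (t24 S) (t9 S) (t27 S)).trans (congrArg₂ S.op (e24_9 S) (e24_27 S)))).symm.trans (e24_72 S)
theorem e68_3 : S.op (t68 S) (t3 S) = (t49 S) := (S.comm _ _).trans (e3_68 S)
theorem e3_49 : S.op (t3 S) (t49 S) = (t68 S) := (congrArg (S.op (t3 S)) (e3_68 S)).symm.trans (S.invol (t3 S) (t68 S))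
theorem e49_3 : S.op (t49 S) (t3 S) = (t68 S) := (S.comm _ _).trans (e3_49 S)
theorem e60_72 : S.op (t60 S) (t72 S) = (t68 S) := ((congrArg (S.op (t60 S)) (e9_27 S)).symm.trans ((S.dist (t60 S) (t9 S) (t27 S)).trans (congrArg₂ S.op (e60_9 S) (e60_27 S)))).trans (e49_3 S)
theorem e72_60 : S.op (t72 S) (t60 S) = (t68 S) := (S.comm _ _).trans (e60_72 S)
theorem e72_68 : S.op (t72 S) (t68 S) = (t60 S) := (congrArg (S.op (t72 S)) (e72_60 S)).symm.trans (S.invol (t72 S) (t60 S))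
theorem e68_72 : S.op (t68 S) (t72 S) = (t60 S) := (S.comm _ _).trans (e72_68 S)
theorem e9_68 : S.op (t9 S) (t68 S) = (t42 S) := ((congrArg (S.op (t24 S)) (e3_27 S)).symm.trans ((S.dist (t24 S) (t3 S) (t27 S)).trans (congrArg₂ S.op (e24_3 S) (e24_27 S)))).symm.trans (e24_60 S)
theorem e68_9 : S.op (t68 S) (t9 S) = (t42 S) := (S.comm _ _).trans (e9_68 S)
theorem e9_42 : S.op (t9 S) (t42 S) = (t68 S) := (congrArg (S.op (t9 S)) (e9_68 S)).symm.trans (S.invol (t9 S) (t68 S))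
theorem e42_9 : S.op (t42 S) (t9 S) = (t68 S) := (S.comm _ _).trans (e9_42 S)
theorem e0_21 : S.op (t0 S) (t21 S) = (t15 S) := ((congrArg (S.op (t6 S)) (e3_9 S)).symm.trans ((S.dist (t6 S) (t3 S) (t9 S)).trans (congrArg₂ S.op (e6_3 S) (e6_9 S)))).symm.trans (e6_24 S)
theorem e21_0 : S.op (t21 S) (t0 S) = (t15 S) := (S.comm _ _).trans (e0_21 S)
theorem e0_15 : S.op (t0 S) (t15 S) = (t21 S) := (congrArg (S.op (t0 S)) (e0_21 S)).symm.trans (S.invol (t0 S) (t21 S))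
theorem e15_0 : S.op (t15 S) (t0 S) = (t21 S) := (S.comm _ _).trans (e0_15 S)
theorem e27_49 : S.op (t27 S) (t49 S) = (t42 S) := ((congrArg (S.op (t60 S)) (e3_9 S)).symm.trans ((S.dist (t60 S) (t3 S) (t9 S)).trans (congrArg₂ S.op (e60_3 S) (e60_9 S)))).symm.trans (e60_24 S)
theorem e49_27 : S.op (t49 S) (t27 S) = (t42 S) := (S.comm _ _).trans (e27_49 S)
theorem e27_42 : S.op (t27 S) (t42 S) = (t49 S) := (congrArg (S.op (t27 S)) (e27_49 S)).symm.trans (S.invol (t27 S) (t49 S))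
theorem e42_27 : S.op (t42 S) (t27 S) = (t49 S) := (S.comm _ _).trans (e27_42 S)
theorem e24_33 : S.op (t24 S) (t33 S) = (t69 S) := ((congrArg (S.op (t3 S)) (e9_54 S)).symm.trans ((S.dist (t3 S) (t9 S) (t54 S)).trans (congrArg₂ S.op (e3_9 S) (e3_54 S)))).symm.trans (e3_45 S)
theorem e33_24 : S.op (t33 S) (t24 S) = (t69 S) := (S.comm _ _).trans (e24_33 S)
theorem e24_69 : S.op (t24 S) (t69 S) = (t33 S) := (congrArg (S.op (t24 S)) (e24_33 S)).symm.trans (S.invol (t24 S) (t33 S))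
theorem e69_24 : S.op (t69 S) (t24 S) = (t33 S) := (S.comm _ _).trans (e24_69 S)
theorem e54_77 : S.op (t54 S) (t77 S) = (t69 S) := ((congrArg (S.op (t33 S)) (e3_9 S)).symm.trans ((S.dist (t33 S) (t3 S) (t9 S)).trans (congrArg₂ S.op (e33_3 S) (e33_9 S)))).symm.trans (e33_24 S)
theorem e77_54 : S.op (t77 S) (t54 S) = (t69 S) := (S.comm _ _).trans (e54_77 S)
theorem e54_69 : S.op (t54 S) (t69 S) = (t77 S) := (congrArg (S.op (t54 S)) (e54_77 S)).symm.trans (S.invol (t54 S) (t77 S))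
theorem e69_54 : S.op (t69 S) (t54 S) = (t77 S) := (S.comm _ _).trans (e54_69 S)
theorem e17_43 : S.op (t17 S) (t43 S) = (t69 S) := ((congrArg (S.op (t77 S)) (e27_0 S)).symm.trans ((S.dist (t77 S) (t27 S) (t0 S)).trans (congrArg₂ S.op (e77_27 S) (e77_0 S)))).symm.trans (e77_54 S)
theorem e43_17 : S.op (t43 S) (t17 S) = (t69 S) := (S.comm _ _).trans (e17_43 S)
theorem e43_69 : S.op (t43 S) (t69 S) = (t17 S) := (congrArg (S.op (t43 S)) (e43_17 S)).symm.trans (S.invol (t43 S) (t17 S))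
theorem e45_24 : S.op (t45 S) (t24 S) = (t77 S) := ((congrArg (S.op (t45 S)) (e3_9 S)).symm.trans ((S.dist (t45 S) (t3 S) (t9 S)).trans (congrArg₂ S.op (e45_3 S) (e45_9 S)))).trans (e69_54 S)
theorem e24_45 : S.op (t24 S) (t45 S) = (t77 S) := (S.comm _ _).trans (e45_24 S)
theorem e45_40 : S.op (t45 S) (t40 S) = (t33 S) := ((congrArg (S.op (t69 S)) (e3_9 S)).symm.trans ((S.dist (t69 S) (t3 S) (t9 S)).trans (congrArg₂ S.op (e69_3 S) (e69_9 S)))).symm.trans (e69_24 S)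
theorem e45_33 : S.op (t45 S) (t33 S) = (t40 S) := (congrArg (S.op (t45 S)) (e45_40 S)).symm.trans (S.invol (t45 S) (t40 S))
theorem e33_45 : S.op (t33 S) (t45 S) = (t40 S) := (S.comm _ _).trans (e45_33 S)
theorem e54_24 : S.op (t54 S) (t24 S) = (t40 S) := ((congrArg (S.op (t54 S)) (e3_9 S)).symm.trans ((S.dist (t54 S) (t3 S) (t9 S)).trans (congrArg₂ S.op (e54_3 S) (e54_9 S)))).trans (e33_45 S)
theorem e24_54 : S.op (t24 S) (t54 S) = (t40 S) := (S.comm _ _).trans (e54_24 S)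
theorem e68_12 : S.op (t68 S) (t12 S) = (t40 S) := ((congrArg (S.op (t24 S)) (e27_0 S)).symm.trans ((S.dist (t24 S) (t27 S) (t0 S)).trans (congrArg₂ S.op (e24_27 S) (e24_0 S)))).symm.trans (e24_54 S)
theorem e12_68 : S.op (t12 S) (t68 S) = (t40 S) := (S.comm _ _).trans (e68_12 S)
theorem e3_40 : S.op (t3 S) (t40 S) = (t77 S) := ((congrArg (S.op (t24 S)) (e9_54 S)).symm.trans ((S.dist (t24 S) (t9 S) (t54 S)).trans (congrArg₂ S.op (e24_9 S) (e24_54 S)))).symm.trans (e24_45 S)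
theorem e40_3 : S.op (t40 S) (t3 S) = (t77 S) := (S.comm _ _).trans (e3_40 S)
theorem e3_77 : S.op (t3 S) (t77 S) = (t40 S) := (congrArg (S.op (t3 S)) (e3_40 S)).symm.trans (S.invol (t3 S) (t40 S))
theorem e77_3 : S.op (t77 S) (t3 S) = (t40 S) := (S.comm _ _).trans (e3_77 S)
theorem e60_15 : S.op (t60 S) (t15 S) = (t51 S) := ((congrArg (S.op (t3 S)) (e27_18 S)).symm.trans ((S.dist (t3 S) (t27 S) (t18 S)).trans (congrArg₂ S.op (e3_27 S) (e3_18 S)))).symm.trans (e3_63 S)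
theorem e15_60 : S.op (t15 S) (t60 S) = (t51 S) := (S.comm _ _).trans (e60_15 S)
theorem e60_51 : S.op (t60 S) (t51 S) = (t15 S) := (congrArg (S.op (t60 S)) (e60_15 S)).symm.trans (S.invol (t60 S) (t15 S))
theorem e51_60 : S.op (t51 S) (t60 S) = (t15 S) := (S.comm _ _).trans (e60_51 S)
theorem e18_76 : S.op (t18 S) (t76 S) = (t51 S) := ((congrArg (S.op (t15 S)) (e3_27 S)).symm.trans ((S.dist (t15 S) (t3 S) (t27 S)).trans (congrArg₂ S.op (e15_3 S) (e15_27 S)))).symm.trans (e15_60 S)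
theorem e76_18 : S.op (t76 S) (t18 S) = (t51 S) := (S.comm _ _).trans (e18_76 S)
theorem e18_51 : S.op (t18 S) (t51 S) = (t76 S) := (congrArg (S.op (t18 S)) (e18_76 S)).symm.trans (S.invol (t18 S) (t76 S))
theorem e51_18 : S.op (t51 S) (t18 S) = (t76 S) := (S.comm _ _).trans (e18_51 S)
theorem e34_44 : S.op (t34 S) (t44 S) = (t51 S) := ((congrArg (S.op (t76 S)) (e9_0 S)).symm.trans ((S.dist (t76 S) (t9 S) (t0 S)).trans (congrArg₂ S.op (e76_9 S) (e76_0 S)))).symm.trans (e76_18 S)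
theorem e44_34 : S.op (t44 S) (t34 S) = (t51 S) := (S.comm _ _).trans (e34_44 S)
theorem e44_51 : S.op (t44 S) (t51 S) = (t34 S) := (congrArg (S.op (t44 S)) (e44_34 S)).symm.trans (S.invol (t44 S) (t34 S))
theorem e63_41 : S.op (t63 S) (t41 S) = (t15 S) := ((congrArg (S.op (t51 S)) (e3_27 S)).symm.trans ((S.dist (t51 S) (t3 S) (t27 S)).trans (congrArg₂ S.op (e51_3 S) (e51_27 S)))).symm.trans (e51_60 S)
theorem e63_15 : S.op (t63 S) (t15 S) = (t41 S) := (congrArg (S.op (t63 S)) (e63_41 S)).symm.trans (S.invol (t63 S) (t41 S))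
theorem e15_63 : S.op (t15 S) (t63 S) = (t41 S) := (S.comm _ _).trans (e63_15 S)
theorem e18_60 : S.op (t18 S) (t60 S) = (t41 S) := ((congrArg (S.op (t18 S)) (e3_27 S)).symm.trans ((S.dist (t18 S) (t3 S) (t27 S)).trans (congrArg₂ S.op (e18_3 S) (e18_27 S)))).trans (e15_63 S)
theorem e63_60 : S.op (t63 S) (t60 S) = (t76 S) := ((congrArg (S.op (t63 S)) (e3_27 S)).symm.trans ((S.dist (t63 S) (t3 S) (t27 S)).trans (congrArg₂ S.op (e63_3 S) (e63_27 S)))).trans (e51_18 S)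
theorem e60_63 : S.op (t60 S) (t63 S) = (t76 S) := (S.comm _ _).trans (e63_60 S)
theorem e60_76 : S.op (t60 S) (t76 S) = (t63 S) := (congrArg (S.op (t60 S)) (e60_63 S)).symm.trans (S.invol (t60 S) (t63 S))
theorem e76_60 : S.op (t76 S) (t60 S) = (t63 S) := (S.comm _ _).trans (e60_76 S)
theorem e76_3 : S.op (t76 S) (t3 S) = (t41 S) := ((congrArg (S.op (t15 S)) (e27_18 S)).symm.trans ((S.dist (t15 S) (t27 S) (t18 S)).trans (congrArg₂ S.op (e15_27 S) (e15_18 S)))).symm.trans (e15_63 S)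
theorem e3_76 : S.op (t3 S) (t76 S) = (t41 S) := (S.comm _ _).trans (e76_3 S)
theorem e3_41 : S.op (t3 S) (t41 S) = (t76 S) := (congrArg (S.op (t3 S)) (e3_76 S)).symm.trans (S.invol (t3 S) (t76 S))
theorem e41_3 : S.op (t41 S) (t3 S) = (t76 S) := (S.comm _ _).trans (e3_41 S)
theorem e72_21 : S.op (t72 S) (t21 S) = (t53 S) := ((congrArg (S.op (t9 S)) (e27_6 S)).symm.trans ((S.dist (t9 S) (t27 S) (t6 S)).trans (congrArg₂ S.op (e9_27 S) (e9_6 S)))).symm.trans (e9_57 S)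
theorem e21_72 : S.op (t21 S) (t72 S) = (t53 S) := (S.comm _ _).trans (e72_21 S)
theorem e72_53 : S.op (t72 S) (t53 S) = (t21 S) := (congrArg (S.op (t72 S)) (e72_21 S)).symm.trans (S.invol (t72 S) (t21 S))
theorem e53_72 : S.op (t53 S) (t72 S) = (t21 S) := (S.comm _ _).trans (e72_53 S)
theorem e6_70 : S.op (t6 S) (t70 S) = (t53 S) := ((congrArg (S.op (t21 S)) (e9_27 S)).symm.trans ((S.dist (t21 S) (t9 S) (t27 S)).trans (congrArg₂ S.op (e21_9 S) (e21_27 S)))).symm.trans (e21_72 S)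
theorem e6_53 : S.op (t6 S) (t53 S) = (t70 S) := (congrArg (S.op (t6 S)) (e6_70 S)).symm.trans (S.invol (t6 S) (t70 S))
theorem e53_6 : S.op (t53 S) (t6 S) = (t70 S) := (S.comm _ _).trans (e6_53 S)
theorem e57_39 : S.op (t57 S) (t39 S) = (t21 S) := ((congrArg (S.op (t53 S)) (e9_27 S)).symm.trans ((S.dist (t53 S) (t9 S) (t27 S)).trans (congrArg₂ S.op (e53_9 S) (e53_27 S)))).symm.trans (e53_72 S)
theorem e57_21 : S.op (t57 S) (t21 S) = (t39 S) := (congrArg (S.op (t57 S)) (e57_39 S)).symm.trans (S.invol (t57 S) (t39 S))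
theorem e21_57 : S.op (t21 S) (t57 S) = (t39 S) := (S.comm _ _).trans (e57_21 S)
theorem e6_72 : S.op (t6 S) (t72 S) = (t39 S) := ((congrArg (S.op (t6 S)) (e9_27 S)).symm.trans ((S.dist (t6 S) (t9 S) (t27 S)).trans (congrArg₂ S.op (e6_9 S) (e6_27 S)))).trans (e21_57 S)
theorem e57_72 : S.op (t57 S) (t72 S) = (t70 S) := ((congrArg (S.op (t57 S)) (e9_27 S)).symm.trans ((S.dist (t57 S) (t9 S) (t27 S)).trans (congrArg₂ S.op (e57_9 S) (e57_27 S)))).trans (e53_6 S)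
theorem e72_57 : S.op (t72 S) (t57 S) = (t70 S) := (S.comm _ _).trans (e57_72 S)
theorem e72_70 : S.op (t72 S) (t70 S) = (t57 S) := (congrArg (S.op (t72 S)) (e72_57 S)).symm.trans (S.invol (t72 S) (t57 S))
theorem e70_72 : S.op (t70 S) (t72 S) = (t57 S) := (S.comm _ _).trans (e72_70 S)
theorem e70_9 : S.op (t70 S) (t9 S) = (t39 S) := ((congrArg (S.op (t21 S)) (e27_6 S)).symm.trans ((S.dist (t21 S) (t27 S) (t6 S)).trans (congrArg₂ S.op (e21_27 S) (e21_6 S)))).symm.trans (e21_57 S)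
theorem e9_70 : S.op (t9 S) (t70 S) = (t39 S) := (S.comm _ _).trans (e70_9 S)
theorem e9_39 : S.op (t9 S) (t39 S) = (t70 S) := (congrArg (S.op (t9 S)) (e9_70 S)).symm.trans (S.invol (t9 S) (t70 S))
theorem e39_9 : S.op (t39 S) (t9 S) = (t70 S) := (S.comm _ _).trans (e9_39 S)
theorem e6_42 : S.op (t6 S) (t42 S) = (t78 S) := ((congrArg (S.op (t3 S)) (e0_72 S)).symm.trans ((S.dist (t3 S) (t0 S) (t72 S)).trans (congrArg₂ S.op (e3_0 S) (e3_72 S)))).symm.trans (e3_36 S)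
theorem e42_6 : S.op (t42 S) (t6 S) = (t78 S) := (S.comm _ _).trans (e6_42 S)
theorem e72_75 : S.op (t72 S) (t75 S) = (t78 S) := ((congrArg (S.op (t42 S)) (e3_0 S)).symm.trans ((S.dist (t42 S) (t3 S) (t0 S)).trans (congrArg₂ S.op (e42_3 S) (e42_0 S)))).symm.trans (e42_6 S)
theorem e72_78 : S.op (t72 S) (t78 S) = (t75 S) := (congrArg (S.op (t72 S)) (e72_75 S)).symm.trans (S.invol (t72 S) (t75 S))
theorem e78_72 : S.op (t78 S) (t72 S) = (t75 S) := (S.comm _ _).trans (e72_78 S)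
theorem e36_6 : S.op (t36 S) (t6 S) = (t75 S) := ((congrArg (S.op (t36 S)) (e3_0 S)).symm.trans ((S.dist (t36 S) (t3 S) (t0 S)).trans (congrArg₂ S.op (e36_3 S) (e36_0 S)))).trans (e78_72 S)
theorem e6_36 : S.op (t6 S) (t36 S) = (t75 S) := (S.comm _ _).trans (e36_6 S)
theorem e6_75 : S.op (t6 S) (t75 S) = (t36 S) := (congrArg (S.op (t6 S)) (e6_36 S)).symm.trans (S.invol (t6 S) (t36 S))
theorem e75_6 : S.op (t75 S) (t6 S) = (t36 S) := (S.comm _ _).trans (e6_75 S)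
theorem e3_39 : S.op (t3 S) (t39 S) = (t75 S) := ((congrArg (S.op (t6 S)) (e0_72 S)).symm.trans ((S.dist (t6 S) (t0 S) (t72 S)).trans (congrArg₂ S.op (e6_0 S) (e6_72 S)))).symm.trans (e6_36 S)
theorem e39_3 : S.op (t39 S) (t3 S) = (t75 S) := (S.comm _ _).trans (e3_39 S)
theorem e3_75 : S.op (t3 S) (t75 S) = (t39 S) := (congrArg (S.op (t3 S)) (e3_39 S)).symm.trans (S.invol (t3 S) (t39 S))
theorem e75_3 : S.op (t75 S) (t3 S) = (t39 S) := (S.comm _ _).trans (e3_75 S)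
theorem e0_39 : S.op (t0 S) (t39 S) = (t78 S) := ((congrArg (S.op (t6 S)) (e3_72 S)).symm.trans ((S.dist (t6 S) (t3 S) (t72 S)).trans (congrArg₂ S.op (e6_3 S) (e6_72 S)))).symm.trans (e6_42 S)
theorem e39_0 : S.op (t39 S) (t0 S) = (t78 S) := (S.comm _ _).trans (e0_39 S)
theorem e0_78 : S.op (t0 S) (t78 S) = (t39 S) := (congrArg (S.op (t0 S)) (e0_39 S)).symm.trans (S.invol (t0 S) (t39 S))
theorem e78_0 : S.op (t78 S) (t0 S) = (t39 S) := (S.comm _ _).trans (e0_78 S)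
theorem e18_49 : S.op (t18 S) (t49 S) = (t79 S) := ((congrArg (S.op (t9 S)) (e0_60 S)).symm.trans ((S.dist (t9 S) (t0 S) (t60 S)).trans (congrArg₂ S.op (e9_0 S) (e9_60 S)))).symm.trans (e9_30 S)
theorem e49_18 : S.op (t49 S) (t18 S) = (t79 S) := (S.comm _ _).trans (e18_49 S)
theorem e60_71 : S.op (t60 S) (t71 S) = (t79 S) := ((congrArg (S.op (t49 S)) (e9_0 S)).symm.trans ((S.dist (t49 S) (t9 S) (t0 S)).trans (congrArg₂ S.op (e49_9 S) (e49_0 S)))).symm.trans (e49_18 S)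
theorem e60_79 : S.op (t60 S) (t79 S) = (t71 S) := (congrArg (S.op (t60 S)) (e60_71 S)).symm.trans (S.invol (t60 S) (t71 S))
theorem e79_60 : S.op (t79 S) (t60 S) = (t71 S) := (S.comm _ _).trans (e60_79 S)
theorem e30_18 : S.op (t30 S) (t18 S) = (t71 S) := ((congrArg (S.op (t30 S)) (e9_0 S)).symm.trans ((S.dist (t30 S) (t9 S) (t0 S)).trans (congrArg₂ S.op (e30_9 S) (e30_0 S)))).trans (e79_60 S)
theorem e18_30 : S.op (t18 S) (t30 S) = (t71 S) := (S.comm _ _).trans (e30_18 S)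
theorem e18_71 : S.op (t18 S) (t71 S) = (t30 S) := (congrArg (S.op (t18 S)) (e18_30 S)).symm.trans (S.invol (t18 S) (t30 S))
theorem e71_18 : S.op (t71 S) (t18 S) = (t30 S) := (S.comm _ _).trans (e18_71 S)
theorem e9_41 : S.op (t9 S) (t41 S) = (t71 S) := ((congrArg (S.op (t18 S)) (e0_60 S)).symm.trans ((S.dist (t18 S) (t0 S) (t60 S)).trans (congrArg₂ S.op (e18_0 S) (e18_60 S)))).symm.trans (e18_30 S)
theorem e41_9 : S.op (t41 S) (t9 S) = (t71 S) := (S.comm _ _).trans (e9_41 S)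
theorem e9_71 : S.op (t9 S) (t71 S) = (t41 S) := (congrArg (S.op (t9 S)) (e9_41 S)).symm.trans (S.invol (t9 S) (t41 S))
theorem e71_9 : S.op (t71 S) (t9 S) = (t41 S) := (S.comm _ _).trans (e9_71 S)
theorem e0_41 : S.op (t0 S) (t41 S) = (t79 S) := ((congrArg (S.op (t18 S)) (e9_60 S)).symm.trans ((S.dist (t18 S) (t9 S) (t60 S)).trans (congrArg₂ S.op (e18_9 S) (e18_60 S)))).symm.trans (e18_49 S)
theorem e41_0 : S.op (t41 S) (t0 S) = (t79 S) := (S.comm _ _).trans (e0_41 S)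
theorem e0_79 : S.op (t0 S) (t79 S) = (t41 S) := (congrArg (S.op (t0 S)) (e0_41 S)).symm.trans (S.invol (t0 S) (t41 S))
theorem e79_0 : S.op (t79 S) (t0 S) = (t41 S) := (S.comm _ _).trans (e0_79 S)
theorem e54_68 : S.op (t54 S) (t68 S) = (t80 S) := ((congrArg (S.op (t27 S)) (e0_24 S)).symm.trans ((S.dist (t27 S) (t0 S) (t24 S)).trans (congrArg₂ S.op (e27_0 S) (e27_24 S)))).symm.trans (e27_12 S)
theorem e68_54 : S.op (t68 S) (t54 S) = (t80 S) := (S.comm _ _).trans (e54_68 S)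
theorem e24_52 : S.op (t24 S) (t52 S) = (t80 S) := ((congrArg (S.op (t68 S)) (e27_0 S)).symm.trans ((S.dist (t68 S) (t27 S) (t0 S)).trans (congrArg₂ S.op (e68_27 S) (e68_0 S)))).symm.trans (e68_54 S)
theorem e24_80 : S.op (t24 S) (t80 S) = (t52 S) := (congrArg (S.op (t24 S)) (e24_52 S)).symm.trans (S.invol (t24 S) (t52 S))
theorem e80_24 : S.op (t80 S) (t24 S) = (t52 S) := (S.comm _ _).trans (e24_80 S)
theorem e12_54 : S.op (t12 S) (t54 S) = (t52 S) := ((congrArg (S.op (t12 S)) (e27_0 S)).symm.trans ((S.dist (t12 S) (t27 S) (t0 S)).trans (congrArg₂ S.op (e12_27 S) (e12_0 S)))).trans (e80_24 S)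
theorem e54_12 : S.op (t54 S) (t12 S) = (t52 S) := (S.comm _ _).trans (e12_54 S)
theorem e54_52 : S.op (t54 S) (t52 S) = (t12 S) := (congrArg (S.op (t54 S)) (e54_12 S)).symm.trans (S.invol (t54 S) (t12 S))
theorem e52_54 : S.op (t52 S) (t54 S) = (t12 S) := (S.comm _ _).trans (e54_52 S)
theorem e27_40 : S.op (t27 S) (t40 S) = (t52 S) := ((congrArg (S.op (t54 S)) (e0_24 S)).symm.trans ((S.dist (t54 S) (t0 S) (t24 S)).trans (congrArg₂ S.op (e54_0 S) (e54_24 S)))).symm.trans (e54_12 S)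
theorem e40_27 : S.op (t40 S) (t27 S) = (t52 S) := (S.comm _ _).trans (e27_40 S)
theorem e27_52 : S.op (t27 S) (t52 S) = (t40 S) := (congrArg (S.op (t27 S)) (e27_40 S)).symm.trans (S.invol (t27 S) (t40 S))
theorem e52_27 : S.op (t52 S) (t27 S) = (t40 S) := (S.comm _ _).trans (e27_52 S)
theorem e80_0 : S.op (t80 S) (t0 S) = (t40 S) := ((congrArg (S.op (t12 S)) (e27_24 S)).symm.trans ((S.dist (t12 S) (t27 S) (t24 S)).trans (congrArg₂ S.op (e12_27 S) (e12_24 S)))).symm.trans (e12_68 S)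
theorem e0_80 : S.op (t0 S) (t80 S) = (t40 S) := (S.comm _ _).trans (e80_0 S)
theorem e0_40 : S.op (t0 S) (t40 S) = (t80 S) := (congrArg (S.op (t0 S)) (e0_80 S)).symm.trans (S.invol (t0 S) (t80 S))
theorem e40_0 : S.op (t40 S) (t0 S) = (t80 S) := (S.comm _ _).trans (e0_40 S)
theorem e6_63 : S.op (t6 S) (t63 S) = (t48 S) := ((congrArg (S.op (t0 S)) (e3_45 S)).symm.trans ((S.dist (t0 S) (t3 S) (t45 S)).trans (congrArg₂ S.op (e0_3 S) (e0_45 S)))).symm.trans (e0_69 S)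
theorem e63_6 : S.op (t63 S) (t6 S) = (t48 S) := (S.comm _ _).trans (e6_63 S)
theorem e6_48 : S.op (t6 S) (t48 S) = (t63 S) := (congrArg (S.op (t6 S)) (e6_63 S)).symm.trans (S.invol (t6 S) (t63 S))
theorem e48_6 : S.op (t48 S) (t6 S) = (t63 S) := (S.comm _ _).trans (e6_48 S)
theorem e51_45 : S.op (t51 S) (t45 S) = (t48 S) := ((congrArg (S.op (t63 S)) (e3_0 S)).symm.trans ((S.dist (t63 S) (t3 S) (t0 S)).trans (congrArg₂ S.op (e63_3 S) (e63_0 S)))).symm.trans (e63_6 S)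
theorem e45_51 : S.op (t45 S) (t51 S) = (t48 S) := (S.comm _ _).trans (e51_45 S)
theorem e45_48 : S.op (t45 S) (t48 S) = (t51 S) := (congrArg (S.op (t45 S)) (e45_51 S)).symm.trans (S.invol (t45 S) (t51 S))
theorem e69_6 : S.op (t69 S) (t6 S) = (t51 S) := ((congrArg (S.op (t69 S)) (e3_0 S)).symm.trans ((S.dist (t69 S) (t3 S) (t0 S)).trans (congrArg₂ S.op (e69_3 S) (e69_0 S)))).trans (e45_48 S)
theorem e6_69 : S.op (t6 S) (t69 S) = (t51 S) := (S.comm _ _).trans (e69_6 S)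
theorem e6_51 : S.op (t6 S) (t51 S) = (t69 S) := (congrArg (S.op (t6 S)) (e6_69 S)).symm.trans (S.invol (t6 S) (t69 S))
theorem e51_6 : S.op (t51 S) (t6 S) = (t69 S) := (S.comm _ _).trans (e6_51 S)
theorem e63_66 : S.op (t63 S) (t66 S) = (t69 S) := ((congrArg (S.op (t51 S)) (e3_0 S)).symm.trans ((S.dist (t51 S) (t3 S) (t0 S)).trans (congrArg₂ S.op (e51_3 S) (e51_0 S)))).symm.trans (e51_6 S)
theorem e63_69 : S.op (t63 S) (t69 S) = (t66 S) := (congrArg (S.op (t63 S)) (e63_66 S)).symm.trans (S.invol (t63 S) (t66 S))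
theorem e69_63 : S.op (t69 S) (t63 S) = (t66 S) := (S.comm _ _).trans (e63_69 S)
theorem e45_6 : S.op (t45 S) (t6 S) = (t66 S) := ((congrArg (S.op (t45 S)) (e3_0 S)).symm.trans ((S.dist (t45 S) (t3 S) (t0 S)).trans (congrArg₂ S.op (e45_3 S) (e45_0 S)))).trans (e69_63 S)
theorem e6_45 : S.op (t6 S) (t45 S) = (t66 S) := (S.comm _ _).trans (e45_6 S)
theorem e6_66 : S.op (t6 S) (t66 S) = (t45 S) := (congrArg (S.op (t6 S)) (e6_45 S)).symm.trans (S.invol (t6 S) (t45 S))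
theorem e66_6 : S.op (t66 S) (t6 S) = (t45 S) := (S.comm _ _).trans (e6_66 S)
theorem e21_30 : S.op (t21 S) (t30 S) = (t66 S) := ((congrArg (S.op (t6 S)) (e9_54 S)).symm.trans ((S.dist (t6 S) (t9 S) (t54 S)).trans (congrArg₂ S.op (e6_9 S) (e6_54 S)))).symm.trans (e6_45 S)
theorem e30_21 : S.op (t30 S) (t21 S) = (t66 S) := (S.comm _ _).trans (e21_30 S)
theorem e21_66 : S.op (t21 S) (t66 S) = (t30 S) := (congrArg (S.op (t21 S)) (e21_30 S)).symm.trans (S.invol (t21 S) (t30 S))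
theorem e30_66 : S.op (t30 S) (t66 S) = (t21 S) := (congrArg (S.op (t30 S)) (e30_21 S)).symm.trans (S.invol (t30 S) (t21 S))
theorem e66_21 : S.op (t66 S) (t21 S) = (t30 S) := (S.comm _ _).trans (e21_66 S)
theorem e57_12 : S.op (t57 S) (t12 S) = (t48 S) := ((congrArg (S.op (t6 S)) (e27_18 S)).symm.trans ((S.dist (t6 S) (t27 S) (t18 S)).trans (congrArg₂ S.op (e6_27 S) (e6_18 S)))).symm.trans (e6_63 S)
theorem e12_57 : S.op (t12 S) (t57 S) = (t48 S) := (S.comm _ _).trans (e57_12 S)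
theorem e12_48 : S.op (t12 S) (t48 S) = (t57 S) := (congrArg (S.op (t12 S)) (e12_57 S)).symm.trans (S.invol (t12 S) (t57 S))
theorem e80_18 : S.op (t80 S) (t18 S) = (t48 S) := ((congrArg (S.op (t12 S)) (e27_6 S)).symm.trans ((S.dist (t12 S) (t27 S) (t6 S)).trans (congrArg₂ S.op (e12_27 S) (e12_6 S)))).symm.trans (e12_57 S)
theorem e18_80 : S.op (t18 S) (t80 S) = (t48 S) := (S.comm _ _).trans (e80_18 S)
theorem e18_48 : S.op (t18 S) (t48 S) = (t80 S) := (congrArg (S.op (t18 S)) (e18_80 S)).symm.trans (S.invol (t18 S) (t80 S))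
theorem e48_18 : S.op (t48 S) (t18 S) = (t80 S) := (S.comm _ _).trans (e18_48 S)
theorem e61_69 : S.op (t61 S) (t69 S) = (t80 S) := ((congrArg (S.op (t48 S)) (e9_0 S)).symm.trans ((S.dist (t48 S) (t9 S) (t0 S)).trans (congrArg₂ S.op (e48_9 S) (e48_0 S)))).symm.trans (e48_18 S)
theorem e69_61 : S.op (t69 S) (t61 S) = (t80 S) := (S.comm _ _).trans (e61_69 S)
theorem e69_80 : S.op (t69 S) (t80 S) = (t61 S) := (congrArg (S.op (t69 S)) (e69_61 S)).symm.trans (S.invol (t69 S) (t61 S))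
theorem e40_18 : S.op (t40 S) (t18 S) = (t61 S) := ((congrArg (S.op (t40 S)) (e9_0 S)).symm.trans ((S.dist (t40 S) (t9 S) (t0 S)).trans (congrArg₂ S.op (e40_9 S) (e40_0 S)))).trans (e69_80 S)
theorem e18_40 : S.op (t18 S) (t40 S) = (t61 S) := (S.comm _ _).trans (e40_18 S)
theorem e18_61 : S.op (t18 S) (t61 S) = (t40 S) := (congrArg (S.op (t18 S)) (e18_40 S)).symm.trans (S.invol (t18 S) (t40 S))
theorem e61_18 : S.op (t61 S) (t18 S) = (t40 S) := (S.comm _ _).trans (e18_61 S)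
theorem e32_40 : S.op (t32 S) (t40 S) = (t48 S) := ((congrArg (S.op (t80 S)) (e9_0 S)).symm.trans ((S.dist (t80 S) (t9 S) (t0 S)).trans (congrArg₂ S.op (e80_9 S) (e80_0 S)))).symm.trans (e80_18 S)
theorem e40_32 : S.op (t40 S) (t32 S) = (t48 S) := (S.comm _ _).trans (e32_40 S)
theorem e40_48 : S.op (t40 S) (t48 S) = (t32 S) := (congrArg (S.op (t40 S)) (e40_32 S)).symm.trans (S.invol (t40 S) (t32 S))
theorem e69_18 : S.op (t69 S) (t18 S) = (t32 S) := ((congrArg (S.op (t69 S)) (e9_0 S)).symm.trans ((S.dist (t69 S) (t9 S) (t0 S)).trans (congrArg₂ S.op (e69_9 S) (e69_0 S)))).trans (e40_48 S)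
theorem e18_69 : S.op (t18 S) (t69 S) = (t32 S) := (S.comm _ _).trans (e69_18 S)
theorem e80_63 : S.op (t80 S) (t63 S) = (t57 S) := ((congrArg (S.op (t80 S)) (e27_18 S)).symm.trans ((S.dist (t80 S) (t27 S) (t18 S)).trans (congrArg₂ S.op (e80_27 S) (e80_18 S)))).trans (e12_48 S)
theorem e63_80 : S.op (t63 S) (t80 S) = (t57 S) := (S.comm _ _).trans (e80_63 S)
theorem e63_57 : S.op (t63 S) (t57 S) = (t80 S) := (congrArg (S.op (t63 S)) (e63_80 S)).symm.trans (S.invol (t63 S) (t80 S))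
theorem e57_63 : S.op (t57 S) (t63 S) = (t80 S) := (S.comm _ _).trans (e63_57 S)
theorem e79_54 : S.op (t79 S) (t54 S) = (t66 S) := ((congrArg (S.op (t30 S)) (e9_6 S)).symm.trans ((S.dist (t30 S) (t9 S) (t6 S)).trans (congrArg₂ S.op (e30_9 S) (e30_6 S)))).symm.trans (e30_21 S)
theorem e54_79 : S.op (t54 S) (t79 S) = (t66 S) := (S.comm _ _).trans (e79_54 S)
theorem e54_66 : S.op (t54 S) (t66 S) = (t79 S) := (congrArg (S.op (t54 S)) (e54_79 S)).symm.trans (S.invol (t54 S) (t79 S))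
theorem e66_54 : S.op (t66 S) (t54 S) = (t79 S) := (S.comm _ _).trans (e54_66 S)
theorem e26_51 : S.op (t26 S) (t51 S) = (t79 S) := ((congrArg (S.op (t66 S)) (e27_0 S)).symm.trans ((S.dist (t66 S) (t27 S) (t0 S)).trans (congrArg₂ S.op (e66_27 S) (e66_0 S)))).symm.trans (e66_54 S)
theorem e51_26 : S.op (t51 S) (t26 S) = (t79 S) := (S.comm _ _).trans (e26_51 S)
theorem e51_79 : S.op (t51 S) (t79 S) = (t26 S) := (congrArg (S.op (t51 S)) (e51_26 S)).symm.trans (S.invol (t51 S) (t26 S))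
theorem e79_51 : S.op (t79 S) (t51 S) = (t26 S) := (S.comm _ _).trans (e51_79 S)
theorem e41_54 : S.op (t41 S) (t54 S) = (t26 S) := ((congrArg (S.op (t41 S)) (e27_0 S)).symm.trans ((S.dist (t41 S) (t27 S) (t0 S)).trans (congrArg₂ S.op (e41_27 S) (e41_0 S)))).trans (e51_79 S)
theorem e54_41 : S.op (t54 S) (t41 S) = (t26 S) := (S.comm _ _).trans (e41_54 S)
theorem e13_41 : S.op (t13 S) (t41 S) = (t66 S) := ((congrArg (S.op (t79 S)) (e27_0 S)).symm.trans ((S.dist (t79 S) (t27 S) (t0 S)).trans (congrArg₂ S.op (e79_27 S) (e79_0 S)))).symm.trans (e79_54 S)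
theorem e41_13 : S.op (t41 S) (t13 S) = (t66 S) := (S.comm _ _).trans (e13_41 S)
theorem e41_66 : S.op (t41 S) (t66 S) = (t13 S) := (congrArg (S.op (t41 S)) (e41_13 S)).symm.trans (S.invol (t41 S) (t13 S))
theorem e51_54 : S.op (t51 S) (t54 S) = (t13 S) := ((congrArg (S.op (t51 S)) (e27_0 S)).symm.trans ((S.dist (t51 S) (t27 S) (t0 S)).trans (congrArg₂ S.op (e51_27 S) (e51_0 S)))).trans (e41_66 S)
theorem e54_51 : S.op (t54 S) (t51 S) = (t13 S) := (S.comm _ _).trans (e51_54 S)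
theorem e79_45 : S.op (t79 S) (t45 S) = (t21 S) := ((congrArg (S.op (t79 S)) (e9_54 S)).symm.trans ((S.dist (t79 S) (t9 S) (t54 S)).trans (congrArg₂ S.op (e79_9 S) (e79_54 S)))).trans (e30_66 S)
theorem e45_79 : S.op (t45 S) (t79 S) = (t21 S) := (S.comm _ _).trans (e79_45 S)
theorem e45_21 : S.op (t45 S) (t21 S) = (t79 S) := (congrArg (S.op (t45 S)) (e45_79 S)).symm.trans (S.invol (t45 S) (t79 S))
theorem e21_45 : S.op (t21 S) (t45 S) = (t79 S) := (S.comm _ _).trans (e45_21 S)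
theorem e45_42 : S.op (t45 S) (t42 S) = (t32 S) := ((congrArg (S.op (t45 S)) (e3_72 S)).symm.trans ((S.dist (t45 S) (t3 S) (t72 S)).trans (congrArg₂ S.op (e45_3 S) (e45_72 S)))).trans (e69_18 S)
theorem e42_45 : S.op (t42 S) (t45 S) = (t32 S) := (S.comm _ _).trans (e45_42 S)
theorem e45_32 : S.op (t45 S) (t32 S) = (t42 S) := (congrArg (S.op (t45 S)) (e45_42 S)).symm.trans (S.invol (t45 S) (t42 S))
theorem e69_15 : S.op (t69 S) (t15 S) = (t42 S) := ((congrArg (S.op (t69 S)) (e3_18 S)).symm.trans ((S.dist (t69 S) (t3 S) (t18 S)).trans (congrArg₂ S.op (e69_3 S) (e69_18 S)))).trans (e45_32 S)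
theorem e15_69 : S.op (t15 S) (t69 S) = (t42 S) := (S.comm _ _).trans (e69_15 S)
theorem e69_42 : S.op (t69 S) (t42 S) = (t15 S) := (congrArg (S.op (t69 S)) (e69_15 S)).symm.trans (S.invol (t69 S) (t15 S))
theorem e15_42 : S.op (t15 S) (t42 S) = (t69 S) := (congrArg (S.op (t15 S)) (e15_69 S)).symm.trans (S.invol (t15 S) (t69 S))
theorem e42_69 : S.op (t42 S) (t69 S) = (t15 S) := (S.comm _ _).trans (e69_42 S)
theorem e42_15 : S.op (t42 S) (t15 S) = (t69 S) := (S.comm _ _).trans (e15_42 S)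
theorem e72_15 : S.op (t72 S) (t15 S) = (t32 S) := ((congrArg (S.op (t72 S)) (e3_18 S)).symm.trans ((S.dist (t72 S) (t3 S) (t18 S)).trans (congrArg₂ S.op (e72_3 S) (e72_18 S)))).trans (e42_45 S)
theorem e15_72 : S.op (t15 S) (t72 S) = (t32 S) := (S.comm _ _).trans (e72_15 S)
theorem e12_76 : S.op (t12 S) (t76 S) = (t32 S) := ((congrArg (S.op (t15 S)) (e9_27 S)).symm.trans ((S.dist (t15 S) (t9 S) (t27 S)).trans (congrArg₂ S.op (e15_9 S) (e15_27 S)))).symm.trans (e15_72 S)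
theorem e12_32 : S.op (t12 S) (t32 S) = (t76 S) := (congrArg (S.op (t12 S)) (e12_76 S)).symm.trans (S.invol (t12 S) (t76 S))
theorem e32_12 : S.op (t32 S) (t12 S) = (t76 S) := (S.comm _ _).trans (e12_32 S)
theorem e80_72 : S.op (t80 S) (t72 S) = (t76 S) := ((congrArg (S.op (t80 S)) (e9_27 S)).symm.trans ((S.dist (t80 S) (t9 S) (t27 S)).trans (congrArg₂ S.op (e80_9 S) (e80_27 S)))).trans (e32_12 S)
theorem e72_80 : S.op (t72 S) (t80 S) = (t76 S) := (S.comm _ _).trans (e80_72 S)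
theorem e72_76 : S.op (t72 S) (t76 S) = (t80 S) := (congrArg (S.op (t72 S)) (e72_80 S)).symm.trans (S.invol (t72 S) (t80 S))
theorem e76_72 : S.op (t76 S) (t72 S) = (t80 S) := (S.comm _ _).trans (e72_76 S)
theorem e34_15 : S.op (t34 S) (t15 S) = (t80 S) := ((congrArg (S.op (t76 S)) (e9_27 S)).symm.trans ((S.dist (t76 S) (t9 S) (t27 S)).trans (congrArg₂ S.op (e76_9 S) (e76_27 S)))).symm.trans (e76_72 S)
theorem e15_34 : S.op (t15 S) (t34 S) = (t80 S) := (S.comm _ _).trans (e34_15 S)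
theorem e15_80 : S.op (t15 S) (t80 S) = (t34 S) := (congrArg (S.op (t15 S)) (e15_34 S)).symm.trans (S.invol (t15 S) (t34 S))
theorem e12_72 : S.op (t12 S) (t72 S) = (t34 S) := ((congrArg (S.op (t12 S)) (e9_27 S)).symm.trans ((S.dist (t12 S) (t9 S) (t27 S)).trans (congrArg₂ S.op (e12_9 S) (e12_27 S)))).trans (e15_80 S)
theorem e72_12 : S.op (t72 S) (t12 S) = (t34 S) := (S.comm _ _).trans (e12_72 S)
theorem e72_34 : S.op (t72 S) (t34 S) = (t12 S) := (congrArg (S.op (t72 S)) (e72_12 S)).symm.trans (S.invol (t72 S) (t12 S))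
theorem e34_72 : S.op (t34 S) (t72 S) = (t12 S) := (S.comm _ _).trans (e72_34 S)
theorem e63_42 : S.op (t63 S) (t42 S) = (t13 S) := ((congrArg (S.op (t63 S)) (e3_72 S)).symm.trans ((S.dist (t63 S) (t3 S) (t72 S)).trans (congrArg₂ S.op (e63_3 S) (e63_72 S)))).trans (e51_54 S)
theorem e42_63 : S.op (t42 S) (t63 S) = (t13 S) := (S.comm _ _).trans (e63_42 S)
theorem e63_13 : S.op (t63 S) (t13 S) = (t42 S) := (congrArg (S.op (t63 S)) (e63_42 S)).symm.trans (S.invol (t63 S) (t42 S))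
theorem e51_33 : S.op (t51 S) (t33 S) = (t42 S) := ((congrArg (S.op (t51 S)) (e3_54 S)).symm.trans ((S.dist (t51 S) (t3 S) (t54 S)).trans (congrArg₂ S.op (e51_3 S) (e51_54 S)))).trans (e63_13 S)
theorem e33_51 : S.op (t33 S) (t51 S) = (t42 S) := (S.comm _ _).trans (e51_33 S)
theorem e33_42 : S.op (t33 S) (t42 S) = (t51 S) := (congrArg (S.op (t33 S)) (e33_51 S)).symm.trans (S.invol (t33 S) (t51 S))
theorem e42_33 : S.op (t42 S) (t33 S) = (t51 S) := (S.comm _ _).trans (e33_42 S)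
theorem e72_33 : S.op (t72 S) (t33 S) = (t13 S) := ((congrArg (S.op (t72 S)) (e3_54 S)).symm.trans ((S.dist (t72 S) (t3 S) (t54 S)).trans (congrArg₂ S.op (e72_3 S) (e72_54 S)))).trans (e42_63 S)
theorem e33_72 : S.op (t33 S) (t72 S) = (t13 S) := (S.comm _ _).trans (e72_33 S)
theorem e77_30 : S.op (t77 S) (t30 S) = (t13 S) := ((congrArg (S.op (t33 S)) (e9_27 S)).symm.trans ((S.dist (t33 S) (t9 S) (t27 S)).trans (congrArg₂ S.op (e33_9 S) (e33_27 S)))).symm.trans (e33_72 S)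
theorem e30_77 : S.op (t30 S) (t77 S) = (t13 S) := (S.comm _ _).trans (e77_30 S)
theorem e30_13 : S.op (t30 S) (t13 S) = (t77 S) := (congrArg (S.op (t30 S)) (e30_77 S)).symm.trans (S.invol (t30 S) (t77 S))
theorem e79_72 : S.op (t79 S) (t72 S) = (t77 S) := ((congrArg (S.op (t79 S)) (e9_27 S)).symm.trans ((S.dist (t79 S) (t9 S) (t27 S)).trans (congrArg₂ S.op (e79_9 S) (e79_27 S)))).trans (e30_13 S)
theorem e72_79 : S.op (t72 S) (t79 S) = (t77 S) := (S.comm _ _).trans (e79_72 S)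
theorem e72_77 : S.op (t72 S) (t77 S) = (t79 S) := (congrArg (S.op (t72 S)) (e72_79 S)).symm.trans (S.invol (t72 S) (t79 S))
theorem e77_72 : S.op (t77 S) (t72 S) = (t79 S) := (S.comm _ _).trans (e72_77 S)
theorem e33_17 : S.op (t33 S) (t17 S) = (t79 S) := ((congrArg (S.op (t77 S)) (e9_27 S)).symm.trans ((S.dist (t77 S) (t9 S) (t27 S)).trans (congrArg₂ S.op (e77_9 S) (e77_27 S)))).symm.trans (e77_72 S)
theorem e33_79 : S.op (t33 S) (t79 S) = (t17 S) := (congrArg (S.op (t33 S)) (e33_17 S)).symm.trans (S.invol (t33 S) (t17 S))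
theorem e79_33 : S.op (t79 S) (t33 S) = (t17 S) := (S.comm _ _).trans (e33_79 S)
theorem e30_72 : S.op (t30 S) (t72 S) = (t17 S) := ((congrArg (S.op (t30 S)) (e9_27 S)).symm.trans ((S.dist (t30 S) (t9 S) (t27 S)).trans (congrArg₂ S.op (e30_9 S) (e30_27 S)))).trans (e79_33 S)
theorem e72_30 : S.op (t72 S) (t30 S) = (t17 S) := (S.comm _ _).trans (e30_72 S)
theorem e72_17 : S.op (t72 S) (t17 S) = (t30 S) := (congrArg (S.op (t72 S)) (e72_30 S)).symm.trans (S.invol (t72 S) (t30 S))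
theorem e17_72 : S.op (t17 S) (t72 S) = (t30 S) := (S.comm _ _).trans (e72_17 S)
theorem e36_68 : S.op (t36 S) (t68 S) = (t17 S) := ((congrArg (S.op (t72 S)) (e0_60 S)).symm.trans ((S.dist (t72 S) (t0 S) (t60 S)).trans (congrArg₂ S.op (e72_0 S) (e72_60 S)))).symm.trans (e72_30 S)
theorem e68_36 : S.op (t68 S) (t36 S) = (t17 S) := (S.comm _ _).trans (e36_68 S)
theorem e52_60 : S.op (t52 S) (t60 S) = (t17 S) := ((congrArg (S.op (t68 S)) (e0_72 S)).symm.trans ((S.dist (t68 S) (t0 S) (t72 S)).trans (congrArg₂ S.op (e68_0 S) (e68_72 S)))).symm.trans (e68_36 S)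
theorem e60_52 : S.op (t60 S) (t52 S) = (t17 S) := (S.comm _ _).trans (e52_60 S)
theorem e60_17 : S.op (t60 S) (t17 S) = (t52 S) := (congrArg (S.op (t60 S)) (e60_52 S)).symm.trans (S.invol (t60 S) (t52 S))
theorem e17_60 : S.op (t17 S) (t60 S) = (t52 S) := (S.comm _ _).trans (e60_17 S)
theorem e19_77 : S.op (t19 S) (t77 S) = (t52 S) := ((congrArg (S.op (t17 S)) (e3_27 S)).symm.trans ((S.dist (t17 S) (t3 S) (t27 S)).trans (congrArg₂ S.op (e17_3 S) (e17_27 S)))).symm.trans (e17_60 S)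
theorem e77_19 : S.op (t77 S) (t19 S) = (t52 S) := (S.comm _ _).trans (e19_77 S)
theorem e19_52 : S.op (t19 S) (t52 S) = (t77 S) := (congrArg (S.op (t19 S)) (e19_77 S)).symm.trans (S.invol (t19 S) (t77 S))
theorem e77_52 : S.op (t77 S) (t52 S) = (t19 S) := (congrArg (S.op (t77 S)) (e77_19 S)).symm.trans (S.invol (t77 S) (t19 S))
theorem e40_60 : S.op (t40 S) (t60 S) = (t19 S) := ((congrArg (S.op (t40 S)) (e3_27 S)).symm.trans ((S.dist (t40 S) (t3 S) (t27 S)).trans (congrArg₂ S.op (e40_3 S) (e40_27 S)))).trans (e77_52 S)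
theorem e60_40 : S.op (t60 S) (t40 S) = (t19 S) := (S.comm _ _).trans (e40_60 S)
theorem e40_19 : S.op (t40 S) (t19 S) = (t60 S) := (congrArg (S.op (t40 S)) (e40_60 S)).symm.trans (S.invol (t40 S) (t60 S))
theorem e60_19 : S.op (t60 S) (t19 S) = (t40 S) := (congrArg (S.op (t60 S)) (e60_40 S)).symm.trans (S.invol (t60 S) (t40 S))
theorem e19_40 : S.op (t19 S) (t40 S) = (t60 S) := (S.comm _ _).trans (e40_19 S)
theorem e19_60 : S.op (t19 S) (t60 S) = (t40 S) := (S.comm _ _).trans (e60_19 S)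
theorem e65_40 : S.op (t65 S) (t40 S) = (t17 S) := ((congrArg (S.op (t52 S)) (e3_27 S)).symm.trans ((S.dist (t52 S) (t3 S) (t27 S)).trans (congrArg₂ S.op (e52_3 S) (e52_27 S)))).symm.trans (e52_60 S)
theorem e40_65 : S.op (t40 S) (t65 S) = (t17 S) := (S.comm _ _).trans (e65_40 S)
theorem e40_17 : S.op (t40 S) (t17 S) = (t65 S) := (congrArg (S.op (t40 S)) (e40_65 S)).symm.trans (S.invol (t40 S) (t65 S))
theorem e77_60 : S.op (t77 S) (t60 S) = (t65 S) := ((congrArg (S.op (t77 S)) (e3_27 S)).symm.trans ((S.dist (t77 S) (t3 S) (t27 S)).trans (congrArg₂ S.op (e77_3 S) (e77_27 S)))).trans (e40_17 S)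
theorem e60_77 : S.op (t60 S) (t77 S) = (t65 S) := (S.comm _ _).trans (e77_60 S)
theorem e60_65 : S.op (t60 S) (t65 S) = (t77 S) := (congrArg (S.op (t60 S)) (e60_77 S)).symm.trans (S.invol (t60 S) (t77 S))
theorem e33_21 : S.op (t33 S) (t21 S) = (t65 S) := ((congrArg (S.op (t33 S)) (e9_6 S)).symm.trans ((S.dist (t33 S) (t9 S) (t6 S)).trans (congrArg₂ S.op (e33_9 S) (e33_6 S)))).trans (e77_60 S)
theorem e21_33 : S.op (t21 S) (t33 S) = (t65 S) := (S.comm _ _).trans (e33_21 S)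
theorem e30_36 : S.op (t30 S) (t36 S) = (t52 S) := ((congrArg (S.op (t30 S)) (e0_72 S)).symm.trans ((S.dist (t30 S) (t0 S) (t72 S)).trans (congrArg₂ S.op (e30_0 S) (e30_72 S)))).trans (e60_17 S)
theorem e36_30 : S.op (t36 S) (t30 S) = (t52 S) := (S.comm _ _).trans (e30_36 S)
theorem e6_49 : S.op (t6 S) (t49 S) = (t65 S) := ((congrArg (S.op (t6 S)) (e9_60 S)).symm.trans ((S.dist (t6 S) (t9 S) (t60 S)).trans (congrArg₂ S.op (e6_9 S) (e6_60 S)))).trans (e21_33 S)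
theorem e49_6 : S.op (t49 S) (t6 S) = (t65 S) := (S.comm _ _).trans (e6_49 S)
theorem e68_71 : S.op (t68 S) (t71 S) = (t65 S) := ((congrArg (S.op (t49 S)) (e3_0 S)).symm.trans ((S.dist (t49 S) (t3 S) (t0 S)).trans (congrArg₂ S.op (e49_3 S) (e49_0 S)))).symm.trans (e49_6 S)
theorem e68_65 : S.op (t68 S) (t65 S) = (t71 S) := (congrArg (S.op (t68 S)) (e68_71 S)).symm.trans (S.invol (t68 S) (t71 S))
theorem e65_68 : S.op (t65 S) (t68 S) = (t71 S) := (S.comm _ _).trans (e68_65 S)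
theorem e52_6 : S.op (t52 S) (t6 S) = (t71 S) := ((congrArg (S.op (t52 S)) (e3_0 S)).symm.trans ((S.dist (t52 S) (t3 S) (t0 S)).trans (congrArg₂ S.op (e52_3 S) (e52_0 S)))).trans (e65_68 S)
theorem e6_52 : S.op (t6 S) (t52 S) = (t71 S) := (S.comm _ _).trans (e52_6 S)
theorem e6_71 : S.op (t6 S) (t71 S) = (t52 S) := (congrArg (S.op (t6 S)) (e6_52 S)).symm.trans (S.invol (t6 S) (t52 S))
theorem e71_6 : S.op (t71 S) (t6 S) = (t52 S) := (S.comm _ _).trans (e6_71 S)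
theorem e49_21 : S.op (t49 S) (t21 S) = (t77 S) := ((congrArg (S.op (t49 S)) (e9_6 S)).symm.trans ((S.dist (t49 S) (t9 S) (t6 S)).trans (congrArg₂ S.op (e49_9 S) (e49_6 S)))).trans (e60_65 S)
theorem e21_49 : S.op (t21 S) (t49 S) = (t77 S) := (S.comm _ _).trans (e49_21 S)
theorem e49_77 : S.op (t49 S) (t77 S) = (t21 S) := (congrArg (S.op (t49 S)) (e49_21 S)).symm.trans (S.invol (t49 S) (t21 S))
theorem e21_77 : S.op (t21 S) (t77 S) = (t49 S) := (congrArg (S.op (t21 S)) (e21_49 S)).symm.trans (S.invol (t21 S) (t49 S))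
theorem e77_21 : S.op (t77 S) (t21 S) = (t49 S) := (S.comm _ _).trans (e21_77 S)
theorem e36_49 : S.op (t36 S) (t49 S) = (t34 S) := ((congrArg (S.op (t72 S)) (e0_24 S)).symm.trans ((S.dist (t72 S) (t0 S) (t24 S)).trans (congrArg₂ S.op (e72_0 S) (e72_24 S)))).symm.trans (e72_12 S)
theorem e49_36 : S.op (t49 S) (t36 S) = (t34 S) := (S.comm _ _).trans (e36_49 S)
theorem e71_24 : S.op (t71 S) (t24 S) = (t34 S) := ((congrArg (S.op (t49 S)) (e0_72 S)).symm.trans ((S.dist (t49 S) (t0 S) (t72 S)).trans (congrArg₂ S.op (e49_0 S) (e49_72 S)))).symm.trans (e49_36 S)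
theorem e24_71 : S.op (t24 S) (t71 S) = (t34 S) := (S.comm _ _).trans (e71_24 S)
theorem e24_34 : S.op (t24 S) (t34 S) = (t71 S) := (congrArg (S.op (t24 S)) (e24_71 S)).symm.trans (S.invol (t24 S) (t71 S))
theorem e34_24 : S.op (t34 S) (t24 S) = (t71 S) := (S.comm _ _).trans (e24_34 S)
theorem e56_76 : S.op (t56 S) (t76 S) = (t71 S) := ((congrArg (S.op (t34 S)) (e3_9 S)).symm.trans ((S.dist (t34 S) (t3 S) (t9 S)).trans (congrArg₂ S.op (e34_3 S) (e34_9 S)))).symm.trans (e34_24 S)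
theorem e76_56 : S.op (t76 S) (t56 S) = (t71 S) := (S.comm _ _).trans (e56_76 S)
theorem e76_71 : S.op (t76 S) (t71 S) = (t56 S) := (congrArg (S.op (t76 S)) (e76_56 S)).symm.trans (S.invol (t76 S) (t56 S))
theorem e41_24 : S.op (t41 S) (t24 S) = (t56 S) := ((congrArg (S.op (t41 S)) (e3_9 S)).symm.trans ((S.dist (t41 S) (t3 S) (t9 S)).trans (congrArg₂ S.op (e41_3 S) (e41_9 S)))).trans (e76_71 S)
theorem e24_41 : S.op (t24 S) (t41 S) = (t56 S) := (S.comm _ _).trans (e41_24 S)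
theorem e46_41 : S.op (t46 S) (t41 S) = (t34 S) := ((congrArg (S.op (t71 S)) (e3_9 S)).symm.trans ((S.dist (t71 S) (t3 S) (t9 S)).trans (congrArg₂ S.op (e71_3 S) (e71_9 S)))).symm.trans (e71_24 S)
theorem e41_46 : S.op (t41 S) (t46 S) = (t34 S) := (S.comm _ _).trans (e46_41 S)
theorem e41_34 : S.op (t41 S) (t34 S) = (t46 S) := (congrArg (S.op (t41 S)) (e41_46 S)).symm.trans (S.invol (t41 S) (t46 S))
theorem e76_24 : S.op (t76 S) (t24 S) = (t46 S) := ((congrArg (S.op (t76 S)) (e3_9 S)).symm.trans ((S.dist (t76 S) (t3 S) (t9 S)).trans (congrArg₂ S.op (e76_3 S) (e76_9 S)))).trans (e41_34 S)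
theorem e15_57 : S.op (t15 S) (t57 S) = (t46 S) := ((congrArg (S.op (t15 S)) (e27_6 S)).symm.trans ((S.dist (t15 S) (t27 S) (t6 S)).trans (congrArg₂ S.op (e15_27 S) (e15_6 S)))).trans (e76_24 S)
theorem e57_15 : S.op (t57 S) (t15 S) = (t46 S) := (S.comm _ _).trans (e15_57 S)
theorem e12_36 : S.op (t12 S) (t36 S) = (t71 S) := ((congrArg (S.op (t12 S)) (e0_72 S)).symm.trans ((S.dist (t12 S) (t0 S) (t72 S)).trans (congrArg₂ S.op (e12_0 S) (e12_72 S)))).trans (e24_34 S)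
theorem e36_12 : S.op (t36 S) (t12 S) = (t71 S) := (S.comm _ _).trans (e12_36 S)
theorem e60_36 : S.op (t60 S) (t36 S) = (t22 S) := ((congrArg (S.op (t27 S)) (e3_45 S)).symm.trans ((S.dist (t27 S) (t3 S) (t45 S)).trans (congrArg₂ S.op (e27_3 S) (e27_45 S)))).symm.trans (e27_69 S)
theorem e36_60 : S.op (t36 S) (t60 S) = (t22 S) := (S.comm _ _).trans (e60_36 S)
theorem e60_22 : S.op (t60 S) (t22 S) = (t36 S) := (congrArg (S.op (t60 S)) (e60_36 S)).symm.trans (S.invol (t60 S) (t36 S))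
theorem e36_22 : S.op (t36 S) (t22 S) = (t60 S) := (congrArg (S.op (t36 S)) (e36_60 S)).symm.trans (S.invol (t36 S) (t60 S))
theorem e22_60 : S.op (t22 S) (t60 S) = (t36 S) := (S.comm _ _).trans (e60_22 S)
theorem e22_36 : S.op (t22 S) (t36 S) = (t60 S) := (S.comm _ _).trans (e36_22 S)
theorem e78_45 : S.op (t78 S) (t45 S) = (t22 S) := ((congrArg (S.op (t36 S)) (e3_27 S)).symm.trans ((S.dist (t36 S) (t3 S) (t27 S)).trans (congrArg₂ S.op (e36_3 S) (e36_27 S)))).symm.trans (e36_60 S)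
theorem e45_78 : S.op (t45 S) (t78 S) = (t22 S) := (S.comm _ _).trans (e78_45 S)
theorem e45_22 : S.op (t45 S) (t22 S) = (t78 S) := (congrArg (S.op (t45 S)) (e45_78 S)).symm.trans (S.invol (t45 S) (t78 S))
theorem e69_60 : S.op (t69 S) (t60 S) = (t78 S) := ((congrArg (S.op (t69 S)) (e3_27 S)).symm.trans ((S.dist (t69 S) (t3 S) (t27 S)).trans (congrArg₂ S.op (e69_3 S) (e69_27 S)))).trans (e45_22 S)
theorem e60_69 : S.op (t60 S) (t69 S) = (t78 S) := (S.comm _ _).trans (e69_60 S)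
theorem e60_78 : S.op (t60 S) (t78 S) = (t69 S) := (congrArg (S.op (t60 S)) (e60_69 S)).symm.trans (S.invol (t60 S) (t69 S))
theorem e78_60 : S.op (t78 S) (t60 S) = (t69 S) := (S.comm _ _).trans (e60_78 S)
theorem e36_14 : S.op (t36 S) (t14 S) = (t69 S) := ((congrArg (S.op (t78 S)) (e3_27 S)).symm.trans ((S.dist (t78 S) (t3 S) (t27 S)).trans (congrArg₂ S.op (e78_3 S) (e78_27 S)))).symm.trans (e78_60 S)
theorem e36_69 : S.op (t36 S) (t69 S) = (t14 S) := (congrArg (S.op (t36 S)) (e36_14 S)).symm.trans (S.invol (t36 S) (t14 S))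
theorem e69_36 : S.op (t69 S) (t36 S) = (t14 S) := (S.comm _ _).trans (e36_69 S)
theorem e45_60 : S.op (t45 S) (t60 S) = (t14 S) := ((congrArg (S.op (t45 S)) (e3_27 S)).symm.trans ((S.dist (t45 S) (t3 S) (t27 S)).trans (congrArg₂ S.op (e45_3 S) (e45_27 S)))).trans (e69_36 S)
theorem e60_45 : S.op (t60 S) (t45 S) = (t14 S) := (S.comm _ _).trans (e45_60 S)
theorem e49_57 : S.op (t49 S) (t57 S) = (t14 S) := ((congrArg (S.op (t60 S)) (e9_54 S)).symm.trans ((S.dist (t60 S) (t9 S) (t54 S)).trans (congrArg₂ S.op (e60_9 S) (e60_54 S)))).symm.trans (e60_45 S)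
theorem e57_49 : S.op (t57 S) (t49 S) = (t14 S) := (S.comm _ _).trans (e49_57 S)
theorem e57_14 : S.op (t57 S) (t14 S) = (t49 S) := (congrArg (S.op (t57 S)) (e57_49 S)).symm.trans (S.invol (t57 S) (t49 S))
theorem e72_22 : S.op (t72 S) (t22 S) = (t52 S) := ((congrArg (S.op (t36 S)) (e0_60 S)).symm.trans ((S.dist (t36 S) (t0 S) (t60 S)).trans (congrArg₂ S.op (e36_0 S) (e36_60 S)))).symm.trans (e36_30 S)
theorem e22_72 : S.op (t22 S) (t72 S) = (t52 S) := (S.comm _ _).trans (e72_22 S)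
theorem e72_52 : S.op (t72 S) (t52 S) = (t22 S) := (congrArg (S.op (t72 S)) (e72_22 S)).symm.trans (S.invol (t72 S) (t22 S))
theorem e52_72 : S.op (t52 S) (t72 S) = (t22 S) := (S.comm _ _).trans (e72_52 S)
theorem e8_69 : S.op (t8 S) (t69 S) = (t52 S) := ((congrArg (S.op (t22 S)) (e9_27 S)).symm.trans ((S.dist (t22 S) (t9 S) (t27 S)).trans (congrArg₂ S.op (e22_9 S) (e22_27 S)))).symm.trans (e22_72 S)
theorem e69_8 : S.op (t69 S) (t8 S) = (t52 S) := (S.comm _ _).trans (e8_69 S)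
theorem e8_52 : S.op (t8 S) (t52 S) = (t69 S) := (congrArg (S.op (t8 S)) (e8_69 S)).symm.trans (S.invol (t8 S) (t69 S))
theorem e69_52 : S.op (t69 S) (t52 S) = (t8 S) := (congrArg (S.op (t69 S)) (e69_8 S)).symm.trans (S.invol (t69 S) (t8 S))
theorem e52_69 : S.op (t52 S) (t69 S) = (t8 S) := (S.comm _ _).trans (e69_52 S)
theorem e40_72 : S.op (t40 S) (t72 S) = (t8 S) := ((congrArg (S.op (t40 S)) (e9_27 S)).symm.trans ((S.dist (t40 S) (t9 S) (t27 S)).trans (congrArg₂ S.op (e40_9 S) (e40_27 S)))).trans (e69_52 S)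
theorem e72_40 : S.op (t72 S) (t40 S) = (t8 S) := (S.comm _ _).trans (e40_72 S)
theorem e40_8 : S.op (t40 S) (t8 S) = (t72 S) := (congrArg (S.op (t40 S)) (e40_72 S)).symm.trans (S.invol (t40 S) (t72 S))
theorem e72_8 : S.op (t72 S) (t8 S) = (t40 S) := (congrArg (S.op (t72 S)) (e72_40 S)).symm.trans (S.invol (t72 S) (t40 S))
theorem e8_40 : S.op (t8 S) (t40 S) = (t72 S) := (S.comm _ _).trans (e40_8 S)
theorem e8_72 : S.op (t8 S) (t72 S) = (t40 S) := (S.comm _ _).trans (e72_8 S)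
theorem e58_40 : S.op (t58 S) (t40 S) = (t22 S) := ((congrArg (S.op (t52 S)) (e9_27 S)).symm.trans ((S.dist (t52 S) (t9 S) (t27 S)).trans (congrArg₂ S.op (e52_9 S) (e52_27 S)))).symm.trans (e52_72 S)
theorem e40_58 : S.op (t40 S) (t58 S) = (t22 S) := (S.comm _ _).trans (e58_40 S)
theorem e40_22 : S.op (t40 S) (t22 S) = (t58 S) := (congrArg (S.op (t40 S)) (e40_58 S)).symm.trans (S.invol (t40 S) (t58 S))
theorem e22_40 : S.op (t22 S) (t40 S) = (t58 S) := (S.comm _ _).trans (e40_22 S)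
theorem e69_72 : S.op (t69 S) (t72 S) = (t58 S) := ((congrArg (S.op (t69 S)) (e9_27 S)).symm.trans ((S.dist (t69 S) (t9 S) (t27 S)).trans (congrArg₂ S.op (e69_9 S) (e69_27 S)))).trans (e40_22 S)
theorem e72_69 : S.op (t72 S) (t69 S) = (t58 S) := (S.comm _ _).trans (e69_72 S)
theorem e45_15 : S.op (t45 S) (t15 S) = (t58 S) := ((congrArg (S.op (t45 S)) (e3_18 S)).symm.trans ((S.dist (t45 S) (t3 S) (t18 S)).trans (congrArg₂ S.op (e45_3 S) (e45_18 S)))).trans (e69_72 S)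
theorem e15_45 : S.op (t15 S) (t45 S) = (t58 S) := (S.comm _ _).trans (e45_15 S)
theorem e18_42 : S.op (t18 S) (t42 S) = (t58 S) := ((congrArg (S.op (t18 S)) (e3_72 S)).symm.trans ((S.dist (t18 S) (t3 S) (t72 S)).trans (congrArg₂ S.op (e18_3 S) (e18_72 S)))).trans (e15_45 S)
theorem e42_18 : S.op (t42 S) (t18 S) = (t58 S) := (S.comm _ _).trans (e18_42 S)
theorem e68_75 : S.op (t68 S) (t75 S) = (t58 S) := ((congrArg (S.op (t42 S)) (e9_0 S)).symm.trans ((S.dist (t42 S) (t9 S) (t0 S)).trans (congrArg₂ S.op (e42_9 S) (e42_0 S)))).symm.trans (e42_18 S)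
theorem e68_58 : S.op (t68 S) (t58 S) = (t75 S) := (congrArg (S.op (t68 S)) (e68_75 S)).symm.trans (S.invol (t68 S) (t75 S))
theorem e58_68 : S.op (t58 S) (t68 S) = (t75 S) := (S.comm _ _).trans (e68_58 S)
theorem e52_18 : S.op (t52 S) (t18 S) = (t75 S) := ((congrArg (S.op (t52 S)) (e9_0 S)).symm.trans ((S.dist (t52 S) (t9 S) (t0 S)).trans (congrArg₂ S.op (e52_9 S) (e52_0 S)))).trans (e58_68 S)
theorem e18_52 : S.op (t18 S) (t52 S) = (t75 S) := (S.comm _ _).trans (e52_18 S)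
theorem e18_75 : S.op (t18 S) (t75 S) = (t52 S) := (congrArg (S.op (t18 S)) (e18_52 S)).symm.trans (S.invol (t18 S) (t52 S))
theorem e75_18 : S.op (t75 S) (t18 S) = (t52 S) := (S.comm _ _).trans (e18_75 S)
theorem e35_42 : S.op (t35 S) (t42 S) = (t52 S) := ((congrArg (S.op (t75 S)) (e9_0 S)).symm.trans ((S.dist (t75 S) (t9 S) (t0 S)).trans (congrArg₂ S.op (e75_9 S) (e75_0 S)))).symm.trans (e75_18 S)
theorem e42_35 : S.op (t42 S) (t35 S) = (t52 S) := (S.comm _ _).trans (e35_42 S)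
theorem e42_52 : S.op (t42 S) (t52 S) = (t35 S) := (congrArg (S.op (t42 S)) (e42_35 S)).symm.trans (S.invol (t42 S) (t35 S))
theorem e68_18 : S.op (t68 S) (t18 S) = (t35 S) := ((congrArg (S.op (t68 S)) (e9_0 S)).symm.trans ((S.dist (t68 S) (t9 S) (t0 S)).trans (congrArg₂ S.op (e68_9 S) (e68_0 S)))).trans (e42_52 S)
theorem e63_22 : S.op (t63 S) (t22 S) = (t34 S) := ((congrArg (S.op (t36 S)) (e9_60 S)).symm.trans ((S.dist (t36 S) (t9 S) (t60 S)).trans (congrArg₂ S.op (e36_9 S) (e36_60 S)))).symm.trans (e36_49 S)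
theorem e63_34 : S.op (t63 S) (t34 S) = (t22 S) := (congrArg (S.op (t63 S)) (e63_22 S)).symm.trans (S.invol (t63 S) (t22 S))
theorem e34_63 : S.op (t34 S) (t63 S) = (t22 S) := (S.comm _ _).trans (e63_34 S)
theorem e53_54 : S.op (t53 S) (t54 S) = (t14 S) := ((congrArg (S.op (t57 S)) (e9_60 S)).symm.trans ((S.dist (t57 S) (t9 S) (t60 S)).trans (congrArg₂ S.op (e57_9 S) (e57_60 S)))).symm.trans (e57_49 S)
theorem e54_53 : S.op (t54 S) (t53 S) = (t14 S) := (S.comm _ _).trans (e53_54 S)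
theorem e39_67 : S.op (t39 S) (t67 S) = (t14 S) := ((congrArg (S.op (t53 S)) (e27_0 S)).symm.trans ((S.dist (t53 S) (t27 S) (t0 S)).trans (congrArg₂ S.op (e53_27 S) (e53_0 S)))).symm.trans (e53_54 S)
theorem e39_14 : S.op (t39 S) (t14 S) = (t67 S) := (congrArg (S.op (t39 S)) (e39_67 S)).symm.trans (S.invol (t39 S) (t67 S))
theorem e14_39 : S.op (t14 S) (t39 S) = (t67 S) := (S.comm _ _).trans (e39_14 S)
theorem e78_54 : S.op (t78 S) (t54 S) = (t67 S) := ((congrArg (S.op (t78 S)) (e27_0 S)).symm.trans ((S.dist (t78 S) (t27 S) (t0 S)).trans (congrArg₂ S.op (e78_27 S) (e78_0 S)))).trans (e14_39 S)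
theorem e54_78 : S.op (t54 S) (t78 S) = (t67 S) := (S.comm _ _).trans (e78_54 S)
theorem e54_67 : S.op (t54 S) (t67 S) = (t78 S) := (congrArg (S.op (t54 S)) (e54_78 S)).symm.trans (S.invol (t54 S) (t78 S))
theorem e67_54 : S.op (t67 S) (t54 S) = (t78 S) := (S.comm _ _).trans (e54_67 S)
theorem e25_53 : S.op (t25 S) (t53 S) = (t78 S) := ((congrArg (S.op (t67 S)) (e27_0 S)).symm.trans ((S.dist (t67 S) (t27 S) (t0 S)).trans (congrArg₂ S.op (e67_27 S) (e67_0 S)))).symm.trans (e67_54 S)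
theorem e53_25 : S.op (t53 S) (t25 S) = (t78 S) := (S.comm _ _).trans (e25_53 S)
theorem e53_78 : S.op (t53 S) (t78 S) = (t25 S) := (congrArg (S.op (t53 S)) (e53_25 S)).symm.trans (S.invol (t53 S) (t25 S))
theorem e39_54 : S.op (t39 S) (t54 S) = (t25 S) := ((congrArg (S.op (t39 S)) (e27_0 S)).symm.trans ((S.dist (t39 S) (t27 S) (t0 S)).trans (congrArg₂ S.op (e39_27 S) (e39_0 S)))).trans (e53_78 S)
theorem e54_39 : S.op (t54 S) (t39 S) = (t25 S) := (S.comm _ _).trans (e39_54 S)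
theorem e53_45 : S.op (t53 S) (t45 S) = (t49 S) := ((congrArg (S.op (t53 S)) (e9_54 S)).symm.trans ((S.dist (t53 S) (t9 S) (t54 S)).trans (congrArg₂ S.op (e53_9 S) (e53_54 S)))).trans (e57_14 S)
theorem e45_53 : S.op (t45 S) (t53 S) = (t49 S) := (S.comm _ _).trans (e53_45 S)
theorem e45_49 : S.op (t45 S) (t49 S) = (t53 S) := (congrArg (S.op (t45 S)) (e45_53 S)).symm.trans (S.invol (t45 S) (t53 S))
theorem e49_45 : S.op (t49 S) (t45 S) = (t53 S) := (S.comm _ _).trans (e45_49 S)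
theorem e36_15 : S.op (t36 S) (t15 S) = (t67 S) := ((congrArg (S.op (t36 S)) (e3_18 S)).symm.trans ((S.dist (t36 S) (t3 S) (t18 S)).trans (congrArg₂ S.op (e36_3 S) (e36_18 S)))).trans (e78_54 S)
theorem e15_36 : S.op (t15 S) (t36 S) = (t67 S) := (S.comm _ _).trans (e36_15 S)
theorem e36_67 : S.op (t36 S) (t67 S) = (t15 S) := (congrArg (S.op (t36 S)) (e36_15 S)).symm.trans (S.invol (t36 S) (t15 S))
theorem e18_33 : S.op (t18 S) (t33 S) = (t67 S) := ((congrArg (S.op (t18 S)) (e3_54 S)).symm.trans ((S.dist (t18 S) (t3 S) (t54 S)).trans (congrArg₂ S.op (e18_3 S) (e18_54 S)))).trans (e15_36 S)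
theorem e33_18 : S.op (t33 S) (t18 S) = (t67 S) := (S.comm _ _).trans (e18_33 S)
theorem e18_67 : S.op (t18 S) (t67 S) = (t33 S) := (congrArg (S.op (t18 S)) (e18_33 S)).symm.trans (S.invol (t18 S) (t33 S))
theorem e67_18 : S.op (t67 S) (t18 S) = (t33 S) := (S.comm _ _).trans (e18_67 S)
theorem e77_57 : S.op (t77 S) (t57 S) = (t67 S) := ((congrArg (S.op (t33 S)) (e9_0 S)).symm.trans ((S.dist (t33 S) (t9 S) (t0 S)).trans (congrArg₂ S.op (e33_9 S) (e33_0 S)))).symm.trans (e33_18 S)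
theorem e57_77 : S.op (t57 S) (t77 S) = (t67 S) := (S.comm _ _).trans (e77_57 S)
theorem e57_67 : S.op (t57 S) (t67 S) = (t77 S) := (congrArg (S.op (t57 S)) (e57_77 S)).symm.trans (S.invol (t57 S) (t77 S))
theorem e53_18 : S.op (t53 S) (t18 S) = (t77 S) := ((congrArg (S.op (t53 S)) (e9_0 S)).symm.trans ((S.dist (t53 S) (t9 S) (t0 S)).trans (congrArg₂ S.op (e53_9 S) (e53_0 S)))).trans (e57_67 S)
theorem e18_53 : S.op (t18 S) (t53 S) = (t77 S) := (S.comm _ _).trans (e53_18 S)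
theorem e18_77 : S.op (t18 S) (t77 S) = (t53 S) := (congrArg (S.op (t18 S)) (e18_53 S)).symm.trans (S.invol (t18 S) (t53 S))
theorem e77_18 : S.op (t77 S) (t18 S) = (t53 S) := (S.comm _ _).trans (e18_77 S)
theorem e33_43 : S.op (t33 S) (t43 S) = (t53 S) := ((congrArg (S.op (t77 S)) (e9_0 S)).symm.trans ((S.dist (t77 S) (t9 S) (t0 S)).trans (congrArg₂ S.op (e77_9 S) (e77_0 S)))).symm.trans (e77_18 S)
theorem e33_53 : S.op (t33 S) (t53 S) = (t43 S) := (congrArg (S.op (t33 S)) (e33_43 S)).symm.trans (S.invol (t33 S) (t43 S))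
theorem e53_33 : S.op (t53 S) (t33 S) = (t43 S) := (S.comm _ _).trans (e33_53 S)
theorem e57_18 : S.op (t57 S) (t18 S) = (t43 S) := ((congrArg (S.op (t57 S)) (e9_0 S)).symm.trans ((S.dist (t57 S) (t9 S) (t0 S)).trans (congrArg₂ S.op (e57_9 S) (e57_0 S)))).trans (e53_33 S)
theorem e18_57 : S.op (t18 S) (t57 S) = (t43 S) := (S.comm _ _).trans (e57_18 S)
theorem e18_43 : S.op (t18 S) (t43 S) = (t57 S) := (congrArg (S.op (t18 S)) (e18_57 S)).symm.trans (S.invol (t18 S) (t57 S))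
theorem e43_18 : S.op (t43 S) (t18 S) = (t57 S) := (S.comm _ _).trans (e18_43 S)
theorem e78_33 : S.op (t78 S) (t33 S) = (t15 S) := ((congrArg (S.op (t78 S)) (e3_54 S)).symm.trans ((S.dist (t78 S) (t3 S) (t54 S)).trans (congrArg₂ S.op (e78_3 S) (e78_54 S)))).trans (e36_67 S)
theorem e33_78 : S.op (t33 S) (t78 S) = (t15 S) := (S.comm _ _).trans (e78_33 S)
theorem e78_15 : S.op (t78 S) (t15 S) = (t33 S) := (congrArg (S.op (t78 S)) (e78_33 S)).symm.trans (S.invol (t78 S) (t33 S))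
theorem e33_15 : S.op (t33 S) (t15 S) = (t78 S) := (congrArg (S.op (t33 S)) (e33_78 S)).symm.trans (S.invol (t33 S) (t78 S))
theorem e15_33 : S.op (t15 S) (t33 S) = (t78 S) := (S.comm _ _).trans (e33_15 S)
theorem e6_43 : S.op (t6 S) (t43 S) = (t80 S) := ((congrArg (S.op (t57 S)) (e27_18 S)).symm.trans ((S.dist (t57 S) (t27 S) (t18 S)).trans (congrArg₂ S.op (e57_27 S) (e57_18 S)))).symm.trans (e57_63 S)
theorem e43_6 : S.op (t43 S) (t6 S) = (t80 S) := (S.comm _ _).trans (e6_43 S)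
theorem e6_80 : S.op (t6 S) (t80 S) = (t43 S) := (congrArg (S.op (t6 S)) (e6_43 S)).symm.trans (S.invol (t6 S) (t43 S))
theorem e80_6 : S.op (t80 S) (t6 S) = (t43 S) := (S.comm _ _).trans (e6_80 S)
theorem e74_77 : S.op (t74 S) (t77 S) = (t80 S) := ((congrArg (S.op (t43 S)) (e3_0 S)).symm.trans ((S.dist (t43 S) (t3 S) (t0 S)).trans (congrArg₂ S.op (e43_3 S) (e43_0 S)))).symm.trans (e43_6 S)
theorem e77_74 : S.op (t77 S) (t74 S) = (t80 S) := (S.comm _ _).trans (e74_77 S)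
theorem e77_80 : S.op (t77 S) (t80 S) = (t74 S) := (congrArg (S.op (t77 S)) (e77_74 S)).symm.trans (S.invol (t77 S) (t74 S))
theorem e40_6 : S.op (t40 S) (t6 S) = (t74 S) := ((congrArg (S.op (t40 S)) (e3_0 S)).symm.trans ((S.dist (t40 S) (t3 S) (t0 S)).trans (congrArg₂ S.op (e40_3 S) (e40_0 S)))).trans (e77_80 S)
theorem e6_40 : S.op (t6 S) (t40 S) = (t74 S) := (S.comm _ _).trans (e40_6 S)
theorem e6_74 : S.op (t6 S) (t74 S) = (t40 S) := (congrArg (S.op (t6 S)) (e6_40 S)).symm.trans (S.invol (t6 S) (t40 S))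
theorem e74_6 : S.op (t74 S) (t6 S) = (t40 S) := (S.comm _ _).trans (e6_74 S)
theorem e37_40 : S.op (t37 S) (t40 S) = (t43 S) := ((congrArg (S.op (t80 S)) (e3_0 S)).symm.trans ((S.dist (t80 S) (t3 S) (t0 S)).trans (congrArg₂ S.op (e80_3 S) (e80_0 S)))).symm.trans (e80_6 S)
theorem e40_37 : S.op (t40 S) (t37 S) = (t43 S) := (S.comm _ _).trans (e37_40 S)
theorem e40_43 : S.op (t40 S) (t43 S) = (t37 S) := (congrArg (S.op (t40 S)) (e40_37 S)).symm.trans (S.invol (t40 S) (t37 S))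
theorem e77_6 : S.op (t77 S) (t6 S) = (t37 S) := ((congrArg (S.op (t77 S)) (e3_0 S)).symm.trans ((S.dist (t77 S) (t3 S) (t0 S)).trans (congrArg₂ S.op (e77_3 S) (e77_0 S)))).trans (e40_43 S)
theorem e6_77 : S.op (t6 S) (t77 S) = (t37 S) := (S.comm _ _).trans (e77_6 S)
theorem e30_43 : S.op (t30 S) (t43 S) = (t46 S) := ((congrArg (S.op (t57 S)) (e3_18 S)).symm.trans ((S.dist (t57 S) (t3 S) (t18 S)).trans (congrArg₂ S.op (e57_3 S) (e57_18 S)))).symm.trans (e57_15 S)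
theorem e43_30 : S.op (t43 S) (t30 S) = (t46 S) := (S.comm _ _).trans (e30_43 S)
theorem e30_46 : S.op (t30 S) (t46 S) = (t43 S) := (congrArg (S.op (t30 S)) (e30_43 S)).symm.trans (S.invol (t30 S) (t43 S))
theorem e46_30 : S.op (t46 S) (t30 S) = (t43 S) := (S.comm _ _).trans (e30_46 S)
theorem e71_15 : S.op (t71 S) (t15 S) = (t43 S) := ((congrArg (S.op (t71 S)) (e3_18 S)).symm.trans ((S.dist (t71 S) (t3 S) (t18 S)).trans (congrArg₂ S.op (e71_3 S) (e71_18 S)))).trans (e46_30 S)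
theorem e15_71 : S.op (t15 S) (t71 S) = (t43 S) := (S.comm _ _).trans (e71_15 S)
theorem e15_43 : S.op (t15 S) (t43 S) = (t71 S) := (congrArg (S.op (t15 S)) (e15_71 S)).symm.trans (S.invol (t15 S) (t71 S))
theorem e43_15 : S.op (t43 S) (t15 S) = (t71 S) := (S.comm _ _).trans (e15_43 S)
theorem e74_57 : S.op (t74 S) (t57 S) = (t71 S) := ((congrArg (S.op (t43 S)) (e3_18 S)).symm.trans ((S.dist (t43 S) (t3 S) (t18 S)).trans (congrArg₂ S.op (e43_3 S) (e43_18 S)))).symm.trans (e43_15 S)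
theorem e57_74 : S.op (t57 S) (t74 S) = (t71 S) := (S.comm _ _).trans (e74_57 S)
theorem e57_71 : S.op (t57 S) (t71 S) = (t74 S) := (congrArg (S.op (t57 S)) (e57_74 S)).symm.trans (S.invol (t57 S) (t74 S))
theorem e71_57 : S.op (t71 S) (t57 S) = (t74 S) := (S.comm _ _).trans (e57_71 S)
theorem e30_15 : S.op (t30 S) (t15 S) = (t74 S) := ((congrArg (S.op (t30 S)) (e3_18 S)).symm.trans ((S.dist (t30 S) (t3 S) (t18 S)).trans (congrArg₂ S.op (e30_3 S) (e30_18 S)))).trans (e57_71 S)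
theorem e15_30 : S.op (t15 S) (t30 S) = (t74 S) := (S.comm _ _).trans (e30_15 S)
theorem e15_74 : S.op (t15 S) (t74 S) = (t30 S) := (congrArg (S.op (t15 S)) (e15_30 S)).symm.trans (S.invol (t15 S) (t30 S))
theorem e74_15 : S.op (t74 S) (t15 S) = (t30 S) := (S.comm _ _).trans (e15_74 S)
theorem e23_52 : S.op (t23 S) (t52 S) = (t74 S) := ((congrArg (S.op (t71 S)) (e27_6 S)).symm.trans ((S.dist (t71 S) (t27 S) (t6 S)).trans (congrArg₂ S.op (e71_27 S) (e71_6 S)))).symm.trans (e71_57 S)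
theorem e52_23 : S.op (t52 S) (t23 S) = (t74 S) := (S.comm _ _).trans (e23_52 S)
theorem e52_74 : S.op (t52 S) (t74 S) = (t23 S) := (congrArg (S.op (t52 S)) (e52_23 S)).symm.trans (S.invol (t52 S) (t23 S))
theorem e40_57 : S.op (t40 S) (t57 S) = (t23 S) := ((congrArg (S.op (t40 S)) (e27_6 S)).symm.trans ((S.dist (t40 S) (t27 S) (t6 S)).trans (congrArg₂ S.op (e40_27 S) (e40_6 S)))).trans (e52_74 S)
theorem e33_37 : S.op (t33 S) (t37 S) = (t49 S) := ((congrArg (S.op (t77 S)) (e9_6 S)).symm.trans ((S.dist (t77 S) (t9 S) (t6 S)).trans (congrArg₂ S.op (e77_9 S) (e77_6 S)))).symm.trans (e77_21 S)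
theorem e33_49 : S.op (t33 S) (t49 S) = (t37 S) := (congrArg (S.op (t33 S)) (e33_37 S)).symm.trans (S.invol (t33 S) (t37 S))
theorem e49_33 : S.op (t49 S) (t33 S) = (t37 S) := (S.comm _ _).trans (e33_49 S)
theorem e60_21 : S.op (t60 S) (t21 S) = (t37 S) := ((congrArg (S.op (t60 S)) (e9_6 S)).symm.trans ((S.dist (t60 S) (t9 S) (t6 S)).trans (congrArg₂ S.op (e60_9 S) (e60_6 S)))).trans (e49_33 S)
theorem e21_60 : S.op (t21 S) (t60 S) = (t37 S) := (S.comm _ _).trans (e60_21 S)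
theorem e12_70 : S.op (t12 S) (t70 S) = (t37 S) := ((congrArg (S.op (t21 S)) (e3_27 S)).symm.trans ((S.dist (t21 S) (t3 S) (t27 S)).trans (congrArg₂ S.op (e21_3 S) (e21_27 S)))).symm.trans (e21_60 S)
theorem e12_37 : S.op (t12 S) (t37 S) = (t70 S) := (congrArg (S.op (t12 S)) (e12_70 S)).symm.trans (S.invol (t12 S) (t70 S))
theorem e37_12 : S.op (t37 S) (t12 S) = (t70 S) := (S.comm _ _).trans (e12_37 S)
theorem e80_60 : S.op (t80 S) (t60 S) = (t70 S) := ((congrArg (S.op (t80 S)) (e3_27 S)).symm.trans ((S.dist (t80 S) (t3 S) (t27 S)).trans (congrArg₂ S.op (e80_3 S) (e80_27 S)))).trans (e37_12 S)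
theorem e60_80 : S.op (t60 S) (t80 S) = (t70 S) := (S.comm _ _).trans (e80_60 S)
theorem e60_70 : S.op (t60 S) (t70 S) = (t80 S) := (congrArg (S.op (t60 S)) (e60_80 S)).symm.trans (S.invol (t60 S) (t80 S))
theorem e70_60 : S.op (t70 S) (t60 S) = (t80 S) := (S.comm _ _).trans (e60_70 S)
theorem e47_21 : S.op (t47 S) (t21 S) = (t80 S) := ((congrArg (S.op (t70 S)) (e3_27 S)).symm.trans ((S.dist (t70 S) (t3 S) (t27 S)).trans (congrArg₂ S.op (e70_3 S) (e70_27 S)))).symm.trans (e70_60 S)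
theorem e21_47 : S.op (t21 S) (t47 S) = (t80 S) := (S.comm _ _).trans (e47_21 S)
theorem e21_80 : S.op (t21 S) (t80 S) = (t47 S) := (congrArg (S.op (t21 S)) (e21_47 S)).symm.trans (S.invol (t21 S) (t47 S))
theorem e12_60 : S.op (t12 S) (t60 S) = (t47 S) := ((congrArg (S.op (t12 S)) (e3_27 S)).symm.trans ((S.dist (t12 S) (t3 S) (t27 S)).trans (congrArg₂ S.op (e12_3 S) (e12_27 S)))).trans (e21_80 S)
theorem e60_12 : S.op (t60 S) (t12 S) = (t47 S) := (S.comm _ _).trans (e12_60 S)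
theorem e60_47 : S.op (t60 S) (t47 S) = (t12 S) := (congrArg (S.op (t60 S)) (e60_12 S)).symm.trans (S.invol (t60 S) (t12 S))
theorem e47_60 : S.op (t47 S) (t60 S) = (t12 S) := (S.comm _ _).trans (e60_47 S)
theorem e21_32 : S.op (t21 S) (t32 S) = (t67 S) := ((congrArg (S.op (t15 S)) (e0_72 S)).symm.trans ((S.dist (t15 S) (t0 S) (t72 S)).trans (congrArg₂ S.op (e15_0 S) (e15_72 S)))).symm.trans (e15_36 S)
theorem e21_67 : S.op (t21 S) (t67 S) = (t32 S) := (congrArg (S.op (t21 S)) (e21_32 S)).symm.trans (S.invol (t21 S) (t32 S))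
theorem e67_21 : S.op (t67 S) (t21 S) = (t32 S) := (S.comm _ _).trans (e21_67 S)
theorem e53_36 : S.op (t53 S) (t36 S) = (t32 S) := ((congrArg (S.op (t53 S)) (e0_72 S)).symm.trans ((S.dist (t53 S) (t0 S) (t72 S)).trans (congrArg₂ S.op (e53_0 S) (e53_72 S)))).trans (e67_21 S)
theorem e36_53 : S.op (t36 S) (t53 S) = (t32 S) := (S.comm _ _).trans (e53_36 S)
theorem e21_51 : S.op (t21 S) (t51 S) = (t74 S) := ((congrArg (S.op (t15 S)) (e0_60 S)).symm.trans ((S.dist (t15 S) (t0 S) (t60 S)).trans (congrArg₂ S.op (e15_0 S) (e15_60 S)))).symm.trans (e15_30 S)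
theorem e51_21 : S.op (t51 S) (t21 S) = (t74 S) := (S.comm _ _).trans (e21_51 S)
theorem e21_74 : S.op (t21 S) (t74 S) = (t51 S) := (congrArg (S.op (t21 S)) (e21_51 S)).symm.trans (S.invol (t21 S) (t51 S))
theorem e74_21 : S.op (t74 S) (t21 S) = (t51 S) := (S.comm _ _).trans (e21_74 S)
theorem e59_69 : S.op (t59 S) (t69 S) = (t74 S) := ((congrArg (S.op (t51 S)) (e9_6 S)).symm.trans ((S.dist (t51 S) (t9 S) (t6 S)).trans (congrArg₂ S.op (e51_9 S) (e51_6 S)))).symm.trans (e51_21 S)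
theorem e69_59 : S.op (t69 S) (t59 S) = (t74 S) := (S.comm _ _).trans (e59_69 S)
theorem e69_74 : S.op (t69 S) (t74 S) = (t59 S) := (congrArg (S.op (t69 S)) (e69_59 S)).symm.trans (S.invol (t69 S) (t59 S))
theorem e40_21 : S.op (t40 S) (t21 S) = (t59 S) := ((congrArg (S.op (t40 S)) (e9_6 S)).symm.trans ((S.dist (t40 S) (t9 S) (t6 S)).trans (congrArg₂ S.op (e40_9 S) (e40_6 S)))).trans (e69_74 S)
theorem e21_40 : S.op (t21 S) (t40 S) = (t59 S) := (S.comm _ _).trans (e40_21 S)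
theorem e28_40 : S.op (t28 S) (t40 S) = (t51 S) := ((congrArg (S.op (t74 S)) (e9_6 S)).symm.trans ((S.dist (t74 S) (t9 S) (t6 S)).trans (congrArg₂ S.op (e74_9 S) (e74_6 S)))).symm.trans (e74_21 S)
theorem e40_28 : S.op (t40 S) (t28 S) = (t51 S) := (S.comm _ _).trans (e28_40 S)
theorem e40_51 : S.op (t40 S) (t51 S) = (t28 S) := (congrArg (S.op (t40 S)) (e40_28 S)).symm.trans (S.invol (t40 S) (t28 S))
theorem e69_21 : S.op (t69 S) (t21 S) = (t28 S) := ((congrArg (S.op (t69 S)) (e9_6 S)).symm.trans ((S.dist (t69 S) (t9 S) (t6 S)).trans (congrArg₂ S.op (e69_9 S) (e69_6 S)))).trans (e40_51 S)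
theorem e21_69 : S.op (t21 S) (t69 S) = (t28 S) := (S.comm _ _).trans (e69_21 S)
theorem e15_37 : S.op (t15 S) (t37 S) = (t66 S) := ((congrArg (S.op (t21 S)) (e0_60 S)).symm.trans ((S.dist (t21 S) (t0 S) (t60 S)).trans (congrArg₂ S.op (e21_0 S) (e21_60 S)))).symm.trans (e21_30 S)
theorem e15_66 : S.op (t15 S) (t66 S) = (t37 S) := (congrArg (S.op (t15 S)) (e15_37 S)).symm.trans (S.invol (t15 S) (t37 S))
theorem e66_15 : S.op (t66 S) (t15 S) = (t37 S) := (S.comm _ _).trans (e15_66 S)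
theorem e51_30 : S.op (t51 S) (t30 S) = (t37 S) := ((congrArg (S.op (t51 S)) (e0_60 S)).symm.trans ((S.dist (t51 S) (t0 S) (t60 S)).trans (congrArg₂ S.op (e51_0 S) (e51_60 S)))).trans (e66_15 S)
theorem e30_51 : S.op (t30 S) (t51 S) = (t37 S) := (S.comm _ _).trans (e51_30 S)
theorem e76_49 : S.op (t76 S) (t49 S) = (t22 S) := ((congrArg (S.op (t76 S)) (e9_60 S)).symm.trans ((S.dist (t76 S) (t9 S) (t60 S)).trans (congrArg₂ S.op (e76_9 S) (e76_60 S)))).trans (e34_63 S)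
theorem e49_76 : S.op (t49 S) (t76 S) = (t22 S) := (S.comm _ _).trans (e76_49 S)
theorem e49_22 : S.op (t49 S) (t22 S) = (t76 S) := (congrArg (S.op (t49 S)) (e49_76 S)).symm.trans (S.invol (t49 S) (t76 S))
theorem e22_49 : S.op (t22 S) (t49 S) = (t76 S) := (S.comm _ _).trans (e49_22 S)
theorem e8_36 : S.op (t8 S) (t36 S) = (t76 S) := ((congrArg (S.op (t22 S)) (e9_60 S)).symm.trans ((S.dist (t22 S) (t9 S) (t60 S)).trans (congrArg₂ S.op (e22_9 S) (e22_60 S)))).symm.trans (e22_49 S)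
theorem e36_8 : S.op (t36 S) (t8 S) = (t76 S) := (S.comm _ _).trans (e8_36 S)
theorem e8_76 : S.op (t8 S) (t76 S) = (t36 S) := (congrArg (S.op (t8 S)) (e8_36 S)).symm.trans (S.invol (t8 S) (t36 S))
theorem e36_76 : S.op (t36 S) (t76 S) = (t8 S) := (congrArg (S.op (t36 S)) (e36_8 S)).symm.trans (S.invol (t36 S) (t8 S))
theorem e4_40 : S.op (t4 S) (t40 S) = (t76 S) := ((congrArg (S.op (t8 S)) (e0_72 S)).symm.trans ((S.dist (t8 S) (t0 S) (t72 S)).trans (congrArg₂ S.op (e8_0 S) (e8_72 S)))).symm.trans (e8_36 S)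
theorem e40_4 : S.op (t40 S) (t4 S) = (t76 S) := (S.comm _ _).trans (e4_40 S)
theorem e4_76 : S.op (t4 S) (t76 S) = (t40 S) := (congrArg (S.op (t4 S)) (e4_40 S)).symm.trans (S.invol (t4 S) (t40 S))
theorem e40_76 : S.op (t40 S) (t76 S) = (t4 S) := (congrArg (S.op (t40 S)) (e40_4 S)).symm.trans (S.invol (t40 S) (t4 S))
theorem e80_36 : S.op (t80 S) (t36 S) = (t4 S) := ((congrArg (S.op (t80 S)) (e0_72 S)).symm.trans ((S.dist (t80 S) (t0 S) (t72 S)).trans (congrArg₂ S.op (e80_0 S) (e80_72 S)))).trans (e40_76 S)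
theorem e36_80 : S.op (t36 S) (t80 S) = (t4 S) := (S.comm _ _).trans (e80_36 S)
theorem e63_49 : S.op (t63 S) (t49 S) = (t8 S) := ((congrArg (S.op (t63 S)) (e9_60 S)).symm.trans ((S.dist (t63 S) (t9 S) (t60 S)).trans (congrArg₂ S.op (e63_9 S) (e63_60 S)))).trans (e36_76 S)
theorem e49_63 : S.op (t49 S) (t63 S) = (t8 S) := (S.comm _ _).trans (e63_49 S)
theorem e42_79 : S.op (t42 S) (t79 S) = (t8 S) := ((congrArg (S.op (t49 S)) (e27_18 S)).symm.trans ((S.dist (t49 S) (t27 S) (t18 S)).trans (congrArg₂ S.op (e49_27 S) (e49_18 S)))).symm.trans (e49_63 S)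
theorem e79_42 : S.op (t79 S) (t42 S) = (t8 S) := (S.comm _ _).trans (e42_79 S)
theorem e42_8 : S.op (t42 S) (t8 S) = (t79 S) := (congrArg (S.op (t42 S)) (e42_79 S)).symm.trans (S.invol (t42 S) (t79 S))
theorem e8_42 : S.op (t8 S) (t42 S) = (t79 S) := (S.comm _ _).trans (e42_8 S)
theorem e1_40 : S.op (t1 S) (t40 S) = (t79 S) := ((congrArg (S.op (t8 S)) (e3_72 S)).symm.trans ((S.dist (t8 S) (t3 S) (t72 S)).trans (congrArg₂ S.op (e8_3 S) (e8_72 S)))).symm.trans (e8_42 S)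
theorem e40_1 : S.op (t40 S) (t1 S) = (t79 S) := (S.comm _ _).trans (e1_40 S)
theorem e40_79 : S.op (t40 S) (t79 S) = (t1 S) := (congrArg (S.op (t40 S)) (e40_1 S)).symm.trans (S.invol (t40 S) (t1 S))
theorem e77_42 : S.op (t77 S) (t42 S) = (t1 S) := ((congrArg (S.op (t77 S)) (e3_72 S)).symm.trans ((S.dist (t77 S) (t3 S) (t72 S)).trans (congrArg₂ S.op (e77_3 S) (e77_72 S)))).trans (e40_79 S)
theorem e42_77 : S.op (t42 S) (t77 S) = (t1 S) := (S.comm _ _).trans (e77_42 S)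
theorem e38_77 : S.op (t38 S) (t77 S) = (t8 S) := ((congrArg (S.op (t79 S)) (e3_72 S)).symm.trans ((S.dist (t79 S) (t3 S) (t72 S)).trans (congrArg₂ S.op (e79_3 S) (e79_72 S)))).symm.trans (e79_42 S)
theorem e77_38 : S.op (t77 S) (t38 S) = (t8 S) := (S.comm _ _).trans (e38_77 S)
theorem e77_8 : S.op (t77 S) (t8 S) = (t38 S) := (congrArg (S.op (t77 S)) (e77_38 S)).symm.trans (S.invol (t77 S) (t38 S))
theorem e40_42 : S.op (t40 S) (t42 S) = (t38 S) := ((congrArg (S.op (t40 S)) (e3_72 S)).symm.trans ((S.dist (t40 S) (t3 S) (t72 S)).trans (congrArg₂ S.op (e40_3 S) (e40_72 S)))).trans (e77_8 S)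
theorem e30_42 : S.op (t30 S) (t42 S) = (t47 S) := ((congrArg (S.op (t60 S)) (e0_24 S)).symm.trans ((S.dist (t60 S) (t0 S) (t24 S)).trans (congrArg₂ S.op (e60_0 S) (e60_24 S)))).symm.trans (e60_12 S)
theorem e42_30 : S.op (t42 S) (t30 S) = (t47 S) := (S.comm _ _).trans (e30_42 S)
theorem e57_17 : S.op (t57 S) (t17 S) = (t47 S) := ((congrArg (S.op (t30 S)) (e3_72 S)).symm.trans ((S.dist (t30 S) (t3 S) (t72 S)).trans (congrArg₂ S.op (e30_3 S) (e30_72 S)))).symm.trans (e30_42 S)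
theorem e57_47 : S.op (t57 S) (t47 S) = (t17 S) := (congrArg (S.op (t57 S)) (e57_17 S)).symm.trans (S.invol (t57 S) (t17 S))
theorem e47_57 : S.op (t47 S) (t57 S) = (t17 S) := (S.comm _ _).trans (e57_47 S)
theorem e70_42 : S.op (t70 S) (t42 S) = (t17 S) := ((congrArg (S.op (t70 S)) (e3_72 S)).symm.trans ((S.dist (t70 S) (t3 S) (t72 S)).trans (congrArg₂ S.op (e70_3 S) (e70_72 S)))).trans (e47_57 S)
theorem e42_70 : S.op (t42 S) (t70 S) = (t17 S) := (S.comm _ _).trans (e70_42 S)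
theorem e42_17 : S.op (t42 S) (t17 S) = (t70 S) := (congrArg (S.op (t42 S)) (e42_70 S)).symm.trans (S.invol (t42 S) (t70 S))
theorem e17_42 : S.op (t17 S) (t42 S) = (t70 S) := (S.comm _ _).trans (e42_17 S)
theorem e19_30 : S.op (t19 S) (t30 S) = (t70 S) := ((congrArg (S.op (t17 S)) (e3_72 S)).symm.trans ((S.dist (t17 S) (t3 S) (t72 S)).trans (congrArg₂ S.op (e17_3 S) (e17_72 S)))).symm.trans (e17_42 S)
theorem e30_19 : S.op (t30 S) (t19 S) = (t70 S) := (S.comm _ _).trans (e19_30 S)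
theorem e30_70 : S.op (t30 S) (t70 S) = (t19 S) := (congrArg (S.op (t30 S)) (e30_19 S)).symm.trans (S.invol (t30 S) (t19 S))
theorem e70_30 : S.op (t70 S) (t30 S) = (t19 S) := (S.comm _ _).trans (e30_70 S)
theorem e57_42 : S.op (t57 S) (t42 S) = (t19 S) := ((congrArg (S.op (t57 S)) (e3_72 S)).symm.trans ((S.dist (t57 S) (t3 S) (t72 S)).trans (congrArg₂ S.op (e57_3 S) (e57_72 S)))).trans (e30_70 S)
theorem e42_57 : S.op (t42 S) (t57 S) = (t19 S) := (S.comm _ _).trans (e57_42 S)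
theorem e49_78 : S.op (t49 S) (t78 S) = (t19 S) := ((congrArg (S.op (t42 S)) (e27_6 S)).symm.trans ((S.dist (t42 S) (t27 S) (t6 S)).trans (congrArg₂ S.op (e42_27 S) (e42_6 S)))).symm.trans (e42_57 S)
theorem e78_49 : S.op (t78 S) (t49 S) = (t19 S) := (S.comm _ _).trans (e49_78 S)
theorem e49_19 : S.op (t49 S) (t19 S) = (t78 S) := (congrArg (S.op (t49 S)) (e49_78 S)).symm.trans (S.invol (t49 S) (t78 S))
theorem e19_49 : S.op (t19 S) (t49 S) = (t78 S) := (S.comm _ _).trans (e49_19 S)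
theorem e11_40 : S.op (t11 S) (t40 S) = (t70 S) := ((congrArg (S.op (t19 S)) (e0_60 S)).symm.trans ((S.dist (t19 S) (t0 S) (t60 S)).trans (congrArg₂ S.op (e19_0 S) (e19_60 S)))).symm.trans (e19_30 S)
theorem e40_11 : S.op (t40 S) (t11 S) = (t70 S) := (S.comm _ _).trans (e11_40 S)
theorem e40_70 : S.op (t40 S) (t70 S) = (t11 S) := (congrArg (S.op (t40 S)) (e40_11 S)).symm.trans (S.invol (t40 S) (t11 S))
theorem e75_24 : S.op (t75 S) (t24 S) = (t47 S) := ((congrArg (S.op (t42 S)) (e0_60 S)).symm.trans ((S.dist (t42 S) (t0 S) (t60 S)).trans (congrArg₂ S.op (e42_0 S) (e42_60 S)))).symm.trans (e42_30 S)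
theorem e24_75 : S.op (t24 S) (t75 S) = (t47 S) := (S.comm _ _).trans (e75_24 S)
theorem e24_47 : S.op (t24 S) (t47 S) = (t75 S) := (congrArg (S.op (t24 S)) (e24_75 S)).symm.trans (S.invol (t24 S) (t75 S))
theorem e47_24 : S.op (t47 S) (t24 S) = (t75 S) := (S.comm _ _).trans (e24_47 S)
theorem e70_55 : S.op (t70 S) (t55 S) = (t75 S) := ((congrArg (S.op (t47 S)) (e3_9 S)).symm.trans ((S.dist (t47 S) (t3 S) (t9 S)).trans (congrArg₂ S.op (e47_3 S) (e47_9 S)))).symm.trans (e47_24 S)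
theorem e70_75 : S.op (t70 S) (t75 S) = (t55 S) := (congrArg (S.op (t70 S)) (e70_55 S)).symm.trans (S.invol (t70 S) (t55 S))
theorem e75_70 : S.op (t75 S) (t70 S) = (t55 S) := (S.comm _ _).trans (e70_75 S)
theorem e39_24 : S.op (t39 S) (t24 S) = (t55 S) := ((congrArg (S.op (t39 S)) (e3_9 S)).symm.trans ((S.dist (t39 S) (t3 S) (t9 S)).trans (congrArg₂ S.op (e39_3 S) (e39_9 S)))).trans (e75_70 S)
theorem e24_39 : S.op (t24 S) (t39 S) = (t55 S) := (S.comm _ _).trans (e39_24 S)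
theorem e39_35 : S.op (t39 S) (t35 S) = (t47 S) := ((congrArg (S.op (t75 S)) (e3_9 S)).symm.trans ((S.dist (t75 S) (t3 S) (t9 S)).trans (congrArg₂ S.op (e75_3 S) (e75_9 S)))).symm.trans (e75_24 S)
theorem e39_47 : S.op (t39 S) (t47 S) = (t35 S) := (congrArg (S.op (t39 S)) (e39_35 S)).symm.trans (S.invol (t39 S) (t35 S))
theorem e47_39 : S.op (t47 S) (t39 S) = (t35 S) := (S.comm _ _).trans (e39_47 S)
theorem e70_24 : S.op (t70 S) (t24 S) = (t35 S) := ((congrArg (S.op (t70 S)) (e3_9 S)).symm.trans ((S.dist (t70 S) (t3 S) (t9 S)).trans (congrArg₂ S.op (e70_3 S) (e70_9 S)))).trans (e47_39 S)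
theorem e24_70 : S.op (t24 S) (t70 S) = (t35 S) := (S.comm _ _).trans (e70_24 S)
theorem e24_35 : S.op (t24 S) (t35 S) = (t70 S) := (congrArg (S.op (t24 S)) (e24_70 S)).symm.trans (S.invol (t24 S) (t70 S))
theorem e21_63 : S.op (t21 S) (t63 S) = (t35 S) := ((congrArg (S.op (t21 S)) (e27_18 S)).symm.trans ((S.dist (t21 S) (t27 S) (t18 S)).trans (congrArg₂ S.op (e21_27 S) (e21_18 S)))).trans (e70_24 S)
theorem e63_21 : S.op (t63 S) (t21 S) = (t35 S) := (S.comm _ _).trans (e21_63 S)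
theorem e68_63 : S.op (t68 S) (t63 S) = (t70 S) := ((congrArg (S.op (t68 S)) (e27_18 S)).symm.trans ((S.dist (t68 S) (t27 S) (t18 S)).trans (congrArg₂ S.op (e68_27 S) (e68_18 S)))).trans (e24_35 S)
theorem e36_48 : S.op (t36 S) (t48 S) = (t35 S) := ((congrArg (S.op (t63 S)) (e9_6 S)).symm.trans ((S.dist (t63 S) (t9 S) (t6 S)).trans (congrArg₂ S.op (e63_9 S) (e63_6 S)))).symm.trans (e63_21 S)
theorem e48_36 : S.op (t48 S) (t36 S) = (t35 S) := (S.comm _ _).trans (e36_48 S)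
theorem e36_35 : S.op (t36 S) (t35 S) = (t48 S) := (congrArg (S.op (t36 S)) (e36_48 S)).symm.trans (S.invol (t36 S) (t48 S))
theorem e35_36 : S.op (t35 S) (t36 S) = (t48 S) := (S.comm _ _).trans (e36_35 S)
theorem e75_21 : S.op (t75 S) (t21 S) = (t48 S) := ((congrArg (S.op (t75 S)) (e9_6 S)).symm.trans ((S.dist (t75 S) (t9 S) (t6 S)).trans (congrArg₂ S.op (e75_9 S) (e75_6 S)))).trans (e35_36 S)
theorem e21_75 : S.op (t21 S) (t75 S) = (t48 S) := (S.comm _ _).trans (e75_21 S)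
theorem e21_48 : S.op (t21 S) (t48 S) = (t75 S) := (congrArg (S.op (t21 S)) (e21_75 S)).symm.trans (S.invol (t21 S) (t75 S))
theorem e48_21 : S.op (t48 S) (t21 S) = (t75 S) := (S.comm _ _).trans (e21_48 S)
theorem e61_63 : S.op (t61 S) (t63 S) = (t75 S) := ((congrArg (S.op (t48 S)) (e9_6 S)).symm.trans ((S.dist (t48 S) (t9 S) (t6 S)).trans (congrArg₂ S.op (e48_9 S) (e48_6 S)))).symm.trans (e48_21 S)
theorem e63_61 : S.op (t63 S) (t61 S) = (t75 S) := (S.comm _ _).trans (e61_63 S)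
theorem e63_75 : S.op (t63 S) (t75 S) = (t61 S) := (congrArg (S.op (t63 S)) (e63_61 S)).symm.trans (S.invol (t63 S) (t61 S))
theorem e5_40 : S.op (t5 S) (t40 S) = (t75 S) := ((congrArg (S.op (t61 S)) (e27_18 S)).symm.trans ((S.dist (t61 S) (t27 S) (t18 S)).trans (congrArg₂ S.op (e61_27 S) (e61_18 S)))).symm.trans (e61_63 S)
theorem e40_5 : S.op (t40 S) (t5 S) = (t75 S) := (S.comm _ _).trans (e5_40 S)
theorem e40_75 : S.op (t40 S) (t75 S) = (t5 S) := (congrArg (S.op (t40 S)) (e40_5 S)).symm.trans (S.invol (t40 S) (t5 S))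
theorem e52_63 : S.op (t52 S) (t63 S) = (t5 S) := ((congrArg (S.op (t52 S)) (e27_18 S)).symm.trans ((S.dist (t52 S) (t27 S) (t18 S)).trans (congrArg₂ S.op (e52_27 S) (e52_18 S)))).trans (e40_75 S)
theorem e36_21 : S.op (t36 S) (t21 S) = (t61 S) := ((congrArg (S.op (t36 S)) (e9_6 S)).symm.trans ((S.dist (t36 S) (t9 S) (t6 S)).trans (congrArg₂ S.op (e36_9 S) (e36_6 S)))).trans (e63_75 S)
theorem e21_36 : S.op (t21 S) (t36 S) = (t61 S) := (S.comm _ _).trans (e36_21 S)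
theorem e15_53 : S.op (t15 S) (t53 S) = (t61 S) := ((congrArg (S.op (t21 S)) (e0_72 S)).symm.trans ((S.dist (t21 S) (t0 S) (t72 S)).trans (congrArg₂ S.op (e21_0 S) (e21_72 S)))).symm.trans (e21_36 S)
theorem e53_15 : S.op (t53 S) (t15 S) = (t61 S) := (S.comm _ _).trans (e15_53 S)
theorem e15_61 : S.op (t15 S) (t61 S) = (t53 S) := (congrArg (S.op (t15 S)) (e15_53 S)).symm.trans (S.invol (t15 S) (t53 S))
theorem e53_61 : S.op (t53 S) (t61 S) = (t15 S) := (congrArg (S.op (t53 S)) (e53_15 S)).symm.trans (S.invol (t53 S) (t15 S))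
theorem e61_15 : S.op (t61 S) (t15 S) = (t53 S) := (S.comm _ _).trans (e15_61 S)
theorem e61_53 : S.op (t61 S) (t53 S) = (t15 S) := (S.comm _ _).trans (e53_61 S)
theorem e64_77 : S.op (t64 S) (t77 S) = (t61 S) := ((congrArg (S.op (t53 S)) (e3_18 S)).symm.trans ((S.dist (t53 S) (t3 S) (t18 S)).trans (congrArg₂ S.op (e53_3 S) (e53_18 S)))).symm.trans (e53_15 S)
theorem e77_64 : S.op (t77 S) (t64 S) = (t61 S) := (S.comm _ _).trans (e64_77 S)
theorem e77_61 : S.op (t77 S) (t61 S) = (t64 S) := (congrArg (S.op (t77 S)) (e77_64 S)).symm.trans (S.invol (t77 S) (t64 S))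
theorem e40_15 : S.op (t40 S) (t15 S) = (t64 S) := ((congrArg (S.op (t40 S)) (e3_18 S)).symm.trans ((S.dist (t40 S) (t3 S) (t18 S)).trans (congrArg₂ S.op (e40_3 S) (e40_18 S)))).trans (e77_61 S)
theorem e29_40 : S.op (t29 S) (t40 S) = (t53 S) := ((congrArg (S.op (t61 S)) (e3_18 S)).symm.trans ((S.dist (t61 S) (t3 S) (t18 S)).trans (congrArg₂ S.op (e61_3 S) (e61_18 S)))).symm.trans (e61_15 S)
theorem e40_29 : S.op (t40 S) (t29 S) = (t53 S) := (S.comm _ _).trans (e29_40 S)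
theorem e40_53 : S.op (t40 S) (t53 S) = (t29 S) := (congrArg (S.op (t40 S)) (e40_29 S)).symm.trans (S.invol (t40 S) (t29 S))
theorem e77_15 : S.op (t77 S) (t15 S) = (t29 S) := ((congrArg (S.op (t77 S)) (e3_18 S)).symm.trans ((S.dist (t77 S) (t3 S) (t18 S)).trans (congrArg₂ S.op (e77_3 S) (e77_18 S)))).trans (e40_53 S)
theorem e15_77 : S.op (t15 S) (t77 S) = (t29 S) := (S.comm _ _).trans (e77_15 S)
theorem e12_30 : S.op (t12 S) (t30 S) = (t75 S) := ((congrArg (S.op (t12 S)) (e0_60 S)).symm.trans ((S.dist (t12 S) (t0 S) (t60 S)).trans (congrArg₂ S.op (e12_0 S) (e12_60 S)))).trans (e24_47 S)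
theorem e30_12 : S.op (t30 S) (t12 S) = (t75 S) := (S.comm _ _).trans (e12_30 S)
theorem e30_75 : S.op (t30 S) (t75 S) = (t12 S) := (congrArg (S.op (t30 S)) (e30_12 S)).symm.trans (S.invol (t30 S) (t12 S))
theorem e75_30 : S.op (t75 S) (t30 S) = (t12 S) := (S.comm _ _).trans (e30_75 S)
theorem e50_80 : S.op (t50 S) (t80 S) = (t19 S) := ((congrArg (S.op (t70 S)) (e0_60 S)).symm.trans ((S.dist (t70 S) (t0 S) (t60 S)).trans (congrArg₂ S.op (e70_0 S) (e70_60 S)))).symm.trans (e70_30 S)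
theorem e80_50 : S.op (t80 S) (t50 S) = (t19 S) := (S.comm _ _).trans (e50_80 S)
theorem e80_19 : S.op (t80 S) (t19 S) = (t50 S) := (congrArg (S.op (t80 S)) (e80_50 S)).symm.trans (S.invol (t80 S) (t50 S))
theorem e40_30 : S.op (t40 S) (t30 S) = (t50 S) := ((congrArg (S.op (t40 S)) (e0_60 S)).symm.trans ((S.dist (t40 S) (t0 S) (t60 S)).trans (congrArg₂ S.op (e40_0 S) (e40_60 S)))).trans (e80_19 S)
theorem e80_30 : S.op (t80 S) (t30 S) = (t11 S) := ((congrArg (S.op (t80 S)) (e0_60 S)).symm.trans ((S.dist (t80 S) (t0 S) (t60 S)).trans (congrArg₂ S.op (e80_0 S) (e80_60 S)))).trans (e40_70 S)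
theorem e30_80 : S.op (t30 S) (t80 S) = (t11 S) := (S.comm _ _).trans (e80_30 S)
theorem e2_40 : S.op (t2 S) (t40 S) = (t78 S) := ((congrArg (S.op (t19 S)) (e9_60 S)).symm.trans ((S.dist (t19 S) (t9 S) (t60 S)).trans (congrArg₂ S.op (e19_9 S) (e19_60 S)))).symm.trans (e19_49 S)
theorem e40_2 : S.op (t40 S) (t2 S) = (t78 S) := (S.comm _ _).trans (e2_40 S)
theorem e40_78 : S.op (t40 S) (t78 S) = (t2 S) := (congrArg (S.op (t40 S)) (e40_2 S)).symm.trans (S.invol (t40 S) (t2 S))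
theorem e69_49 : S.op (t69 S) (t49 S) = (t2 S) := ((congrArg (S.op (t69 S)) (e9_60 S)).symm.trans ((S.dist (t69 S) (t9 S) (t60 S)).trans (congrArg₂ S.op (e69_9 S) (e69_60 S)))).trans (e40_78 S)
theorem e49_69 : S.op (t49 S) (t69 S) = (t2 S) := (S.comm _ _).trans (e69_49 S)
theorem e31_69 : S.op (t31 S) (t69 S) = (t19 S) := ((congrArg (S.op (t78 S)) (e9_60 S)).symm.trans ((S.dist (t78 S) (t9 S) (t60 S)).trans (congrArg₂ S.op (e78_9 S) (e78_60 S)))).symm.trans (e78_49 S)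
theorem e69_31 : S.op (t69 S) (t31 S) = (t19 S) := (S.comm _ _).trans (e31_69 S)
theorem e69_19 : S.op (t69 S) (t19 S) = (t31 S) := (congrArg (S.op (t69 S)) (e69_31 S)).symm.trans (S.invol (t69 S) (t31 S))
theorem e19_69 : S.op (t19 S) (t69 S) = (t31 S) := (S.comm _ _).trans (e69_19 S)
theorem e12_79 : S.op (t12 S) (t79 S) = (t28 S) := ((congrArg (S.op (t21 S)) (e3_45 S)).symm.trans ((S.dist (t21 S) (t3 S) (t45 S)).trans (congrArg₂ S.op (e21_3 S) (e21_45 S)))).symm.trans (e21_69 S)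
theorem e79_12 : S.op (t79 S) (t12 S) = (t28 S) := (S.comm _ _).trans (e12_79 S)
theorem e12_78 : S.op (t12 S) (t78 S) = (t29 S) := ((congrArg (S.op (t15 S)) (e9_33 S)).symm.trans ((S.dist (t15 S) (t9 S) (t33 S)).trans (congrArg₂ S.op (e15_9 S) (e15_33 S)))).symm.trans (e15_77 S)
theorem e78_12 : S.op (t78 S) (t12 S) = (t29 S) := (S.comm _ _).trans (e12_78 S)
theorem e68_51 : S.op (t68 S) (t51 S) = (t1 S) := ((congrArg (S.op (t42 S)) (e9_33 S)).symm.trans ((S.dist (t42 S) (t9 S) (t33 S)).trans (congrArg₂ S.op (e42_9 S) (e42_33 S)))).symm.trans (e42_77 S)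
theorem e24_36 : S.op (t24 S) (t36 S) = (t59 S) := ((congrArg (S.op (t9 S)) (e3_63 S)).symm.trans ((S.dist (t9 S) (t3 S) (t63 S)).trans (congrArg₂ S.op (e9_3 S) (e9_63 S)))).symm.trans (e9_51 S)
theorem e36_24 : S.op (t36 S) (t24 S) = (t59 S) := (S.comm _ _).trans (e24_36 S)
theorem e78_63 : S.op (t78 S) (t63 S) = (t59 S) := ((congrArg (S.op (t36 S)) (e3_9 S)).symm.trans ((S.dist (t36 S) (t3 S) (t9 S)).trans (congrArg₂ S.op (e36_3 S) (e36_9 S)))).symm.trans (e36_24 S)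
theorem e63_78 : S.op (t63 S) (t78 S) = (t59 S) := (S.comm _ _).trans (e78_63 S)
theorem e63_59 : S.op (t63 S) (t59 S) = (t78 S) := (congrArg (S.op (t63 S)) (e63_78 S)).symm.trans (S.invol (t63 S) (t78 S))
theorem e51_24 : S.op (t51 S) (t24 S) = (t78 S) := ((congrArg (S.op (t51 S)) (e3_9 S)).symm.trans ((S.dist (t51 S) (t3 S) (t9 S)).trans (congrArg₂ S.op (e51_3 S) (e51_9 S)))).trans (e63_59 S)
theorem e24_51 : S.op (t24 S) (t51 S) = (t78 S) := (S.comm _ _).trans (e51_24 S)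
theorem e24_78 : S.op (t24 S) (t78 S) = (t51 S) := (congrArg (S.op (t24 S)) (e24_51 S)).symm.trans (S.invol (t24 S) (t51 S))
theorem e78_24 : S.op (t78 S) (t24 S) = (t51 S) := (S.comm _ _).trans (e24_78 S)
theorem e36_31 : S.op (t36 S) (t31 S) = (t51 S) := ((congrArg (S.op (t78 S)) (e3_9 S)).symm.trans ((S.dist (t78 S) (t3 S) (t9 S)).trans (congrArg₂ S.op (e78_3 S) (e78_9 S)))).symm.trans (e78_24 S)
theorem e36_51 : S.op (t36 S) (t51 S) = (t31 S) := (congrArg (S.op (t36 S)) (e36_31 S)).symm.trans (S.invol (t36 S) (t31 S))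
theorem e51_36 : S.op (t51 S) (t36 S) = (t31 S) := (S.comm _ _).trans (e36_51 S)
theorem e63_24 : S.op (t63 S) (t24 S) = (t31 S) := ((congrArg (S.op (t63 S)) (e3_9 S)).symm.trans ((S.dist (t63 S) (t3 S) (t9 S)).trans (congrArg₂ S.op (e63_3 S) (e63_9 S)))).trans (e51_36 S)
theorem e24_63 : S.op (t24 S) (t63 S) = (t31 S) := (S.comm _ _).trans (e63_24 S)
theorem e12_49 : S.op (t12 S) (t49 S) = (t59 S) := ((congrArg (S.op (t24 S)) (e0_72 S)).symm.trans ((S.dist (t24 S) (t0 S) (t72 S)).trans (congrArg₂ S.op (e24_0 S) (e24_72 S)))).symm.trans (e24_36 S)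
theorem e15_47 : S.op (t15 S) (t47 S) = (t59 S) := ((congrArg (S.op (t12 S)) (e9_60 S)).symm.trans ((S.dist (t12 S) (t9 S) (t60 S)).trans (congrArg₂ S.op (e12_9 S) (e12_60 S)))).symm.trans (e12_49 S)
theorem e15_59 : S.op (t15 S) (t59 S) = (t47 S) := (congrArg (S.op (t15 S)) (e15_47 S)).symm.trans (S.invol (t15 S) (t47 S))
theorem e59_15 : S.op (t59 S) (t15 S) = (t47 S) := (S.comm _ _).trans (e15_59 S)
theorem e51_49 : S.op (t51 S) (t49 S) = (t47 S) := ((congrArg (S.op (t51 S)) (e9_60 S)).symm.trans ((S.dist (t51 S) (t9 S) (t60 S)).trans (congrArg₂ S.op (e51_9 S) (e51_60 S)))).trans (e59_15 S)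
theorem e49_51 : S.op (t49 S) (t51 S) = (t47 S) := (S.comm _ _).trans (e51_49 S)
theorem e49_47 : S.op (t49 S) (t47 S) = (t51 S) := (congrArg (S.op (t49 S)) (e49_51 S)).symm.trans (S.invol (t49 S) (t51 S))
theorem e47_49 : S.op (t47 S) (t49 S) = (t51 S) := (S.comm _ _).trans (e49_47 S)
theorem e55_12 : S.op (t55 S) (t12 S) = (t51 S) := ((congrArg (S.op (t47 S)) (e9_60 S)).symm.trans ((S.dist (t47 S) (t9 S) (t60 S)).trans (congrArg₂ S.op (e47_9 S) (e47_60 S)))).symm.trans (e47_49 S)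
theorem e12_55 : S.op (t12 S) (t55 S) = (t51 S) := (S.comm _ _).trans (e55_12 S)
theorem e12_51 : S.op (t12 S) (t51 S) = (t55 S) := (congrArg (S.op (t12 S)) (e12_55 S)).symm.trans (S.invol (t12 S) (t55 S))
theorem e51_12 : S.op (t51 S) (t12 S) = (t55 S) := (S.comm _ _).trans (e12_51 S)
theorem e15_49 : S.op (t15 S) (t49 S) = (t55 S) := ((congrArg (S.op (t15 S)) (e9_60 S)).symm.trans ((S.dist (t15 S) (t9 S) (t60 S)).trans (congrArg₂ S.op (e15_9 S) (e15_60 S)))).trans (e12_51 S)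
theorem e49_15 : S.op (t49 S) (t15 S) = (t55 S) := (S.comm _ _).trans (e15_49 S)
theorem e72_59 : S.op (t72 S) (t59 S) = (t71 S) := ((congrArg (S.op (t36 S)) (e0_24 S)).symm.trans ((S.dist (t36 S) (t0 S) (t24 S)).trans (congrArg₂ S.op (e36_0 S) (e36_24 S)))).symm.trans (e36_12 S)
theorem e72_71 : S.op (t72 S) (t71 S) = (t59 S) := (congrArg (S.op (t72 S)) (e72_59 S)).symm.trans (S.invol (t72 S) (t59 S))
theorem e71_72 : S.op (t71 S) (t72 S) = (t59 S) := (S.comm _ _).trans (e72_71 S)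
theorem e41_23 : S.op (t41 S) (t23 S) = (t59 S) := ((congrArg (S.op (t71 S)) (e9_27 S)).symm.trans ((S.dist (t71 S) (t9 S) (t27 S)).trans (congrArg₂ S.op (e71_9 S) (e71_27 S)))).symm.trans (e71_72 S)
theorem e41_59 : S.op (t41 S) (t59 S) = (t23 S) := (congrArg (S.op (t41 S)) (e41_23 S)).symm.trans (S.invol (t41 S) (t23 S))
theorem e59_41 : S.op (t59 S) (t41 S) = (t23 S) := (S.comm _ _).trans (e41_59 S)
theorem e51_72 : S.op (t51 S) (t72 S) = (t23 S) := ((congrArg (S.op (t51 S)) (e9_27 S)).symm.trans ((S.dist (t51 S) (t9 S) (t27 S)).trans (congrArg₂ S.op (e51_9 S) (e51_27 S)))).trans (e59_41 S)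
theorem e63_33 : S.op (t63 S) (t33 S) = (t23 S) := ((congrArg (S.op (t63 S)) (e3_54 S)).symm.trans ((S.dist (t63 S) (t3 S) (t54 S)).trans (congrArg₂ S.op (e63_3 S) (e63_54 S)))).trans (e51_72 S)
theorem e33_63 : S.op (t33 S) (t63 S) = (t23 S) := (S.comm _ _).trans (e63_33 S)
theorem e30_67 : S.op (t30 S) (t67 S) = (t23 S) := ((congrArg (S.op (t33 S)) (e27_18 S)).symm.trans ((S.dist (t33 S) (t27 S) (t18 S)).trans (congrArg₂ S.op (e33_27 S) (e33_18 S)))).symm.trans (e33_63 S)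
theorem e30_23 : S.op (t30 S) (t23 S) = (t67 S) := (congrArg (S.op (t30 S)) (e30_67 S)).symm.trans (S.invol (t30 S) (t67 S))
theorem e23_30 : S.op (t23 S) (t30 S) = (t67 S) := (S.comm _ _).trans (e30_23 S)
theorem e71_63 : S.op (t71 S) (t63 S) = (t67 S) := ((congrArg (S.op (t71 S)) (e27_18 S)).symm.trans ((S.dist (t71 S) (t27 S) (t18 S)).trans (congrArg₂ S.op (e71_27 S) (e71_18 S)))).trans (e23_30 S)
theorem e63_71 : S.op (t63 S) (t71 S) = (t67 S) := (S.comm _ _).trans (e71_63 S)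
theorem e63_67 : S.op (t63 S) (t67 S) = (t71 S) := (congrArg (S.op (t63 S)) (e63_71 S)).symm.trans (S.invol (t63 S) (t71 S))
theorem e67_63 : S.op (t67 S) (t63 S) = (t71 S) := (S.comm _ _).trans (e63_67 S)
theorem e25_33 : S.op (t25 S) (t33 S) = (t71 S) := ((congrArg (S.op (t67 S)) (e27_18 S)).symm.trans ((S.dist (t67 S) (t27 S) (t18 S)).trans (congrArg₂ S.op (e67_27 S) (e67_18 S)))).symm.trans (e67_63 S)
theorem e33_25 : S.op (t33 S) (t25 S) = (t71 S) := (S.comm _ _).trans (e25_33 S)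
theorem e33_71 : S.op (t33 S) (t71 S) = (t25 S) := (congrArg (S.op (t33 S)) (e33_25 S)).symm.trans (S.invol (t33 S) (t25 S))
theorem e30_63 : S.op (t30 S) (t63 S) = (t25 S) := ((congrArg (S.op (t30 S)) (e27_18 S)).symm.trans ((S.dist (t30 S) (t27 S) (t18 S)).trans (congrArg₂ S.op (e30_27 S) (e30_18 S)))).trans (e33_71 S)
theorem e63_30 : S.op (t63 S) (t30 S) = (t25 S) := (S.comm _ _).trans (e30_63 S)
theorem e54_42 : S.op (t54 S) (t42 S) = (t23 S) := ((congrArg (S.op (t54 S)) (e3_72 S)).symm.trans ((S.dist (t54 S) (t3 S) (t72 S)).trans (congrArg₂ S.op (e54_3 S) (e54_72 S)))).trans (e33_63 S)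
theorem e42_54 : S.op (t42 S) (t54 S) = (t23 S) := (S.comm _ _).trans (e54_42 S)
theorem e49_75 : S.op (t49 S) (t75 S) = (t23 S) := ((congrArg (S.op (t42 S)) (e27_0 S)).symm.trans ((S.dist (t42 S) (t27 S) (t0 S)).trans (congrArg₂ S.op (e42_27 S) (e42_0 S)))).symm.trans (e42_54 S)
theorem e49_23 : S.op (t49 S) (t23 S) = (t75 S) := (congrArg (S.op (t49 S)) (e49_75 S)).symm.trans (S.invol (t49 S) (t75 S))
theorem e23_49 : S.op (t23 S) (t49 S) = (t75 S) := (S.comm _ _).trans (e49_23 S)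
theorem e71_54 : S.op (t71 S) (t54 S) = (t75 S) := ((congrArg (S.op (t71 S)) (e27_0 S)).symm.trans ((S.dist (t71 S) (t27 S) (t0 S)).trans (congrArg₂ S.op (e71_27 S) (e71_0 S)))).trans (e23_49 S)
theorem e54_71 : S.op (t54 S) (t71 S) = (t75 S) := (S.comm _ _).trans (e71_54 S)
theorem e54_75 : S.op (t54 S) (t75 S) = (t71 S) := (congrArg (S.op (t54 S)) (e54_71 S)).symm.trans (S.invol (t54 S) (t71 S))
theorem e75_54 : S.op (t75 S) (t54 S) = (t71 S) := (S.comm _ _).trans (e54_75 S)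
theorem e16_42 : S.op (t16 S) (t42 S) = (t71 S) := ((congrArg (S.op (t75 S)) (e27_0 S)).symm.trans ((S.dist (t75 S) (t27 S) (t0 S)).trans (congrArg₂ S.op (e75_27 S) (e75_0 S)))).symm.trans (e75_54 S)
theorem e42_16 : S.op (t42 S) (t16 S) = (t71 S) := (S.comm _ _).trans (e16_42 S)
theorem e42_71 : S.op (t42 S) (t71 S) = (t16 S) := (congrArg (S.op (t42 S)) (e42_16 S)).symm.trans (S.invol (t42 S) (t16 S))
theorem e49_54 : S.op (t49 S) (t54 S) = (t16 S) := ((congrArg (S.op (t49 S)) (e27_0 S)).symm.trans ((S.dist (t49 S) (t27 S) (t0 S)).trans (congrArg₂ S.op (e49_27 S) (e49_0 S)))).trans (e42_71 S)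
theorem e60_16 : S.op (t60 S) (t16 S) = (t53 S) := ((congrArg (S.op (t49 S)) (e9_54 S)).symm.trans ((S.dist (t49 S) (t9 S) (t54 S)).trans (congrArg₂ S.op (e49_9 S) (e49_54 S)))).symm.trans (e49_45 S)
theorem e60_53 : S.op (t60 S) (t53 S) = (t16 S) := (congrArg (S.op (t60 S)) (e60_16 S)).symm.trans (S.invol (t60 S) (t16 S))
theorem e53_60 : S.op (t53 S) (t60 S) = (t16 S) := (S.comm _ _).trans (e60_53 S)
theorem e64_39 : S.op (t64 S) (t39 S) = (t16 S) := ((congrArg (S.op (t53 S)) (e3_27 S)).symm.trans ((S.dist (t53 S) (t3 S) (t27 S)).trans (congrArg₂ S.op (e53_3 S) (e53_27 S)))).symm.trans (e53_60 S)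
theorem e39_64 : S.op (t39 S) (t64 S) = (t16 S) := (S.comm _ _).trans (e64_39 S)
theorem e39_16 : S.op (t39 S) (t16 S) = (t64 S) := (congrArg (S.op (t39 S)) (e39_64 S)).symm.trans (S.invol (t39 S) (t64 S))
theorem e75_60 : S.op (t75 S) (t60 S) = (t64 S) := ((congrArg (S.op (t75 S)) (e3_27 S)).symm.trans ((S.dist (t75 S) (t3 S) (t27 S)).trans (congrArg₂ S.op (e75_3 S) (e75_27 S)))).trans (e39_16 S)
theorem e60_75 : S.op (t60 S) (t75 S) = (t64 S) := (S.comm _ _).trans (e75_60 S)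
theorem e60_64 : S.op (t60 S) (t64 S) = (t75 S) := (congrArg (S.op (t60 S)) (e60_75 S)).symm.trans (S.invol (t60 S) (t75 S))
theorem e64_60 : S.op (t64 S) (t60 S) = (t75 S) := (S.comm _ _).trans (e60_64 S)
theorem e53_20 : S.op (t53 S) (t20 S) = (t75 S) := ((congrArg (S.op (t64 S)) (e3_27 S)).symm.trans ((S.dist (t64 S) (t3 S) (t27 S)).trans (congrArg₂ S.op (e64_3 S) (e64_27 S)))).symm.trans (e64_60 S)
theorem e53_75 : S.op (t53 S) (t75 S) = (t20 S) := (congrArg (S.op (t53 S)) (e53_20 S)).symm.trans (S.invol (t53 S) (t20 S))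
theorem e75_53 : S.op (t75 S) (t53 S) = (t20 S) := (S.comm _ _).trans (e53_75 S)
theorem e39_60 : S.op (t39 S) (t60 S) = (t20 S) := ((congrArg (S.op (t39 S)) (e3_27 S)).symm.trans ((S.dist (t39 S) (t3 S) (t27 S)).trans (congrArg₂ S.op (e39_3 S) (e39_27 S)))).trans (e75_53 S)
theorem e60_39 : S.op (t60 S) (t39 S) = (t20 S) := (S.comm _ _).trans (e39_60 S)
theorem e57_45 : S.op (t57 S) (t45 S) = (t16 S) := ((congrArg (S.op (t57 S)) (e9_54 S)).symm.trans ((S.dist (t57 S) (t9 S) (t54 S)).trans (congrArg₂ S.op (e57_9 S) (e57_54 S)))).trans (e53_60 S)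
theorem e45_57 : S.op (t45 S) (t57 S) = (t16 S) := (S.comm _ _).trans (e57_45 S)
theorem e36_66 : S.op (t36 S) (t66 S) = (t16 S) := ((congrArg (S.op (t45 S)) (e27_6 S)).symm.trans ((S.dist (t45 S) (t27 S) (t6 S)).trans (congrArg₂ S.op (e45_27 S) (e45_6 S)))).symm.trans (e45_57 S)
theorem e36_16 : S.op (t36 S) (t16 S) = (t66 S) := (congrArg (S.op (t36 S)) (e36_66 S)).symm.trans (S.invol (t36 S) (t66 S))
theorem e16_36 : S.op (t16 S) (t36 S) = (t66 S) := (S.comm _ _).trans (e36_16 S)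
theorem e75_57 : S.op (t75 S) (t57 S) = (t66 S) := ((congrArg (S.op (t75 S)) (e27_6 S)).symm.trans ((S.dist (t75 S) (t27 S) (t6 S)).trans (congrArg₂ S.op (e75_27 S) (e75_6 S)))).trans (e16_36 S)
theorem e57_75 : S.op (t57 S) (t75 S) = (t66 S) := (S.comm _ _).trans (e75_57 S)
theorem e57_66 : S.op (t57 S) (t66 S) = (t75 S) := (congrArg (S.op (t57 S)) (e57_75 S)).symm.trans (S.invol (t57 S) (t75 S))
theorem e66_57 : S.op (t66 S) (t57 S) = (t75 S) := (S.comm _ _).trans (e57_66 S)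
theorem e26_45 : S.op (t26 S) (t45 S) = (t75 S) := ((congrArg (S.op (t66 S)) (e27_6 S)).symm.trans ((S.dist (t66 S) (t27 S) (t6 S)).trans (congrArg₂ S.op (e66_27 S) (e66_6 S)))).symm.trans (e66_57 S)
theorem e45_26 : S.op (t45 S) (t26 S) = (t75 S) := (S.comm _ _).trans (e26_45 S)
theorem e45_75 : S.op (t45 S) (t75 S) = (t26 S) := (congrArg (S.op (t45 S)) (e45_26 S)).symm.trans (S.invol (t45 S) (t26 S))
theorem e75_45 : S.op (t75 S) (t45 S) = (t26 S) := (S.comm _ _).trans (e45_75 S)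
theorem e35_71 : S.op (t35 S) (t71 S) = (t26 S) := ((congrArg (S.op (t75 S)) (e9_54 S)).symm.trans ((S.dist (t75 S) (t9 S) (t54 S)).trans (congrArg₂ S.op (e75_9 S) (e75_54 S)))).symm.trans (e75_45 S)
theorem e71_35 : S.op (t71 S) (t35 S) = (t26 S) := (S.comm _ _).trans (e35_71 S)
theorem e71_26 : S.op (t71 S) (t26 S) = (t35 S) := (congrArg (S.op (t71 S)) (e71_35 S)).symm.trans (S.invol (t71 S) (t35 S))
theorem e41_45 : S.op (t41 S) (t45 S) = (t35 S) := ((congrArg (S.op (t41 S)) (e9_54 S)).symm.trans ((S.dist (t41 S) (t9 S) (t54 S)).trans (congrArg₂ S.op (e41_9 S) (e41_54 S)))).trans (e71_26 S)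
theorem e36_57 : S.op (t36 S) (t57 S) = (t26 S) := ((congrArg (S.op (t36 S)) (e27_6 S)).symm.trans ((S.dist (t36 S) (t27 S) (t6 S)).trans (congrArg₂ S.op (e36_27 S) (e36_6 S)))).trans (e45_75 S)
theorem e57_36 : S.op (t57 S) (t36 S) = (t26 S) := (S.comm _ _).trans (e36_57 S)
theorem e33_70 : S.op (t33 S) (t70 S) = (t26 S) := ((congrArg (S.op (t57 S)) (e0_72 S)).symm.trans ((S.dist (t57 S) (t0 S) (t72 S)).trans (congrArg₂ S.op (e57_0 S) (e57_72 S)))).symm.trans (e57_36 S)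
theorem e70_33 : S.op (t70 S) (t33 S) = (t26 S) := (S.comm _ _).trans (e33_70 S)
theorem e45_76 : S.op (t45 S) (t76 S) = (t25 S) := ((congrArg (S.op (t63 S)) (e0_60 S)).symm.trans ((S.dist (t63 S) (t0 S) (t60 S)).trans (congrArg₂ S.op (e63_0 S) (e63_60 S)))).symm.trans (e63_30 S)
theorem e76_45 : S.op (t76 S) (t45 S) = (t25 S) := (S.comm _ _).trans (e45_76 S)
theorem e42_64 : S.op (t42 S) (t64 S) = (t12 S) := ((congrArg (S.op (t75 S)) (e0_60 S)).symm.trans ((S.dist (t75 S) (t0 S) (t60 S)).trans (congrArg₂ S.op (e75_0 S) (e75_60 S)))).symm.trans (e75_30 S)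
theorem e42_12 : S.op (t42 S) (t12 S) = (t64 S) := (congrArg (S.op (t42 S)) (e42_64 S)).symm.trans (S.invol (t42 S) (t64 S))
theorem e12_42 : S.op (t12 S) (t42 S) = (t64 S) := (S.comm _ _).trans (e42_12 S)
theorem e21_34 : S.op (t21 S) (t34 S) = (t64 S) := ((congrArg (S.op (t12 S)) (e3_72 S)).symm.trans ((S.dist (t12 S) (t3 S) (t72 S)).trans (congrArg₂ S.op (e12_3 S) (e12_72 S)))).symm.trans (e12_42 S)
theorem e21_64 : S.op (t21 S) (t64 S) = (t34 S) := (congrArg (S.op (t21 S)) (e21_34 S)).symm.trans (S.invol (t21 S) (t34 S))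
theorem e64_21 : S.op (t64 S) (t21 S) = (t34 S) := (S.comm _ _).trans (e21_64 S)
theorem e53_42 : S.op (t53 S) (t42 S) = (t34 S) := ((congrArg (S.op (t53 S)) (e3_72 S)).symm.trans ((S.dist (t53 S) (t3 S) (t72 S)).trans (congrArg₂ S.op (e53_3 S) (e53_72 S)))).trans (e64_21 S)
theorem e42_53 : S.op (t42 S) (t53 S) = (t34 S) := (S.comm _ _).trans (e53_42 S)
theorem e42_34 : S.op (t42 S) (t34 S) = (t53 S) := (congrArg (S.op (t42 S)) (e42_53 S)).symm.trans (S.invol (t42 S) (t53 S))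
theorem e34_42 : S.op (t34 S) (t42 S) = (t53 S) := (S.comm _ _).trans (e42_34 S)
theorem e56_12 : S.op (t56 S) (t12 S) = (t53 S) := ((congrArg (S.op (t34 S)) (e3_72 S)).symm.trans ((S.dist (t34 S) (t3 S) (t72 S)).trans (congrArg₂ S.op (e34_3 S) (e34_72 S)))).symm.trans (e34_42 S)
theorem e12_56 : S.op (t12 S) (t56 S) = (t53 S) := (S.comm _ _).trans (e56_12 S)
theorem e12_53 : S.op (t12 S) (t53 S) = (t56 S) := (congrArg (S.op (t12 S)) (e12_56 S)).symm.trans (S.invol (t12 S) (t56 S))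
theorem e21_42 : S.op (t21 S) (t42 S) = (t56 S) := ((congrArg (S.op (t21 S)) (e3_72 S)).symm.trans ((S.dist (t21 S) (t3 S) (t72 S)).trans (congrArg₂ S.op (e21_3 S) (e21_72 S)))).trans (e12_53 S)
theorem e42_21 : S.op (t42 S) (t21 S) = (t56 S) := (S.comm _ _).trans (e21_42 S)
theorem e24_30 : S.op (t24 S) (t30 S) = (t64 S) := ((congrArg (S.op (t24 S)) (e0_60 S)).symm.trans ((S.dist (t24 S) (t0 S) (t60 S)).trans (congrArg₂ S.op (e24_0 S) (e24_60 S)))).trans (e12_42 S)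
theorem e30_24 : S.op (t30 S) (t24 S) = (t64 S) := (S.comm _ _).trans (e24_30 S)
theorem e57_79 : S.op (t57 S) (t79 S) = (t64 S) := ((congrArg (S.op (t30 S)) (e3_9 S)).symm.trans ((S.dist (t30 S) (t3 S) (t9 S)).trans (congrArg₂ S.op (e30_3 S) (e30_9 S)))).symm.trans (e30_24 S)
theorem e57_64 : S.op (t57 S) (t64 S) = (t79 S) := (congrArg (S.op (t57 S)) (e57_79 S)).symm.trans (S.invol (t57 S) (t79 S))
theorem e64_57 : S.op (t64 S) (t57 S) = (t79 S) := (S.comm _ _).trans (e57_64 S)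
theorem e53_24 : S.op (t53 S) (t24 S) = (t79 S) := ((congrArg (S.op (t53 S)) (e3_9 S)).symm.trans ((S.dist (t53 S) (t3 S) (t9 S)).trans (congrArg₂ S.op (e53_3 S) (e53_9 S)))).trans (e64_57 S)
theorem e24_53 : S.op (t24 S) (t53 S) = (t79 S) := (S.comm _ _).trans (e53_24 S)
theorem e24_79 : S.op (t24 S) (t79 S) = (t53 S) := (congrArg (S.op (t24 S)) (e24_53 S)).symm.trans (S.invol (t24 S) (t53 S))
theorem e79_24 : S.op (t79 S) (t24 S) = (t53 S) := (S.comm _ _).trans (e24_79 S)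
theorem e38_30 : S.op (t38 S) (t30 S) = (t53 S) := ((congrArg (S.op (t79 S)) (e3_9 S)).symm.trans ((S.dist (t79 S) (t3 S) (t9 S)).trans (congrArg₂ S.op (e79_3 S) (e79_9 S)))).symm.trans (e79_24 S)
theorem e30_38 : S.op (t30 S) (t38 S) = (t53 S) := (S.comm _ _).trans (e38_30 S)
theorem e30_53 : S.op (t30 S) (t53 S) = (t38 S) := (congrArg (S.op (t30 S)) (e30_38 S)).symm.trans (S.invol (t30 S) (t38 S))
theorem e57_24 : S.op (t57 S) (t24 S) = (t38 S) := ((congrArg (S.op (t57 S)) (e3_9 S)).symm.trans ((S.dist (t57 S) (t3 S) (t9 S)).trans (congrArg₂ S.op (e57_3 S) (e57_9 S)))).trans (e30_53 S)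
theorem e24_57 : S.op (t24 S) (t57 S) = (t38 S) := (S.comm _ _).trans (e57_24 S)
theorem e68_15 : S.op (t68 S) (t15 S) = (t38 S) := ((congrArg (S.op (t24 S)) (e27_6 S)).symm.trans ((S.dist (t24 S) (t27 S) (t6 S)).trans (congrArg₂ S.op (e24_27 S) (e24_6 S)))).symm.trans (e24_57 S)
theorem e15_68 : S.op (t15 S) (t68 S) = (t38 S) := (S.comm _ _).trans (e68_15 S)
theorem e66_78 : S.op (t66 S) (t78 S) = (t55 S) := ((congrArg (S.op (t51 S)) (e0_24 S)).symm.trans ((S.dist (t51 S) (t0 S) (t24 S)).trans (congrArg₂ S.op (e51_0 S) (e51_24 S)))).symm.trans (e51_12 S)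
theorem e78_66 : S.op (t78 S) (t66 S) = (t55 S) := (S.comm _ _).trans (e66_78 S)
theorem e78_55 : S.op (t78 S) (t55 S) = (t66 S) := (congrArg (S.op (t78 S)) (e78_66 S)).symm.trans (S.invol (t78 S) (t66 S))
theorem e39_12 : S.op (t39 S) (t12 S) = (t66 S) := ((congrArg (S.op (t39 S)) (e0_24 S)).symm.trans ((S.dist (t39 S) (t0 S) (t24 S)).trans (congrArg₂ S.op (e39_0 S) (e39_24 S)))).trans (e78_55 S)
theorem e39_51 : S.op (t39 S) (t51 S) = (t29 S) := ((congrArg (S.op (t78 S)) (e0_24 S)).symm.trans ((S.dist (t78 S) (t0 S) (t24 S)).trans (congrArg₂ S.op (e78_0 S) (e78_24 S)))).symm.trans (e78_12 S)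
theorem e41_53 : S.op (t41 S) (t53 S) = (t28 S) := ((congrArg (S.op (t79 S)) (e0_24 S)).symm.trans ((S.dist (t79 S) (t0 S) (t24 S)).trans (congrArg₂ S.op (e79_0 S) (e79_24 S)))).symm.trans (e79_12 S)
theorem e76_6 : S.op (t76 S) (t6 S) = (t38 S) := ((congrArg (S.op (t15 S)) (e27_24 S)).symm.trans ((S.dist (t15 S) (t27 S) (t24 S)).trans (congrArg₂ S.op (e15_27 S) (e15_24 S)))).symm.trans (e15_68 S)
theorem e41_44 : S.op (t41 S) (t44 S) = (t38 S) := ((congrArg (S.op (t76 S)) (e3_0 S)).symm.trans ((S.dist (t76 S) (t3 S) (t0 S)).trans (congrArg₂ S.op (e76_3 S) (e76_0 S)))).symm.trans (e76_6 S)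
theorem e41_38 : S.op (t41 S) (t38 S) = (t44 S) := (congrArg (S.op (t41 S)) (e41_44 S)).symm.trans (S.invol (t41 S) (t44 S))
theorem e38_41 : S.op (t38 S) (t41 S) = (t44 S) := (S.comm _ _).trans (e41_38 S)
theorem e79_6 : S.op (t79 S) (t6 S) = (t44 S) := ((congrArg (S.op (t79 S)) (e3_0 S)).symm.trans ((S.dist (t79 S) (t3 S) (t0 S)).trans (congrArg₂ S.op (e79_3 S) (e79_0 S)))).trans (e38_41 S)
theorem e6_79 : S.op (t6 S) (t79 S) = (t44 S) := (S.comm _ _).trans (e79_6 S)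
theorem e6_44 : S.op (t6 S) (t44 S) = (t79 S) := (congrArg (S.op (t6 S)) (e6_79 S)).symm.trans (S.invol (t6 S) (t79 S))
theorem e44_6 : S.op (t44 S) (t6 S) = (t79 S) := (S.comm _ _).trans (e6_44 S)
theorem e73_76 : S.op (t73 S) (t76 S) = (t79 S) := ((congrArg (S.op (t44 S)) (e3_0 S)).symm.trans ((S.dist (t44 S) (t3 S) (t0 S)).trans (congrArg₂ S.op (e44_3 S) (e44_0 S)))).symm.trans (e44_6 S)
theorem e76_73 : S.op (t76 S) (t73 S) = (t79 S) := (S.comm _ _).trans (e73_76 S)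
theorem e76_79 : S.op (t76 S) (t79 S) = (t73 S) := (congrArg (S.op (t76 S)) (e76_73 S)).symm.trans (S.invol (t76 S) (t73 S))
theorem e41_6 : S.op (t41 S) (t6 S) = (t73 S) := ((congrArg (S.op (t41 S)) (e3_0 S)).symm.trans ((S.dist (t41 S) (t3 S) (t0 S)).trans (congrArg₂ S.op (e41_3 S) (e41_0 S)))).trans (e76_79 S)
theorem e6_41 : S.op (t6 S) (t41 S) = (t73 S) := (S.comm _ _).trans (e41_6 S)
theorem e30_45 : S.op (t30 S) (t45 S) = (t44 S) := ((congrArg (S.op (t30 S)) (e9_54 S)).symm.trans ((S.dist (t30 S) (t9 S) (t54 S)).trans (congrArg₂ S.op (e30_9 S) (e30_54 S)))).trans (e79_6 S)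
theorem e45_30 : S.op (t45 S) (t30 S) = (t44 S) := (S.comm _ _).trans (e30_45 S)
theorem e54_21 : S.op (t54 S) (t21 S) = (t44 S) := ((congrArg (S.op (t54 S)) (e9_6 S)).symm.trans ((S.dist (t54 S) (t9 S) (t6 S)).trans (congrArg₂ S.op (e54_9 S) (e54_6 S)))).trans (e45_30 S)
theorem e21_54 : S.op (t21 S) (t54 S) = (t44 S) := (S.comm _ _).trans (e54_21 S)
theorem e54_44 : S.op (t54 S) (t44 S) = (t21 S) := (congrArg (S.op (t54 S)) (e54_21 S)).symm.trans (S.invol (t54 S) (t21 S))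
theorem e44_54 : S.op (t44 S) (t54 S) = (t21 S) := (S.comm _ _).trans (e54_44 S)
theorem e70_15 : S.op (t70 S) (t15 S) = (t44 S) := ((congrArg (S.op (t21 S)) (e27_0 S)).symm.trans ((S.dist (t21 S) (t27 S) (t0 S)).trans (congrArg₂ S.op (e21_27 S) (e21_0 S)))).symm.trans (e21_54 S)
theorem e15_70 : S.op (t15 S) (t70 S) = (t44 S) := (S.comm _ _).trans (e70_15 S)
theorem e15_44 : S.op (t15 S) (t44 S) = (t70 S) := (congrArg (S.op (t15 S)) (e15_70 S)).symm.trans (S.invol (t15 S) (t70 S))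
theorem e76_54 : S.op (t76 S) (t54 S) = (t70 S) := ((congrArg (S.op (t76 S)) (e27_0 S)).symm.trans ((S.dist (t76 S) (t27 S) (t0 S)).trans (congrArg₂ S.op (e76_27 S) (e76_0 S)))).trans (e15_44 S)
theorem e54_76 : S.op (t54 S) (t76 S) = (t70 S) := (S.comm _ _).trans (e76_54 S)
theorem e54_70 : S.op (t54 S) (t70 S) = (t76 S) := (congrArg (S.op (t54 S)) (e54_76 S)).symm.trans (S.invol (t54 S) (t76 S))
theorem e70_54 : S.op (t70 S) (t54 S) = (t76 S) := (S.comm _ _).trans (e54_70 S)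
theorem e21_50 : S.op (t21 S) (t50 S) = (t76 S) := ((congrArg (S.op (t70 S)) (e27_0 S)).symm.trans ((S.dist (t70 S) (t27 S) (t0 S)).trans (congrArg₂ S.op (e70_27 S) (e70_0 S)))).symm.trans (e70_54 S)
theorem e21_76 : S.op (t21 S) (t76 S) = (t50 S) := (congrArg (S.op (t21 S)) (e21_50 S)).symm.trans (S.invol (t21 S) (t50 S))
theorem e76_21 : S.op (t76 S) (t21 S) = (t50 S) := (S.comm _ _).trans (e21_76 S)
theorem e15_54 : S.op (t15 S) (t54 S) = (t50 S) := ((congrArg (S.op (t15 S)) (e27_0 S)).symm.trans ((S.dist (t15 S) (t27 S) (t0 S)).trans (congrArg₂ S.op (e15_27 S) (e15_0 S)))).trans (e76_21 S)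
theorem e54_15 : S.op (t54 S) (t15 S) = (t50 S) := (S.comm _ _).trans (e15_54 S)
theorem e54_50 : S.op (t54 S) (t50 S) = (t15 S) := (congrArg (S.op (t54 S)) (e54_15 S)).symm.trans (S.invol (t54 S) (t15 S))
theorem e50_54 : S.op (t50 S) (t54 S) = (t15 S) := (S.comm _ _).trans (e54_50 S)
theorem e12_50 : S.op (t12 S) (t50 S) = (t58 S) := ((congrArg (S.op (t15 S)) (e9_54 S)).symm.trans ((S.dist (t15 S) (t9 S) (t54 S)).trans (congrArg₂ S.op (e15_9 S) (e15_54 S)))).symm.trans (e15_45 S)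
theorem e12_58 : S.op (t12 S) (t58 S) = (t50 S) := (congrArg (S.op (t12 S)) (e12_50 S)).symm.trans (S.invol (t12 S) (t50 S))
theorem e58_12 : S.op (t58 S) (t12 S) = (t50 S) := (S.comm _ _).trans (e12_58 S)
theorem e52_45 : S.op (t52 S) (t45 S) = (t50 S) := ((congrArg (S.op (t52 S)) (e9_54 S)).symm.trans ((S.dist (t52 S) (t9 S) (t54 S)).trans (congrArg₂ S.op (e52_9 S) (e52_54 S)))).trans (e58_12 S)
theorem e45_52 : S.op (t45 S) (t52 S) = (t50 S) := (S.comm _ _).trans (e52_45 S)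
theorem e45_50 : S.op (t45 S) (t50 S) = (t52 S) := (congrArg (S.op (t45 S)) (e45_52 S)).symm.trans (S.invol (t45 S) (t52 S))
theorem e50_45 : S.op (t50 S) (t45 S) = (t52 S) := (S.comm _ _).trans (e45_50 S)
theorem e62_15 : S.op (t62 S) (t15 S) = (t52 S) := ((congrArg (S.op (t50 S)) (e9_54 S)).symm.trans ((S.dist (t50 S) (t9 S) (t54 S)).trans (congrArg₂ S.op (e50_9 S) (e50_54 S)))).symm.trans (e50_45 S)
theorem e15_62 : S.op (t15 S) (t62 S) = (t52 S) := (S.comm _ _).trans (e62_15 S)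
theorem e15_52 : S.op (t15 S) (t52 S) = (t62 S) := (congrArg (S.op (t15 S)) (e15_62 S)).symm.trans (S.invol (t15 S) (t62 S))
theorem e52_15 : S.op (t52 S) (t15 S) = (t62 S) := (S.comm _ _).trans (e15_52 S)
theorem e12_45 : S.op (t12 S) (t45 S) = (t62 S) := ((congrArg (S.op (t12 S)) (e9_54 S)).symm.trans ((S.dist (t12 S) (t9 S) (t54 S)).trans (congrArg₂ S.op (e12_9 S) (e12_54 S)))).trans (e15_52 S)
theorem e45_12 : S.op (t45 S) (t12 S) = (t62 S) := (S.comm _ _).trans (e12_45 S)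
theorem e34_70 : S.op (t34 S) (t70 S) = (t25 S) := ((congrArg (S.op (t76 S)) (e9_54 S)).symm.trans ((S.dist (t76 S) (t9 S) (t54 S)).trans (congrArg₂ S.op (e76_9 S) (e76_54 S)))).symm.trans (e76_45 S)
theorem e70_34 : S.op (t70 S) (t34 S) = (t25 S) := (S.comm _ _).trans (e34_70 S)
theorem e70_25 : S.op (t70 S) (t25 S) = (t34 S) := (congrArg (S.op (t70 S)) (e70_34 S)).symm.trans (S.invol (t70 S) (t34 S))
theorem e39_45 : S.op (t39 S) (t45 S) = (t34 S) := ((congrArg (S.op (t39 S)) (e9_54 S)).symm.trans ((S.dist (t39 S) (t9 S) (t54 S)).trans (congrArg₂ S.op (e39_9 S) (e39_54 S)))).trans (e70_25 S)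
theorem e45_39 : S.op (t45 S) (t39 S) = (t34 S) := (S.comm _ _).trans (e39_45 S)
theorem e45_34 : S.op (t45 S) (t34 S) = (t39 S) := (congrArg (S.op (t45 S)) (e45_39 S)).symm.trans (S.invol (t45 S) (t39 S))
theorem e34_45 : S.op (t34 S) (t45 S) = (t39 S) := (S.comm _ _).trans (e45_34 S)
theorem e18_50 : S.op (t18 S) (t50 S) = (t78 S) := ((congrArg (S.op (t15 S)) (e3_54 S)).symm.trans ((S.dist (t15 S) (t3 S) (t54 S)).trans (congrArg₂ S.op (e15_3 S) (e15_54 S)))).symm.trans (e15_33 S)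
theorem e50_18 : S.op (t50 S) (t18 S) = (t78 S) := (S.comm _ _).trans (e18_50 S)
theorem e18_78 : S.op (t18 S) (t78 S) = (t50 S) := (congrArg (S.op (t18 S)) (e18_50 S)).symm.trans (S.invol (t18 S) (t50 S))
theorem e78_18 : S.op (t78 S) (t18 S) = (t50 S) := (S.comm _ _).trans (e18_78 S)
theorem e62_70 : S.op (t62 S) (t70 S) = (t78 S) := ((congrArg (S.op (t50 S)) (e9_0 S)).symm.trans ((S.dist (t50 S) (t9 S) (t0 S)).trans (congrArg₂ S.op (e50_9 S) (e50_0 S)))).symm.trans (e50_18 S)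
theorem e70_62 : S.op (t70 S) (t62 S) = (t78 S) := (S.comm _ _).trans (e62_70 S)
theorem e70_78 : S.op (t70 S) (t78 S) = (t62 S) := (congrArg (S.op (t70 S)) (e70_62 S)).symm.trans (S.invol (t70 S) (t62 S))
theorem e39_18 : S.op (t39 S) (t18 S) = (t62 S) := ((congrArg (S.op (t39 S)) (e9_0 S)).symm.trans ((S.dist (t39 S) (t9 S) (t0 S)).trans (congrArg₂ S.op (e39_9 S) (e39_0 S)))).trans (e70_78 S)
theorem e18_39 : S.op (t18 S) (t39 S) = (t62 S) := (S.comm _ _).trans (e39_18 S)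
theorem e12_44 : S.op (t12 S) (t44 S) = (t65 S) := ((congrArg (S.op (t21 S)) (e3_54 S)).symm.trans ((S.dist (t21 S) (t3 S) (t54 S)).trans (congrArg₂ S.op (e21_3 S) (e21_54 S)))).symm.trans (e21_33 S)
theorem e12_65 : S.op (t12 S) (t65 S) = (t44 S) := (congrArg (S.op (t12 S)) (e12_44 S)).symm.trans (S.invol (t12 S) (t44 S))
theorem e65_12 : S.op (t65 S) (t12 S) = (t44 S) := (S.comm _ _).trans (e12_65 S)
theorem e36_33 : S.op (t36 S) (t33 S) = (t50 S) := ((congrArg (S.op (t36 S)) (e3_54 S)).symm.trans ((S.dist (t36 S) (t3 S) (t54 S)).trans (congrArg₂ S.op (e36_3 S) (e36_54 S)))).trans (e78_18 S)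
theorem e33_36 : S.op (t33 S) (t36 S) = (t50 S) := (S.comm _ _).trans (e36_33 S)
theorem e33_50 : S.op (t33 S) (t50 S) = (t36 S) := (congrArg (S.op (t33 S)) (e33_36 S)).symm.trans (S.invol (t33 S) (t36 S))
theorem e50_33 : S.op (t50 S) (t33 S) = (t36 S) := (S.comm _ _).trans (e33_50 S)
theorem e52_33 : S.op (t52 S) (t33 S) = (t44 S) := ((congrArg (S.op (t52 S)) (e3_54 S)).symm.trans ((S.dist (t52 S) (t3 S) (t54 S)).trans (congrArg₂ S.op (e52_3 S) (e52_54 S)))).trans (e65_12 S)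
theorem e33_52 : S.op (t33 S) (t52 S) = (t44 S) := (S.comm _ _).trans (e52_33 S)
theorem e33_44 : S.op (t33 S) (t44 S) = (t52 S) := (congrArg (S.op (t33 S)) (e33_52 S)).symm.trans (S.invol (t33 S) (t52 S))
theorem e44_33 : S.op (t44 S) (t33 S) = (t52 S) := (S.comm _ _).trans (e33_44 S)
theorem e73_21 : S.op (t73 S) (t21 S) = (t52 S) := ((congrArg (S.op (t44 S)) (e3_54 S)).symm.trans ((S.dist (t44 S) (t3 S) (t54 S)).trans (congrArg₂ S.op (e44_3 S) (e44_54 S)))).symm.trans (e44_33 S)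
theorem e21_73 : S.op (t21 S) (t73 S) = (t52 S) := (S.comm _ _).trans (e73_21 S)
theorem e21_52 : S.op (t21 S) (t52 S) = (t73 S) := (congrArg (S.op (t21 S)) (e21_73 S)).symm.trans (S.invol (t21 S) (t73 S))
theorem e12_33 : S.op (t12 S) (t33 S) = (t73 S) := ((congrArg (S.op (t12 S)) (e3_54 S)).symm.trans ((S.dist (t12 S) (t3 S) (t54 S)).trans (congrArg₂ S.op (e12_3 S) (e12_54 S)))).trans (e21_52 S)
theorem e33_12 : S.op (t33 S) (t12 S) = (t73 S) := (S.comm _ _).trans (e12_33 S)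
theorem e47_76 : S.op (t47 S) (t76 S) = (t26 S) := ((congrArg (S.op (t70 S)) (e3_54 S)).symm.trans ((S.dist (t70 S) (t3 S) (t54 S)).trans (congrArg₂ S.op (e70_3 S) (e70_54 S)))).symm.trans (e70_33 S)
theorem e76_47 : S.op (t76 S) (t47 S) = (t26 S) := (S.comm _ _).trans (e47_76 S)
theorem e76_26 : S.op (t76 S) (t26 S) = (t47 S) := (congrArg (S.op (t76 S)) (e76_47 S)).symm.trans (S.invol (t76 S) (t47 S))
theorem e41_33 : S.op (t41 S) (t33 S) = (t47 S) := ((congrArg (S.op (t41 S)) (e3_54 S)).symm.trans ((S.dist (t41 S) (t3 S) (t54 S)).trans (congrArg₂ S.op (e41_3 S) (e41_54 S)))).trans (e76_26 S)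
theorem e33_41 : S.op (t33 S) (t41 S) = (t47 S) := (S.comm _ _).trans (e41_33 S)
theorem e33_47 : S.op (t33 S) (t47 S) = (t41 S) := (congrArg (S.op (t33 S)) (e33_41 S)).symm.trans (S.invol (t33 S) (t41 S))
theorem e47_33 : S.op (t47 S) (t33 S) = (t41 S) := (S.comm _ _).trans (e33_47 S)
theorem e65_75 : S.op (t65 S) (t75 S) = (t62 S) := ((congrArg (S.op (t52 S)) (e3_18 S)).symm.trans ((S.dist (t52 S) (t3 S) (t18 S)).trans (congrArg₂ S.op (e52_3 S) (e52_18 S)))).symm.trans (e52_15 S)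
theorem e75_65 : S.op (t75 S) (t65 S) = (t62 S) := (S.comm _ _).trans (e65_75 S)
theorem e75_62 : S.op (t75 S) (t62 S) = (t65 S) := (congrArg (S.op (t75 S)) (e75_65 S)).symm.trans (S.invol (t75 S) (t65 S))
theorem e39_15 : S.op (t39 S) (t15 S) = (t65 S) := ((congrArg (S.op (t39 S)) (e3_18 S)).symm.trans ((S.dist (t39 S) (t3 S) (t18 S)).trans (congrArg₂ S.op (e39_3 S) (e39_18 S)))).trans (e75_62 S)
theorem e57_13 : S.op (t57 S) (t13 S) = (t50 S) := ((congrArg (S.op (t33 S)) (e0_72 S)).symm.trans ((S.dist (t33 S) (t0 S) (t72 S)).trans (congrArg₂ S.op (e33_0 S) (e33_72 S)))).symm.trans (e33_36 S)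
theorem e57_50 : S.op (t57 S) (t50 S) = (t13 S) := (congrArg (S.op (t57 S)) (e57_13 S)).symm.trans (S.invol (t57 S) (t13 S))
theorem e50_57 : S.op (t50 S) (t57 S) = (t13 S) := (S.comm _ _).trans (e57_50 S)
theorem e70_36 : S.op (t70 S) (t36 S) = (t13 S) := ((congrArg (S.op (t70 S)) (e0_72 S)).symm.trans ((S.dist (t70 S) (t0 S) (t72 S)).trans (congrArg₂ S.op (e70_0 S) (e70_72 S)))).trans (e50_57 S)
theorem e36_70 : S.op (t36 S) (t70 S) = (t13 S) := (S.comm _ _).trans (e70_36 S)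
theorem e63_14 : S.op (t63 S) (t14 S) = (t44 S) := ((congrArg (S.op (t45 S)) (e0_60 S)).symm.trans ((S.dist (t45 S) (t0 S) (t60 S)).trans (congrArg₂ S.op (e45_0 S) (e45_60 S)))).symm.trans (e45_30 S)
theorem e63_44 : S.op (t63 S) (t44 S) = (t14 S) := (congrArg (S.op (t63 S)) (e63_14 S)).symm.trans (S.invol (t63 S) (t14 S))
theorem e44_63 : S.op (t44 S) (t63 S) = (t14 S) := (S.comm _ _).trans (e63_44 S)
theorem e76_30 : S.op (t76 S) (t30 S) = (t14 S) := ((congrArg (S.op (t76 S)) (e0_60 S)).symm.trans ((S.dist (t76 S) (t0 S) (t60 S)).trans (congrArg₂ S.op (e76_0 S) (e76_60 S)))).trans (e44_63 S)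
theorem e30_76 : S.op (t30 S) (t76 S) = (t14 S) := (S.comm _ _).trans (e76_30 S)
theorem e57_69 : S.op (t57 S) (t69 S) = (t73 S) := ((congrArg (S.op (t33 S)) (e0_24 S)).symm.trans ((S.dist (t33 S) (t0 S) (t24 S)).trans (congrArg₂ S.op (e33_0 S) (e33_24 S)))).symm.trans (e33_12 S)
theorem e69_57 : S.op (t69 S) (t57 S) = (t73 S) := (S.comm _ _).trans (e57_69 S)
theorem e22_51 : S.op (t22 S) (t51 S) = (t73 S) := ((congrArg (S.op (t69 S)) (e27_6 S)).symm.trans ((S.dist (t69 S) (t27 S) (t6 S)).trans (congrArg₂ S.op (e69_27 S) (e69_6 S)))).symm.trans (e69_57 S)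
theorem e51_22 : S.op (t51 S) (t22 S) = (t73 S) := (S.comm _ _).trans (e22_51 S)
theorem e51_73 : S.op (t51 S) (t73 S) = (t22 S) := (congrArg (S.op (t51 S)) (e51_22 S)).symm.trans (S.invol (t51 S) (t22 S))
theorem e41_57 : S.op (t41 S) (t57 S) = (t22 S) := ((congrArg (S.op (t41 S)) (e27_6 S)).symm.trans ((S.dist (t41 S) (t27 S) (t6 S)).trans (congrArg₂ S.op (e41_27 S) (e41_6 S)))).trans (e51_73 S)
theorem e63_77 : S.op (t63 S) (t77 S) = (t62 S) := ((congrArg (S.op (t45 S)) (e0_24 S)).symm.trans ((S.dist (t45 S) (t0 S) (t24 S)).trans (congrArg₂ S.op (e45_0 S) (e45_24 S)))).symm.trans (e45_12 S)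
theorem e77_63 : S.op (t77 S) (t63 S) = (t62 S) := (S.comm _ _).trans (e63_77 S)
theorem e17_53 : S.op (t17 S) (t53 S) = (t62 S) := ((congrArg (S.op (t77 S)) (e27_18 S)).symm.trans ((S.dist (t77 S) (t27 S) (t18 S)).trans (congrArg₂ S.op (e77_27 S) (e77_18 S)))).symm.trans (e77_63 S)
theorem e53_17 : S.op (t53 S) (t17 S) = (t62 S) := (S.comm _ _).trans (e17_53 S)
theorem e53_62 : S.op (t53 S) (t62 S) = (t17 S) := (congrArg (S.op (t53 S)) (e53_17 S)).symm.trans (S.invol (t53 S) (t17 S))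
theorem e39_63 : S.op (t39 S) (t63 S) = (t17 S) := ((congrArg (S.op (t39 S)) (e27_18 S)).symm.trans ((S.dist (t39 S) (t27 S) (t18 S)).trans (congrArg₂ S.op (e39_27 S) (e39_18 S)))).trans (e53_62 S)
theorem e63_39 : S.op (t63 S) (t39 S) = (t17 S) := (S.comm _ _).trans (e39_63 S)
theorem e63_17 : S.op (t63 S) (t17 S) = (t39 S) := (congrArg (S.op (t63 S)) (e63_39 S)).symm.trans (S.invol (t63 S) (t39 S))
theorem e17_63 : S.op (t17 S) (t63 S) = (t39 S) := (S.comm _ _).trans (e63_17 S)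
theorem e65_50 : S.op (t65 S) (t50 S) = (t8 S) := ((congrArg (S.op (t52 S)) (e3_45 S)).symm.trans ((S.dist (t52 S) (t3 S) (t45 S)).trans (congrArg₂ S.op (e52_3 S) (e52_45 S)))).symm.trans (e52_69 S)
theorem e65_8 : S.op (t65 S) (t8 S) = (t50 S) := (congrArg (S.op (t65 S)) (e65_50 S)).symm.trans (S.invol (t65 S) (t50 S))
theorem e8_65 : S.op (t8 S) (t65 S) = (t50 S) := (S.comm _ _).trans (e65_8 S)
theorem e36_23 : S.op (t36 S) (t23 S) = (t62 S) := ((congrArg (S.op (t63 S)) (e9_33 S)).symm.trans ((S.dist (t63 S) (t9 S) (t33 S)).trans (congrArg₂ S.op (e63_9 S) (e63_33 S)))).symm.trans (e63_77 S)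
theorem e36_62 : S.op (t36 S) (t62 S) = (t23 S) := (congrArg (S.op (t36 S)) (e36_23 S)).symm.trans (S.invol (t36 S) (t23 S))
theorem e62_36 : S.op (t62 S) (t36 S) = (t23 S) := (S.comm _ _).trans (e36_62 S)
theorem e50_77 : S.op (t50 S) (t77 S) = (t23 S) := ((congrArg (S.op (t50 S)) (e9_33 S)).symm.trans ((S.dist (t50 S) (t9 S) (t33 S)).trans (congrArg₂ S.op (e50_9 S) (e50_33 S)))).trans (e62_36 S)
theorem e57_25 : S.op (t57 S) (t25 S) = (t37 S) := ((congrArg (S.op (t30 S)) (e3_63 S)).symm.trans ((S.dist (t30 S) (t3 S) (t63 S)).trans (congrArg₂ S.op (e30_3 S) (e30_63 S)))).symm.trans (e30_51 S)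
theorem e57_37 : S.op (t57 S) (t37 S) = (t25 S) := (congrArg (S.op (t57 S)) (e57_25 S)).symm.trans (S.invol (t57 S) (t25 S))
theorem e75_17 : S.op (t75 S) (t17 S) = (t29 S) := ((congrArg (S.op (t39 S)) (e3_63 S)).symm.trans ((S.dist (t39 S) (t3 S) (t63 S)).trans (congrArg₂ S.op (e39_3 S) (e39_63 S)))).symm.trans (e39_51 S)
theorem e75_29 : S.op (t75 S) (t29 S) = (t17 S) := (congrArg (S.op (t75 S)) (e75_17 S)).symm.trans (S.invol (t75 S) (t17 S))
theorem e29_75 : S.op (t29 S) (t75 S) = (t17 S) := (S.comm _ _).trans (e75_29 S)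
theorem e68_8 : S.op (t68 S) (t8 S) = (t47 S) := ((congrArg (S.op (t49 S)) (e3_63 S)).symm.trans ((S.dist (t49 S) (t3 S) (t63 S)).trans (congrArg₂ S.op (e49_3 S) (e49_63 S)))).symm.trans (e49_51 S)
theorem e8_68 : S.op (t8 S) (t68 S) = (t47 S) := (S.comm _ _).trans (e68_8 S)
theorem e8_47 : S.op (t8 S) (t47 S) = (t68 S) := (congrArg (S.op (t8 S)) (e8_68 S)).symm.trans (S.invol (t8 S) (t68 S))
theorem e57_51 : S.op (t57 S) (t51 S) = (t11 S) := ((congrArg (S.op (t57 S)) (e3_63 S)).symm.trans ((S.dist (t57 S) (t3 S) (t63 S)).trans (congrArg₂ S.op (e57_3 S) (e57_63 S)))).trans (e30_80 S)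
theorem e51_57 : S.op (t51 S) (t57 S) = (t11 S) := (S.comm _ _).trans (e57_51 S)
theorem e41_69 : S.op (t41 S) (t69 S) = (t11 S) := ((congrArg (S.op (t51 S)) (e27_6 S)).symm.trans ((S.dist (t51 S) (t27 S) (t6 S)).trans (congrArg₂ S.op (e51_27 S) (e51_6 S)))).symm.trans (e51_57 S)
theorem e76_35 : S.op (t76 S) (t35 S) = (t11 S) := ((congrArg (S.op (t41 S)) (e3_45 S)).symm.trans ((S.dist (t41 S) (t3 S) (t45 S)).trans (congrArg₂ S.op (e41_3 S) (e41_45 S)))).symm.trans (e41_69 S)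
theorem e76_11 : S.op (t76 S) (t11 S) = (t35 S) := (congrArg (S.op (t76 S)) (e76_35 S)).symm.trans (S.invol (t76 S) (t35 S))
theorem e11_76 : S.op (t11 S) (t76 S) = (t35 S) := (S.comm _ _).trans (e76_11 S)
theorem e61_51 : S.op (t61 S) (t51 S) = (t17 S) := ((congrArg (S.op (t61 S)) (e3_63 S)).symm.trans ((S.dist (t61 S) (t3 S) (t63 S)).trans (congrArg₂ S.op (e61_3 S) (e61_63 S)))).trans (e29_75 S)
theorem e51_61 : S.op (t51 S) (t61 S) = (t17 S) := (S.comm _ _).trans (e61_51 S)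
theorem e51_17 : S.op (t51 S) (t17 S) = (t61 S) := (congrArg (S.op (t51 S)) (e51_61 S)).symm.trans (S.invol (t51 S) (t61 S))
theorem e17_51 : S.op (t17 S) (t51 S) = (t61 S) := (S.comm _ _).trans (e51_17 S)
theorem e19_39 : S.op (t19 S) (t39 S) = (t61 S) := ((congrArg (S.op (t17 S)) (e3_63 S)).symm.trans ((S.dist (t17 S) (t3 S) (t63 S)).trans (congrArg₂ S.op (e17_3 S) (e17_63 S)))).symm.trans (e17_51 S)
theorem e39_19 : S.op (t39 S) (t19 S) = (t61 S) := (S.comm _ _).trans (e19_39 S)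
theorem e39_61 : S.op (t39 S) (t61 S) = (t19 S) := (congrArg (S.op (t39 S)) (e39_19 S)).symm.trans (S.invol (t39 S) (t19 S))
theorem e61_39 : S.op (t61 S) (t39 S) = (t19 S) := (S.comm _ _).trans (e39_61 S)
theorem e49_70 : S.op (t49 S) (t70 S) = (t1 S) := ((congrArg (S.op (t68 S)) (e3_63 S)).symm.trans ((S.dist (t68 S) (t3 S) (t63 S)).trans (congrArg₂ S.op (e68_3 S) (e68_63 S)))).symm.trans (e68_51 S)
theorem e70_49 : S.op (t70 S) (t49 S) = (t1 S) := (S.comm _ _).trans (e49_70 S)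
theorem e70_1 : S.op (t70 S) (t1 S) = (t49 S) := (congrArg (S.op (t70 S)) (e70_49 S)).symm.trans (S.invol (t70 S) (t49 S))
theorem e39_80 : S.op (t39 S) (t80 S) = (t1 S) := ((congrArg (S.op (t70 S)) (e9_60 S)).symm.trans ((S.dist (t70 S) (t9 S) (t60 S)).trans (congrArg₂ S.op (e70_9 S) (e70_60 S)))).symm.trans (e70_49 S)
theorem e33_74 : S.op (t33 S) (t74 S) = (t14 S) := ((congrArg (S.op (t30 S)) (e27_15 S)).symm.trans ((S.dist (t30 S) (t27 S) (t15 S)).trans (congrArg₂ S.op (e30_27 S) (e30_15 S)))).symm.trans (e30_76 S)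
theorem e33_14 : S.op (t33 S) (t14 S) = (t74 S) := (congrArg (S.op (t33 S)) (e33_74 S)).symm.trans (S.invol (t33 S) (t74 S))
theorem e14_33 : S.op (t14 S) (t33 S) = (t74 S) := (S.comm _ _).trans (e33_14 S)
theorem e52_64 : S.op (t52 S) (t64 S) = (t4 S) := ((congrArg (S.op (t40 S)) (e27_15 S)).symm.trans ((S.dist (t40 S) (t27 S) (t15 S)).trans (congrArg₂ S.op (e40_27 S) (e40_15 S)))).symm.trans (e40_76 S)
theorem e64_52 : S.op (t64 S) (t52 S) = (t4 S) := (S.comm _ _).trans (e52_64 S)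
theorem e64_4 : S.op (t64 S) (t4 S) = (t52 S) := (congrArg (S.op (t64 S)) (e64_52 S)).symm.trans (S.invol (t64 S) (t52 S))
theorem e42_76 : S.op (t42 S) (t76 S) = (t2 S) := ((congrArg (S.op (t42 S)) (e27_15 S)).symm.trans ((S.dist (t42 S) (t27 S) (t15 S)).trans (congrArg₂ S.op (e42_27 S) (e42_15 S)))).trans (e49_69 S)
theorem e76_42 : S.op (t76 S) (t42 S) = (t2 S) := (S.comm _ _).trans (e42_76 S)
theorem e36_58 : S.op (t36 S) (t58 S) = (t25 S) := ((congrArg (S.op (t45 S)) (e27_15 S)).symm.trans ((S.dist (t45 S) (t27 S) (t15 S)).trans (congrArg₂ S.op (e45_27 S) (e45_15 S)))).symm.trans (e45_76 S)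
theorem e42_55 : S.op (t42 S) (t55 S) = (t22 S) := ((congrArg (S.op (t49 S)) (e27_15 S)).symm.trans ((S.dist (t49 S) (t27 S) (t15 S)).trans (congrArg₂ S.op (e49_27 S) (e49_15 S)))).symm.trans (e49_76 S)
theorem e42_22 : S.op (t42 S) (t22 S) = (t55 S) := (congrArg (S.op (t42 S)) (e42_55 S)).symm.trans (S.invol (t42 S) (t55 S))
theorem e22_42 : S.op (t22 S) (t42 S) = (t55 S) := (S.comm _ _).trans (e42_22 S)
theorem e69_76 : S.op (t69 S) (t76 S) = (t55 S) := ((congrArg (S.op (t69 S)) (e27_15 S)).symm.trans ((S.dist (t69 S) (t27 S) (t15 S)).trans (congrArg₂ S.op (e69_27 S) (e69_15 S)))).trans (e22_42 S)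
theorem e76_69 : S.op (t76 S) (t69 S) = (t55 S) := (S.comm _ _).trans (e69_76 S)
theorem e41_25 : S.op (t41 S) (t25 S) = (t55 S) := ((congrArg (S.op (t76 S)) (e3_45 S)).symm.trans ((S.dist (t76 S) (t3 S) (t45 S)).trans (congrArg₂ S.op (e76_3 S) (e76_45 S)))).symm.trans (e76_69 S)
theorem e41_55 : S.op (t41 S) (t55 S) = (t25 S) := (congrArg (S.op (t41 S)) (e41_25 S)).symm.trans (S.invol (t41 S) (t25 S))
theorem e55_41 : S.op (t55 S) (t41 S) = (t25 S) := (S.comm _ _).trans (e41_55 S)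
theorem e47_77 : S.op (t47 S) (t77 S) = (t25 S) := ((congrArg (S.op (t47 S)) (e9_33 S)).symm.trans ((S.dist (t47 S) (t9 S) (t33 S)).trans (congrArg₂ S.op (e47_9 S) (e47_33 S)))).trans (e55_41 S)
theorem e77_47 : S.op (t77 S) (t47 S) = (t25 S) := (S.comm _ _).trans (e47_77 S)
theorem e77_25 : S.op (t77 S) (t25 S) = (t47 S) := (congrArg (S.op (t77 S)) (e77_47 S)).symm.trans (S.invol (t77 S) (t47 S))
theorem e25_77 : S.op (t25 S) (t77 S) = (t47 S) := (S.comm _ _).trans (e77_25 S)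
theorem e78_76 : S.op (t78 S) (t76 S) = (t74 S) := ((congrArg (S.op (t78 S)) (e27_15 S)).symm.trans ((S.dist (t78 S) (t27 S) (t15 S)).trans (congrArg₂ S.op (e78_27 S) (e78_15 S)))).trans (e14_33 S)
theorem e76_78 : S.op (t76 S) (t78 S) = (t74 S) := (S.comm _ _).trans (e78_76 S)
theorem e76_74 : S.op (t76 S) (t74 S) = (t78 S) := (congrArg (S.op (t76 S)) (e76_78 S)).symm.trans (S.invol (t76 S) (t78 S))
theorem e74_76 : S.op (t74 S) (t76 S) = (t78 S) := (S.comm _ _).trans (e76_74 S)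
theorem e10_30 : S.op (t10 S) (t30 S) = (t78 S) := ((congrArg (S.op (t74 S)) (e27_15 S)).symm.trans ((S.dist (t74 S) (t27 S) (t15 S)).trans (congrArg₂ S.op (e74_27 S) (e74_15 S)))).symm.trans (e74_76 S)
theorem e30_10 : S.op (t30 S) (t10 S) = (t78 S) := (S.comm _ _).trans (e10_30 S)
theorem e30_78 : S.op (t30 S) (t78 S) = (t10 S) := (congrArg (S.op (t30 S)) (e30_10 S)).symm.trans (S.invol (t30 S) (t10 S))
theorem e33_76 : S.op (t33 S) (t76 S) = (t10 S) := ((congrArg (S.op (t33 S)) (e27_15 S)).symm.trans ((S.dist (t33 S) (t27 S) (t15 S)).trans (congrArg₂ S.op (e33_27 S) (e33_15 S)))).trans (e30_78 S)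
theorem e63_26 : S.op (t63 S) (t26 S) = (t32 S) := ((congrArg (S.op (t36 S)) (e9_57 S)).symm.trans ((S.dist (t36 S) (t9 S) (t57 S)).trans (congrArg₂ S.op (e36_9 S) (e36_57 S)))).symm.trans (e36_53 S)
theorem e63_32 : S.op (t63 S) (t32 S) = (t26 S) := (congrArg (S.op (t63 S)) (e63_26 S)).symm.trans (S.invol (t63 S) (t26 S))
theorem e69_23 : S.op (t69 S) (t23 S) = (t29 S) := ((congrArg (S.op (t40 S)) (e9_57 S)).symm.trans ((S.dist (t40 S) (t9 S) (t57 S)).trans (congrArg₂ S.op (e40_9 S) (e40_57 S)))).symm.trans (e40_53 S)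
theorem e23_69 : S.op (t23 S) (t69 S) = (t29 S) := (S.comm _ _).trans (e69_23 S)
theorem e71_22 : S.op (t71 S) (t22 S) = (t28 S) := ((congrArg (S.op (t41 S)) (e9_57 S)).symm.trans ((S.dist (t41 S) (t9 S) (t57 S)).trans (congrArg₂ S.op (e41_9 S) (e41_57 S)))).symm.trans (e41_53 S)
theorem e63_53 : S.op (t63 S) (t53 S) = (t4 S) := ((congrArg (S.op (t63 S)) (e9_57 S)).symm.trans ((S.dist (t63 S) (t9 S) (t57 S)).trans (congrArg₂ S.op (e63_9 S) (e63_57 S)))).trans (e36_80 S)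
theorem e53_63 : S.op (t53 S) (t63 S) = (t4 S) := (S.comm _ _).trans (e63_53 S)
theorem e53_51 : S.op (t53 S) (t51 S) = (t52 S) := ((congrArg (S.op (t53 S)) (e3_63 S)).symm.trans ((S.dist (t53 S) (t3 S) (t63 S)).trans (congrArg₂ S.op (e53_3 S) (e53_63 S)))).trans (e64_4 S)
theorem e51_53 : S.op (t51 S) (t53 S) = (t52 S) := (S.comm _ _).trans (e53_51 S)
theorem e51_52 : S.op (t51 S) (t52 S) = (t53 S) := (congrArg (S.op (t51 S)) (e51_53 S)).symm.trans (S.invol (t51 S) (t53 S))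
theorem e52_51 : S.op (t52 S) (t51 S) = (t53 S) := (S.comm _ _).trans (e51_52 S)
theorem e65_5 : S.op (t65 S) (t5 S) = (t53 S) := ((congrArg (S.op (t52 S)) (e3_63 S)).symm.trans ((S.dist (t52 S) (t3 S) (t63 S)).trans (congrArg₂ S.op (e52_3 S) (e52_63 S)))).symm.trans (e52_51 S)
theorem e65_53 : S.op (t65 S) (t53 S) = (t5 S) := (congrArg (S.op (t65 S)) (e65_5 S)).symm.trans (S.invol (t65 S) (t5 S))
theorem e53_65 : S.op (t53 S) (t65 S) = (t5 S) := (S.comm _ _).trans (e65_53 S)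
theorem e39_76 : S.op (t39 S) (t76 S) = (t5 S) := ((congrArg (S.op (t39 S)) (e27_15 S)).symm.trans ((S.dist (t39 S) (t27 S) (t15 S)).trans (congrArg₂ S.op (e39_27 S) (e39_15 S)))).trans (e53_65 S)
theorem e70_45 : S.op (t70 S) (t45 S) = (t5 S) := ((congrArg (S.op (t70 S)) (e9_54 S)).symm.trans ((S.dist (t70 S) (t9 S) (t54 S)).trans (congrArg₂ S.op (e70_9 S) (e70_54 S)))).trans (e39_76 S)
theorem e45_70 : S.op (t45 S) (t70 S) = (t5 S) := (S.comm _ _).trans (e70_45 S)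
theorem e33_66 : S.op (t33 S) (t66 S) = (t19 S) := ((congrArg (S.op (t30 S)) (e27_21 S)).symm.trans ((S.dist (t30 S) (t27 S) (t21 S)).trans (congrArg₂ S.op (e30_27 S) (e30_21 S)))).symm.trans (e30_70 S)
theorem e33_19 : S.op (t33 S) (t19 S) = (t66 S) := (congrArg (S.op (t33 S)) (e33_66 S)).symm.trans (S.invol (t33 S) (t66 S))
theorem e19_33 : S.op (t19 S) (t33 S) = (t66 S) := (S.comm _ _).trans (e33_19 S)
theorem e2_66 : S.op (t2 S) (t66 S) = (t52 S) := ((congrArg (S.op (t19 S)) (e9_33 S)).symm.trans ((S.dist (t19 S) (t9 S) (t33 S)).trans (congrArg₂ S.op (e19_9 S) (e19_33 S)))).symm.trans (e19_77 S)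
theorem e66_2 : S.op (t66 S) (t2 S) = (t52 S) := (S.comm _ _).trans (e2_66 S)
theorem e66_52 : S.op (t66 S) (t52 S) = (t2 S) := (congrArg (S.op (t66 S)) (e66_2 S)).symm.trans (S.invol (t66 S) (t2 S))
theorem e52_66 : S.op (t52 S) (t66 S) = (t2 S) := (S.comm _ _).trans (e66_52 S)
theorem e30_65 : S.op (t30 S) (t65 S) = (t26 S) := ((congrArg (S.op (t33 S)) (e27_21 S)).symm.trans ((S.dist (t33 S) (t27 S) (t21 S)).trans (congrArg₂ S.op (e33_27 S) (e33_21 S)))).symm.trans (e33_70 S)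
theorem e30_26 : S.op (t30 S) (t26 S) = (t65 S) := (congrArg (S.op (t30 S)) (e30_65 S)).symm.trans (S.invol (t30 S) (t65 S))
theorem e26_30 : S.op (t26 S) (t30 S) = (t65 S) := (S.comm _ _).trans (e30_26 S)
theorem e45_61 : S.op (t45 S) (t61 S) = (t13 S) := ((congrArg (S.op (t36 S)) (e27_21 S)).symm.trans ((S.dist (t36 S) (t27 S) (t21 S)).trans (congrArg₂ S.op (e36_27 S) (e36_21 S)))).symm.trans (e36_70 S)
theorem e45_13 : S.op (t45 S) (t13 S) = (t61 S) := (congrArg (S.op (t45 S)) (e45_61 S)).symm.trans (S.invol (t45 S) (t61 S))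
theorem e49_56 : S.op (t49 S) (t56 S) = (t17 S) := ((congrArg (S.op (t42 S)) (e27_21 S)).symm.trans ((S.dist (t42 S) (t27 S) (t21 S)).trans (congrArg₂ S.op (e42_27 S) (e42_21 S)))).symm.trans (e42_70 S)
theorem e49_17 : S.op (t49 S) (t17 S) = (t56 S) := (congrArg (S.op (t49 S)) (e49_56 S)).symm.trans (S.invol (t49 S) (t56 S))
theorem e17_49 : S.op (t17 S) (t49 S) = (t56 S) := (S.comm _ _).trans (e49_17 S)
theorem e36_79 : S.op (t36 S) (t79 S) = (t5 S) := ((congrArg (S.op (t45 S)) (e27_21 S)).symm.trans ((S.dist (t45 S) (t27 S) (t21 S)).trans (congrArg₂ S.op (e45_27 S) (e45_21 S)))).symm.trans (e45_70 S)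
theorem e79_36 : S.op (t79 S) (t36 S) = (t5 S) := (S.comm _ _).trans (e36_79 S)
theorem e66_70 : S.op (t66 S) (t70 S) = (t65 S) := ((congrArg (S.op (t66 S)) (e27_21 S)).symm.trans ((S.dist (t66 S) (t27 S) (t21 S)).trans (congrArg₂ S.op (e66_27 S) (e66_21 S)))).trans (e26_30 S)
theorem e70_66 : S.op (t70 S) (t66 S) = (t65 S) := (S.comm _ _).trans (e66_70 S)
theorem e70_65 : S.op (t70 S) (t65 S) = (t66 S) := (congrArg (S.op (t70 S)) (e70_66 S)).symm.trans (S.invol (t70 S) (t66 S))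
theorem e65_70 : S.op (t65 S) (t70 S) = (t66 S) := (S.comm _ _).trans (e70_65 S)
theorem e77_70 : S.op (t77 S) (t70 S) = (t56 S) := ((congrArg (S.op (t77 S)) (e27_21 S)).symm.trans ((S.dist (t77 S) (t27 S) (t21 S)).trans (congrArg₂ S.op (e77_27 S) (e77_21 S)))).trans (e17_49 S)
theorem e70_77 : S.op (t70 S) (t77 S) = (t56 S) := (S.comm _ _).trans (e77_70 S)
theorem e39_26 : S.op (t39 S) (t26 S) = (t56 S) := ((congrArg (S.op (t70 S)) (e9_33 S)).symm.trans ((S.dist (t70 S) (t9 S) (t33 S)).trans (congrArg₂ S.op (e70_9 S) (e70_33 S)))).symm.trans (e70_77 S)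
theorem e39_56 : S.op (t39 S) (t56 S) = (t26 S) := (congrArg (S.op (t39 S)) (e39_26 S)).symm.trans (S.invol (t39 S) (t26 S))
theorem e56_39 : S.op (t56 S) (t39 S) = (t26 S) := (S.comm _ _).trans (e39_56 S)
theorem e34_69 : S.op (t34 S) (t69 S) = (t26 S) := ((congrArg (S.op (t34 S)) (e3_45 S)).symm.trans ((S.dist (t34 S) (t3 S) (t45 S)).trans (congrArg₂ S.op (e34_3 S) (e34_45 S)))).trans (e56_39 S)
theorem e69_34 : S.op (t69 S) (t34 S) = (t26 S) := (S.comm _ _).trans (e34_69 S)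
theorem e69_26 : S.op (t69 S) (t26 S) = (t34 S) := (congrArg (S.op (t69 S)) (e69_34 S)).symm.trans (S.invol (t69 S) (t34 S))
theorem e26_69 : S.op (t26 S) (t69 S) = (t34 S) := (S.comm _ _).trans (e69_26 S)
theorem e21_71 : S.op (t21 S) (t71 S) = (t29 S) := ((congrArg (S.op (t12 S)) (e3_36 S)).symm.trans ((S.dist (t12 S) (t3 S) (t36 S)).trans (congrArg₂ S.op (e12_3 S) (e12_36 S)))).symm.trans (e12_78 S)
theorem e71_21 : S.op (t71 S) (t21 S) = (t29 S) := (S.comm _ _).trans (e21_71 S)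
theorem e71_29 : S.op (t71 S) (t29 S) = (t21 S) := (congrArg (S.op (t71 S)) (e71_21 S)).symm.trans (S.invol (t71 S) (t21 S))
theorem e15_75 : S.op (t15 S) (t75 S) = (t28 S) := ((congrArg (S.op (t15 S)) (e0_42 S)).symm.trans ((S.dist (t15 S) (t0 S) (t42 S)).trans (congrArg₂ S.op (e15_0 S) (e15_42 S)))).trans (e21_69 S)
theorem e75_15 : S.op (t75 S) (t15 S) = (t28 S) := (S.comm _ _).trans (e15_75 S)
theorem e80_38 : S.op (t80 S) (t38 S) = (t5 S) := ((congrArg (S.op (t40 S)) (e0_42 S)).symm.trans ((S.dist (t40 S) (t0 S) (t42 S)).trans (congrArg₂ S.op (e40_0 S) (e40_42 S)))).symm.trans (e40_75 S)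
theorem e38_80 : S.op (t38 S) (t80 S) = (t5 S) := (S.comm _ _).trans (e80_38 S)
theorem e38_5 : S.op (t38 S) (t5 S) = (t80 S) := (congrArg (S.op (t38 S)) (e38_80 S)).symm.trans (S.invol (t38 S) (t80 S))
theorem e79_78 : S.op (t79 S) (t78 S) = (t80 S) := ((congrArg (S.op (t79 S)) (e3_36 S)).symm.trans ((S.dist (t79 S) (t3 S) (t36 S)).trans (congrArg₂ S.op (e79_3 S) (e79_36 S)))).trans (e38_5 S)
theorem e78_79 : S.op (t78 S) (t79 S) = (t80 S) := (S.comm _ _).trans (e79_78 S)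
theorem e78_80 : S.op (t78 S) (t80 S) = (t79 S) := (congrArg (S.op (t78 S)) (e78_79 S)).symm.trans (S.invol (t78 S) (t79 S))
theorem e80_78 : S.op (t80 S) (t78 S) = (t79 S) := (S.comm _ _).trans (e78_80 S)
theorem e37_4 : S.op (t37 S) (t4 S) = (t79 S) := ((congrArg (S.op (t80 S)) (e3_36 S)).symm.trans ((S.dist (t80 S) (t3 S) (t36 S)).trans (congrArg₂ S.op (e80_3 S) (e80_36 S)))).symm.trans (e80_78 S)
theorem e37_79 : S.op (t37 S) (t79 S) = (t4 S) := (congrArg (S.op (t37 S)) (e37_4 S)).symm.trans (S.invol (t37 S) (t4 S))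
theorem e79_37 : S.op (t79 S) (t37 S) = (t4 S) := (S.comm _ _).trans (e37_79 S)
theorem e69_50 : S.op (t69 S) (t50 S) = (t1 S) := ((congrArg (S.op (t40 S)) (e9_30 S)).symm.trans ((S.dist (t40 S) (t9 S) (t30 S)).trans (congrArg₂ S.op (e40_9 S) (e40_30 S)))).symm.trans (e40_79 S)
theorem e50_69 : S.op (t50 S) (t69 S) = (t1 S) := (S.comm _ _).trans (e69_50 S)
theorem e53_66 : S.op (t53 S) (t66 S) = (t1 S) := ((congrArg (S.op (t39 S)) (e27_12 S)).symm.trans ((S.dist (t39 S) (t27 S) (t12 S)).trans (congrArg₂ S.op (e39_27 S) (e39_12 S)))).symm.trans (e39_80 S)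
theorem e53_1 : S.op (t53 S) (t1 S) = (t66 S) := (congrArg (S.op (t53 S)) (e53_66 S)).symm.trans (S.invol (t53 S) (t66 S))
theorem e1_53 : S.op (t1 S) (t53 S) = (t66 S) := (S.comm _ _).trans (e53_1 S)
theorem e4_47 : S.op (t4 S) (t47 S) = (t69 S) := ((congrArg (S.op (t8 S)) (e0_68 S)).symm.trans ((S.dist (t8 S) (t0 S) (t68 S)).trans (congrArg₂ S.op (e8_0 S) (e8_68 S)))).symm.trans (e8_52 S)
theorem e4_69 : S.op (t4 S) (t69 S) = (t47 S) := (congrArg (S.op (t4 S)) (e4_47 S)).symm.trans (S.invol (t4 S) (t47 S))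
theorem e3_48 : S.op (t3 S) (t48 S) = (t66 S) := ((congrArg (S.op (t3 S)) (e0_69 S)).symm.trans ((S.dist (t3 S) (t0 S) (t69 S)).trans (congrArg₂ S.op (e3_0 S) (e3_69 S)))).trans (e6_45 S)
theorem e48_3 : S.op (t48 S) (t3 S) = (t66 S) := (S.comm _ _).trans (e3_48 S)
theorem e3_66 : S.op (t3 S) (t66 S) = (t48 S) := (congrArg (S.op (t3 S)) (e3_48 S)).symm.trans (S.invol (t3 S) (t48 S))
theorem e66_3 : S.op (t66 S) (t3 S) = (t48 S) := (S.comm _ _).trans (e3_66 S)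
theorem e4_48 : S.op (t4 S) (t48 S) = (t68 S) := ((congrArg (S.op (t4 S)) (e0_69 S)).symm.trans ((S.dist (t4 S) (t0 S) (t69 S)).trans (congrArg₂ S.op (e4_0 S) (e4_69 S)))).trans (e8_47 S)
theorem e48_4 : S.op (t48 S) (t4 S) = (t68 S) := (S.comm _ _).trans (e4_48 S)
theorem e48_68 : S.op (t48 S) (t68 S) = (t4 S) := (congrArg (S.op (t48 S)) (e48_4 S)).symm.trans (S.invol (t48 S) (t4 S))
theorem e68_48 : S.op (t68 S) (t48 S) = (t4 S) := (S.comm _ _).trans (e48_68 S)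
theorem e72_14 : S.op (t72 S) (t14 S) = (t35 S) := ((congrArg (S.op (t36 S)) (e0_69 S)).symm.trans ((S.dist (t36 S) (t0 S) (t69 S)).trans (congrArg₂ S.op (e36_0 S) (e36_69 S)))).symm.trans (e36_48 S)
theorem e42_48 : S.op (t42 S) (t48 S) = (t28 S) := ((congrArg (S.op (t42 S)) (e0_69 S)).symm.trans ((S.dist (t42 S) (t0 S) (t69 S)).trans (congrArg₂ S.op (e42_0 S) (e42_69 S)))).trans (e75_15 S)
theorem e48_42 : S.op (t48 S) (t42 S) = (t28 S) := (S.comm _ _).trans (e42_48 S)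
theorem e48_28 : S.op (t48 S) (t28 S) = (t42 S) := (congrArg (S.op (t48 S)) (e48_42 S)).symm.trans (S.invol (t48 S) (t42 S))
theorem e28_48 : S.op (t28 S) (t48 S) = (t42 S) := (S.comm _ _).trans (e48_28 S)
theorem e43_48 : S.op (t43 S) (t48 S) = (t27 S) := ((congrArg (S.op (t43 S)) (e0_69 S)).symm.trans ((S.dist (t43 S) (t0 S) (t69 S)).trans (congrArg₂ S.op (e43_0 S) (e43_69 S)))).trans (e77_17 S)
theorem e48_43 : S.op (t48 S) (t43 S) = (t27 S) := (S.comm _ _).trans (e43_48 S)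
theorem e43_27 : S.op (t43 S) (t27 S) = (t48 S) := (congrArg (S.op (t43 S)) (e43_48 S)).symm.trans (S.invol (t43 S) (t48 S))
theorem e48_27 : S.op (t48 S) (t27 S) = (t43 S) := (congrArg (S.op (t48 S)) (e48_43 S)).symm.trans (S.invol (t48 S) (t43 S))
theorem e27_43 : S.op (t27 S) (t43 S) = (t48 S) := (S.comm _ _).trans (e43_27 S)
theorem e27_48 : S.op (t27 S) (t48 S) = (t43 S) := (S.comm _ _).trans (e48_27 S)
theorem e48_54 : S.op (t48 S) (t54 S) = (t17 S) := ((congrArg (S.op (t48 S)) (e27_0 S)).symm.trans ((S.dist (t48 S) (t27 S) (t0 S)).trans (congrArg₂ S.op (e48_27 S) (e48_0 S)))).trans (e43_69 S)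
theorem e54_48 : S.op (t54 S) (t48 S) = (t17 S) := (S.comm _ _).trans (e48_54 S)
theorem e50_48 : S.op (t50 S) (t48 S) = (t49 S) := ((congrArg (S.op (t50 S)) (e0_69 S)).symm.trans ((S.dist (t50 S) (t0 S) (t69 S)).trans (congrArg₂ S.op (e50_0 S) (e50_69 S)))).trans (e70_1 S)
theorem e48_50 : S.op (t48 S) (t50 S) = (t49 S) := (S.comm _ _).trans (e50_48 S)
theorem e48_49 : S.op (t48 S) (t49 S) = (t50 S) := (congrArg (S.op (t48 S)) (e48_50 S)).symm.trans (S.invol (t48 S) (t50 S))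
theorem e49_48 : S.op (t49 S) (t48 S) = (t50 S) := (S.comm _ _).trans (e48_49 S)
theorem e60_48 : S.op (t60 S) (t48 S) = (t10 S) := ((congrArg (S.op (t60 S)) (e0_69 S)).symm.trans ((S.dist (t60 S) (t0 S) (t69 S)).trans (congrArg₂ S.op (e60_0 S) (e60_69 S)))).trans (e30_78 S)
theorem e48_60 : S.op (t48 S) (t60 S) = (t10 S) := (S.comm _ _).trans (e60_48 S)
theorem e66_43 : S.op (t66 S) (t43 S) = (t10 S) := ((congrArg (S.op (t48 S)) (e3_27 S)).symm.trans ((S.dist (t48 S) (t3 S) (t27 S)).trans (congrArg₂ S.op (e48_3 S) (e48_27 S)))).symm.trans (e48_60 S)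
theorem e43_66 : S.op (t43 S) (t66 S) = (t10 S) := (S.comm _ _).trans (e66_43 S)
theorem e43_10 : S.op (t43 S) (t10 S) = (t66 S) := (congrArg (S.op (t43 S)) (e43_66 S)).symm.trans (S.invol (t43 S) (t66 S))
theorem e74_60 : S.op (t74 S) (t60 S) = (t66 S) := ((congrArg (S.op (t74 S)) (e3_27 S)).symm.trans ((S.dist (t74 S) (t3 S) (t27 S)).trans (congrArg₂ S.op (e74_3 S) (e74_27 S)))).trans (e43_10 S)
theorem e60_74 : S.op (t60 S) (t74 S) = (t66 S) := (S.comm _ _).trans (e74_60 S)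
theorem e60_66 : S.op (t60 S) (t66 S) = (t74 S) := (congrArg (S.op (t60 S)) (e60_74 S)).symm.trans (S.invol (t60 S) (t74 S))
theorem e66_60 : S.op (t66 S) (t60 S) = (t74 S) := (S.comm _ _).trans (e60_66 S)
theorem e48_26 : S.op (t48 S) (t26 S) = (t74 S) := ((congrArg (S.op (t66 S)) (e3_27 S)).symm.trans ((S.dist (t66 S) (t3 S) (t27 S)).trans (congrArg₂ S.op (e66_3 S) (e66_27 S)))).symm.trans (e66_60 S)
theorem e48_74 : S.op (t48 S) (t74 S) = (t26 S) := (congrArg (S.op (t48 S)) (e48_26 S)).symm.trans (S.invol (t48 S) (t26 S))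
theorem e74_48 : S.op (t74 S) (t48 S) = (t26 S) := (S.comm _ _).trans (e48_74 S)
theorem e43_60 : S.op (t43 S) (t60 S) = (t26 S) := ((congrArg (S.op (t43 S)) (e3_27 S)).symm.trans ((S.dist (t43 S) (t3 S) (t27 S)).trans (congrArg₂ S.op (e43_3 S) (e43_27 S)))).trans (e74_48 S)
theorem e77_26 : S.op (t77 S) (t26 S) = (t46 S) := ((congrArg (S.op (t43 S)) (e0_60 S)).symm.trans ((S.dist (t43 S) (t0 S) (t60 S)).trans (congrArg₂ S.op (e43_0 S) (e43_60 S)))).symm.trans (e43_30 S)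
theorem e26_77 : S.op (t26 S) (t77 S) = (t46 S) := (S.comm _ _).trans (e77_26 S)
theorem e61_10 : S.op (t61 S) (t10 S) = (t50 S) := ((congrArg (S.op (t48 S)) (e9_60 S)).symm.trans ((S.dist (t48 S) (t9 S) (t60 S)).trans (congrArg₂ S.op (e48_9 S) (e48_60 S)))).symm.trans (e48_49 S)
theorem e10_61 : S.op (t10 S) (t61 S) = (t50 S) := (S.comm _ _).trans (e61_10 S)
theorem e10_50 : S.op (t10 S) (t50 S) = (t61 S) := (congrArg (S.op (t10 S)) (e10_61 S)).symm.trans (S.invol (t10 S) (t61 S))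
theorem e72_48 : S.op (t72 S) (t48 S) = (t25 S) := ((congrArg (S.op (t72 S)) (e0_69 S)).symm.trans ((S.dist (t72 S) (t0 S) (t69 S)).trans (congrArg₂ S.op (e72_0 S) (e72_69 S)))).trans (e36_58 S)
theorem e48_72 : S.op (t48 S) (t72 S) = (t25 S) := (S.comm _ _).trans (e72_48 S)
theorem e61_43 : S.op (t61 S) (t43 S) = (t25 S) := ((congrArg (S.op (t48 S)) (e9_27 S)).symm.trans ((S.dist (t48 S) (t9 S) (t27 S)).trans (congrArg₂ S.op (e48_9 S) (e48_27 S)))).symm.trans (e48_72 S)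
theorem e43_61 : S.op (t43 S) (t61 S) = (t25 S) := (S.comm _ _).trans (e61_43 S)
theorem e43_25 : S.op (t43 S) (t25 S) = (t61 S) := (congrArg (S.op (t43 S)) (e43_61 S)).symm.trans (S.invol (t43 S) (t61 S))
theorem e69_25 : S.op (t69 S) (t25 S) = (t35 S) := ((congrArg (S.op (t48 S)) (e0_72 S)).symm.trans ((S.dist (t48 S) (t0 S) (t72 S)).trans (congrArg₂ S.op (e48_0 S) (e48_72 S)))).symm.trans (e48_36 S)
theorem e25_69 : S.op (t25 S) (t69 S) = (t35 S) := (S.comm _ _).trans (e69_25 S)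
theorem e0_22 : S.op (t0 S) (t22 S) = (t17 S) := ((congrArg (S.op (t0 S)) (e27_69 S)).symm.trans ((S.dist (t0 S) (t27 S) (t69 S)).trans (congrArg₂ S.op (e0_27 S) (e0_69 S)))).trans (e54_48 S)
theorem e22_0 : S.op (t22 S) (t0 S) = (t17 S) := (S.comm _ _).trans (e0_22 S)
theorem e0_17 : S.op (t0 S) (t17 S) = (t22 S) := (congrArg (S.op (t0 S)) (e0_22 S)).symm.trans (S.invol (t0 S) (t22 S))
theorem e17_0 : S.op (t17 S) (t0 S) = (t22 S) := (S.comm _ _).trans (e0_17 S)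
theorem e3_22 : S.op (t3 S) (t22 S) = (t14 S) := ((congrArg (S.op (t3 S)) (e27_69 S)).symm.trans ((S.dist (t3 S) (t27 S) (t69 S)).trans (congrArg₂ S.op (e3_27 S) (e3_69 S)))).trans (e60_45 S)
theorem e3_14 : S.op (t3 S) (t14 S) = (t22 S) := (congrArg (S.op (t3 S)) (e3_22 S)).symm.trans (S.invol (t3 S) (t22 S))
theorem e15_22 : S.op (t15 S) (t22 S) = (t2 S) := ((congrArg (S.op (t15 S)) (e27_69 S)).symm.trans ((S.dist (t15 S) (t27 S) (t69 S)).trans (congrArg₂ S.op (e15_27 S) (e15_69 S)))).trans (e76_42 S)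
theorem e22_15 : S.op (t22 S) (t15 S) = (t2 S) := (S.comm _ _).trans (e15_22 S)
theorem e22_2 : S.op (t22 S) (t2 S) = (t15 S) := (congrArg (S.op (t22 S)) (e22_15 S)).symm.trans (S.invol (t22 S) (t15 S))
theorem e2_22 : S.op (t2 S) (t22 S) = (t15 S) := (S.comm _ _).trans (e22_2 S)
theorem e18_22 : S.op (t18 S) (t22 S) = (t26 S) := ((congrArg (S.op (t18 S)) (e27_69 S)).symm.trans ((S.dist (t18 S) (t27 S) (t69 S)).trans (congrArg₂ S.op (e18_27 S) (e18_69 S)))).trans (e63_32 S)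
theorem e22_18 : S.op (t22 S) (t18 S) = (t26 S) := (S.comm _ _).trans (e18_22 S)
theorem e22_26 : S.op (t22 S) (t26 S) = (t18 S) := (congrArg (S.op (t22 S)) (e22_18 S)).symm.trans (S.invol (t22 S) (t18 S))
theorem e26_22 : S.op (t26 S) (t22 S) = (t18 S) := (S.comm _ _).trans (e22_26 S)
theorem e8_17 : S.op (t8 S) (t17 S) = (t26 S) := ((congrArg (S.op (t22 S)) (e9_0 S)).symm.trans ((S.dist (t22 S) (t9 S) (t0 S)).trans (congrArg₂ S.op (e22_9 S) (e22_0 S)))).symm.trans (e22_18 S)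
theorem e17_8 : S.op (t17 S) (t8 S) = (t26 S) := (S.comm _ _).trans (e8_17 S)
theorem e17_26 : S.op (t17 S) (t26 S) = (t8 S) := (congrArg (S.op (t17 S)) (e17_8 S)).symm.trans (S.invol (t17 S) (t8 S))
theorem e26_17 : S.op (t26 S) (t17 S) = (t8 S) := (S.comm _ _).trans (e17_26 S)
theorem e23_22 : S.op (t23 S) (t22 S) = (t21 S) := ((congrArg (S.op (t23 S)) (e27_69 S)).symm.trans ((S.dist (t23 S) (t27 S) (t69 S)).trans (congrArg₂ S.op (e23_27 S) (e23_69 S)))).trans (e71_29 S)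
theorem e23_21 : S.op (t23 S) (t21 S) = (t22 S) := (congrArg (S.op (t23 S)) (e23_22 S)).symm.trans (S.invol (t23 S) (t22 S))
theorem e23_70 : S.op (t23 S) (t70 S) = (t28 S) := ((congrArg (S.op (t23 S)) (e27_21 S)).symm.trans ((S.dist (t23 S) (t27 S) (t21 S)).trans (congrArg₂ S.op (e23_27 S) (e23_21 S)))).trans (e71_22 S)
theorem e70_23 : S.op (t70 S) (t23 S) = (t28 S) := (S.comm _ _).trans (e23_70 S)
theorem e66_34 : S.op (t66 S) (t34 S) = (t18 S) := ((congrArg (S.op (t26 S)) (e27_69 S)).symm.trans ((S.dist (t26 S) (t27 S) (t69 S)).trans (congrArg₂ S.op (e26_27 S) (e26_69 S)))).symm.trans (e26_22 S)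
theorem e66_18 : S.op (t66 S) (t18 S) = (t34 S) := (congrArg (S.op (t66 S)) (e66_34 S)).symm.trans (S.invol (t66 S) (t34 S))
theorem e18_66 : S.op (t18 S) (t66 S) = (t34 S) := (S.comm _ _).trans (e66_18 S)
theorem e0_32 : S.op (t0 S) (t32 S) = (t61 S) := ((congrArg (S.op (t18 S)) (e9_69 S)).symm.trans ((S.dist (t18 S) (t9 S) (t69 S)).trans (congrArg₂ S.op (e18_9 S) (e18_69 S)))).symm.trans (e18_40 S)
theorem e0_61 : S.op (t0 S) (t61 S) = (t32 S) := (congrArg (S.op (t0 S)) (e0_32 S)).symm.trans (S.invol (t0 S) (t32 S))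
theorem e61_0 : S.op (t61 S) (t0 S) = (t32 S) := (S.comm _ _).trans (e0_61 S)
theorem e2_31 : S.op (t2 S) (t31 S) = (t60 S) := ((congrArg (S.op (t19 S)) (e9_69 S)).symm.trans ((S.dist (t19 S) (t9 S) (t69 S)).trans (congrArg₂ S.op (e19_9 S) (e19_69 S)))).symm.trans (e19_40 S)
theorem e31_2 : S.op (t31 S) (t2 S) = (t60 S) := (S.comm _ _).trans (e2_31 S)
theorem e31_60 : S.op (t31 S) (t60 S) = (t2 S) := (congrArg (S.op (t31 S)) (e31_2 S)).symm.trans (S.invol (t31 S) (t2 S))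
theorem e60_31 : S.op (t60 S) (t31 S) = (t2 S) := (S.comm _ _).trans (e31_60 S)
theorem e6_28 : S.op (t6 S) (t28 S) = (t59 S) := ((congrArg (S.op (t21 S)) (e9_69 S)).symm.trans ((S.dist (t21 S) (t9 S) (t69 S)).trans (congrArg₂ S.op (e21_9 S) (e21_69 S)))).symm.trans (e21_40 S)
theorem e6_59 : S.op (t6 S) (t59 S) = (t28 S) := (congrArg (S.op (t6 S)) (e6_28 S)).symm.trans (S.invol (t6 S) (t28 S))
theorem e8_27 : S.op (t8 S) (t27 S) = (t58 S) := ((congrArg (S.op (t22 S)) (e9_69 S)).symm.trans ((S.dist (t22 S) (t9 S) (t69 S)).trans (congrArg₂ S.op (e22_9 S) (e22_69 S)))).symm.trans (e22_40 S)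
theorem e27_8 : S.op (t27 S) (t8 S) = (t58 S) := (S.comm _ _).trans (e8_27 S)
theorem e8_58 : S.op (t8 S) (t58 S) = (t27 S) := (congrArg (S.op (t8 S)) (e8_27 S)).symm.trans (S.invol (t8 S) (t27 S))
theorem e27_58 : S.op (t27 S) (t58 S) = (t8 S) := (congrArg (S.op (t27 S)) (e27_8 S)).symm.trans (S.invol (t27 S) (t8 S))
theorem e9_43 : S.op (t9 S) (t43 S) = (t67 S) := ((congrArg (S.op (t9 S)) (e0_77 S)).symm.trans ((S.dist (t9 S) (t0 S) (t77 S)).trans (congrArg₂ S.op (e9_0 S) (e9_77 S)))).trans (e18_33 S)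
theorem e9_67 : S.op (t9 S) (t67 S) = (t43 S) := (congrArg (S.op (t9 S)) (e9_43 S)).symm.trans (S.invol (t9 S) (t43 S))
theorem e67_9 : S.op (t67 S) (t9 S) = (t43 S) := (S.comm _ _).trans (e9_67 S)
theorem e67_72 : S.op (t67 S) (t72 S) = (t61 S) := ((congrArg (S.op (t67 S)) (e9_27 S)).symm.trans ((S.dist (t67 S) (t9 S) (t27 S)).trans (congrArg₂ S.op (e67_9 S) (e67_27 S)))).trans (e43_25 S)
theorem e72_67 : S.op (t72 S) (t67 S) = (t61 S) := (S.comm _ _).trans (e67_72 S)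
theorem e72_61 : S.op (t72 S) (t61 S) = (t67 S) := (congrArg (S.op (t72 S)) (e72_67 S)).symm.trans (S.invol (t72 S) (t67 S))
theorem e61_72 : S.op (t61 S) (t72 S) = (t67 S) := (S.comm _ _).trans (e72_61 S)
theorem e48_5 : S.op (t48 S) (t5 S) = (t67 S) := ((congrArg (S.op (t61 S)) (e9_27 S)).symm.trans ((S.dist (t61 S) (t9 S) (t27 S)).trans (congrArg₂ S.op (e61_9 S) (e61_27 S)))).symm.trans (e61_72 S)
theorem e5_48 : S.op (t5 S) (t48 S) = (t67 S) := (S.comm _ _).trans (e48_5 S)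
theorem e5_67 : S.op (t5 S) (t67 S) = (t48 S) := (congrArg (S.op (t5 S)) (e5_48 S)).symm.trans (S.invol (t5 S) (t48 S))
theorem e60_13 : S.op (t60 S) (t13 S) = (t46 S) := ((congrArg (S.op (t30 S)) (e0_77 S)).symm.trans ((S.dist (t30 S) (t0 S) (t77 S)).trans (congrArg₂ S.op (e30_0 S) (e30_77 S)))).symm.trans (e30_43 S)
theorem e49_43 : S.op (t49 S) (t43 S) = (t29 S) := ((congrArg (S.op (t49 S)) (e0_77 S)).symm.trans ((S.dist (t49 S) (t0 S) (t77 S)).trans (congrArg₂ S.op (e49_0 S) (e49_77 S)))).trans (e71_21 S)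
theorem e43_49 : S.op (t43 S) (t49 S) = (t29 S) := (S.comm _ _).trans (e49_43 S)
theorem e43_29 : S.op (t43 S) (t29 S) = (t49 S) := (congrArg (S.op (t43 S)) (e43_49 S)).symm.trans (S.invol (t43 S) (t49 S))
theorem e29_43 : S.op (t29 S) (t43 S) = (t49 S) := (S.comm _ _).trans (e43_29 S)
theorem e50_43 : S.op (t50 S) (t43 S) = (t28 S) := ((congrArg (S.op (t50 S)) (e0_77 S)).symm.trans ((S.dist (t50 S) (t0 S) (t77 S)).trans (congrArg₂ S.op (e50_0 S) (e50_77 S)))).trans (e70_23 S)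
theorem e43_50 : S.op (t43 S) (t50 S) = (t28 S) := (S.comm _ _).trans (e50_43 S)
theorem e43_28 : S.op (t43 S) (t28 S) = (t50 S) := (congrArg (S.op (t43 S)) (e43_50 S)).symm.trans (S.invol (t43 S) (t50 S))
theorem e74_24 : S.op (t74 S) (t24 S) = (t50 S) := ((congrArg (S.op (t74 S)) (e3_9 S)).symm.trans ((S.dist (t74 S) (t3 S) (t9 S)).trans (congrArg₂ S.op (e74_3 S) (e74_9 S)))).trans (e43_28 S)
theorem e74_68 : S.op (t74 S) (t68 S) = (t61 S) := ((congrArg (S.op (t74 S)) (e27_24 S)).symm.trans ((S.dist (t74 S) (t27 S) (t24 S)).trans (congrArg₂ S.op (e74_27 S) (e74_24 S)))).trans (e10_50 S)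
theorem e68_74 : S.op (t68 S) (t74 S) = (t61 S) := (S.comm _ _).trans (e74_68 S)
theorem e68_61 : S.op (t68 S) (t61 S) = (t74 S) := (congrArg (S.op (t68 S)) (e68_74 S)).symm.trans (S.invol (t68 S) (t74 S))
theorem e6_17 : S.op (t6 S) (t17 S) = (t25 S) := ((congrArg (S.op (t6 S)) (e27_77 S)).symm.trans ((S.dist (t6 S) (t27 S) (t77 S)).trans (congrArg₂ S.op (e6_27 S) (e6_77 S)))).trans (e57_37 S)
theorem e17_6 : S.op (t17 S) (t6 S) = (t25 S) := (S.comm _ _).trans (e6_17 S)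
theorem e17_25 : S.op (t17 S) (t25 S) = (t6 S) := (congrArg (S.op (t17 S)) (e17_6 S)).symm.trans (S.invol (t17 S) (t6 S))
theorem e25_17 : S.op (t25 S) (t17 S) = (t6 S) := (S.comm _ _).trans (e17_25 S)
theorem e19_22 : S.op (t19 S) (t22 S) = (t25 S) := ((congrArg (S.op (t17 S)) (e3_0 S)).symm.trans ((S.dist (t17 S) (t3 S) (t0 S)).trans (congrArg₂ S.op (e17_3 S) (e17_0 S)))).symm.trans (e17_6 S)
theorem e22_19 : S.op (t22 S) (t19 S) = (t25 S) := (S.comm _ _).trans (e19_22 S)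
theorem e22_25 : S.op (t22 S) (t25 S) = (t19 S) := (congrArg (S.op (t22 S)) (e22_19 S)).symm.trans (S.invol (t22 S) (t19 S))
theorem e25_22 : S.op (t25 S) (t22 S) = (t19 S) := (S.comm _ _).trans (e22_25 S)
theorem e67_35 : S.op (t67 S) (t35 S) = (t19 S) := ((congrArg (S.op (t25 S)) (e27_69 S)).symm.trans ((S.dist (t25 S) (t27 S) (t69 S)).trans (congrArg₂ S.op (e25_27 S) (e25_69 S)))).symm.trans (e25_22 S)
theorem e35_67 : S.op (t35 S) (t67 S) = (t19 S) := (S.comm _ _).trans (e67_35 S)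
theorem e35_19 : S.op (t35 S) (t19 S) = (t67 S) := (congrArg (S.op (t35 S)) (e35_67 S)).symm.trans (S.invol (t35 S) (t67 S))
theorem e19_35 : S.op (t19 S) (t35 S) = (t67 S) := (S.comm _ _).trans (e35_19 S)
theorem e9_17 : S.op (t9 S) (t17 S) = (t13 S) := ((congrArg (S.op (t9 S)) (e27_77 S)).symm.trans ((S.dist (t9 S) (t27 S) (t77 S)).trans (congrArg₂ S.op (e9_27 S) (e9_77 S)))).trans (e72_33 S)
theorem e9_13 : S.op (t9 S) (t13 S) = (t17 S) := (congrArg (S.op (t9 S)) (e9_17 S)).symm.trans (S.invol (t9 S) (t17 S))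
theorem e67_47 : S.op (t67 S) (t47 S) = (t6 S) := ((congrArg (S.op (t25 S)) (e27_77 S)).symm.trans ((S.dist (t25 S) (t27 S) (t77 S)).trans (congrArg₂ S.op (e25_27 S) (e25_77 S)))).symm.trans (e25_17 S)
theorem e67_6 : S.op (t67 S) (t6 S) = (t47 S) := (congrArg (S.op (t67 S)) (e67_47 S)).symm.trans (S.invol (t67 S) (t47 S))
theorem e6_67 : S.op (t6 S) (t67 S) = (t47 S) := (S.comm _ _).trans (e67_6 S)
theorem e66_46 : S.op (t66 S) (t46 S) = (t8 S) := ((congrArg (S.op (t26 S)) (e27_77 S)).symm.trans ((S.dist (t26 S) (t27 S) (t77 S)).trans (congrArg₂ S.op (e26_27 S) (e26_77 S)))).symm.trans (e26_17 S)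
theorem e66_8 : S.op (t66 S) (t8 S) = (t46 S) := (congrArg (S.op (t66 S)) (e66_46 S)).symm.trans (S.invol (t66 S) (t46 S))
theorem e8_66 : S.op (t8 S) (t66 S) = (t46 S) := (S.comm _ _).trans (e66_8 S)
theorem e24_66 : S.op (t24 S) (t66 S) = (t29 S) := ((congrArg (S.op (t24 S)) (e0_51 S)).symm.trans ((S.dist (t24 S) (t0 S) (t51 S)).trans (congrArg₂ S.op (e24_0 S) (e24_51 S)))).trans (e12_78 S)
theorem e72_31 : S.op (t72 S) (t31 S) = (t16 S) := ((congrArg (S.op (t36 S)) (e0_51 S)).symm.trans ((S.dist (t36 S) (t0 S) (t51 S)).trans (congrArg₂ S.op (e36_0 S) (e36_51 S)))).symm.trans (e36_66 S)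
theorem e44_66 : S.op (t44 S) (t66 S) = (t9 S) := ((congrArg (S.op (t44 S)) (e0_51 S)).symm.trans ((S.dist (t44 S) (t0 S) (t51 S)).trans (congrArg₂ S.op (e44_0 S) (e44_51 S)))).trans (e76_34 S)
theorem e66_44 : S.op (t66 S) (t44 S) = (t9 S) := (S.comm _ _).trans (e44_66 S)
theorem e44_9 : S.op (t44 S) (t9 S) = (t66 S) := (congrArg (S.op (t44 S)) (e44_66 S)).symm.trans (S.invol (t44 S) (t66 S))
theorem e66_9 : S.op (t66 S) (t9 S) = (t44 S) := (congrArg (S.op (t66 S)) (e66_44 S)).symm.trans (S.invol (t66 S) (t44 S))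
theorem e9_44 : S.op (t9 S) (t44 S) = (t66 S) := (S.comm _ _).trans (e44_9 S)
theorem e9_66 : S.op (t9 S) (t66 S) = (t44 S) := (S.comm _ _).trans (e66_9 S)
theorem e0_13 : S.op (t0 S) (t13 S) = (t26 S) := ((congrArg (S.op (t54 S)) (e27_51 S)).symm.trans ((S.dist (t54 S) (t27 S) (t51 S)).trans (congrArg₂ S.op (e54_27 S) (e54_51 S)))).symm.trans (e54_41 S)
theorem e0_26 : S.op (t0 S) (t26 S) = (t13 S) := (congrArg (S.op (t0 S)) (e0_13 S)).symm.trans (S.invol (t0 S) (t13 S))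
theorem e7_9 : S.op (t7 S) (t9 S) = (t23 S) := ((congrArg (S.op (t59 S)) (e27_51 S)).symm.trans ((S.dist (t59 S) (t27 S) (t51 S)).trans (congrArg₂ S.op (e59_27 S) (e59_51 S)))).symm.trans (e59_41 S)
theorem e9_7 : S.op (t9 S) (t7 S) = (t23 S) := (S.comm _ _).trans (e7_9 S)
theorem e9_23 : S.op (t9 S) (t23 S) = (t7 S) := (congrArg (S.op (t9 S)) (e9_7 S)).symm.trans (S.invol (t9 S) (t7 S))
theorem e0_59 : S.op (t0 S) (t59 S) = (t34 S) := ((congrArg (S.op (t0 S)) (e9_51 S)).symm.trans ((S.dist (t0 S) (t9 S) (t51 S)).trans (congrArg₂ S.op (e0_9 S) (e0_51 S)))).trans (e18_66 S)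
theorem e0_34 : S.op (t0 S) (t34 S) = (t59 S) := (congrArg (S.op (t0 S)) (e0_59 S)).symm.trans (S.invol (t0 S) (t59 S))
theorem e34_0 : S.op (t34 S) (t0 S) = (t59 S) := (S.comm _ _).trans (e0_34 S)
theorem e3_59 : S.op (t3 S) (t59 S) = (t31 S) := ((congrArg (S.op (t3 S)) (e9_51 S)).symm.trans ((S.dist (t3 S) (t9 S) (t51 S)).trans (congrArg₂ S.op (e3_9 S) (e3_51 S)))).trans (e24_63 S)
theorem e3_31 : S.op (t3 S) (t31 S) = (t59 S) := (congrArg (S.op (t3 S)) (e3_59 S)).symm.trans (S.invol (t3 S) (t59 S))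
theorem e30_59 : S.op (t30 S) (t59 S) = (t4 S) := ((congrArg (S.op (t30 S)) (e9_51 S)).symm.trans ((S.dist (t30 S) (t9 S) (t51 S)).trans (congrArg₂ S.op (e30_9 S) (e30_51 S)))).trans (e79_37 S)
theorem e59_30 : S.op (t59 S) (t30 S) = (t4 S) := (S.comm _ _).trans (e30_59 S)
theorem e54_59 : S.op (t54 S) (t59 S) = (t61 S) := ((congrArg (S.op (t54 S)) (e9_51 S)).symm.trans ((S.dist (t54 S) (t9 S) (t51 S)).trans (congrArg₂ S.op (e54_9 S) (e54_51 S)))).trans (e45_13 S)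
theorem e54_61 : S.op (t54 S) (t61 S) = (t59 S) := (congrArg (S.op (t54 S)) (e54_59 S)).symm.trans (S.invol (t54 S) (t59 S))
theorem e61_54 : S.op (t61 S) (t54 S) = (t59 S) := (S.comm _ _).trans (e54_61 S)
theorem e5_32 : S.op (t5 S) (t32 S) = (t59 S) := ((congrArg (S.op (t61 S)) (e27_0 S)).symm.trans ((S.dist (t61 S) (t27 S) (t0 S)).trans (congrArg₂ S.op (e61_27 S) (e61_0 S)))).symm.trans (e61_54 S)
theorem e32_5 : S.op (t32 S) (t5 S) = (t59 S) := (S.comm _ _).trans (e5_32 S)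
theorem e32_59 : S.op (t32 S) (t59 S) = (t5 S) := (congrArg (S.op (t32 S)) (e32_5 S)).symm.trans (S.invol (t32 S) (t5 S))
theorem e79_59 : S.op (t79 S) (t59 S) = (t65 S) := ((congrArg (S.op (t79 S)) (e9_51 S)).symm.trans ((S.dist (t79 S) (t9 S) (t51 S)).trans (congrArg₂ S.op (e79_9 S) (e79_51 S)))).trans (e30_26 S)
theorem e59_79 : S.op (t59 S) (t79 S) = (t65 S) := (S.comm _ _).trans (e79_59 S)
theorem e51_4 : S.op (t51 S) (t4 S) = (t65 S) := ((congrArg (S.op (t59 S)) (e9_30 S)).symm.trans ((S.dist (t59 S) (t9 S) (t30 S)).trans (congrArg₂ S.op (e59_9 S) (e59_30 S)))).symm.trans (e59_79 S)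
theorem e4_51 : S.op (t4 S) (t51 S) = (t65 S) := (S.comm _ _).trans (e51_4 S)
theorem e4_66 : S.op (t4 S) (t66 S) = (t50 S) := ((congrArg (S.op (t4 S)) (e0_51 S)).symm.trans ((S.dist (t4 S) (t0 S) (t51 S)).trans (congrArg₂ S.op (e4_0 S) (e4_51 S)))).trans (e8_65 S)
theorem e4_50 : S.op (t4 S) (t50 S) = (t66 S) := (congrArg (S.op (t4 S)) (e4_66 S)).symm.trans (S.invol (t4 S) (t66 S))
theorem e4_44 : S.op (t4 S) (t44 S) = (t72 S) := ((congrArg (S.op (t4 S)) (e0_76 S)).symm.trans ((S.dist (t4 S) (t0 S) (t76 S)).trans (congrArg₂ S.op (e4_0 S) (e4_76 S)))).trans (e8_40 S)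
theorem e44_4 : S.op (t44 S) (t4 S) = (t72 S) := (S.comm _ _).trans (e4_44 S)
theorem e44_72 : S.op (t44 S) (t72 S) = (t4 S) := (congrArg (S.op (t44 S)) (e44_4 S)).symm.trans (S.invol (t44 S) (t4 S))
theorem e72_44 : S.op (t72 S) (t44 S) = (t4 S) := (S.comm _ _).trans (e44_72 S)
theorem e11_44 : S.op (t11 S) (t44 S) = (t67 S) := ((congrArg (S.op (t11 S)) (e0_76 S)).symm.trans ((S.dist (t11 S) (t0 S) (t76 S)).trans (congrArg₂ S.op (e11_0 S) (e11_76 S)))).trans (e19_35 S)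
theorem e44_11 : S.op (t44 S) (t11 S) = (t67 S) := (S.comm _ _).trans (e11_44 S)
theorem e44_67 : S.op (t44 S) (t67 S) = (t11 S) := (congrArg (S.op (t44 S)) (e44_11 S)).symm.trans (S.invol (t44 S) (t11 S))
theorem e67_44 : S.op (t67 S) (t44 S) = (t11 S) := (S.comm _ _).trans (e44_67 S)
theorem e24_32 : S.op (t24 S) (t32 S) = (t65 S) := ((congrArg (S.op (t12 S)) (e0_76 S)).symm.trans ((S.dist (t12 S) (t0 S) (t76 S)).trans (congrArg₂ S.op (e12_0 S) (e12_76 S)))).symm.trans (e12_44 S)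
theorem e27_44 : S.op (t27 S) (t44 S) = (t50 S) := ((congrArg (S.op (t27 S)) (e0_76 S)).symm.trans ((S.dist (t27 S) (t0 S) (t76 S)).trans (congrArg₂ S.op (e27_0 S) (e27_76 S)))).trans (e54_15 S)
theorem e27_50 : S.op (t27 S) (t50 S) = (t44 S) := (congrArg (S.op (t27 S)) (e27_44 S)).symm.trans (S.invol (t27 S) (t44 S))
theorem e50_27 : S.op (t50 S) (t27 S) = (t44 S) := (S.comm _ _).trans (e27_50 S)
theorem e8_34 : S.op (t8 S) (t34 S) = (t60 S) := ((congrArg (S.op (t8 S)) (e9_76 S)).symm.trans ((S.dist (t8 S) (t9 S) (t76 S)).trans (congrArg₂ S.op (e8_9 S) (e8_76 S)))).trans (e22_36 S)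
theorem e8_60 : S.op (t8 S) (t60 S) = (t34 S) := (congrArg (S.op (t8 S)) (e8_34 S)).symm.trans (S.invol (t8 S) (t34 S))
theorem e1_58 : S.op (t1 S) (t58 S) = (t34 S) := ((congrArg (S.op (t8 S)) (e3_27 S)).symm.trans ((S.dist (t8 S) (t3 S) (t27 S)).trans (congrArg₂ S.op (e8_3 S) (e8_27 S)))).symm.trans (e8_60 S)
theorem e1_34 : S.op (t1 S) (t34 S) = (t58 S) := (congrArg (S.op (t1 S)) (e1_58 S)).symm.trans (S.invol (t1 S) (t58 S))
theorem e6_50 : S.op (t6 S) (t50 S) = (t64 S) := ((congrArg (S.op (t21 S)) (e9_76 S)).symm.trans ((S.dist (t21 S) (t9 S) (t76 S)).trans (congrArg₂ S.op (e21_9 S) (e21_76 S)))).symm.trans (e21_34 S)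
theorem e6_64 : S.op (t6 S) (t64 S) = (t50 S) := (congrArg (S.op (t6 S)) (e6_50 S)).symm.trans (S.invol (t6 S) (t50 S))
theorem e27_34 : S.op (t27 S) (t34 S) = (t32 S) := ((congrArg (S.op (t27 S)) (e9_76 S)).symm.trans ((S.dist (t27 S) (t9 S) (t76 S)).trans (congrArg₂ S.op (e27_9 S) (e27_76 S)))).trans (e72_15 S)
theorem e34_27 : S.op (t34 S) (t27 S) = (t32 S) := (S.comm _ _).trans (e27_34 S)
theorem e27_32 : S.op (t27 S) (t32 S) = (t34 S) := (congrArg (S.op (t27 S)) (e27_34 S)).symm.trans (S.invol (t27 S) (t34 S))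
theorem e34_54 : S.op (t34 S) (t54 S) = (t5 S) := ((congrArg (S.op (t34 S)) (e27_0 S)).symm.trans ((S.dist (t34 S) (t27 S) (t0 S)).trans (congrArg₂ S.op (e34_27 S) (e34_0 S)))).trans (e32_59 S)
theorem e54_34 : S.op (t54 S) (t34 S) = (t5 S) := (S.comm _ _).trans (e34_54 S)
theorem e3_67 : S.op (t3 S) (t67 S) = (t50 S) := ((congrArg (S.op (t3 S)) (e0_53 S)).symm.trans ((S.dist (t3 S) (t0 S) (t53 S)).trans (congrArg₂ S.op (e3_0 S) (e3_53 S)))).trans (e6_64 S)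
theorem e67_3 : S.op (t67 S) (t3 S) = (t50 S) := (S.comm _ _).trans (e3_67 S)
theorem e3_50 : S.op (t3 S) (t50 S) = (t67 S) := (congrArg (S.op (t3 S)) (e3_67 S)).symm.trans (S.invol (t3 S) (t67 S))
theorem e50_3 : S.op (t50 S) (t3 S) = (t67 S) := (S.comm _ _).trans (e3_50 S)
theorem e50_60 : S.op (t50 S) (t60 S) = (t11 S) := ((congrArg (S.op (t50 S)) (e3_27 S)).symm.trans ((S.dist (t50 S) (t3 S) (t27 S)).trans (congrArg₂ S.op (e50_3 S) (e50_27 S)))).trans (e67_44 S)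
theorem e60_50 : S.op (t60 S) (t50 S) = (t11 S) := (S.comm _ _).trans (e50_60 S)
theorem e67_24 : S.op (t67 S) (t24 S) = (t28 S) := ((congrArg (S.op (t67 S)) (e3_9 S)).symm.trans ((S.dist (t67 S) (t3 S) (t9 S)).trans (congrArg₂ S.op (e67_3 S) (e67_9 S)))).trans (e50_43 S)
theorem e24_67 : S.op (t24 S) (t67 S) = (t28 S) := (S.comm _ _).trans (e67_24 S)
theorem e60_38 : S.op (t60 S) (t38 S) = (t23 S) := ((congrArg (S.op (t30 S)) (e0_53 S)).symm.trans ((S.dist (t30 S) (t0 S) (t53 S)).trans (congrArg₂ S.op (e30_0 S) (e30_53 S)))).symm.trans (e30_67 S)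
theorem e0_14 : S.op (t0 S) (t14 S) = (t25 S) := ((congrArg (S.op (t54 S)) (e27_53 S)).symm.trans ((S.dist (t54 S) (t27 S) (t53 S)).trans (congrArg₂ S.op (e54_27 S) (e54_53 S)))).symm.trans (e54_39 S)
theorem e0_25 : S.op (t0 S) (t25 S) = (t14 S) := (congrArg (S.op (t0 S)) (e0_14 S)).symm.trans (S.invol (t0 S) (t14 S))
theorem e3_16 : S.op (t3 S) (t16 S) = (t20 S) := ((congrArg (S.op (t60 S)) (e27_53 S)).symm.trans ((S.dist (t60 S) (t27 S) (t53 S)).trans (congrArg₂ S.op (e60_27 S) (e60_53 S)))).symm.trans (e60_39 S)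
theorem e3_20 : S.op (t3 S) (t20 S) = (t16 S) := (congrArg (S.op (t3 S)) (e3_16 S)).symm.trans (S.invol (t3 S) (t16 S))
theorem e5_15 : S.op (t5 S) (t15 S) = (t19 S) := ((congrArg (S.op (t61 S)) (e27_53 S)).symm.trans ((S.dist (t61 S) (t27 S) (t53 S)).trans (congrArg₂ S.op (e61_27 S) (e61_53 S)))).symm.trans (e61_39 S)
theorem e15_5 : S.op (t15 S) (t5 S) = (t19 S) := (S.comm _ _).trans (e5_15 S)
theorem e15_19 : S.op (t15 S) (t19 S) = (t5 S) := (congrArg (S.op (t15 S)) (e15_5 S)).symm.trans (S.invol (t15 S) (t5 S))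
theorem e19_15 : S.op (t19 S) (t15 S) = (t5 S) := (S.comm _ _).trans (e15_19 S)
theorem e0_64 : S.op (t0 S) (t64 S) = (t47 S) := ((congrArg (S.op (t0 S)) (e3_53 S)).symm.trans ((S.dist (t0 S) (t3 S) (t53 S)).trans (congrArg₂ S.op (e0_3 S) (e0_53 S)))).trans (e6_67 S)
theorem e0_47 : S.op (t0 S) (t47 S) = (t64 S) := (congrArg (S.op (t0 S)) (e0_64 S)).symm.trans (S.invol (t0 S) (t64 S))
theorem e1_64 : S.op (t1 S) (t64 S) = (t46 S) := ((congrArg (S.op (t1 S)) (e3_53 S)).symm.trans ((S.dist (t1 S) (t3 S) (t53 S)).trans (congrArg₂ S.op (e1_3 S) (e1_53 S)))).trans (e8_66 S)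
theorem e9_64 : S.op (t9 S) (t64 S) = (t38 S) := ((congrArg (S.op (t9 S)) (e3_53 S)).symm.trans ((S.dist (t9 S) (t3 S) (t53 S)).trans (congrArg₂ S.op (e9_3 S) (e9_53 S)))).trans (e24_57 S)
theorem e9_38 : S.op (t9 S) (t38 S) = (t64 S) := (congrArg (S.op (t9 S)) (e9_64 S)).symm.trans (S.invol (t9 S) (t64 S))
theorem e18_64 : S.op (t18 S) (t64 S) = (t29 S) := ((congrArg (S.op (t18 S)) (e3_53 S)).symm.trans ((S.dist (t18 S) (t3 S) (t53 S)).trans (congrArg₂ S.op (e18_3 S) (e18_53 S)))).trans (e15_77 S)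
theorem e24_37 : S.op (t24 S) (t37 S) = (t58 S) := ((congrArg (S.op (t12 S)) (e0_70 S)).symm.trans ((S.dist (t12 S) (t0 S) (t70 S)).trans (congrArg₂ S.op (e12_0 S) (e12_70 S)))).symm.trans (e12_50 S)
theorem e27_47 : S.op (t27 S) (t47 S) = (t37 S) := ((congrArg (S.op (t27 S)) (e3_70 S)).symm.trans ((S.dist (t27 S) (t3 S) (t70 S)).trans (congrArg₂ S.op (e27_3 S) (e27_70 S)))).trans (e60_21 S)
theorem e27_37 : S.op (t27 S) (t37 S) = (t47 S) := (congrArg (S.op (t27 S)) (e27_47 S)).symm.trans (S.invol (t27 S) (t47 S))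
theorem e54_47 : S.op (t54 S) (t47 S) = (t10 S) := ((congrArg (S.op (t54 S)) (e3_70 S)).symm.trans ((S.dist (t54 S) (t3 S) (t70 S)).trans (congrArg₂ S.op (e54_3 S) (e54_70 S)))).trans (e33_76 S)
theorem e65_47 : S.op (t65 S) (t47 S) = (t2 S) := ((congrArg (S.op (t65 S)) (e3_70 S)).symm.trans ((S.dist (t65 S) (t3 S) (t70 S)).trans (congrArg₂ S.op (e65_3 S) (e65_70 S)))).trans (e52_66 S)
theorem e47_65 : S.op (t47 S) (t65 S) = (t2 S) := (S.comm _ _).trans (e65_47 S)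
theorem e47_2 : S.op (t47 S) (t2 S) = (t65 S) := (congrArg (S.op (t47 S)) (e47_65 S)).symm.trans (S.invol (t47 S) (t65 S))
theorem e2_47 : S.op (t2 S) (t47 S) = (t65 S) := (S.comm _ _).trans (e47_2 S)
theorem e9_14 : S.op (t9 S) (t14 S) = (t16 S) := ((congrArg (S.op (t9 S)) (e27_78 S)).symm.trans ((S.dist (t9 S) (t27 S) (t78 S)).trans (congrArg₂ S.op (e9_27 S) (e9_78 S)))).trans (e72_31 S)
theorem e9_16 : S.op (t9 S) (t16 S) = (t14 S) := (congrArg (S.op (t9 S)) (e9_14 S)).symm.trans (S.invol (t9 S) (t14 S))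
theorem e0_31 : S.op (t0 S) (t31 S) = (t62 S) := ((congrArg (S.op (t0 S)) (e9_78 S)).symm.trans ((S.dist (t0 S) (t9 S) (t78 S)).trans (congrArg₂ S.op (e0_9 S) (e0_78 S)))).trans (e18_39 S)
theorem e0_62 : S.op (t0 S) (t62 S) = (t31 S) := (congrArg (S.op (t0 S)) (e0_31 S)).symm.trans (S.invol (t0 S) (t31 S))
theorem e27_31 : S.op (t27 S) (t31 S) = (t35 S) := ((congrArg (S.op (t27 S)) (e9_78 S)).symm.trans ((S.dist (t27 S) (t9 S) (t78 S)).trans (congrArg₂ S.op (e27_9 S) (e27_78 S)))).trans (e72_14 S)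
theorem e27_35 : S.op (t27 S) (t35 S) = (t31 S) := (congrArg (S.op (t27 S)) (e27_31 S)).symm.trans (S.invol (t27 S) (t31 S))
theorem e0_16 : S.op (t0 S) (t16 S) = (t23 S) := ((congrArg (S.op (t0 S)) (e27_75 S)).symm.trans ((S.dist (t0 S) (t27 S) (t75 S)).trans (congrArg₂ S.op (e0_27 S) (e0_75 S)))).trans (e54_42 S)
theorem e0_23 : S.op (t0 S) (t23 S) = (t16 S) := (congrArg (S.op (t0 S)) (e0_16 S)).symm.trans (S.invol (t0 S) (t16 S))
theorem e0_35 : S.op (t0 S) (t35 S) = (t58 S) := ((congrArg (S.op (t0 S)) (e9_75 S)).symm.trans ((S.dist (t0 S) (t9 S) (t75 S)).trans (congrArg₂ S.op (e0_9 S) (e0_75 S)))).trans (e18_42 S)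
theorem e0_58 : S.op (t0 S) (t58 S) = (t35 S) := (congrArg (S.op (t0 S)) (e0_35 S)).symm.trans (S.invol (t0 S) (t35 S))
theorem e3_35 : S.op (t3 S) (t35 S) = (t55 S) := ((congrArg (S.op (t3 S)) (e9_75 S)).symm.trans ((S.dist (t3 S) (t9 S) (t75 S)).trans (congrArg₂ S.op (e3_9 S) (e3_75 S)))).trans (e24_39 S)
theorem e3_55 : S.op (t3 S) (t55 S) = (t35 S) := (congrArg (S.op (t3 S)) (e3_35 S)).symm.trans (S.invol (t3 S) (t35 S))
theorem e3_13 : S.op (t3 S) (t13 S) = (t23 S) := ((congrArg (S.op (t3 S)) (e27_79 S)).symm.trans ((S.dist (t3 S) (t27 S) (t79 S)).trans (congrArg₂ S.op (e3_27 S) (e3_79 S)))).trans (e60_38 S)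
theorem e3_23 : S.op (t3 S) (t23 S) = (t13 S) := (congrArg (S.op (t3 S)) (e3_13 S)).symm.trans (S.invol (t3 S) (t13 S))
theorem e0_38 : S.op (t0 S) (t38 S) = (t73 S) := ((congrArg (S.op (t0 S)) (e3_79 S)).symm.trans ((S.dist (t0 S) (t3 S) (t79 S)).trans (congrArg₂ S.op (e0_3 S) (e0_79 S)))).trans (e6_41 S)
theorem e0_73 : S.op (t0 S) (t73 S) = (t38 S) := (congrArg (S.op (t0 S)) (e0_38 S)).symm.trans (S.invol (t0 S) (t38 S))
theorem e27_38 : S.op (t27 S) (t38 S) = (t46 S) := ((congrArg (S.op (t27 S)) (e3_79 S)).symm.trans ((S.dist (t27 S) (t3 S) (t79 S)).trans (congrArg₂ S.op (e27_3 S) (e27_79 S)))).trans (e60_13 S)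
theorem e27_46 : S.op (t27 S) (t46 S) = (t38 S) := (congrArg (S.op (t27 S)) (e27_38 S)).symm.trans (S.invol (t27 S) (t38 S))
theorem e0_46 : S.op (t0 S) (t46 S) = (t65 S) := ((congrArg (S.op (t0 S)) (e3_71 S)).symm.trans ((S.dist (t0 S) (t3 S) (t71 S)).trans (congrArg₂ S.op (e0_3 S) (e0_71 S)))).trans (e6_49 S)
theorem e0_65 : S.op (t0 S) (t65 S) = (t46 S) := (congrArg (S.op (t0 S)) (e0_46 S)).symm.trans (S.invol (t0 S) (t46 S))
theorem e9_46 : S.op (t9 S) (t46 S) = (t56 S) := ((congrArg (S.op (t9 S)) (e3_71 S)).symm.trans ((S.dist (t9 S) (t3 S) (t71 S)).trans (congrArg₂ S.op (e9_3 S) (e9_71 S)))).trans (e24_41 S)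
theorem e46_9 : S.op (t46 S) (t9 S) = (t56 S) := (S.comm _ _).trans (e9_46 S)
theorem e9_56 : S.op (t9 S) (t56 S) = (t46 S) := (congrArg (S.op (t9 S)) (e9_46 S)).symm.trans (S.invol (t9 S) (t46 S))
theorem e46_56 : S.op (t46 S) (t56 S) = (t9 S) := (congrArg (S.op (t46 S)) (e46_9 S)).symm.trans (S.invol (t46 S) (t9 S))
theorem e56_46 : S.op (t56 S) (t46 S) = (t9 S) := (S.comm _ _).trans (e46_56 S)
theorem e3_32 : S.op (t3 S) (t32 S) = (t58 S) := ((congrArg (S.op (t3 S)) (e9_80 S)).symm.trans ((S.dist (t3 S) (t9 S) (t80 S)).trans (congrArg₂ S.op (e3_9 S) (e3_80 S)))).trans (e24_37 S)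
theorem e3_58 : S.op (t3 S) (t58 S) = (t32 S) := (congrArg (S.op (t3 S)) (e3_32 S)).symm.trans (S.invol (t3 S) (t32 S))
theorem e0_37 : S.op (t0 S) (t37 S) = (t74 S) := ((congrArg (S.op (t0 S)) (e3_80 S)).symm.trans ((S.dist (t0 S) (t3 S) (t80 S)).trans (congrArg₂ S.op (e0_3 S) (e0_80 S)))).trans (e6_40 S)
theorem e0_74 : S.op (t0 S) (t74 S) = (t37 S) := (congrArg (S.op (t0 S)) (e0_37 S)).symm.trans (S.invol (t0 S) (t37 S))
theorem e9_37 : S.op (t9 S) (t37 S) = (t65 S) := ((congrArg (S.op (t9 S)) (e3_80 S)).symm.trans ((S.dist (t9 S) (t3 S) (t80 S)).trans (congrArg₂ S.op (e9_3 S) (e9_80 S)))).trans (e24_32 S)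
theorem e9_65 : S.op (t9 S) (t65 S) = (t37 S) := (congrArg (S.op (t9 S)) (e9_37 S)).symm.trans (S.invol (t9 S) (t37 S))
theorem e19_65 : S.op (t19 S) (t65 S) = (t27 S) := ((congrArg (S.op (t19 S)) (e3_52 S)).symm.trans ((S.dist (t19 S) (t3 S) (t52 S)).trans (congrArg₂ S.op (e19_3 S) (e19_52 S)))).trans (e17_77 S)
theorem e65_19 : S.op (t65 S) (t19 S) = (t27 S) := (S.comm _ _).trans (e19_65 S)
theorem e19_27 : S.op (t19 S) (t27 S) = (t65 S) := (congrArg (S.op (t19 S)) (e19_65 S)).symm.trans (S.invol (t19 S) (t65 S))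
theorem e65_27 : S.op (t65 S) (t27 S) = (t19 S) := (congrArg (S.op (t65 S)) (e65_19 S)).symm.trans (S.invol (t65 S) (t19 S))
theorem e27_19 : S.op (t27 S) (t19 S) = (t65 S) := (S.comm _ _).trans (e19_27 S)
theorem e27_65 : S.op (t27 S) (t65 S) = (t19 S) := (S.comm _ _).trans (e65_27 S)
theorem e49_61 : S.op (t49 S) (t61 S) = (t11 S) := ((congrArg (S.op (t49 S)) (e9_48 S)).symm.trans ((S.dist (t49 S) (t9 S) (t48 S)).trans (congrArg₂ S.op (e49_9 S) (e49_48 S)))).trans (e60_50 S)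
theorem e61_49 : S.op (t61 S) (t49 S) = (t11 S) := (S.comm _ _).trans (e49_61 S)
theorem e42_4 : S.op (t42 S) (t4 S) = (t74 S) := ((congrArg (S.op (t68 S)) (e9_48 S)).symm.trans ((S.dist (t68 S) (t9 S) (t48 S)).trans (congrArg₂ S.op (e68_9 S) (e68_48 S)))).symm.trans (e68_61 S)
theorem e42_74 : S.op (t42 S) (t74 S) = (t4 S) := (congrArg (S.op (t42 S)) (e42_4 S)).symm.trans (S.invol (t42 S) (t4 S))
theorem e74_42 : S.op (t74 S) (t42 S) = (t4 S) := (S.comm _ _).trans (e42_74 S)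
theorem e28_61 : S.op (t28 S) (t61 S) = (t4 S) := ((congrArg (S.op (t28 S)) (e9_48 S)).symm.trans ((S.dist (t28 S) (t9 S) (t48 S)).trans (congrArg₂ S.op (e28_9 S) (e28_48 S)))).trans (e74_42 S)
theorem e61_28 : S.op (t61 S) (t28 S) = (t4 S) := (S.comm _ _).trans (e28_61 S)
theorem e61_4 : S.op (t61 S) (t4 S) = (t28 S) := (congrArg (S.op (t61 S)) (e61_28 S)).symm.trans (S.invol (t61 S) (t28 S))
theorem e4_61 : S.op (t4 S) (t61 S) = (t28 S) := (S.comm _ _).trans (e61_4 S)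
theorem e2_8 : S.op (t2 S) (t8 S) = (t5 S) := ((congrArg (S.op (t2 S)) (e9_22 S)).symm.trans ((S.dist (t2 S) (t9 S) (t22 S)).trans (congrArg₂ S.op (e2_9 S) (e2_22 S)))).trans (e19_15 S)
theorem e8_2 : S.op (t8 S) (t2 S) = (t5 S) := (S.comm _ _).trans (e2_8 S)
theorem e8_5 : S.op (t8 S) (t5 S) = (t2 S) := (congrArg (S.op (t8 S)) (e8_2 S)).symm.trans (S.invol (t8 S) (t2 S))
theorem e5_8 : S.op (t5 S) (t8 S) = (t2 S) := (S.comm _ _).trans (e8_5 S)
theorem e29_74 : S.op (t29 S) (t74 S) = (t11 S) := ((congrArg (S.op (t29 S)) (e3_43 S)).symm.trans ((S.dist (t29 S) (t3 S) (t43 S)).trans (congrArg₂ S.op (e29_3 S) (e29_43 S)))).trans (e61_49 S)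
theorem e74_29 : S.op (t74 S) (t29 S) = (t11 S) := (S.comm _ _).trans (e29_74 S)
theorem e3_26 : S.op (t3 S) (t26 S) = (t10 S) := ((congrArg (S.op (t3 S)) (e27_66 S)).symm.trans ((S.dist (t3 S) (t27 S) (t66 S)).trans (congrArg₂ S.op (e3_27 S) (e3_66 S)))).trans (e60_48 S)
theorem e3_10 : S.op (t3 S) (t10 S) = (t26 S) := (congrArg (S.op (t3 S)) (e3_26 S)).symm.trans (S.invol (t3 S) (t26 S))
theorem e9_26 : S.op (t9 S) (t26 S) = (t4 S) := ((congrArg (S.op (t9 S)) (e27_66 S)).symm.trans ((S.dist (t9 S) (t27 S) (t66 S)).trans (congrArg₂ S.op (e9_27 S) (e9_66 S)))).trans (e72_44 S)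
theorem e9_4 : S.op (t9 S) (t4 S) = (t26 S) := (congrArg (S.op (t9 S)) (e9_26 S)).symm.trans (S.invol (t9 S) (t26 S))
theorem e4_9 : S.op (t4 S) (t9 S) = (t26 S) := (S.comm _ _).trans (e9_4 S)
theorem e0_7 : S.op (t0 S) (t7 S) = (t5 S) := ((congrArg (S.op (t0 S)) (e27_59 S)).symm.trans ((S.dist (t0 S) (t27 S) (t59 S)).trans (congrArg₂ S.op (e0_27 S) (e0_59 S)))).trans (e54_34 S)
theorem e0_5 : S.op (t0 S) (t5 S) = (t7 S) := (congrArg (S.op (t0 S)) (e0_7 S)).symm.trans (S.invol (t0 S) (t7 S))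
theorem e3_7 : S.op (t3 S) (t7 S) = (t2 S) := ((congrArg (S.op (t3 S)) (e27_59 S)).symm.trans ((S.dist (t3 S) (t27 S) (t59 S)).trans (congrArg₂ S.op (e3_27 S) (e3_59 S)))).trans (e60_31 S)
theorem e3_2 : S.op (t3 S) (t2 S) = (t7 S) := (congrArg (S.op (t3 S)) (e3_7 S)).symm.trans (S.invol (t3 S) (t7 S))
theorem e9_73 : S.op (t9 S) (t73 S) = (t29 S) := ((congrArg (S.op (t9 S)) (e3_44 S)).symm.trans ((S.dist (t9 S) (t3 S) (t44 S)).trans (congrArg₂ S.op (e9_3 S) (e9_44 S)))).trans (e24_66 S)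
theorem e9_29 : S.op (t9 S) (t29 S) = (t73 S) := (congrArg (S.op (t9 S)) (e9_73 S)).symm.trans (S.invol (t9 S) (t73 S))
theorem e27_73 : S.op (t27 S) (t73 S) = (t11 S) := ((congrArg (S.op (t27 S)) (e3_44 S)).symm.trans ((S.dist (t27 S) (t3 S) (t44 S)).trans (congrArg₂ S.op (e27_3 S) (e27_44 S)))).trans (e60_50 S)
theorem e27_11 : S.op (t27 S) (t11 S) = (t73 S) := (congrArg (S.op (t27 S)) (e27_73 S)).symm.trans (S.invol (t27 S) (t73 S))
theorem e0_56 : S.op (t0 S) (t56 S) = (t28 S) := ((congrArg (S.op (t0 S)) (e3_34 S)).symm.trans ((S.dist (t0 S) (t3 S) (t34 S)).trans (congrArg₂ S.op (e0_3 S) (e0_34 S)))).trans (e6_59 S)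
theorem e0_28 : S.op (t0 S) (t28 S) = (t56 S) := (congrArg (S.op (t0 S)) (e0_56 S)).symm.trans (S.invol (t0 S) (t56 S))
theorem e1_56 : S.op (t1 S) (t56 S) = (t27 S) := ((congrArg (S.op (t1 S)) (e3_34 S)).symm.trans ((S.dist (t1 S) (t3 S) (t34 S)).trans (congrArg₂ S.op (e1_3 S) (e1_34 S)))).trans (e8_58 S)
theorem e56_1 : S.op (t56 S) (t1 S) = (t27 S) := (S.comm _ _).trans (e1_56 S)
theorem e1_27 : S.op (t1 S) (t27 S) = (t56 S) := (congrArg (S.op (t1 S)) (e1_56 S)).symm.trans (S.invol (t1 S) (t56 S))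
theorem e56_27 : S.op (t56 S) (t27 S) = (t1 S) := (congrArg (S.op (t56 S)) (e56_1 S)).symm.trans (S.invol (t56 S) (t1 S))
theorem e27_1 : S.op (t27 S) (t1 S) = (t56 S) := (S.comm _ _).trans (e1_27 S)
theorem e27_56 : S.op (t27 S) (t56 S) = (t1 S) := (S.comm _ _).trans (e56_27 S)
theorem e3_25 : S.op (t3 S) (t25 S) = (t11 S) := ((congrArg (S.op (t3 S)) (e27_67 S)).symm.trans ((S.dist (t3 S) (t27 S) (t67 S)).trans (congrArg₂ S.op (e3_27 S) (e3_67 S)))).trans (e60_50 S)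
theorem e3_11 : S.op (t3 S) (t11 S) = (t25 S) := (congrArg (S.op (t3 S)) (e3_25 S)).symm.trans (S.invol (t3 S) (t25 S))
theorem e5_25 : S.op (t5 S) (t25 S) = (t9 S) := ((congrArg (S.op (t5 S)) (e27_67 S)).symm.trans ((S.dist (t5 S) (t27 S) (t67 S)).trans (congrArg₂ S.op (e5_27 S) (e5_67 S)))).trans (e61_48 S)
theorem e25_5 : S.op (t25 S) (t5 S) = (t9 S) := (S.comm _ _).trans (e5_25 S)
theorem e5_9 : S.op (t5 S) (t9 S) = (t25 S) := (congrArg (S.op (t5 S)) (e5_25 S)).symm.trans (S.invol (t5 S) (t25 S))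
theorem e25_9 : S.op (t25 S) (t9 S) = (t5 S) := (congrArg (S.op (t25 S)) (e25_5 S)).symm.trans (S.invol (t25 S) (t5 S))
theorem e9_5 : S.op (t9 S) (t5 S) = (t25 S) := (S.comm _ _).trans (e5_9 S)
theorem e9_25 : S.op (t9 S) (t25 S) = (t5 S) := (S.comm _ _).trans (e25_9 S)
theorem e0_20 : S.op (t0 S) (t20 S) = (t10 S) := ((congrArg (S.op (t0 S)) (e27_64 S)).symm.trans ((S.dist (t0 S) (t27 S) (t64 S)).trans (congrArg₂ S.op (e0_27 S) (e0_64 S)))).trans (e54_47 S)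
theorem e0_10 : S.op (t0 S) (t10 S) = (t20 S) := (congrArg (S.op (t0 S)) (e0_20 S)).symm.trans (S.invol (t0 S) (t20 S))
theorem e1_20 : S.op (t1 S) (t20 S) = (t9 S) := ((congrArg (S.op (t1 S)) (e27_64 S)).symm.trans ((S.dist (t1 S) (t27 S) (t64 S)).trans (congrArg₂ S.op (e1_27 S) (e1_64 S)))).trans (e56_46 S)
theorem e20_1 : S.op (t20 S) (t1 S) = (t9 S) := (S.comm _ _).trans (e1_20 S)
theorem e1_9 : S.op (t1 S) (t9 S) = (t20 S) := (congrArg (S.op (t1 S)) (e1_20 S)).symm.trans (S.invol (t1 S) (t20 S))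
theorem e20_9 : S.op (t20 S) (t9 S) = (t1 S) := (congrArg (S.op (t20 S)) (e20_1 S)).symm.trans (S.invol (t20 S) (t1 S))
theorem e9_1 : S.op (t9 S) (t1 S) = (t20 S) := (S.comm _ _).trans (e1_9 S)
theorem e9_20 : S.op (t9 S) (t20 S) = (t1 S) := (S.comm _ _).trans (e20_9 S)
theorem e3_62 : S.op (t3 S) (t62 S) = (t28 S) := ((congrArg (S.op (t3 S)) (e9_50 S)).symm.trans ((S.dist (t3 S) (t9 S) (t50 S)).trans (congrArg₂ S.op (e3_9 S) (e3_50 S)))).trans (e24_67 S)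
theorem e62_3 : S.op (t62 S) (t3 S) = (t28 S) := (S.comm _ _).trans (e3_62 S)
theorem e3_28 : S.op (t3 S) (t28 S) = (t62 S) := (congrArg (S.op (t3 S)) (e3_62 S)).symm.trans (S.invol (t3 S) (t62 S))
theorem e62_28 : S.op (t62 S) (t28 S) = (t3 S) := (congrArg (S.op (t62 S)) (e62_3 S)).symm.trans (S.invol (t62 S) (t3 S))
theorem e4_62 : S.op (t4 S) (t62 S) = (t27 S) := ((congrArg (S.op (t4 S)) (e9_50 S)).symm.trans ((S.dist (t4 S) (t9 S) (t50 S)).trans (congrArg₂ S.op (e4_9 S) (e4_50 S)))).trans (e26_66 S)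
theorem e62_4 : S.op (t62 S) (t4 S) = (t27 S) := (S.comm _ _).trans (e4_62 S)
theorem e4_27 : S.op (t4 S) (t27 S) = (t62 S) := (congrArg (S.op (t4 S)) (e4_62 S)).symm.trans (S.invol (t4 S) (t62 S))
theorem e62_27 : S.op (t62 S) (t27 S) = (t4 S) := (congrArg (S.op (t62 S)) (e62_4 S)).symm.trans (S.invol (t62 S) (t4 S))
theorem e27_4 : S.op (t27 S) (t4 S) = (t62 S) := (S.comm _ _).trans (e4_27 S)
theorem e27_62 : S.op (t27 S) (t62 S) = (t4 S) := (S.comm _ _).trans (e62_27 S)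
theorem e0_55 : S.op (t0 S) (t55 S) = (t29 S) := ((congrArg (S.op (t0 S)) (e9_47 S)).symm.trans ((S.dist (t0 S) (t9 S) (t47 S)).trans (congrArg₂ S.op (e0_9 S) (e0_47 S)))).trans (e18_64 S)
theorem e0_29 : S.op (t0 S) (t29 S) = (t55 S) := (congrArg (S.op (t0 S)) (e0_55 S)).symm.trans (S.invol (t0 S) (t55 S))
theorem e2_55 : S.op (t2 S) (t55 S) = (t27 S) := ((congrArg (S.op (t2 S)) (e9_47 S)).symm.trans ((S.dist (t2 S) (t9 S) (t47 S)).trans (congrArg₂ S.op (e2_9 S) (e2_47 S)))).trans (e19_65 S)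
theorem e55_2 : S.op (t55 S) (t2 S) = (t27 S) := (S.comm _ _).trans (e2_55 S)
theorem e2_27 : S.op (t2 S) (t27 S) = (t55 S) := (congrArg (S.op (t2 S)) (e2_55 S)).symm.trans (S.invol (t2 S) (t55 S))
theorem e55_27 : S.op (t55 S) (t27 S) = (t2 S) := (congrArg (S.op (t55 S)) (e55_2 S)).symm.trans (S.invol (t55 S) (t2 S))
theorem e27_2 : S.op (t27 S) (t2 S) = (t55 S) := (S.comm _ _).trans (e2_27 S)
theorem e27_55 : S.op (t27 S) (t55 S) = (t2 S) := (S.comm _ _).trans (e55_27 S)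
theorem e4_5 : S.op (t4 S) (t5 S) = (t3 S) := ((congrArg (S.op (t4 S)) (e27_61 S)).symm.trans ((S.dist (t4 S) (t27 S) (t61 S)).trans (congrArg₂ S.op (e4_27 S) (e4_61 S)))).trans (e62_28 S)
theorem e5_4 : S.op (t5 S) (t4 S) = (t3 S) := (S.comm _ _).trans (e4_5 S)
theorem e4_3 : S.op (t4 S) (t3 S) = (t5 S) := (congrArg (S.op (t4 S)) (e4_5 S)).symm.trans (S.invol (t4 S) (t5 S))
theorem e5_3 : S.op (t5 S) (t3 S) = (t4 S) := (congrArg (S.op (t5 S)) (e5_4 S)).symm.trans (S.invol (t5 S) (t4 S))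
theorem e3_4 : S.op (t3 S) (t4 S) = (t5 S) := (S.comm _ _).trans (e4_3 S)
theorem e3_5 : S.op (t3 S) (t5 S) = (t4 S) := (S.comm _ _).trans (e5_3 S)
theorem e4_6 : S.op (t4 S) (t6 S) = (t2 S) := ((congrArg (S.op (t4 S)) (e3_0 S)).symm.trans ((S.dist (t4 S) (t3 S) (t0 S)).trans (congrArg₂ S.op (e4_3 S) (e4_0 S)))).trans (e5_8 S)
theorem e6_4 : S.op (t6 S) (t4 S) = (t2 S) := (S.comm _ _).trans (e4_6 S)
theorem e5_60 : S.op (t5 S) (t60 S) = (t28 S) := ((congrArg (S.op (t5 S)) (e3_27 S)).symm.trans ((S.dist (t5 S) (t3 S) (t27 S)).trans (congrArg₂ S.op (e5_3 S) (e5_27 S)))).trans (e4_61 S)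
theorem e60_5 : S.op (t60 S) (t5 S) = (t28 S) := (S.comm _ _).trans (e5_60 S)
theorem e27_29 : S.op (t27 S) (t29 S) = (t28 S) := ((congrArg (S.op (t27 S)) (e3_61 S)).symm.trans ((S.dist (t27 S) (t3 S) (t61 S)).trans (congrArg₂ S.op (e27_3 S) (e27_61 S)))).trans (e60_5 S)
theorem e27_28 : S.op (t27 S) (t28 S) = (t29 S) := (congrArg (S.op (t27 S)) (e27_29 S)).symm.trans (S.invol (t27 S) (t29 S))
theorem e28_27 : S.op (t28 S) (t27 S) = (t29 S) := (S.comm _ _).trans (e27_28 S)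
theorem e28_72 : S.op (t28 S) (t72 S) = (t11 S) := ((congrArg (S.op (t28 S)) (e9_27 S)).symm.trans ((S.dist (t28 S) (t9 S) (t27 S)).trans (congrArg₂ S.op (e28_9 S) (e28_27 S)))).trans (e74_29 S)
theorem e72_28 : S.op (t72 S) (t28 S) = (t11 S) := (S.comm _ _).trans (e28_72 S)
theorem e0_1 : S.op (t0 S) (t1 S) = (t2 S) := ((congrArg (S.op (t0 S)) (e3_8 S)).symm.trans ((S.dist (t0 S) (t3 S) (t8 S)).trans (congrArg₂ S.op (e0_3 S) (e0_8 S)))).trans (e6_4 S)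
theorem e0_2 : S.op (t0 S) (t2 S) = (t1 S) := (congrArg (S.op (t0 S)) (e0_1 S)).symm.trans (S.invol (t0 S) (t1 S))
theorem e9_10 : S.op (t9 S) (t10 S) = (t11 S) := ((congrArg (S.op (t9 S)) (e27_74 S)).symm.trans ((S.dist (t9 S) (t27 S) (t74 S)).trans (congrArg₂ S.op (e9_27 S) (e9_74 S)))).trans (e72_28 S)
theorem e9_11 : S.op (t9 S) (t11 S) = (t10 S) := (congrArg (S.op (t9 S)) (e9_10 S)).symm.trans (S.invol (t9 S) (t10 S))

/-- The parametrisation by the model. -/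
def pt : V → α
  | ((0, 0, 0), 0) => t0 S
  | ((0, 0, 0), 1) => t1 S
  | ((0, 0, 0), 2) => t2 S
  | ((0, 0, 1), 0) => t3 S
  | ((0, 0, 1), 1) => t4 S
  | ((0, 0, 1), 2) => t5 S
  | ((0, 0, 2), 0) => t6 S
  | ((0, 0, 2), 1) => t7 S
  | ((0, 0, 2), 2) => t8 S
  | ((0, 1, 0), 0) => t9 S
  | ((0, 1, 0), 1) => t10 S
  | ((0, 1, 0), 2) => t11 S
  | ((0, 1, 1), 0) => t12 S
  | ((0, 1, 1), 1) => t13 S
  | ((0, 1, 1), 2) => t14 S
  | ((0, 1, 2), 0) => t15 S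
  | ((0, 1, 2), 1) => t16 S
  | ((0, 1, 2), 2) => t17 S
  | ((0, 2, 0), 0) => t18 S
  | ((0, 2, 0), 1) => t19 S
  | ((0, 2, 0), 2) => t20 S
  | ((0, 2, 1), 0) => t21 S
  | ((0, 2, 1), 1) => t22 S
  | ((0, 2, 1), 2) => t23 S
  | ((0, 2, 2), 0) => t24 S
  | ((0, 2, 2), 1) => t25 S
  | ((0, 2, 2), 2) => t26 S
  | ((1, 0, 0), 0) => t27 S
  | ((1, 0, 0), 1) => t28 S
  | ((1, 0, 0), 2) => t29 S
  | ((1, 0, 1), 0) => t30 S
  | ((1, 0, 1), 1) => t31 S
  | ((1, 0, 1), 2) => t32 S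
  | ((1, 0, 2), 0) => t33 S
  | ((1, 0, 2), 1) => t34 S
  | ((1, 0, 2), 2) => t35 S
  | ((1, 1, 0), 0) => t36 S
  | ((1, 1, 0), 1) => t37 S
  | ((1, 1, 0), 2) => t38 S
  | ((1, 1, 1), 0) => t39 S
  | ((1, 1, 1), 1) => t40 S
  | ((1, 1, 1), 2) => t41 S
  | ((1, 1, 2), 0) => t42 S
  | ((1, 1, 2), 1) => t43 S
  | ((1, 1, 2), 2) => t44 S
  | ((1, 2, 0), 0) => t45 S
  | ((1, 2, 0), 1) => t46 S
  | ((1, 2, 0), 2) => t47 S
  | ((1, 2, 1), 0) => t48 S
  | ((1, 2, 1), 1) => t49 S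
  | ((1, 2, 1), 2) => t50 S
  | ((1, 2, 2), 0) => t51 S
  | ((1, 2, 2), 1) => t52 S
  | ((1, 2, 2), 2) => t53 S
  | ((2, 0, 0), 0) => t54 S
  | ((2, 0, 0), 1) => t55 S
  | ((2, 0, 0), 2) => t56 S
  | ((2, 0, 1), 0) => t57 S
  | ((2, 0, 1), 1) => t58 S
  | ((2, 0, 1), 2) => t59 S
  | ((2, 0, 2), 0) => t60 S
  | ((2, 0, 2), 1) => t61 S
  | ((2, 0, 2), 2) => t62 S
  | ((2, 1, 0), 0) => t63 S
  | ((2, 1, 0), 1) => t64 S
  | ((2, 1, 0), 2) => t65 S
  | ((2, 1, 1), 0) => t66 S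
  | ((2, 1, 1), 1) => t67 S
  | ((2, 1, 1), 2) => t68 S
  | ((2, 1, 2), 0) => t69 S
  | ((2, 1, 2), 1) => t70 S
  | ((2, 1, 2), 2) => t71 S
  | ((2, 2, 0), 0) => t72 S
  | ((2, 2, 0), 1) => t73 S
  | ((2, 2, 0), 2) => t74 S
  | ((2, 2, 1), 0) => t75 S
  | ((2, 2, 1), 1) => t76 S
  | ((2, 2, 1), 2) => t77 S
  | ((2, 2, 2), 0) => t78 S
  | ((2, 2, 2), 1) => t79 S
  | ((2, 2, 2), 2) => t80 S

theorem pt_x0 : pt S ((0, 0, 0), 0) = S.x0 := rfl

theorem op_x0 : ∀ v : V, S.op S.x0 (pt S v) = pt S (opV ((0, 0, 0), 0) v)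
  | ((0, 0, 0), 0) => e0_0 S
  | ((0, 0, 0), 1) => e0_1 S
  | ((0, 0, 0), 2) => e0_2 S
  | ((0, 0, 1), 0) => e0_3 S
  | ((0, 0, 1), 1) => e0_4 S
  | ((0, 0, 1), 2) => e0_5 S
  | ((0, 0, 2), 0) => e0_6 S
  | ((0, 0, 2), 1) => e0_7 S
  | ((0, 0, 2), 2) => e0_8 S
  | ((0, 1, 0), 0) => e0_9 S
  | ((0, 1, 0), 1) => e0_10 S
  | ((0, 1, 0), 2) => e0_11 S
  | ((0, 1, 1), 0) => e0_12 S
  | ((0, 1, 1), 1) => e0_13 S
  | ((0, 1, 1), 2) => e0_14 S
  | ((0, 1, 2), 0) => e0_15 S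
  | ((0, 1, 2), 1) => e0_16 S
  | ((0, 1, 2), 2) => e0_17 S
  | ((0, 2, 0), 0) => e0_18 S
  | ((0, 2, 0), 1) => e0_19 S
  | ((0, 2, 0), 2) => e0_20 S
  | ((0, 2, 1), 0) => e0_21 S
  | ((0, 2, 1), 1) => e0_22 S
  | ((0, 2, 1), 2) => e0_23 S
  | ((0, 2, 2), 0) => e0_24 S
  | ((0, 2, 2), 1) => e0_25 S
  | ((0, 2, 2), 2) => e0_26 S
  | ((1, 0, 0), 0) => e0_27 S
  | ((1, 0, 0), 1) => e0_28 S
  | ((1, 0, 0), 2) => e0_29 S
  | ((1, 0, 1), 0) => e0_30 S
  | ((1, 0, 1), 1) => e0_31 S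
  | ((1, 0, 1), 2) => e0_32 S
  | ((1, 0, 2), 0) => e0_33 S
  | ((1, 0, 2), 1) => e0_34 S
  | ((1, 0, 2), 2) => e0_35 S
  | ((1, 1, 0), 0) => e0_36 S
  | ((1, 1, 0), 1) => e0_37 S
  | ((1, 1, 0), 2) => e0_38 S
  | ((1, 1, 1), 0) => e0_39 S
  | ((1, 1, 1), 1) => e0_40 S
  | ((1, 1, 1), 2) => e0_41 S
  | ((1, 1, 2), 0) => e0_42 S
  | ((1, 1, 2), 1) => e0_43 S
  | ((1, 1, 2), 2) => e0_44 S
  | ((1, 2, 0), 0) => e0_45 S
  | ((1, 2, 0), 1) => e0_46 S
  | ((1, 2, 0), 2) => e0_47 S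
  | ((1, 2, 1), 0) => e0_48 S
  | ((1, 2, 1), 1) => e0_49 S
  | ((1, 2, 1), 2) => e0_50 S
  | ((1, 2, 2), 0) => e0_51 S
  | ((1, 2, 2), 1) => e0_52 S
  | ((1, 2, 2), 2) => e0_53 S
  | ((2, 0, 0), 0) => e0_54 S
  | ((2, 0, 0), 1) => e0_55 S
  | ((2, 0, 0), 2) => e0_56 S
  | ((2, 0, 1), 0) => e0_57 S
  | ((2, 0, 1), 1) => e0_58 S
  | ((2, 0, 1), 2) => e0_59 S
  | ((2, 0, 2), 0) => e0_60 S
  | ((2, 0, 2), 1) => e0_61 S
  | ((2, 0, 2), 2) => e0_62 S
  | ((2, 1, 0), 0) => e0_63 S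
  | ((2, 1, 0), 1) => e0_64 S
  | ((2, 1, 0), 2) => e0_65 S
  | ((2, 1, 1), 0) => e0_66 S
  | ((2, 1, 1), 1) => e0_67 S
  | ((2, 1, 1), 2) => e0_68 S
  | ((2, 1, 2), 0) => e0_69 S
  | ((2, 1, 2), 1) => e0_70 S
  | ((2, 1, 2), 2) => e0_71 S
  | ((2, 2, 0), 0) => e0_72 S
  | ((2, 2, 0), 1) => e0_73 S
  | ((2, 2, 0), 2) => e0_74 S
  | ((2, 2, 1), 0) => e0_75 S
  | ((2, 2, 1), 1) => e0_76 S
  | ((2, 2, 1), 2) => e0_77 S
  | ((2, 2, 2), 0) => e0_78 S
  | ((2, 2, 2), 1) => e0_79 S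
  | ((2, 2, 2), 2) => e0_80 S

theorem pt_x1 : pt S ((1, 0, 0), 0) = S.x1 := rfl

theorem op_x1 : ∀ v : V, S.op S.x1 (pt S v) = pt S (opV ((1, 0, 0), 0) v)
  | ((0, 0, 0), 0) => e27_0 S
  | ((0, 0, 0), 1) => e27_1 S
  | ((0, 0, 0), 2) => e27_2 S
  | ((0, 0, 1), 0) => e27_3 S
  | ((0, 0, 1), 1) => e27_4 S
  | ((0, 0, 1), 2) => e27_5 S
  | ((0, 0, 2), 0) => e27_6 S
  | ((0, 0, 2), 1) => e27_7 S
  | ((0, 0, 2), 2) => e27_8 S
  | ((0, 1, 0), 0) => e27_9 S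
  | ((0, 1, 0), 1) => e27_10 S
  | ((0, 1, 0), 2) => e27_11 S
  | ((0, 1, 1), 0) => e27_12 S
  | ((0, 1, 1), 1) => e27_13 S
  | ((0, 1, 1), 2) => e27_14 S
  | ((0, 1, 2), 0) => e27_15 S
  | ((0, 1, 2), 1) => e27_16 S
  | ((0, 1, 2), 2) => e27_17 S
  | ((0, 2, 0), 0) => e27_18 S
  | ((0, 2, 0), 1) => e27_19 S
  | ((0, 2, 0), 2) => e27_20 S
  | ((0, 2, 1), 0) => e27_21 S
  | ((0, 2, 1), 1) => e27_22 S
  | ((0, 2, 1), 2) => e27_23 S
  | ((0, 2, 2), 0) => e27_24 S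
  | ((0, 2, 2), 1) => e27_25 S
  | ((0, 2, 2), 2) => e27_26 S
  | ((1, 0, 0), 0) => e27_27 S
  | ((1, 0, 0), 1) => e27_28 S
  | ((1, 0, 0), 2) => e27_29 S
  | ((1, 0, 1), 0) => e27_30 S
  | ((1, 0, 1), 1) => e27_31 S
  | ((1, 0, 1), 2) => e27_32 S
  | ((1, 0, 2), 0) => e27_33 S
  | ((1, 0, 2), 1) => e27_34 S
  | ((1, 0, 2), 2) => e27_35 S
  | ((1, 1, 0), 0) => e27_36 S
  | ((1, 1, 0), 1) => e27_37 S
  | ((1, 1, 0), 2) => e27_38 S
  | ((1, 1, 1), 0) => e27_39 S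
  | ((1, 1, 1), 1) => e27_40 S
  | ((1, 1, 1), 2) => e27_41 S
  | ((1, 1, 2), 0) => e27_42 S
  | ((1, 1, 2), 1) => e27_43 S
  | ((1, 1, 2), 2) => e27_44 S
  | ((1, 2, 0), 0) => e27_45 S
  | ((1, 2, 0), 1) => e27_46 S
  | ((1, 2, 0), 2) => e27_47 S
  | ((1, 2, 1), 0) => e27_48 S
  | ((1, 2, 1), 1) => e27_49 S
  | ((1, 2, 1), 2) => e27_50 S
  | ((1, 2, 2), 0) => e27_51 S
  | ((1, 2, 2), 1) => e27_52 S
  | ((1, 2, 2), 2) => e27_53 S
  | ((2, 0, 0), 0) => e27_54 S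
  | ((2, 0, 0), 1) => e27_55 S
  | ((2, 0, 0), 2) => e27_56 S
  | ((2, 0, 1), 0) => e27_57 S
  | ((2, 0, 1), 1) => e27_58 S
  | ((2, 0, 1), 2) => e27_59 S
  | ((2, 0, 2), 0) => e27_60 S
  | ((2, 0, 2), 1) => e27_61 S
  | ((2, 0, 2), 2) => e27_62 S
  | ((2, 1, 0), 0) => e27_63 S
  | ((2, 1, 0), 1) => e27_64 S
  | ((2, 1, 0), 2) => e27_65 S
  | ((2, 1, 1), 0) => e27_66 S
  | ((2, 1, 1), 1) => e27_67 S
  | ((2, 1, 1), 2) => e27_68 S
  | ((2, 1, 2), 0) => e27_69 S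
  | ((2, 1, 2), 1) => e27_70 S
  | ((2, 1, 2), 2) => e27_71 S
  | ((2, 2, 0), 0) => e27_72 S
  | ((2, 2, 0), 1) => e27_73 S
  | ((2, 2, 0), 2) => e27_74 S
  | ((2, 2, 1), 0) => e27_75 S
  | ((2, 2, 1), 1) => e27_76 S
  | ((2, 2, 1), 2) => e27_77 S
  | ((2, 2, 2), 0) => e27_78 S
  | ((2, 2, 2), 1) => e27_79 S
  | ((2, 2, 2), 2) => e27_80 S

theorem pt_x2 : pt S ((0, 1, 0), 0) = S.x2 := rfl

theorem op_x2 : ∀ v : V, S.op S.x2 (pt S v) = pt S (opV ((0, 1, 0), 0) v)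
  | ((0, 0, 0), 0) => e9_0 S
  | ((0, 0, 0), 1) => e9_1 S
  | ((0, 0, 0), 2) => e9_2 S
  | ((0, 0, 1), 0) => e9_3 S
  | ((0, 0, 1), 1) => e9_4 S
  | ((0, 0, 1), 2) => e9_5 S
  | ((0, 0, 2), 0) => e9_6 S
  | ((0, 0, 2), 1) => e9_7 S
  | ((0, 0, 2), 2) => e9_8 S
  | ((0, 1, 0), 0) => e9_9 S
  | ((0, 1, 0), 1) => e9_10 S
  | ((0, 1, 0), 2) => e9_11 S
  | ((0, 1, 1), 0) => e9_12 S
  | ((0, 1, 1), 1) => e9_13 S
  | ((0, 1, 1), 2) => e9_14 S
  | ((0, 1, 2), 0) => e9_15 S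
  | ((0, 1, 2), 1) => e9_16 S
  | ((0, 1, 2), 2) => e9_17 S
  | ((0, 2, 0), 0) => e9_18 S
  | ((0, 2, 0), 1) => e9_19 S
  | ((0, 2, 0), 2) => e9_20 S
  | ((0, 2, 1), 0) => e9_21 S
  | ((0, 2, 1), 1) => e9_22 S
  | ((0, 2, 1), 2) => e9_23 S
  | ((0, 2, 2), 0) => e9_24 S
  | ((0, 2, 2), 1) => e9_25 S
  | ((0, 2, 2), 2) => e9_26 S
  | ((1, 0, 0), 0) => e9_27 S
  | ((1, 0, 0), 1) => e9_28 S
  | ((1, 0, 0), 2) => e9_29 S
  | ((1, 0, 1), 0) => e9_30 S
  | ((1, 0, 1), 1) => e9_31 S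
  | ((1, 0, 1), 2) => e9_32 S
  | ((1, 0, 2), 0) => e9_33 S
  | ((1, 0, 2), 1) => e9_34 S
  | ((1, 0, 2), 2) => e9_35 S
  | ((1, 1, 0), 0) => e9_36 S
  | ((1, 1, 0), 1) => e9_37 S
  | ((1, 1, 0), 2) => e9_38 S
  | ((1, 1, 1), 0) => e9_39 S
  | ((1, 1, 1), 1) => e9_40 S
  | ((1, 1, 1), 2) => e9_41 S
  | ((1, 1, 2), 0) => e9_42 S
  | ((1, 1, 2), 1) => e9_43 S
  | ((1, 1, 2), 2) => e9_44 S
  | ((1, 2, 0), 0) => e9_45 S
  | ((1, 2, 0), 1) => e9_46 S
  | ((1, 2, 0), 2) => e9_47 S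
  | ((1, 2, 1), 0) => e9_48 S
  | ((1, 2, 1), 1) => e9_49 S
  | ((1, 2, 1), 2) => e9_50 S
  | ((1, 2, 2), 0) => e9_51 S
  | ((1, 2, 2), 1) => e9_52 S
  | ((1, 2, 2), 2) => e9_53 S
  | ((2, 0, 0), 0) => e9_54 S
  | ((2, 0, 0), 1) => e9_55 S
  | ((2, 0, 0), 2) => e9_56 S
  | ((2, 0, 1), 0) => e9_57 S
  | ((2, 0, 1), 1) => e9_58 S
  | ((2, 0, 1), 2) => e9_59 S
  | ((2, 0, 2), 0) => e9_60 S
  | ((2, 0, 2), 1) => e9_61 S
  | ((2, 0, 2), 2) => e9_62 S
  | ((2, 1, 0), 0) => e9_63 S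
  | ((2, 1, 0), 1) => e9_64 S
  | ((2, 1, 0), 2) => e9_65 S
  | ((2, 1, 1), 0) => e9_66 S
  | ((2, 1, 1), 1) => e9_67 S
  | ((2, 1, 1), 2) => e9_68 S
  | ((2, 1, 2), 0) => e9_69 S
  | ((2, 1, 2), 1) => e9_70 S
  | ((2, 1, 2), 2) => e9_71 S
  | ((2, 2, 0), 0) => e9_72 S
  | ((2, 2, 0), 1) => e9_73 S
  | ((2, 2, 0), 2) => e9_74 S
  | ((2, 2, 1), 0) => e9_75 S
  | ((2, 2, 1), 1) => e9_76 S
  | ((2, 2, 1), 2) => e9_77 S
  | ((2, 2, 2), 0) => e9_78 S
  | ((2, 2, 2), 1) => e9_79 S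
  | ((2, 2, 2), 2) => e9_80 S

theorem pt_x3 : pt S ((0, 0, 1), 0) = S.x3 := rfl

theorem op_x3 : ∀ v : V, S.op S.x3 (pt S v) = pt S (opV ((0, 0, 1), 0) v)
  | ((0, 0, 0), 0) => e3_0 S
  | ((0, 0, 0), 1) => e3_1 S
  | ((0, 0, 0), 2) => e3_2 S
  | ((0, 0, 1), 0) => e3_3 S
  | ((0, 0, 1), 1) => e3_4 S
  | ((0, 0, 1), 2) => e3_5 S
  | ((0, 0, 2), 0) => e3_6 S
  | ((0, 0, 2), 1) => e3_7 S
  | ((0, 0, 2), 2) => e3_8 S
  | ((0, 1, 0), 0) => e3_9 S
  | ((0, 1, 0), 1) => e3_10 S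
  | ((0, 1, 0), 2) => e3_11 S
  | ((0, 1, 1), 0) => e3_12 S
  | ((0, 1, 1), 1) => e3_13 S
  | ((0, 1, 1), 2) => e3_14 S
  | ((0, 1, 2), 0) => e3_15 S
  | ((0, 1, 2), 1) => e3_16 S
  | ((0, 1, 2), 2) => e3_17 S
  | ((0, 2, 0), 0) => e3_18 S
  | ((0, 2, 0), 1) => e3_19 S
  | ((0, 2, 0), 2) => e3_20 S
  | ((0, 2, 1), 0) => e3_21 S
  | ((0, 2, 1), 1) => e3_22 S
  | ((0, 2, 1), 2) => e3_23 S
  | ((0, 2, 2), 0) => e3_24 S
  | ((0, 2, 2), 1) => e3_25 S
  | ((0, 2, 2), 2) => e3_26 S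
  | ((1, 0, 0), 0) => e3_27 S
  | ((1, 0, 0), 1) => e3_28 S
  | ((1, 0, 0), 2) => e3_29 S
  | ((1, 0, 1), 0) => e3_30 S
  | ((1, 0, 1), 1) => e3_31 S
  | ((1, 0, 1), 2) => e3_32 S
  | ((1, 0, 2), 0) => e3_33 S
  | ((1, 0, 2), 1) => e3_34 S
  | ((1, 0, 2), 2) => e3_35 S
  | ((1, 1, 0), 0) => e3_36 S
  | ((1, 1, 0), 1) => e3_37 S
  | ((1, 1, 0), 2) => e3_38 S
  | ((1, 1, 1), 0) => e3_39 S
  | ((1, 1, 1), 1) => e3_40 S
  | ((1, 1, 1), 2) => e3_41 S
  | ((1, 1, 2), 0) => e3_42 S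
  | ((1, 1, 2), 1) => e3_43 S
  | ((1, 1, 2), 2) => e3_44 S
  | ((1, 2, 0), 0) => e3_45 S
  | ((1, 2, 0), 1) => e3_46 S
  | ((1, 2, 0), 2) => e3_47 S
  | ((1, 2, 1), 0) => e3_48 S
  | ((1, 2, 1), 1) => e3_49 S
  | ((1, 2, 1), 2) => e3_50 S
  | ((1, 2, 2), 0) => e3_51 S
  | ((1, 2, 2), 1) => e3_52 S
  | ((1, 2, 2), 2) => e3_53 S
  | ((2, 0, 0), 0) => e3_54 S
  | ((2, 0, 0), 1) => e3_55 S
  | ((2, 0, 0), 2) => e3_56 S
  | ((2, 0, 1), 0) => e3_57 S
  | ((2, 0, 1), 1) => e3_58 S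
  | ((2, 0, 1), 2) => e3_59 S
  | ((2, 0, 2), 0) => e3_60 S
  | ((2, 0, 2), 1) => e3_61 S
  | ((2, 0, 2), 2) => e3_62 S
  | ((2, 1, 0), 0) => e3_63 S
  | ((2, 1, 0), 1) => e3_64 S
  | ((2, 1, 0), 2) => e3_65 S
  | ((2, 1, 1), 0) => e3_66 S
  | ((2, 1, 1), 1) => e3_67 S
  | ((2, 1, 1), 2) => e3_68 S
  | ((2, 1, 2), 0) => e3_69 S
  | ((2, 1, 2), 1) => e3_70 S
  | ((2, 1, 2), 2) => e3_71 S
  | ((2, 2, 0), 0) => e3_72 S
  | ((2, 2, 0), 1) => e3_73 S
  | ((2, 2, 0), 2) => e3_74 S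
  | ((2, 2, 1), 0) => e3_75 S
  | ((2, 2, 1), 1) => e3_76 S
  | ((2, 2, 1), 2) => e3_77 S
  | ((2, 2, 2), 0) => e3_78 S
  | ((2, 2, 2), 1) => e3_79 S
  | ((2, 2, 2), 2) => e3_80 S

end CfsgLib.ThreeTransp.HallTriple
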