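import Cfsg.Agent.Lib.SmallGroups.LeechCenter
import Cfsg.Agent.Lib.ThreeTransp.LeechShort
import Cfsg.Prelude.Def_Spor_Conway

/-!
# Generators of the lattice and the action of the monomial group on them
-/

set_option autoImplicit false

namespace CfsgLib.ThreeTransp.LeechGen

open Cfsg CfsgLib.SmallGroups.LeechBasic CfsgLib.SmallGroups.LeechCenter CfsgLib.SmallGroups.Golay
open CfsgLib.SmallGroups.GolayOctads CfsgLib.SmallGroups.M24Group
open scoped Pointwise

/-- `4 e_p - 4 e_∞`. -/
def avec (p : GolayPt) : GolayPt → ℤ := fun i =>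
  (if i = p then 4 else 0) - (if i = none then 4 else 0)

/-- `(-3, 1^23)`. -/
def nuVec : GolayPt → ℤ := fun i => if i = none then -3 else 1

/-- Twice a binary word. -/
def fvec (v : GolayPt → ZMod 2) : GolayPt → ℤ := fun i => 2 * ((v i).val : ℤ)

theorem four_mem_leech {x : GolayPt → ℤ} (h4 : ∀ i, (4 : ℤ) ∣ x i) (h8 : (8 : ℤ) ∣ ∑ i, x i) :
    x ∈ leechLattice := by
  refine mem_lattice.2 ⟨0, fun i => ?_, ?_, ?_⟩
  · rw [Int.modEq_iff_dvd]; have := h4 i; omega
  · rw [Int.modEq_iff_dvd]; omega
  · have : wd x 0 = 0 := by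
      funext i
      simp only [wd, sub_zero, Pi.zero_apply]
      exact (cast_half (dvd_trans (by norm_num) (h4 i))).2 (h4 i)
    rw [this]
    exact zero_mem _

theorem avec_mem (p : GolayPt) : avec p ∈ leechLattice := by
  refine four_mem_leech (fun i => ?_) ?_
  · simp only [avec]; split_ifs <;> omega
  · simp [avec, Finset.sum_sub_distrib]

theorem nuVec_mem : nuVec ∈ leechLattice :=
  AddSubgroup.subset_closure
    (Spor.mem_leechSet_of_const_mod_four nuVec 1 1 rfl (by decide) (by decide))

theorem fvec_mem {v : GolayPt → ZMod 2} (hv : v ∈ golayCode) : fvec v ∈ leechLattice := by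
  refine mem_lattice.2 ⟨0, fun i => ?_, ?_, ?_⟩
  · rw [Int.modEq_iff_dvd, fvec]; omega
  · have e : ∑ i, fvec v i = 2 * ((support₂ v).card : ℤ) := by
      rw [support₂, Finset.card_filter, Nat.cast_sum, Finset.mul_sum]
      refine Finset.sum_congr rfl fun i _ => ?_
      rw [fvec]
      generalize v i = z
      revert z
      decide
    have h4 := (card_support hv).1
    rw [Int.modEq_iff_dvd, e]
    omega
  · have : wd (fvec v) 0 = v := by
      funext i
      simp only [wd, fvec, sub_zero]
      rw [Int.mul_ediv_cancel_left _ (two_ne_zero), Int.cast_natCast, ZMod.natCast_zmod_val]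
    rw [this]
    exact hv

/-- The generator `4 e_p - 4 e_∞`. -/
def aL (p : GolayPt) : leechLattice := ⟨avec p, avec_mem p⟩

/-- The generator `8 e_∞`. -/
def wL : leechLattice := unitVec none

/-- The generator `(-3, 1^23)`. -/
def nuL : leechLattice := ⟨nuVec, nuVec_mem⟩

/-- Twice a codeword. -/
def fL (v : golayCode) : leechLattice := ⟨fvec v, fvec_mem v.2⟩

theorem wL_apply (i : GolayPt) : (wL : GolayPt → ℤ) i = if i = none then 8 else 0 := by
  simp [wL, unitVec, Pi.single_apply]

theorem aL_none : aL none = 0 := by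
  ext i; simp [aL, avec]

/-- Vectors with all coordinates divisible by four. -/
theorem four_decomp (S : AddSubgroup leechLattice) (ha : ∀ p, aL p ∈ S) (hw : wL ∈ S)
    {x : leechLattice} (h4 : ∀ i, (4 : ℤ) ∣ (x : GolayPt → ℤ) i) : x ∈ S := by
  obtain ⟨m, h1, h2, -⟩ := mem_lattice.1 x.2
  have hm : (2 : ℤ) ∣ m := by
    have := (h1 none).dvd
    have := h4 none
    omega
  have h8 : (8 : ℤ) ∣ ∑ i, (x : GolayPt → ℤ) i := by
    have := h2.dvd
    omega
  have e : x = ∑ p, ((x : GolayPt → ℤ) p / 4) • aL p + ((∑ i, (x : GolayPt → ℤ) i) / 8) • wL := by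
    ext i
    simp only [AddSubgroup.coe_add, AddSubgroup.val_finset_sum, AddSubgroupClass.coe_zsmul,
      Pi.add_apply, Finset.sum_apply, Pi.smul_apply, smul_eq_mul, wL_apply]
    simp only [aL, avec, mul_sub, mul_ite, mul_zero, Finset.sum_sub_distrib, Finset.sum_ite_eq,
      Finset.mem_univ, if_true]
    by_cases hi : i = none
    · subst hi
      simp only [if_true]
      have : ∑ p, (x : GolayPt → ℤ) p / 4 * 4 = ∑ p, (x : GolayPt → ℤ) p :=
        Finset.sum_congr rfl fun p _ => Int.ediv_mul_cancel (h4 p)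
      have := Int.ediv_mul_cancel (h4 none)
      omega
    · simp only [if_neg hi, Finset.sum_const_zero, sub_zero, add_zero]
      exact (Int.ediv_mul_cancel (h4 i)).symm
  rw [e]
  exact add_mem (sum_mem fun p _ => zsmul_mem (ha p) _) (zsmul_mem hw _)

/-- The code elements of the standard basis. -/
def basC (k : ℕ) (hk : k < 12) : golayCode := ⟨word (bas k), word_bas_mem hk⟩

theorem fvec_add_four (v v' : GolayPt → ZMod 2) (i : GolayPt) :
    (4 : ℤ) ∣ fvec v i + fvec v' i - fvec (v + v') i := by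
  simp only [fvec, Pi.add_apply]
  generalize v i = a
  generalize v' i = b
  revert a b
  decide

/-- The generators generate. -/
theorem gen_induction (S : AddSubgroup leechLattice) (ha : ∀ p, aL p ∈ S) (hw : wL ∈ S)
    (hnu : nuL ∈ S) (hf : ∀ k (hk : k < 12), fL (basC k hk) ∈ S) (x : leechLattice) : x ∈ S := by
  have hfa : ∀ v (hv : v ∈ golayCode), fL ⟨v, hv⟩ ∈ S := by
    intro v hv
    refine (code_induction (P := fun v => ∃ hv : v ∈ golayCode, fL ⟨v, hv⟩ ∈ S) ?_ ?_ ?_ hv).2
    · refine ⟨zero_mem _, ?_⟩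
      have : fL ⟨0, zero_mem golayCode⟩ = 0 := by ext i; simp [fL, fvec]
      rw [this]
      exact zero_mem _
    · exact fun k hk => ⟨word_bas_mem hk, hf k hk⟩
    · rintro a b ⟨ha', hsa⟩ ⟨hb', hsb⟩
      refine ⟨add_mem ha' hb', ?_⟩
      have h := four_decomp S ha hw (x := fL ⟨a, ha'⟩ + fL ⟨b, hb'⟩ - fL ⟨a + b, add_mem ha' hb'⟩)
        (fun i => fvec_add_four a b i)
      have := sub_mem (add_mem hsa hsb) h
      rwa [sub_sub_cancel] at this
  obtain ⟨m, y, -, hxy, -, hy⟩ := exists_halves (mem_lattice.1 x.2)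
  have h := four_decomp S ha hw (x := x - m • nuL - fL ⟨_, hy⟩) (fun i => by
    simp only [AddSubgroupClass.coe_sub, AddSubgroupClass.coe_zsmul, Pi.sub_apply, Pi.smul_apply,
      smul_eq_mul, hxy i, nuL, fL, fvec, nuVec]
    have h2 : ((((y i : ℤ) : ZMod 2).val : ℕ) : ℤ) = y i % 2 := by
      rw [ZMod.val_intCast]
      norm_num
    rw [h2]
    split_ifs <;> omega)
  have := add_mem (add_mem h (hfa _ hy)) (zsmul_mem hnu m)
  rwa [sub_add_cancel, sub_add_cancel] at this

/-- Permutations on the lattice. -/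
noncomputable def perm (σ : Equiv.Perm GolayPt) (hσ : σ ∈ M24) : Co0 :=
  ⟨permLat σ hσ, permLat_mem σ hσ⟩

/-- Sign changes on the lattice. -/
noncomputable def sign (v : golayCode) : Co0 :=
  ⟨signLat (support₂ (v : GolayPt → ZMod 2)) (mem_supports_word v.2), signLat_mem _ _⟩

theorem perm_apply (σ : Equiv.Perm GolayPt) (hσ : σ ∈ M24) (x : leechLattice) (i : GolayPt) :
    ((perm σ hσ • x : leechLattice) : GolayPt → ℤ) i = (x : GolayPt → ℤ) (σ i) := rfl

theorem sign_apply (v : golayCode) (x : leechLattice) (i : GolayPt) :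
    ((sign v • x : leechLattice) : GolayPt → ℤ) i =
      if (v : GolayPt → ZMod 2) i = 0 then (x : GolayPt → ℤ) i else -(x : GolayPt → ℤ) i := by
  change (if i ∈ support₂ (v : GolayPt → ZMod 2) then -(x : GolayPt → ℤ) i
    else (x : GolayPt → ℤ) i) = _
  simp only [support₂, Finset.mem_filter, Finset.mem_univ, true_and, ite_not]

theorem perm_aL (σ : Equiv.Perm GolayPt) (hσ : σ ∈ M24) (p : GolayPt) :
    perm σ hσ • aL p = aL (σ.symm p) - aL (σ.symm none) := by
  ext i
  rw [perm_apply, AddSubgroupClass.coe_sub, Pi.sub_apply]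
  simp only [aL, avec, Equiv.eq_symm_apply]
  ring

theorem perm_wL (σ : Equiv.Perm GolayPt) (hσ : σ ∈ M24) :
    perm σ hσ • wL = (aL (σ.symm none) + aL (σ.symm none)) + wL := by
  ext i
  rw [perm_apply, AddSubgroup.coe_add, AddSubgroup.coe_add, Pi.add_apply, Pi.add_apply]
  simp only [aL, avec, wL_apply, Equiv.eq_symm_apply]
  split_ifs <;> norm_num

theorem perm_nuL (σ : Equiv.Perm GolayPt) (hσ : σ ∈ M24) :
    perm σ hσ • nuL = nuL - aL (σ.symm none) := by
  ext i
  rw [perm_apply, AddSubgroupClass.coe_sub, Pi.sub_apply]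
  simp only [aL, avec, nuL, nuVec, Equiv.eq_symm_apply]
  split_ifs <;> norm_num

theorem perm_fL (σ : Equiv.Perm GolayPt) (hσ : σ ∈ M24) (v : golayCode) :
    perm σ hσ • fL v = fL ⟨fun i => (v : GolayPt → ZMod 2) (σ i), comp_mem_code hσ v.2⟩ := by
  ext i
  rfl

theorem sign_wL (v : golayCode) : sign v • wL = wL ∨ sign v • wL = -wL := by
  by_cases h : (v : GolayPt → ZMod 2) none = 0
  · left
    ext i
    rw [sign_apply, wL_apply]
    rcases eq_or_ne i none with rfl | hi
    · simp [h]
    · simp [hi]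
  · right
    ext i
    rw [sign_apply, AddSubgroup.coe_neg, Pi.neg_apply, wL_apply]
    rcases eq_or_ne i none with rfl | hi
    · simp [h]
    · simp [hi]

theorem sign_aL (v : golayCode) (p : GolayPt) :
    ∃ k : ℤ, sign v • aL p = aL p + k • wL ∨ sign v • aL p = -aL p + k • wL := by
  rcases eq_or_ne p none with rfl | hp
  · refine ⟨0, Or.inl ?_⟩
    ext i
    rw [sign_apply, aL_none]
    simp
  set cp := (v : GolayPt → ZMod 2) p with hcp
  set cn := (v : GolayPt → ZMod 2) none with hcn
  refine ⟨if cp = 0 then (if cn = 0 then 0 else 1) else (if cn = 0 then -1 else 0), ?_⟩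
  have key : ∀ i, ((sign v • aL p : leechLattice) : GolayPt → ℤ) i =
      if i = p then (if cp = 0 then 4 else -4) else
        if i = none then (if cn = 0 then -4 else 4) else 0 := by
    intro i
    rw [sign_apply]
    simp only [aL, avec]
    rcases eq_or_ne i p with rfl | h1
    · simp [hp, hcp]
    rcases eq_or_ne i none with rfl | h2
    · simp [h1, hcn]
    · simp [h1, h2]
  by_cases h : cp = 0
  · left
    ext i
    rw [key, AddSubgroup.coe_add, AddSubgroupClass.coe_zsmul, Pi.add_apply, Pi.smul_apply,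
      smul_eq_mul, wL_apply]
    simp only [aL, avec, h]
    rcases eq_or_ne i p with rfl | h1
    · simp [hp]
    · by_cases h2 : i = none <;> by_cases h3 : cn = 0 <;> simp [h1, h2, h3] <;> simp_all
  · right
    ext i
    rw [key, AddSubgroup.coe_add, AddSubgroupClass.coe_zsmul, AddSubgroup.coe_neg,
      Pi.add_apply, Pi.neg_apply, Pi.smul_apply, smul_eq_mul, wL_apply]
    simp only [aL, avec, h]
    rcases eq_or_ne i p with rfl | h1
    · simp [hp]
    · by_cases h2 : i = none <;> by_cases h3 : cn = 0 <;> simp [h1, h2, h3] <;> simp_all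

theorem sign_nuL (v : golayCode) : ∃ k : ℤ, sign v • nuL = nuL - fL v + k • wL := by
  refine ⟨if (v : GolayPt → ZMod 2) none = 0 then 0 else 1, ?_⟩
  ext i
  rw [sign_apply, AddSubgroup.coe_add, AddSubgroupClass.coe_zsmul, AddSubgroupClass.coe_sub,
    Pi.add_apply, Pi.sub_apply, Pi.smul_apply, smul_eq_mul, wL_apply]
  simp only [nuL, nuVec, fL, fvec]
  rcases eq_or_ne i none with rfl | hi
  · generalize (v : GolayPt → ZMod 2) none = z
    revert z
    decide
  · simp only [if_neg hi, mul_zero, add_zero]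
    generalize (v : GolayPt → ZMod 2) i = z
    rcases (show z = 0 ∨ z = 1 by clear hi; revert z; decide) with rfl | rfl <;> simp [ZMod.val_one]

end CfsgLib.ThreeTransp.LeechGen
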