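import Cfsg.Agent.Lib.ThreeTransp.LeechPolar
import Cfsg.Agent.Lib.SmallGroups.LeechCenter

/-!
# The automorphism group of the lattice does not split over its centre
-/

set_option autoImplicit false

namespace CfsgLib.ThreeTransp.LeechNonsplit

open Cfsg CfsgLib.ThreeTransp.LeechPolar CfsgLib.SmallGroups.LeechCenter

/-- The complex structure as an automorphism. -/
noncomputable def imagLat : Co0 := by
  refine ⟨⟨fun v => ⟨imag v, imag_mem v.2⟩, fun v => ⟨-imag v, neg_mem (imag_mem v.2)⟩,
    fun v => Subtype.ext ?_, fun v => Subtype.ext ?_⟩, fun v w => Subtype.ext ?_, fun v => ?_⟩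
  · change -imag (imag (v : GolayPt → ℤ)) = (v : GolayPt → ℤ)
    rw [imag_imag, neg_neg]
  · change imag (-imag (v : GolayPt → ℤ)) = (v : GolayPt → ℤ)
    rw [map_neg, imag_imag, neg_neg]
  · exact map_add imag _ _
  · exact sqNorm_imag _

/-- Negation as an automorphism. -/
noncomputable def negOne : Co0 := ⟨negLat, negLat_mem⟩

theorem imagLat_sq : imagLat * imagLat = negOne := by
  apply Subtype.ext
  apply Equiv.ext
  intro v
  exact Subtype.ext (imag_imag v)

theorem no_complement (K : Subgroup Co0) : ¬ (Subgroup.zpowers negOne).IsComplement' K := by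
  intro h
  obtain ⟨⟨⟨a, ha⟩, ⟨k, hk⟩⟩, e⟩ := h.2 imagLat
  change a * k = imagLat at e
  have hne : negOne ≠ 1 := by
    intro h1
    have h2 := congrArg (fun g : Co0 =>
      (((g : Equiv.Perm leechLattice) (unitVec none) : leechLattice) : GolayPt → ℤ) none) h1
    change -(((unitVec none : leechLattice) : GolayPt → ℤ) none) =
      ((unitVec none : leechLattice) : GolayPt → ℤ) none at h2
    have h8 : ((unitVec none : leechLattice) : GolayPt → ℤ) none = 8 := by
      simp [unitVec]
    omega
  have hn2 : negOne * negOne = 1 := by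
    apply Subtype.ext
    apply Equiv.ext
    intro v
    exact neg_neg v
  have hc : ∀ g : Co0, negOne * g = g * negOne := by
    intro g
    rw [← imagLat_sq]
    apply Subtype.ext
    apply Equiv.ext
    intro v
    apply Subtype.ext
    change imag (imag _) = (((g : Equiv.Perm leechLattice) ⟨imag (imag v), _⟩ : leechLattice) : GolayPt → ℤ)
    have e1 : (⟨imag (imag (v : GolayPt → ℤ)), imag_mem (imag_mem v.2)⟩ : leechLattice) = -v :=
      Subtype.ext (imag_imag v)
    rw [e1, imag_imag, ← AddSubgroup.coe_neg]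
    congr 1
    exact (map_neg (AddMonoidHom.mk' (g : Equiv.Perm leechLattice) g.2.1) v).symm
  have hk2 : k * k = negOne := by
    rw [← imagLat_sq, ← e]
    obtain ⟨n, rfl⟩ := Subgroup.mem_zpowers_iff.1 ha
    have hcz : negOne ^ n * k = k * negOne ^ n := (Commute.zpow_left (hc k) n).eq
    rw [show negOne ^ n * k * (negOne ^ n * k) = negOne ^ n * negOne ^ n * (k * k) by
      rw [mul_assoc, ← mul_assoc k, ← hcz, mul_assoc, mul_assoc], ← zpow_add, ← two_mul, zpow_mul,
      zpow_two, hn2, one_zpow, one_mul]
  have hK : negOne ∈ K := hk2 ▸ mul_mem hk hk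
  exact hne (Subgroup.mem_bot.1 (h.disjoint.le_bot ⟨Subgroup.mem_zpowers _, hK⟩))

end CfsgLib.ThreeTransp.LeechNonsplit
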