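import Mathlib
import Cfsg.Prelude
import Cfsg.Agent.Lib.ThreeTransp.Basic

/-!
Classes of 3-transpositions in which every member commutes with exactly three others, these three
generating a symmetric group of degree three: the basic configuration lemmas.
-/

set_option autoImplicit false
set_option linter.unusedSectionVars false

namespace CfsgLib.ThreeTransp.LocalTriangle

open CfsgLib.ThreeTransp.Basic

variable {G : Type*} [Group G] (D : Set G)

/-- The members of `D` other than `v` commuting with `v`. -/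
def nb (v : G) : Set G := {y | y ∈ D ∧ y ≠ v ∧ Commute v y}

/-- Every local graph is a triangle. -/
structure Local : Prop where
  set : Cfsg.IsThreeTranspositionSet D
  conj : ∀ g : G, ∀ d ∈ D, g * d * g⁻¹ ∈ D
  two : ∀ v ∈ D, ∃ a ∈ nb D v, ∃ b ∈ nb D v, a ≠ b
  noncomm : ∀ v ∈ D, ∀ a ∈ nb D v, ∀ b ∈ nb D v, a ≠ b → ¬ Commute a b
  three : ∀ v ∈ D, ∀ a ∈ nb D v, ∀ b ∈ nb D v, a ≠ b → ∀ w ∈ nb D v, w = a ∨ w = b ∨ w = a * b * a

variable {D}

theorem nb_symm {v w : G} (hv : v ∈ D) (h : w ∈ nb D v) : v ∈ nb D w := ⟨hv, h.2.1.symm, h.2.2.symm⟩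

namespace Local

variable (hL : Local D)
include hL

theorem sq {v : G} (hv : v ∈ D) : v * v = 1 := sq_one (hL.set.1 v hv)

theorem inv {v : G} (hv : v ∈ D) : v⁻¹ = v := inv_eq_of_mul_eq_one_right (hL.sq hv)

theorem conj' {v w : G} (hv : v ∈ D) (hw : w ∈ D) : v * w * v ∈ D :=
  conj_mem_mul hL.set.1 hL.conj hv hw

theorem tri {x y : G} (hx : x ∈ D) (hy : y ∈ D) (h : ¬ Commute x y) : x * y * x = y * x * y :=
  (braid_iff (hL.sq hx) (hL.sq hy)).2 ((hL.set.2 x hx y hy).resolve_left fun h2 =>
    h ((commute_iff (hL.sq hx) (hL.sq hy)).2 h2))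

theorem ne_of_noncomm {x y : G} (h : ¬ Commute x y) : x ≠ y := fun e => h (e ▸ Commute.refl x)

theorem conj_ne_left {x y : G} (hx : x ∈ D) (hy : y ∈ D) (h : ¬ Commute x y) : x * y * x ≠ x ∧ x * y * x ≠ y :=
  ⟨fun e => ne_of_noncomm hL h (by
    have := congrArg (fun z => x * z * x) e
    simp only [← mul_assoc] at this
    rw [hL.sq hx, one_mul] at this
    simp only [mul_assoc, hL.sq hx, mul_one] at this
    rw [one_mul] at this; exact this.symm), fun e => h (by
    show x * y = y * x
    calc x * y = x * y * x * x := by rw [mul_assoc (x * y) x x, hL.sq hx, mul_one]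
      _ = y * x := by rw [e])⟩

theorem mem_conj_iff (g v w : G) : w ∈ nb D (g * v * g⁻¹) ↔ g⁻¹ * w * g ∈ nb D v := by
  constructor
  · rintro ⟨h1, h2, h3⟩
    refine ⟨by have := hL.conj g⁻¹ w h1; rwa [inv_inv] at this, fun e => h2 (by rw [← e]; group), ?_⟩
    have := h3.map (MulAut.conj g⁻¹).toMonoidHom
    simpa [mul_assoc] using this
  · rintro ⟨h1, h2, h3⟩
    refine ⟨by have := hL.conj g _ h1; simpa [mul_assoc] using this, fun e => h2 (by rw [e]; group), ?_⟩
    have := h3.map (MulAut.conj g).toMonoidHom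
    simpa [mul_assoc] using this

theorem nb_conj (g : G) {v w : G} (h : nb D v = nb D w) : nb D (g * v * g⁻¹) = nb D (g * w * g⁻¹) := by
  ext z; rw [hL.mem_conj_iff, hL.mem_conj_iff, h]

theorem nb_eq_of_three {v a b : G} (hv : v ∈ D) (ha : a ∈ nb D v) (hb : b ∈ nb D v) (hab : a ≠ b) :
    nb D v = {a, b, a * b * a} := by
  ext w
  refine ⟨fun hw => ?_, ?_⟩
  · simpa using hL.three v hv a ha b hb hab w hw
  · rintro (rfl | rfl | rfl)
    · exact ha
    · exact hb
    · refine ⟨hL.conj' ha.1 hb.1, fun e => ?_, (ha.2.2.mul_right hb.2.2).mul_right ha.2.2⟩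
      refine hb.2.1 ?_
      calc b = a * (a * b * a) * a := by
            simp only [← mul_assoc]; rw [hL.sq ha.1, one_mul, mul_assoc, hL.sq ha.1, mul_one]
        _ = a * v * a := by rw [e]
        _ = v := by rw [← ha.2.2.eq, mul_assoc, hL.sq ha.1, mul_one]

theorem exists_three {v : G} (hv : v ∈ D) : ∃ a b : G, a ∈ nb D v ∧ b ∈ nb D v ∧ a ≠ b ∧
    nb D v = {a, b, a * b * a} := by
  obtain ⟨a, ha, b, hb, hab⟩ := hL.two v hv
  exact ⟨a, b, ha, hb, hab, hL.nb_eq_of_three hv ha hb hab⟩

/-- The opposite pair in a path with two commuting ends. -/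
theorem opposite {d a x : G} (hd : d ∈ D) (ha : a ∈ nb D d) (hx : x ∈ D) (hdx : ¬ Commute d x)
    (hax : ¬ Commute a x) : a * (d * x * d) * a ∈ nb D x ∧
      (d * x * d) * (a * x * a) = (a * x * a) * (d * x * d) ∧ d * x * d ≠ a * x * a ∧
      d * a * ((d * x * d) * (a * x * a)) = (a * (d * x * d) * a) * x := by
  have dd := hL.sq hd
  have aa := hL.sq ha.1
  have xx := hL.sq hx
  have t1 := hL.tri hd hx hdx
  have t2 := hL.tri ha.1 hx hax
  have cda : d * a = a * d := ha.2.2.eq
  have key : x * (a * (d * x * d) * a) = a * (d * x * d) * a * x := by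
    calc x * (a * (d * x * d) * a) = x * a * (x * d * x) * a := by rw [t1]; simp only [mul_assoc]
      _ = (x * a * x) * d * x * a := by simp only [mul_assoc]
      _ = a * x * (a * d) * x * a := by rw [← t2]; simp only [mul_assoc]
      _ = a * x * d * (a * x * a) := by rw [← cda]; simp only [mul_assoc]
      _ = a * (x * d * x) * a * x := by rw [t2]; simp only [mul_assoc]
      _ = a * (d * x * d) * a * x := by rw [t1]
  have hne : d * x * d ≠ a * x * a := fun e => by
    rw [t1, t2] at e
    exact ha.2.1 (mul_left_cancel (mul_right_cancel e)).symm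
  refine ⟨⟨hL.conj' ha.1 (hL.conj' hd hx), fun e => hne ?_, key⟩, ?_, hne, ?_⟩
  · calc d * x * d = a * (a * (d * x * d) * a) * a := by
          simp only [mul_assoc]; rw [aa, mul_one, ← mul_assoc a a, aa, one_mul]
      _ = a * x * a := by rw [e]
  · rw [t1, t2]
    simp only [mul_assoc]
    rw [← mul_assoc x x, xx, one_mul, ← mul_assoc x x, xx, one_mul, ← mul_assoc d a, cda, mul_assoc]
  · calc d * a * ((d * x * d) * (a * x * a)) = a * ((d * d) * x * d) * (a * x * a) := by
          rw [cda]; simp only [mul_assoc]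
      _ = a * x * d * (a * x * a) := by rw [dd, one_mul]; simp only [mul_assoc]
      _ = a * (x * d * x) * a * x := by rw [t2]; simp only [mul_assoc]
      _ = a * (d * x * d) * a * x := by rw [t1]

theorem eq_of_conj_eq {a b p : G} (ha : a ∈ D) (hb : b ∈ D) (hp : p ∈ D) (hap : ¬ Commute a p)
    (hbp : ¬ Commute b p) (e : a * p * a = b * p * b) : a = b := by
  rw [hL.tri ha hp hap, hL.tri hb hp hbp] at e
  exact mul_left_cancel (mul_right_cancel e)

end Local

end CfsgLib.ThreeTransp.LocalTriangle
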