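import Cfsg.Agent.Lib.ThreeTransp.LocalTriangleSquare
import Cfsg.Agent.Lib.ThreeTransp.PermFive

/-!
Classification of 3-transposition sets in which all local graphs are triangles.
-/

set_option autoImplicit false
set_option linter.unusedSectionVars false

namespace CfsgLib.ThreeTransp.LocalTriangle

variable {G : Type*} [Group G] [Finite G] {D : Set G}

/-- There is no square of commuting members. -/
def NoSquare (D : Set G) : Prop :=
  ∀ v ∈ D, ∀ a ∈ nb D v, ∀ b ∈ nb D v, a ≠ b → ∀ u ∈ nb D a, u ∈ nb D b → u = v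

set_option synthInstance.maxSize 4000 in
set_option synthInstance.maxHeartbeats 400000 in
set_option maxRecDepth 4000 in
/-- No proper edge colouring of the Petersen graph with three colours. -/
theorem no_colouring : ∀ da db : Fin 3, da ≠ db → ∀ dc : Fin 3, dc ≠ da → dc ≠ db →
    ∀ aa1 : Fin 3, aa1 ≠ da → ∀ aa2 : Fin 3, aa2 ≠ da → aa2 ≠ aa1 →
    ∀ br : Fin 3, br ≠ db → ∀ bR : Fin 3, bR ≠ db → bR ≠ br →
    ∀ cs : Fin 3, cs ≠ dc → ∀ cS : Fin 3, cS ≠ dc → cS ≠ cs →
    ∀ a1S : Fin 3, a1S ≠ aa1 → a1S ≠ cS → ∀ a1R : Fin 3, a1R ≠ aa1 → a1R ≠ a1S → a1R ≠ bR →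
    ∀ a2s : Fin 3, a2s ≠ aa2 → a2s ≠ cs → ∀ a2r : Fin 3, a2r ≠ aa2 → a2r ≠ a2s → a2r ≠ br →
    ∀ rS : Fin 3, rS ≠ br → rS ≠ a2r → rS ≠ cS → rS ≠ a1S →
    ∀ sR : Fin 3, sR ≠ cs → sR ≠ a2s → sR ≠ bR → sR ≠ a1R → False := by
  decide +kernel

namespace Local

variable (hL : Local D)
include hL

theorem bip_of_square {d a b a1 : G} (hd : d ∈ D) (ha : a ∈ nb D d) (hb : b ∈ nb D d) (hab : a ≠ b)
    (h1a : a1 ∈ nb D a) (h1b : a1 ∈ nb D b) (hne : a1 ≠ d) : Bip D := by
  have hNd := hL.nb_eq_of_three hd ha hb hab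
  have hN1 : nb D a1 = nb D d := by
    rw [hNd, hL.nb_eq_of_three h1a.1 (nb_symm ha.1 h1a) (nb_symm hb.1 h1b) hab]
  have hm : ∀ m ∈ nb D d, nb D m = {a1, d, a1 * d * a1} := fun m hm =>
    hL.nb_eq_of_three hm.1 (nb_symm h1a.1 (hN1 ▸ hm)) (nb_symm hd hm) hne
  have hl : ∀ l ∈ nb D a, nb D l = nb D d := fun l hl => by
    rw [hNd]
    refine hL.nb_eq_of_three hl.1 (nb_symm ha.1 hl) (nb_symm hb.1 ?_) hab
    rw [hm b hb, ← hm a ha]; exact hl
  have hloc : ∀ v, v ∈ nb D d ∨ v ∈ nb D a → ∀ w ∈ nb D v, ∀ u ∈ nb D w, nb D u = nb D v := by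
    rintro v (hv | hv) w hw u hu
    · have hw' : nb D w = nb D d := hl w (by rw [hm a ha, ← hm v hv]; exact hw)
      rw [hm v hv]
      exact hm u (hw' ▸ hu)
    · have hw' : w ∈ nb D d := hl v hv ▸ hw
      rw [hl v hv]
      exact hl u (by rw [hm a ha, ← hm w hw']; exact hu)
  intro v hv w hw u hu
  obtain ⟨g, v₀, hv₀, rfl⟩ : ∃ g v₀, (v₀ ∈ nb D d ∨ v₀ ∈ nb D a) ∧ v = g * v₀ * g⁻¹ := by
    by_cases h1 : v ∈ nb D d
    · exact ⟨1, v, Or.inl h1, by simp⟩
    by_cases h2 : v ∈ nb D a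
    · exact ⟨1, v, Or.inr h2, by simp⟩
    have hdv : ¬ Commute d v := fun hc => by
      by_cases e : v = d
      · exact h2 (by rw [e]; exact nb_symm hd ha)
      · exact h1 ⟨hv, e, hc⟩
    have hav : ¬ Commute a v := fun hc => by
      by_cases e : v = a
      · exact h1 (by rw [e]; exact ha)
      · exact h2 ⟨hv, e, hc⟩
    obtain ⟨hy, -, -, -⟩ := hL.opposite hd ha hv hdv hav
    have e : a * (d * v * d) * a = (a * v) * d * (a * v)⁻¹ := by
      rw [hL.tri hd hv hdv, mul_inv_rev, hL.inv ha.1, hL.inv hv]; simp only [mul_assoc]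
    have hmem := nb_symm hv (e ▸ hy : (a * v) * d * (a * v)⁻¹ ∈ nb D v)
    rw [hL.mem_conj_iff] at hmem
    exact ⟨a * v, _, Or.inl hmem, by group⟩
  rw [hL.mem_conj_iff] at hw
  have hu' : g⁻¹ * u * g ∈ nb D (g⁻¹ * w * g) := by
    have := (hL.mem_conj_iff g (g⁻¹ * w * g) u).1 (by simpa [mul_assoc] using hu)
    exact this
  have h := hL.nb_conj g (hloc v₀ hv₀ _ hw _ hu')
  rwa [show g * (g⁻¹ * u * g) * g⁻¹ = u by group] at h

theorem noSquare_of_not_bip (h : ¬ Bip D) : NoSquare D := fun v hv a ha b hb hab u hua hub => by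
  by_contra hne
  exact h (hL.bip_of_square hv ha hb hab hua hub hne)

/-- Square-free configurations: ten members, and a chain of four generates. -/
theorem petersen (hN : NoSquare D) {d : G} (hd : d ∈ D) :
    ∃ p a2 b a : G, Subgroup.closure D = Subgroup.closure {p, a2, b, a} ∧ p ∈ D ∧ a2 ∈ D ∧ b ∈ D ∧ a ∈ D ∧
      ¬ Commute p a2 ∧ ¬ Commute a2 b ∧ ¬ Commute b a ∧ Commute p b ∧ Commute p a ∧ Commute a2 a := by
  obtain ⟨a, b, ha, hb, hab, hNd⟩ := hL.exists_three hd
  obtain ⟨l, l', hl, hl', hll, hNl⟩ := hL.exists_three ha.1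
  obtain ⟨a1, ha1, h1d⟩ : ∃ a1 ∈ nb D a, a1 ≠ d := by
    by_cases h : l = d
    · exact ⟨l', hl', fun e => hll (h.trans e.symm)⟩
    · exact ⟨l, hl, h⟩
  -- neighbourhood of a vertex at distance two
  have key : ∀ {d a b a1 : G}, d ∈ D → a ∈ nb D d → b ∈ nb D d → a ≠ b → a1 ∈ nb D a → a1 ≠ d →
      ¬ Commute d a1 ∧ ¬ Commute b a1 ∧ b * (d * a1 * d) * b ∈ nb D a1 ∧ b * (d * a1 * d) * b ≠ a := by
    intro d a b a1 hd ha hb hab ha1 hne
    have n1 : ¬ Commute d a1 := fun hc =>
      hL.noncomm a ha.1 d (nb_symm hd ha) a1 ha1 hne.symm hc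
    have n2 : ¬ Commute b a1 := fun hc => by
      by_cases e : a1 = b
      · exact hL.noncomm d hd a ha b hb hab (e ▸ ha1.2.2)
      · exact hne (hN d hd a ha b hb hab a1 ha1 ⟨ha1.1, e, hc⟩)
    obtain ⟨hy, -, -, -⟩ := hL.opposite hd hb ha1.1 n1 n2
    refine ⟨n1, n2, hy, fun e => ?_⟩
    have ea : d * a1 * d = b * a * b := by
      rw [← e]; simp only [← mul_assoc]; rw [hL.sq hb.1, one_mul, mul_assoc _ b b, hL.sq hb.1, mul_one]
    have ba : b * a * b ∈ nb D d := by
      rw [hL.nb_eq_of_three hd hb ha hab.symm]; simp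
    have h2 : d * a1 * d ∈ nb D a := by
      rw [hL.nb_eq_of_three ha.1 (nb_symm hd ha) ha1 hne.symm]; simp
    rw [ea] at h2
    exact hL.noncomm d hd _ ba a ha (fun e' => hL.conj_ne_left hb.1 ha.1
      (hL.noncomm d hd b hb a ha hab.symm) |>.2 e') h2.2.2.symm
  obtain ⟨n1, nb1, hS1, hS1a⟩ := key hd ha hb hab ha1 h1d
  set c := a * b * a with hc
  have hcd : c ∈ nb D d := by rw [hNd]; simp
  have nab : ¬ Commute a b := hL.noncomm d hd a ha b hb hab
  have hca : a ≠ c := fun e => (hL.conj_ne_left ha.1 hb.1 nab).1 (hc ▸ e.symm)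
  obtain ⟨-, nc1, hR1, hR1a⟩ := key hd ha hcd hca ha1 h1d
  have dd := hL.sq hd
  have aa := hL.sq ha.1
  have bb := hL.sq hb.1
  have a11 := hL.sq ha1.1
  set a2 := d * a1 * d with ha2
  set r := a * b * a1 * b * a with hr
  set s := b * a1 * b with hs
  set R := d * r * d with hRdef
  set S := d * s * d with hSdef
  have cda : d * a = a * d := ha.2.2.eq
  have cdb : d * b = b * d := hb.2.2.eq
  have caa1 : a * a1 = a1 * a := ha1.2.2.eq
  have ha2a : a2 ∈ nb D a := by
    rw [hL.nb_eq_of_three ha.1 (nb_symm hd ha) ha1 h1d.symm]; simp [ha2]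
  have eS : b * a2 * b = S := by
    calc b * (d * a1 * d) * b = (b * d) * a1 * (d * b) := by simp only [mul_assoc]
      _ = d * (b * a1 * b) * d := by rw [← cdb]; nth_rw 2 [cdb]; simp only [mul_assoc]
      _ = S := by rw [hSdef, hs]
  have eR : c * a2 * c = R := by
    have e1 : c * a1 * c = r := by
      calc a * b * a * a1 * (a * b * a) = a * b * (a * a1 * a) * b * a := by simp only [mul_assoc]
        _ = r := by rw [caa1, mul_assoc a1 a a, aa, mul_one, hr]
    calc c * (d * a1 * d) * c = (c * d) * a1 * (d * c) := by simp only [mul_assoc]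
      _ = (d * c) * a1 * (c * d) := by rw [(show Commute d c from hcd.2.2).eq]
      _ = d * (c * a1 * c) * d := by simp only [mul_assoc]
      _ = R := by rw [e1, hRdef]
  rw [eS] at hS1 hS1a
  rw [eR] at hR1 hR1a
  have nb1' : ¬ Commute b a1 := nb1
  -- neighbours of b and c
  have hr' : r = a1 * (a * b * a) * a1 := by
    calc r = a * (b * a1 * b) * a := by simp only [hr, mul_assoc]
      _ = (a * a1) * b * (a1 * a) := by rw [hL.tri hb.1 ha1.1 nb1]; simp only [mul_assoc]
      _ = (a1 * a) * b * (a * a1) := by rw [caa1]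
      _ = a1 * (a * b * a) * a1 := by simp only [mul_assoc]
  have hrb : r ∈ nb D b := by
    rw [hr']
    exact (hL.opposite ha.1 ha1 hb.1 nab (fun h => nb1 h.symm)).1
  have hsc : s ∈ nb D c := by
    have h := (hL.mem_conj_iff b a s).2 (by
      rw [hs, hL.inv hb.1]
      simp only [← mul_assoc]; rw [bb, one_mul, mul_assoc _ b b, bb, mul_one]; exact ha1)
    rw [hL.inv hb.1, ← hL.tri ha.1 hb.1 nab] at h
    exact h
  have dc : ∀ {v w : G}, w ∈ nb D v → Commute d v → d * w * d ∈ nb D v := by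
    intro v w hw hdv
    have := (hL.mem_conj_iff d v (d * w * d)).2 (by
      rw [hL.inv hd]; simp only [← mul_assoc]; rw [dd, one_mul, mul_assoc _ d d, dd, mul_one]; exact hw)
    rwa [hdv.eq, mul_inv_cancel_right] at this
  have hRb : R ∈ nb D b := dc hrb hb.2.2
  have hSc : S ∈ nb D c := dc hsc hcd.2.2
  have hr_d : r ≠ d := fun e => h1d (by
    have : a1 = b * a * r * a * b := by
      simp only [hr, ← mul_assoc]; rw [mul_assoc b a a, aa, mul_one, bb, one_mul, mul_assoc _ a a, aa, mul_one,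
        mul_assoc _ b b, bb, mul_one]
    rw [this, e, mul_assoc b a d, ← cda, ← mul_assoc, ← cdb, mul_assoc _ a a, aa, mul_one, mul_assoc, bb, mul_one])
  have hs_d : s ≠ d := fun e => h1d (by
    have : a1 = b * s * b := by simp only [hs, ← mul_assoc]; rw [bb, one_mul, mul_assoc _ b b, bb, mul_one]
    rw [this, e, ← cdb, mul_assoc, bb, mul_one])
  have a2ne : a2 ≠ d := fun e => h1d (by
    have : a1 = d * a2 * d := by rw [ha2]; simp only [← mul_assoc]; rw [dd, one_mul, mul_assoc _ d d, dd, mul_one]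
    rw [this, e, dd, one_mul])
  have hNa : nb D a = {d, a1, a2} := by rw [hL.nb_eq_of_three ha.1 (nb_symm hd ha) ha1 h1d.symm]
  have hNb : nb D b = {d, r, R} := by rw [hL.nb_eq_of_three hb.1 (nb_symm hd hb) hrb hr_d.symm]
  have hNc : nb D c = {d, s, S} := by rw [hL.nb_eq_of_three hcd.1 (nb_symm hd hcd) hsc hs_d.symm]
  have hconjeq : ∀ g v : G, nb D (g * v * g⁻¹) = (fun w => g * w * g⁻¹) '' nb D v := fun g v => by
    ext w
    rw [hL.mem_conj_iff]
    exact ⟨fun h => ⟨_, h, by group⟩, fun ⟨u, hu, e⟩ => by rw [← e]; simpa [mul_assoc] using hu⟩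
  have hSR : S ≠ R := fun e => by
    have n2 : ¬ Commute b a2 := (key hd ha hb hab ha2a a2ne).2.1
    have n3 : ¬ Commute c a2 := (key hd ha hcd hca ha2a a2ne).2.1
    have hbc : b = c := hL.eq_of_conj_eq hb.1 hcd.1 ha2a.1 n2 n3 (by rw [eS, eR, e])
    exact (hL.conj_ne_left ha.1 hb.1 nab).2 (hc ▸ hbc.symm)
  have hN1 : nb D a1 = {a, S, R} := by
    have hN := hL.nb_eq_of_three ha1.1 hS1 hR1 hSR
    have : a = S * R * S := by
      have := hN ▸ nb_symm ha.1 ha1
      simp only [Set.mem_insert_iff, Set.mem_singleton_iff] at this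
      exact this.resolve_left hS1a.symm |>.resolve_left hR1a.symm
    rw [hN, ← this]; ext w; simp [or_comm, or_left_comm]
  have hcdd : Commute d c := hcd.2.2
  have hN2 : nb D a2 = {a, s, r} := by
    rw [show a2 = d * a1 * d⁻¹ by rw [hL.inv hd], hconjeq, hN1, Set.image_insert_eq, Set.image_insert_eq,
      Set.image_singleton]
    simp only [hL.inv hd, hSdef, hRdef, ← mul_assoc, dd, one_mul, mul_assoc _ d d, mul_one, cda,
      mul_assoc a d d]
  have g1 : ∀ w, (a * b) * w * (a * b)⁻¹ = a * b * w * b * a := fun w => by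
    rw [mul_inv_rev, hL.inv ha.1, hL.inv hb.1]; simp only [mul_assoc]
  have gd : ∀ w, a * b * (d * w * d) * b * a = d * (a * b * w * b * a) * d := fun w => by
    have h1 : a * b * d = d * (a * b) := by rw [mul_assoc, ← cdb, ← mul_assoc, ← cda]; simp only [mul_assoc]
    have h2 : d * b * a = b * a * d := by rw [cdb, mul_assoc, cda, mul_assoc]
    calc a * b * (d * w * d) * b * a = (a * b * d) * w * (d * b * a) := by simp only [mul_assoc]
      _ = _ := by rw [h1, h2]; simp only [mul_assoc]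
  have ga : a * b * a * b * a = b := by
    have := hL.tri hb.1 ha.1 (fun h => nab h.symm)
    calc a * b * a * b * a = a * (b * a * b) * a := by simp only [mul_assoc]
      _ = (a * a) * b * (a * a) := by rw [this]; simp only [mul_assoc]
      _ = b := by rw [aa, one_mul, mul_one]
  have gs : a * b * s * b * a = a1 := by
    simp only [hs, mul_assoc, ← mul_assoc b b, bb, one_mul]
    rw [← mul_assoc, caa1, mul_assoc, aa, mul_one]
  have gr : a * b * r * b * a = s := by
    have e1 : a * b * a * b = b * a := by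
      rw [hL.tri ha.1 hb.1 nab, mul_assoc (b * a) b b, bb, mul_one]
    have e2 : b * a * b * a = a * b := by
      rw [hL.tri hb.1 ha.1 (fun h => nab h.symm), mul_assoc (a * b) a a, aa, mul_one]
    calc a * b * r * b * a = (a * b * a * b) * a1 * (b * a * b * a) := by simp only [hr, mul_assoc]
      _ = b * (a * a1 * a) * b := by rw [e1, e2]; simp only [mul_assoc]
      _ = s := by rw [caa1, mul_assoc a1 a a, aa, mul_one]
  have hNr : nb D r = {b, a2, S} := by
    have e : r = (a * b) * a1 * (a * b)⁻¹ := by rw [g1]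
    rw [e, hconjeq, hN1, Set.image_insert_eq, Set.image_insert_eq, Set.image_singleton]
    simp only [g1, ga, hSdef, hRdef, gd, gs, gr]
    rw [← ha2]
  have gc : a * b * b * b * a = c := by rw [hc, mul_assoc a b b, bb, mul_one]
  have ga2 : a * b * a2 * b * a = R := by rw [ha2, gd, hRdef]
  have hNs : nb D s = {c, R, a2} := by
    have e : s = (a * b) * r * (a * b)⁻¹ := by rw [g1, gr]
    rw [e, hconjeq, hNr, Set.image_insert_eq, Set.image_insert_eq, Set.image_singleton]
    simp only [g1, gc, ga2, hSdef, gd, gs]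
    rw [← ha2]
  have hd2 : d * a2 * d = a1 := by rw [ha2]; simp only [← mul_assoc]; rw [dd, one_mul, mul_assoc _ d d, dd, mul_one]
  have hdfix : ∀ v, Commute d v → d * v * d = v := fun v hv => by rw [hv.eq, mul_assoc, dd, mul_one]
  have hdS : d * S * d = s := by rw [hSdef]; simp only [← mul_assoc]; rw [dd, one_mul, mul_assoc _ d d, dd, mul_one]
  have hdR : d * R * d = r := by rw [hRdef]; simp only [← mul_assoc]; rw [dd, one_mul, mul_assoc _ d d, dd, mul_one]
  have hNR : nb D R = {b, a1, s} := by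
    have e : R = d * r * d⁻¹ := by rw [hL.inv hd]
    rw [e, hconjeq, hNr, Set.image_insert_eq, Set.image_insert_eq, Set.image_singleton]
    simp only [hL.inv hd, hd2, hdS, hdfix b hb.2.2]
  have hNS : nb D S = {c, r, a1} := by
    have e : S = d * s * d⁻¹ := by rw [hL.inv hd]
    rw [e, hconjeq, hNs, Set.image_insert_eq, Set.image_insert_eq, Set.image_singleton]
    simp only [hL.inv hd, hd2, hdR, hdfix c hcdd]
  set X : Set G := {d, a, b, c, a1, a2, r, R, s, S} with hX
  have hclosed : ∀ v ∈ X, ∀ w ∈ nb D v, w ∈ X := by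
    intro v hv w hw
    simp only [hX, Set.mem_insert_iff, Set.mem_singleton_iff] at hv
    rcases hv with rfl | rfl | rfl | rfl | rfl | rfl | rfl | rfl | rfl | rfl
    · rw [hNd] at hw; simp only [Set.mem_insert_iff, Set.mem_singleton_iff] at hw
      rcases hw with rfl | rfl | rfl <;> simp [hX]
    all_goals first
      | (rw [hNa] at hw) | (rw [hNb] at hw) | (rw [hNc] at hw) | (rw [hN1] at hw) | (rw [hN2] at hw)
      | (rw [hNr] at hw) | (rw [hNR] at hw) | (rw [hNs] at hw) | (rw [hNS] at hw)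
    all_goals
      simp only [Set.mem_insert_iff, Set.mem_singleton_iff] at hw
      rcases hw with rfl | rfl | rfl <;> simp [hX]
  have hXD : ∀ v ∈ X, v ∈ D := by
    intro v hv
    simp only [hX, Set.mem_insert_iff, Set.mem_singleton_iff] at hv
    rcases hv with rfl | rfl | rfl | rfl | rfl | rfl | rfl | rfl | rfl | rfl
    exacts [hd, ha.1, hb.1, hcd.1, ha1.1, ha2a.1, hrb.1, hRb.1, hsc.1, hSc.1]
  -- nothing outside
  have hall : ∀ x ∈ D, x ∈ X := by
    intro x hx
    by_contra hout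
    have nc : ∀ v ∈ X, ¬ Commute v x := fun v hv hcm =>
      hout (hclosed v hv x ⟨hx, fun e => hout (e ▸ hv), hcm⟩)
    let f : G → G → G := fun v w => w * (v * x * v) * w
    have fsymm : ∀ v w, Commute v w → f v w = f w v := fun v w h => by
      simp only [f]
      calc w * (v * x * v) * w = (w * v) * x * (v * w) := by simp only [mul_assoc]
        _ = (v * w) * x * (w * v) := by rw [h.eq]
        _ = _ := by simp only [mul_assoc]
    have fmem : ∀ v ∈ X, ∀ w ∈ nb D v, f v w ∈ nb D x := fun v hv w hw =>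
      (hL.opposite (hXD v hv) hw hx (nc v hv) (nc w (hclosed v hv w hw))).1
    have finj : ∀ v ∈ X, ∀ w ∈ nb D v, ∀ w' ∈ nb D v, f v w = f v w' → w = w' := by
      intro v hv w hw w' hw' e
      have hvD := hXD v hv
      have hp := hL.conj' hvD hx
      have hnp : ∀ w ∈ nb D v, ¬ Commute w (v * x * v) := fun w hw hc => by
        refine nc w (hclosed v hv w hw) ?_
        have h2 : Commute w (v * (v * x * v) * v) := (hw.2.2.symm.mul_right hc).mul_right hw.2.2.symm
        simpa [← mul_assoc, hL.sq hvD, mul_assoc _ v v] using h2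
      exact hL.eq_of_conj_eq hw.1 hw'.1 hp (hnp w hw) (hnp w' hw') e
    obtain ⟨t, t', ht, ht', htt, hNx⟩ := hL.exists_three hx
    classical
    let col : G → Fin 3 := fun z => if z = t then 0 else if z = t' then 1 else 2
    have colinj : ∀ z ∈ nb D x, ∀ z' ∈ nb D x, col z = col z' → z = z' := by
      intro z hz z' hz' e
      rw [hNx] at hz hz'
      simp only [Set.mem_insert_iff, Set.mem_singleton_iff] at hz hz'
      have n1 := hL.conj_ne_left ht.1 ht'.1 (hL.noncomm x hx t ht t' ht' htt)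
      have c0 : col t = 0 := if_pos rfl
      have c1 : col t' = 1 := (if_neg htt.symm).trans (if_pos rfl)
      have c2 : col (t * t' * t) = 2 := (if_neg n1.1).trans (if_neg n1.2)
      clear_value col
      rcases hz with rfl | rfl | rfl <;> rcases hz' with rfl | rfl | rfl <;>
        first
        | rfl
        | (rw [c0, c1] at e; exact absurd e (by decide))
        | (rw [c0, c2] at e; exact absurd e (by decide))
        | (rw [c1, c0] at e; exact absurd e (by decide))
        | (rw [c1, c2] at e; exact absurd e (by decide))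
        | (rw [c2, c0] at e; exact absurd e (by decide))
        | (rw [c2, c1] at e; exact absurd e (by decide))
    have ne : ∀ v ∈ X, ∀ w ∈ nb D v, ∀ w' ∈ nb D v, w ≠ w' → col (f v w) ≠ col (f v w') :=
      fun v hv w hw w' hw' hne e => hne (finj v hv w hw w' hw' (colinj _ (fmem v hv w hw) _ (fmem v hv w' hw') e))
    have ne' : ∀ v ∈ X, ∀ u ∈ nb D v, ∀ w ∈ nb D v, u ≠ w → col (f u v) ≠ col (f v w) := fun v hv u hu w hw h => by
      rw [fsymm u v hu.2.2.symm]; exact ne v hv u hu w hw h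
    have ne'' : ∀ v ∈ X, ∀ u ∈ nb D v, ∀ w ∈ nb D v, u ≠ w → col (f u v) ≠ col (f w v) := fun v hv u hu w hw h => by
      rw [fsymm w v hw.2.2.symm]; exact ne' v hv u hu w hw h
    have m : ∀ {v}, v ∈ X → True := fun _ => trivial
    have md : d ∈ X := by simp [hX]
    have ma : a ∈ X := by simp [hX]
    have mb : b ∈ X := by simp [hX]
    have mc : c ∈ X := by simp [hX]
    have m1 : a1 ∈ X := by simp [hX]
    have m2 : a2 ∈ X := by simp [hX]
    have mr : r ∈ X := by simp [hX]
    have mR : R ∈ X := by simp [hX]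
    have ms : s ∈ X := by simp [hX]
    have mS : S ∈ X := by simp [hX]
    have cne : ∀ {v u w : G}, v ∈ D → nb D v = {u, w, u * w * u} → u ∈ nb D v → w ∈ nb D v → u ≠ w →
        u ≠ u * w * u ∧ w ≠ u * w * u := fun hv _ hu hw h =>
      ⟨fun e => (hL.conj_ne_left hu.1 hw.1 (hL.noncomm _ hv _ hu _ hw h)).1 e.symm,
        fun e => (hL.conj_ne_left hu.1 hw.1 (hL.noncomm _ hv _ hu _ hw h)).2 e.symm⟩
    have d3 : ∀ {v p q w : G}, v ∈ D → nb D v = {p, q, w} → p ≠ q ∧ p ≠ w ∧ q ≠ w := by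
      intro v p q w hv hN
      obtain ⟨u, u', hu, hu', huu, hNv⟩ := hL.exists_three hv
      have hc3 : (nb D v).ncard = 3 := by
        rw [hNv, Set.ncard_eq_three]
        exact ⟨u, u', u * u' * u, huu, (cne hv hNv hu hu' huu).1, (cne hv hNv hu hu' huu).2, rfl⟩
      rw [hN] at hc3
      refine ⟨?_, ?_, ?_⟩ <;> rintro rfl
      · simp only [Set.insert_eq_of_mem, Set.mem_insert_iff, true_or] at hc3
        exact absurd hc3 (by have := Set.ncard_insert_le p {w}; rw [Set.ncard_singleton] at this; omega)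
      · rw [Set.insert_eq_of_mem (by simp)] at hc3
        exact absurd hc3 (by have := Set.ncard_insert_le q {p}; rw [Set.ncard_singleton] at this; omega)
      · rw [Set.pair_eq_singleton] at hc3
        exact absurd hc3 (by have := Set.ncard_insert_le p {q}; rw [Set.ncard_singleton] at this; omega)
    obtain ⟨d1, d2, d4⟩ := d3 hd hNd
    obtain ⟨x1, x2, x3⟩ := d3 ha.1 hNa
    obtain ⟨b1, b2, b3⟩ := d3 hb.1 hNb
    obtain ⟨c1, c2, c3⟩ := d3 hcd.1 hNc
    obtain ⟨o1, o2, o3⟩ := d3 ha1.1 hN1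
    obtain ⟨p1, p2, p3⟩ := d3 ha2a.1 hN2
    obtain ⟨r1, r2, r3⟩ := d3 hrb.1 hNr
    obtain ⟨R1, R2, R3⟩ := d3 hRb.1 hNR
    obtain ⟨s1, s2, s3⟩ := d3 hsc.1 hNs
    obtain ⟨S1, S2, S3⟩ := d3 hSc.1 hNS
    exact no_colouring (col (f d a)) (col (f d b))
      (ne d md a (by simp [hNd]) b (by simp [hNd]) d1)
      (col (f d c)) (ne d md c (by simp [hNd]) a (by simp [hNd]) d2.symm) (ne d md c (by simp [hNd]) b (by simp [hNd]) d4.symm)
      (col (f a a1)) (ne' a ma d (by simp [hNa]) a1 (by simp [hNa]) x1).symm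
      (col (f a a2)) (ne' a ma d (by simp [hNa]) a2 (by simp [hNa]) x2).symm (ne a ma a2 (by simp [hNa]) a1 (by simp [hNa]) x3.symm)
      (col (f b r)) (ne' b mb d (by simp [hNb]) r (by simp [hNb]) b1).symm
      (col (f b R)) (ne' b mb d (by simp [hNb]) R (by simp [hNb]) b2).symm (ne b mb R (by simp [hNb]) r (by simp [hNb]) b3.symm)
      (col (f c s)) (ne' c mc d (by simp [hNc]) s (by simp [hNc]) c1).symm
      (col (f c S)) (ne' c mc d (by simp [hNc]) S (by simp [hNc]) c2).symm (ne c mc S (by simp [hNc]) s (by simp [hNc]) c3.symm)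
      (col (f a1 S)) (ne' a1 m1 a (by simp [hN1]) S (by simp [hN1]) o1).symm
      (ne'' S mS a1 (by simp [hNS]) c (by simp [hNS]) S2.symm)
      (col (f a1 R)) (ne' a1 m1 a (by simp [hN1]) R (by simp [hN1]) o2).symm (ne a1 m1 R (by simp [hN1]) S (by simp [hN1]) o3.symm)
      (ne'' R mR a1 (by simp [hNR]) b (by simp [hNR]) R1.symm)
      (col (f a2 s)) (ne' a2 m2 a (by simp [hN2]) s (by simp [hN2]) p1).symm
      (ne'' s ms a2 (by simp [hNs]) c (by simp [hNs]) s2.symm)
      (col (f a2 r)) (ne' a2 m2 a (by simp [hN2]) r (by simp [hN2]) p2).symm (ne a2 m2 r (by simp [hN2]) s (by simp [hN2]) p3.symm)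
      (ne'' r mr a2 (by simp [hNr]) b (by simp [hNr]) r1.symm)
      (col (f r S)) (ne' r mr b (by simp [hNr]) S (by simp [hNr]) r2).symm
      (ne' r mr a2 (by simp [hNr]) S (by simp [hNr]) r3).symm
      (ne'' S mS r (by simp [hNS]) c (by simp [hNS]) S1.symm)
      (ne'' S mS r (by simp [hNS]) a1 (by simp [hNS]) S3)
      (col (f s R)) (ne' s ms c (by simp [hNs]) R (by simp [hNs]) s1).symm
      (ne' s ms a2 (by simp [hNs]) R (by simp [hNs]) s3.symm).symm
      (ne'' R mR s (by simp [hNR]) b (by simp [hNR]) R2.symm)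
      (ne'' R mR s (by simp [hNR]) a1 (by simp [hNR]) R3.symm)
  refine ⟨d, a2, b, a, le_antisymm ?_ ?_, hd, ha2a.1, hb.1, ha.1, ?_, ?_, fun h => nab h.symm, hb.2.2, ha.2.2,
    ha2a.2.2.symm⟩
  · rw [Subgroup.closure_le]
    intro x hx
    have md : d ∈ Subgroup.closure ({d, a2, b, a} : Set G) := Subgroup.subset_closure (by simp)
    have m2 : a2 ∈ Subgroup.closure ({d, a2, b, a} : Set G) := Subgroup.subset_closure (by simp)
    have mb : b ∈ Subgroup.closure ({d, a2, b, a} : Set G) := Subgroup.subset_closure (by simp)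
    have ma : a ∈ Subgroup.closure ({d, a2, b, a} : Set G) := Subgroup.subset_closure (by simp)
    have m1 : a1 ∈ Subgroup.closure ({d, a2, b, a} : Set G) := hd2 ▸ mul_mem (mul_mem md m2) md
    have mr : r ∈ Subgroup.closure ({d, a2, b, a} : Set G) :=
      mul_mem (mul_mem (mul_mem (mul_mem ma mb) m1) mb) ma
    have ms : s ∈ Subgroup.closure ({d, a2, b, a} : Set G) := mul_mem (mul_mem mb m1) mb
    have := hall x hx
    simp only [hX, Set.mem_insert_iff, Set.mem_singleton_iff] at this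
    rcases this with rfl | rfl | rfl | rfl | rfl | rfl | rfl | rfl | rfl | rfl
    exacts [md, ma, mb, mul_mem (mul_mem ma mb) ma, m1, m2, mr, mul_mem (mul_mem md mr) md, ms,
      mul_mem (mul_mem md ms) md]
  · exact Subgroup.closure_mono (by rintro z (rfl | rfl | rfl | rfl); exacts [hd, ha2a.1, hb.1, ha.1])
  · exact (key hd ha hb hab ha2a a2ne).1
  · exact fun h => (key hd ha hb hab ha2a a2ne).2.1 h.symm

end Local

end CfsgLib.ThreeTransp.LocalTriangle
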