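import Cfsg.Agent.Lib.ThreeTransp.LocalTriangle

/-!
The case in which two transpositions have the same commuting neighbours: there are only six.
-/

set_option autoImplicit false
set_option linter.unusedSectionVars false

namespace CfsgLib.ThreeTransp.LocalTriangle

variable {G : Type*} [Group G] [Finite G] {D : Set G}

/-- Neighbours at distance two have the same neighbours. -/
def Bip (D : Set G) : Prop := ∀ v ∈ D, ∀ w ∈ nb D v, ∀ u ∈ nb D w, nb D u = nb D v

/-- The elements preserving the neighbourhood of every member. -/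
def side (hL : Local D) : Subgroup G where
  carrier := {g | ∀ v ∈ D, nb D (g * v * g⁻¹) = nb D v}
  one_mem' := fun v _ => by simp
  mul_mem' := fun {g h} hg hh v hv => by
    rw [show g * h * v * (g * h)⁻¹ = g * (h * v * h⁻¹) * g⁻¹ by group, hg _ (hL.conj h v hv), hh v hv]
  inv_mem' := fun {g} hg v hv => by
    have := hg _ (hL.conj g⁻¹ v hv)
    rw [show g * (g⁻¹ * v * g⁻¹⁻¹) * g⁻¹ = v by group] at this
    exact this.symm

namespace Local

variable (hL : Local D)
include hL

theorem cube_mul {x y : G} (hx : x ∈ D) (hy : y ∈ D) (h : ¬ Commute x y) : (x * y) ^ 3 = 1 :=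
  (Basic.braid_iff (hL.sq hx) (hL.sq hy)).1 (hL.tri hx hy h)

theorem nb_pair_cube {v a b : G} (hv : v ∈ D) (ha : a ∈ nb D v) (hb : b ∈ nb D v) : (a * b) ^ 3 = 1 := by
  by_cases h : a = b
  · rw [h, hL.sq hb.1, one_pow]
  · exact hL.cube_mul ha.1 hb.1 (hL.noncomm v hv a ha b hb h)

/-- The partner of a transposition outside. -/
theorem outside {v x a : G} (hB : Bip D) (hv : v ∈ D) (hx : x ∈ D) (ha : a ∈ nb D v)
    (hxv : x ∉ nb D v) (hxa : x ∉ nb D a) : (¬ Commute v x ∨ x = v) ∧ (¬ Commute a x ∨ x = a) :=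
  ⟨(em (x = v)).elim Or.inr fun h => Or.inl fun hc => hxv ⟨hx, h, hc⟩,
   (em (x = a)).elim Or.inr fun h => Or.inl fun hc => hxa ⟨hx, h, hc⟩⟩

theorem gen_mem_side (hB : Bip D) {x y y' : G} (hx : x ∈ D) (hy : y ∈ nb D x) (hy' : y' ∈ nb D x) :
    y * y' ∈ side hL := by
  intro v hv
  obtain ⟨hgx, hgv⟩ : Commute (y * y') x ∧ True := ⟨(hy.2.2.symm.mul_left hy'.2.2.symm), trivial⟩
  by_cases h1 : v ∈ nb D x
  · -- same side as `y`
    have hm : y * y' * v * (y * y')⁻¹ ∈ nb D x := by
      have e : (y * y') * x * (y * y')⁻¹ = x := by rw [hgx.eq, mul_inv_cancel_right]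
      have := (hL.mem_conj_iff (y * y') x (y * y' * v * (y * y')⁻¹)).2 (by
        rw [show (y * y')⁻¹ * (y * y' * v * (y * y')⁻¹) * (y * y') = v by group]; exact h1)
      rwa [e] at this
    exact hB v hv x (nb_symm hx h1) _ hm
  by_cases h2 : v ∈ nb D y
  · have hvN : nb D v = nb D x := hB x hx y hy v h2
    have c1 : Commute v y := ((hvN ▸ hy : y ∈ nb D v)).2.2
    have c2 : Commute v y' := ((hvN ▸ hy' : y' ∈ nb D v)).2.2
    rw [← (c1.mul_right c2).eq, mul_inv_cancel_right]
  obtain ⟨a, ha, -, -, -⟩ := hL.two v hv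
  have hvx : v ≠ x := fun e => h2 (by rw [e]; exact nb_symm hx hy)
  have hncv : ¬ Commute v x := fun hc => h1 ⟨hv, hvx, hc.symm⟩
  have hnca : ¬ Commute a x := fun hc => by
    by_cases e : a = x
    · exact h1 (by rw [← e]; exact nb_symm hv ha)
    · have hxa : x ∈ nb D a := ⟨hx, fun e' => e e'.symm, hc⟩
      have hxN : nb D x = nb D v := hB v hv a ha x hxa
      have : y ∈ nb D v := hxN ▸ hy
      exact h2 (nb_symm hv this)
  obtain ⟨hy0, -, -, -⟩ := hL.opposite hv ha hx hncv hnca
  set y0 := a * (v * x * v) * a with hy0d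
  -- the two products with `y0` move `v` inside its side
  have hz : ∀ a1 ∈ nb D a, a1 ≠ v → a * (a1 * x * a1) * a ∈ nb D x ∧ a * (a1 * x * a1) * a ≠ y0 ∧
      (a * (a1 * x * a1) * a * y0) * v * (a * (a1 * x * a1) * a * y0)⁻¹ = a1 := by
    intro a1 ha1 hne
    have hN1 : nb D a1 = nb D v := hB v hv a ha a1 ha1
    have hxa1 : ¬ Commute a1 x := fun hc => by
      have hxne : x ≠ a1 := fun e => h2 (by
        have hvy : y ∈ nb D v := by rw [← hN1, ← e]; exact hy
        exact nb_symm hv hvy)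
      exact h1 (nb_symm hv (hN1 ▸ (⟨hx, hxne, hc⟩ : x ∈ nb D a1)))
    have haa1 : a ∈ nb D a1 := nb_symm ha.1 ha1
    obtain ⟨hy1, -, -, -⟩ := hL.opposite ha1.1 haa1 hx hxa1 hnca
    refine ⟨hy1, fun e => hne ?_, ?_⟩
    · have e' : a1 * x * a1 = v * x * v := mul_left_cancel (mul_right_cancel e)
      exact hL.eq_of_conj_eq ha1.1 hv hx hxa1 hncv e'
    · have aa := hL.sq ha.1
      have vv := hL.sq hv
      have xx := hL.sq hx
      have a11 := hL.sq ha1.1
      rw [hy0d, mul_inv_rev, hL.inv (hL.conj' ha.1 (hL.conj' ha1.1 hx)), hL.inv (hL.conj' ha.1 (hL.conj' hv hx))]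
      have t1 := hL.tri hv hx hncv
      have t2 := hL.tri ha.1 hx hnca
      have t3 := hL.tri ha1.1 hx hxa1
      have cva : a * v = v * a := ha.2.2.symm.eq
      have cqa : a * a1 = a1 * a := ha1.2.2.eq
      calc a * (a1 * x * a1) * a * (a * (v * x * v) * a) * v * (a * (v * x * v) * a * (a * (a1 * x * a1) * a))
          = a * (a1 * x * a1) * ((v * x * v) * (a * v * a) * (v * x * v)) * (a1 * x * a1) * a := by
            simp only [mul_assoc]; rw [← mul_assoc a a, aa, one_mul, ← mul_assoc a a, aa, one_mul]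
        _ = a * (a1 * x * a1) * x * (a1 * x * a1) * a := by
            rw [show a * v * a = v by rw [cva, mul_assoc, aa, mul_one]]
            have : v * x * v * v * (v * x * v) = x := by
              calc v * x * v * v * (v * x * v) = v * x * (v * v) * (v * x * v) := by simp only [mul_assoc]
                _ = v * (x * v * x) * v := by rw [vv, mul_one]; simp only [mul_assoc]
                _ = x := by rw [← t1]; simp only [← mul_assoc]; rw [vv, one_mul, mul_assoc, vv, mul_one]
            rw [this]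
        _ = a1 := by
            rw [t3]
            calc a * (x * a1 * x) * x * (x * a1 * x) * a = a * (x * a1 * (x * x) * (x * (a1 * x))) * a := by
                  simp only [mul_assoc]
              _ = a * ((x * a1 * x) * (a1 * x)) * a := by rw [xx, mul_one]; simp only [mul_assoc]
              _ = a * a1 * a := by rw [← t3]; simp only [mul_assoc, ← mul_assoc a1 a1, a11, one_mul, xx, mul_one]
              _ = a1 := by rw [cqa, mul_assoc, aa, mul_one]
  have hside : ∀ y1 ∈ nb D x, y1 ≠ y0 → (∃ a1 ∈ nb D a, (y1 * y0) * v * (y1 * y0)⁻¹ = a1) →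
      nb D ((y1 * y0) * v * (y1 * y0)⁻¹) = nb D v ∧
        nb D ((y1 * y0)⁻¹ * v * (y1 * y0)) = nb D v := by
    intro y1 hy1 _ ⟨a1, ha1, e⟩
    set z := y1 * y0 with hzd
    have hN : nb D (z * v * z⁻¹) = nb D v := by rw [e]; exact hB v hv a ha a1 ha1
    refine ⟨hN, ?_⟩
    have h3 : z ^ 3 = 1 := hL.nb_pair_cube hx hy1 hy0
    have hzi : z⁻¹ = z * z := inv_eq_of_mul_eq_one_right (by rw [← mul_assoc, ← pow_three']; exact h3)
    have h4 := hL.nb_conj z hN
    rw [hN] at h4
    rw [← h4]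
    congr 1
    conv_lhs => rw [show z⁻¹ * v * z = z⁻¹ * v * (z⁻¹)⁻¹ by rw [inv_inv], hzi]
    group
  obtain ⟨a1, b1, ha1, hb1, hab1, hNa⟩ := hL.exists_three ha.1
  obtain ⟨a2, ha2, hav⟩ : ∃ a2 ∈ nb D a, a2 ≠ v := by
    by_contra! hall
    exact hab1 ((hall a1 ha1).trans (hall b1 hb1).symm)
  obtain ⟨hy1, hy10, e1⟩ := hz a2 ha2 hav
  set y1 := a * (a2 * x * a2) * a
  obtain ⟨s1, s2⟩ := hside y1 hy1 hy10 ⟨a2, ha2, e1⟩
  have hNx := hL.nb_eq_of_three hx hy1 hy0 hy10
  have q1 := hL.sq hy1.1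
  have q0 := hL.sq hy0.1
  have hz3 : (y1 * y0) ^ 3 = 1 := hL.nb_pair_cube hx hy1 hy0
  have hzi : (y1 * y0)⁻¹ = y0 * y1 := by rw [mul_inv_rev, hL.inv hy1.1, hL.inv hy0.1]
  have hmem : ∀ w ∈ nb D x, w = y1 ∨ w = y0 ∨ w = y1 * y0 * y1 := fun w hw => by
    rw [hNx] at hw; simpa using hw
  have hcases : y * y' = 1 ∨ y * y' = y1 * y0 ∨ y * y' = (y1 * y0)⁻¹ := by
    have hbr : y1 * y0 * y1 = y0 * y1 * y0 := hL.tri hy1.1 hy0.1 (hL.noncomm x hx y1 hy1 y0 hy0 hy10)
    rcases hmem y hy with rfl | rfl | rfl <;> rcases hmem y' hy' with rfl | rfl | rfl <;> rw [hzi]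
    · exact Or.inl q1
    · exact Or.inr (Or.inl rfl)
    · refine Or.inr (Or.inr ?_); simp only [← mul_assoc]; rw [q1, one_mul]
    · exact Or.inr (Or.inr rfl)
    · exact Or.inl q0
    · refine Or.inr (Or.inl ?_); rw [hbr]; simp only [← mul_assoc]; rw [q0, one_mul]
    · refine Or.inr (Or.inl ?_); simp only [mul_assoc]; rw [q1, mul_one]
    · refine Or.inr (Or.inr ?_); rw [hbr]; simp only [mul_assoc]; rw [q0, mul_one]
    · exact Or.inl (by simp only [mul_assoc]; rw [← mul_assoc y1 y1, q1, one_mul, ← mul_assoc y0 y0, q0, one_mul, q1])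
  rcases hcases with e | e | e <;> rw [e]
  · simp
  · exact s1
  · rw [inv_inv]; exact s2

/-- The subgroup generated by the products of two commuting neighbours of one member. -/
theorem pair_subgroup_exists : ∃ H : Subgroup G,
    H = Subgroup.closure {g | ∃ x ∈ D, ∃ y ∈ nb D x, ∃ y' ∈ nb D x, g = y * y'} := ⟨_, rfl⟩

end Local

theorem perm_three_cubes : ∀ σ τ : Equiv.Perm (Fin 3), σ ^ 3 = 1 → τ ^ 3 = 1 → σ * τ = τ * σ := by decide +kernel

namespace Local

variable (hL : Local D)
include hL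

/-- The subgroup generated by products of two neighbours is a 3-group, abelian on every side. -/
theorem pairs_three (hB : Bip D) {H : Subgroup G}
    (hH : H = Subgroup.closure {g | ∃ x ∈ D, ∃ y ∈ nb D x, ∃ y' ∈ nb D x, g = y * y'}) :
    H ≤ side hL ∧ H.Normal ∧ ∀ h ∈ H, h ^ 3 = 1 := by
  have hle : H ≤ side hL := by
    rw [hH, Subgroup.closure_le]
    rintro _ ⟨x, hx, y, hy, y', hy', rfl⟩
    exact hL.gen_mem_side hB hx hy hy'
  have hgenD : H ≤ Subgroup.closure D := by
    rw [hH, Subgroup.closure_le]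
    rintro _ ⟨x, hx, y, hy, y', hy', rfl⟩
    exact mul_mem (Subgroup.subset_closure hy.1) (Subgroup.subset_closure hy'.1)
  have hnorm : H.Normal := by
    refine ⟨fun h hh g => ?_⟩
    rw [hH] at hh ⊢
    induction hh using Subgroup.closure_induction with
    | mem h hh =>
      obtain ⟨x, hx, y, hy, y', hy', rfl⟩ := hh
      refine Subgroup.subset_closure ⟨g * x * g⁻¹, hL.conj g x hx, g * y * g⁻¹, ?_, g * y' * g⁻¹, ?_, by group⟩
      · rw [hL.mem_conj_iff]; simpa [mul_assoc] using hy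
      · rw [hL.mem_conj_iff]; simpa [mul_assoc] using hy'
    | one => simp
    | mul a b _ _ iha ihb =>
      rw [show g * (a * b) * g⁻¹ = (g * a * g⁻¹) * (g * b * g⁻¹) by group]; exact mul_mem iha ihb
    | inv a _ iha => rw [show g * a⁻¹ * g⁻¹ = (g * a * g⁻¹)⁻¹ by group]; exact inv_mem iha
  -- commutators centralise every member
  have hcomm : ∀ h ∈ H, ∀ h' ∈ H, ∀ v ∈ D, h * h' * v * (h * h')⁻¹ = h' * h * v * (h' * h)⁻¹ := by
    intro h hh h' hh' v hv
    obtain ⟨a, ha, -, -, -⟩ := hL.two v hv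
    have hstab : ∀ g ∈ side hL, ∀ w ∈ nb D a, g * w * g⁻¹ ∈ nb D a := fun g hg w hw => by
      have hN := hg w hw.1
      exact nb_symm (hL.conj g w hw.1) (hN ▸ nb_symm ha.1 hw)
    let σ : side hL →* Equiv.Perm (nb D a) := MonoidHom.mk'
      (fun g => ⟨fun w => ⟨(g : G) * w * (g : G)⁻¹, hstab g g.2 w w.2⟩,
        fun w => ⟨(g : G)⁻¹ * w * ((g : G)⁻¹)⁻¹, hstab _ (inv_mem g.2) w w.2⟩,
        fun w => Subtype.ext (by simp [mul_assoc]), fun w => Subtype.ext (by simp [mul_assoc])⟩)
      fun g k => Equiv.ext fun w => Subtype.ext (by simp [mul_assoc])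
    obtain ⟨p, q, hp, hq, hpq, hNa⟩ := hL.exists_three ha.1
    have hcard : Nat.card (nb D a) = 3 := by
      rw [Nat.card_coe_set_eq, hNa, Set.ncard_eq_three]
      refine ⟨p, q, p * q * p, hpq, fun e => ?_, fun e => ?_, rfl⟩
      · exact ((hL.conj_ne_left hp.1 hq.1 (hL.noncomm a ha.1 p hp q hq hpq)).1 e.symm)
      · exact ((hL.conj_ne_left hp.1 hq.1 (hL.noncomm a ha.1 p hp q hq hpq)).2 e.symm)
    let eqv : nb D a ≃ Fin 3 := (Finite.equivFin _).trans (finCongr hcard)
    let τ : side hL →* Equiv.Perm (Fin 3) := (eqv.permCongrHom.toMonoidHom).comp σ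
    have hτ : ∀ g (hg : g ∈ H), τ ⟨g, hle hg⟩ ^ 3 = 1 := by
      intro g hg
      have hg' := hg
      rw [hH] at hg'
      induction hg' using Subgroup.closure_induction with
      | mem g hg' =>
        obtain ⟨x, hx, y, hy, y', hy', rfl⟩ := hg'
        rw [← map_pow]
        convert map_one τ
        exact Subtype.ext (hL.nb_pair_cube hx hy hy')
      | one => rw [← map_pow]; convert map_one τ; exact Subtype.ext (one_pow 3)
      | mul b c hb hc ihb ihc =>
        rw [← hH] at hb hc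
        have e : τ ⟨b * c, hle hg⟩ = τ ⟨b, hle hb⟩ * τ ⟨c, hle hc⟩ := by rw [← map_mul]; rfl
        rw [e, Commute.mul_pow (perm_three_cubes _ _ (ihb hb) (ihc hc)), ihb hb, ihc hc, one_mul]
      | inv b hb ihb =>
        rw [← hH] at hb
        have e : τ ⟨b⁻¹, hle hg⟩ = (τ ⟨b, hle hb⟩)⁻¹ := by rw [← map_inv]; rfl
        rw [e, inv_pow, ihb hb, inv_one]
    have e : σ (⟨h, hle hh⟩ * ⟨h', hle hh'⟩) = σ (⟨h', hle hh'⟩ * ⟨h, hle hh⟩) :=
      eqv.permCongrHom.injective (show τ _ = τ _ by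
        rw [map_mul, map_mul]; exact perm_three_cubes _ _ (hτ h hh) (hτ h' hh'))
    exact congrArg Subtype.val (DFunLike.congr_fun e ⟨v, nb_symm hv ha⟩)
  have hcen : ∀ h ∈ H, ∀ h' ∈ H, ∀ k ∈ H, Commute (h * h' * h⁻¹ * h'⁻¹) k := by
    intro h hh h' hh' k hk
    have hle' : Subgroup.closure D ≤ Subgroup.centralizer {h * h' * h⁻¹ * h'⁻¹} := by
      rw [Subgroup.closure_le]
      intro v hv
      rw [SetLike.mem_coe, Subgroup.mem_centralizer_iff]
      intro c hc
      rw [Set.mem_singleton_iff.1 hc]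
      have e := hcomm h hh h' hh' ((h' * h)⁻¹ * v * (h' * h)⁻¹⁻¹) (hL.conj _ v hv)
      rw [show h' * h * ((h' * h)⁻¹ * v * (h' * h)⁻¹⁻¹) * (h' * h)⁻¹ = v by group] at e
      calc h * h' * h⁻¹ * h'⁻¹ * v
          = (h * h' * ((h' * h)⁻¹ * v * (h' * h)⁻¹⁻¹) * (h * h')⁻¹) * (h * h' * h⁻¹ * h'⁻¹) := by group
        _ = _ := by rw [e]
    exact Subgroup.mem_centralizer_iff.1 (hle' (hgenD hk)) _ rfl
  refine ⟨hle, hnorm, fun h hh => ?_⟩
  have hh' := hh
  rw [hH] at hh'
  induction hh' using Subgroup.closure_induction with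
  | mem g hg' =>
    obtain ⟨x, hx, y, hy, y', hy', rfl⟩ := hg'
    exact hL.nb_pair_cube hx hy hy'
  | one => exact one_pow 3
  | mul b c hb hc ihb ihc =>
    rw [← hH] at hb hc
    have hb3 := ihb hb
    have hc3 := ihc hc
    set z := b * c * b⁻¹ * c⁻¹ with hz
    have zb : Commute z b := hcen b hb c hc b hb
    have zc : Commute z c := hcen b hb c hc c hc
    have hbc : b * c = z * c * b := by rw [hz]; group
    have hpow : ∀ n : ℕ, b * c ^ n = z ^ n * c ^ n * b := by
      intro n
      induction n with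
      | zero => simp
      | succ n ih =>
        calc b * c ^ (n + 1) = z ^ n * c ^ n * (b * c) := by rw [pow_succ, ← mul_assoc, ih, mul_assoc]
          _ = z ^ n * (c ^ n * z) * c * b := by rw [hbc]; simp only [mul_assoc]
          _ = z ^ (n + 1) * c ^ (n + 1) * b := by
            rw [← (zc.pow_right n).eq, pow_succ z, pow_succ c]; simp only [mul_assoc]
    have hz3 : z ^ 3 = 1 := by
      have := hpow 3
      rw [hc3, mul_one, mul_one] at this
      exact mul_eq_right.1 this.symm
    have hcb : c * b = z⁻¹ * (b * c) := by rw [hbc]; group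
    have zib : Commute z⁻¹ b := zb.inv_left
    have zic : Commute z⁻¹ c := zc.inv_left
    calc (b * c) ^ 3 = b * (c * b) * (c * b) * c := by simp only [pow_succ, pow_zero, one_mul, mul_assoc]
      _ = (z⁻¹ * z⁻¹) * (b * b * (c * b) * (c * c)) := by
        conv_lhs => rw [hcb]
        simp only [mul_assoc]
        rw [← mul_assoc b z⁻¹, ← zib.eq, mul_assoc, ← mul_assoc c z⁻¹, ← zic.eq, mul_assoc,
          ← mul_assoc b z⁻¹, ← zib.eq, mul_assoc, ← mul_assoc b z⁻¹, ← zib.eq, mul_assoc]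
      _ = (z⁻¹ * z⁻¹) * (b * b * (z⁻¹ * (b * c)) * (c * c)) := by rw [hcb]
      _ = (z⁻¹ * z⁻¹ * z⁻¹) * (b ^ 3 * c ^ 3) := by
        rw [← mul_assoc (b * b) z⁻¹, ← (zib.mul_right zib).eq]
        simp only [pow_succ, pow_zero, one_mul, mul_assoc]
      _ = 1 := by rw [hb3, hc3, mul_one, mul_one, ← mul_inv_rev, ← mul_inv_rev, ← mul_assoc, ← pow_three', hz3, inv_one]
  | inv b hb ihb =>
    rw [← hH] at hb
    rw [inv_pow, ihb hb, inv_one]

/-- With two members sharing their neighbours, everything is visible from one edge. -/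
theorem bip_all (hB : Bip D)
    (hcore : ∀ v ∈ D, ∀ h : G, ∀ H : Subgroup G, H.Normal → (∀ k ∈ H, k ^ 3 = 1) → h ∈ H → Commute v h →
      ∀ a ∈ nb D v, ∀ b ∈ nb D v, a ≠ b → h ∈ Subgroup.zpowers (a * b))
    {d a : G} (hd : d ∈ D) (ha : a ∈ nb D d) (x : G) (hx : x ∈ D) : x ∈ nb D d ∨ x ∈ nb D a := by
  by_contra hout
  push Not at hout
  obtain ⟨ho1, ho2⟩ := hL.outside hB hd hx ha hout.1 hout.2
  have hdx : ¬ Commute d x := ho1.resolve_right fun e => hout.2 (by rw [e]; exact nb_symm hd ha)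
  have hax : ¬ Commute a x := ho2.resolve_right fun e => hout.1 (by rw [e]; exact ha)
  obtain ⟨H, hH⟩ := hL.pair_subgroup_exists (D := D)
  obtain ⟨hle, hnorm, hcube⟩ := hL.pairs_three hB hH
  -- the product of a commuting pair inverts `H`
  have hinv : ∀ v ∈ D, ∀ w ∈ nb D v, ∀ h ∈ H, (v * w) * h * (v * w)⁻¹ = h⁻¹ := by
    intro v hv w hw h hh
    have hvw : w ∈ nb D v := hw
    have hwv := nb_symm hv hw
    have vv := hL.sq hv
    have ww := hL.sq hw.1
    obtain ⟨m, m', hm, hm', hmne, hNv⟩ := hL.exists_three hv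
    obtain ⟨l, l', hl, hl', hlne, hNw⟩ := hL.exists_three hw.1
    have hinvpair : ∀ {p : G} {v w : G}, v ∈ D → w ∈ nb D v → p ∈ H → (v * p * v = p⁻¹) →
        p ∈ Subgroup.closure {g | ∃ y ∈ nb D w, ∃ y' ∈ nb D w, g = y * y'} := by
      intro p v w hv hw hp hpi
      have vv := hL.sq hv
      have hp3 := hcube p hp
      have hw2 : p * p * (p * p) = p := by
        calc p * p * (p * p) = p ^ 3 * p := by simp only [pow_succ, pow_zero, one_mul, mul_assoc]
          _ = p := by rw [hp3, one_mul]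
      have e : (p * p)⁻¹ * v * (p * p) = v * p := by
        have hpi2 : v * (p * p) * v = (p * p)⁻¹ := by
          rw [show v * (p * p) * v = (v * p * v) * (v * p * v) by
            simp only [mul_assoc]; rw [← mul_assoc v v, vv, one_mul], hpi, mul_inv_rev]
        rw [← hpi2]
        simp only [mul_assoc]
        rw [← mul_assoc v v, vv, one_mul]
        conv_rhs => rw [← hw2]
        simp only [mul_assoc]
      have hN := hle (inv_mem (mul_mem hp hp)) v hv
      rw [inv_inv, e] at hN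
      have hvpD : v * p ∈ D := by rw [← e]; have := hL.conj (p * p)⁻¹ v hv; rwa [inv_inv] at this
      have hvp : v * p ∈ nb D w := nb_symm hvpD (hN ▸ hw)
      refine Subgroup.subset_closure ⟨v, nb_symm hv hw, v * p, hvp, ?_⟩
      rw [← mul_assoc, vv, one_mul]
    set k := h⁻¹ * (v * h * v) with hk
    have hkH : k ∈ H := mul_mem (inv_mem hh) (by have := hnorm.conj_mem h hh v; rwa [hL.inv hv] at this)
    have hkv : v * k * v = k⁻¹ := by
      rw [hk, mul_inv_rev, inv_inv, mul_inv_rev, mul_inv_rev, hL.inv hv]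
      simp only [mul_assoc]
      rw [vv, mul_one]
    have hk3 := hcube k hkH
    have hfix : Commute v (h * (k * k)) := by
      show v * (h * (k * k)) = h * (k * k) * v
      have e1 : v * (h * (k * k)) * v = (v * h * v) * (v * k * v) * (v * k * v) := by
        simp only [mul_assoc, ← mul_assoc v v, vv, one_mul]
      have e2 : v * h * v = h * k := by rw [hk, mul_inv_cancel_left]
      have e3 : h * k * k⁻¹ * k⁻¹ = h * (k * k) := by
        rw [mul_inv_cancel_right, inv_eq_of_mul_eq_one_right (show k * (k * k) = 1 by rw [← pow_three]; exact hk3)]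
      calc v * (h * (k * k)) = (v * (h * (k * k)) * v) * v := by rw [mul_assoc _ v v, vv, mul_one]
        _ = _ := by rw [e1, e2, hkv, e3]
    have hc := hcore v hv _ H hnorm hcube (mul_mem hh (mul_mem hkH hkH)) hfix m hm m' hm' hmne
    have hkm := hinvpair hv hw hkH hkv
    -- the product inverts both parts
    set S := v * w with hS
    have hSinv : ∀ {v w : G}, v ∈ D → w ∈ nb D v → ∀ p ∈ nb D v, ∀ p' ∈ nb D v,
        w * (p * p') * w = (p * p')⁻¹ ∧ Commute v (p * p') := by
      intro v w hv hw p hp p' hp'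
      refine ⟨?_, hp.2.2.mul_right hp'.2.2⟩
      have ww := hL.sq hw.1
      have pp := hL.sq hp.1
      have pp' := hL.sq hp'.1
      rw [mul_inv_rev, hL.inv hp.1, hL.inv hp'.1]
      by_cases e1 : p = p'
      · rw [e1, pp', mul_one, ww]
      have hN := hL.nb_eq_of_three hv hp hp' e1
      have br := hL.tri hp.1 hp'.1 (hL.noncomm v hv p hp p' hp' e1)
      have hwmem : w = p ∨ w = p' ∨ w = p * p' * p := by rw [hN] at hw; simpa using hw
      rcases hwmem with rfl | rfl | rfl
      · simp only [← mul_assoc]; rw [pp, one_mul]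
      · simp only [mul_assoc]; rw [pp', mul_one]
      · calc p * p' * p * (p * p') * (p * p' * p) = p * ((p' * (p * p)) * p') * (p * p' * p) := by
              simp only [mul_assoc]
          _ = p * (p * p' * p) := by rw [pp, mul_one, pp', mul_one]
          _ = p' * p := by simp only [← mul_assoc]; rw [pp, one_mul]
    have hA : h * (k * k) ∈ Subgroup.closure {g | ∃ y ∈ nb D v, ∃ y' ∈ nb D v, g = y * y'} :=
      have hmm : m * m' ∈ Subgroup.closure {g | ∃ y ∈ nb D v, ∃ y' ∈ nb D v, g = y * y'} :=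
        Subgroup.subset_closure ⟨m, hm, m', hm', rfl⟩
      Subgroup.zpowers_le.2 hmm hc
    let Inv : Subgroup G := Subgroup.closure ({g | ∃ y ∈ nb D v, ∃ y' ∈ nb D v, g = y * y'} ∪
      {g | ∃ y ∈ nb D w, ∃ y' ∈ nb D w, g = y * y'})
    have hab : ∀ g ∈ Inv, S * g * S⁻¹ = g⁻¹ := by
      have hNN : ∀ p ∈ nb D v, ∀ q ∈ nb D w, Commute p q := fun p hp q hq =>
        (show p ∈ nb D q by rw [hB v hv w hw q hq]; exact hp).2.2.symm
      have hpairs : ∀ g ∈ ({g | ∃ y ∈ nb D v, ∃ y' ∈ nb D v, g = y * y'} ∪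
          {g | ∃ y ∈ nb D w, ∃ y' ∈ nb D w, g = y * y'} : Set G), S * g * S⁻¹ = g⁻¹ := by
        rintro g (⟨p, hp, p', hp', rfl⟩ | ⟨p, hp, p', hp', rfl⟩)
        · obtain ⟨e1, e2⟩ := hSinv hv hw p hp p' hp'
          rw [hS, mul_inv_rev, hL.inv hv, hL.inv hw.1]
          calc v * w * (p * p') * (w * v) = v * (w * (p * p') * w) * v := by simp only [mul_assoc]
            _ = (p * p')⁻¹ := by rw [e1, e2.inv_right.eq, mul_assoc, vv, mul_one]
        · obtain ⟨e1, e2⟩ := hSinv hw.1 hwv p hp p' hp'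
          rw [hS, mul_inv_rev, hL.inv hv, hL.inv hw.1]
          calc v * w * (p * p') * (w * v) = v * ((w * (p * p')) * w) * v := by simp only [mul_assoc]
            _ = v * (p * p') * v := by rw [e2.eq, mul_assoc _ w w, ww, mul_one]
            _ = (p * p')⁻¹ := e1
      have hcommI : IsMulCommutative ↥Inv := by
        refine Subgroup.isMulCommutative_closure ?_
        have same : ∀ {v : G}, v ∈ D → ∀ p ∈ nb D v, ∀ p' ∈ nb D v, ∀ q ∈ nb D v, ∀ q' ∈ nb D v,
            Commute (p * p') (q * q') := by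
          intro v hv p hp p' hp' q hq q' hq'
          by_cases e1 : p = p'
          · rw [e1, hL.sq hp'.1]; exact Commute.one_left _
          have hN := hL.nb_eq_of_three hv hp hp' e1
          have br := hL.tri hp.1 hp'.1 (hL.noncomm v hv p hp p' hp' e1)
          have pp := hL.sq hp.1
          have pp' := hL.sq hp'.1
          set u := p * p' with hu
          have qmem : ∀ q ∈ nb D v, ∃ i : ℕ, q = p * u ^ i := by
            intro q hq
            have : q = p ∨ q = p' ∨ q = p * p' * p := by rw [hN] at hq; simpa using hq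
            rcases this with e | e | e
            · exact ⟨0, by simp [e]⟩
            · exact ⟨1, by rw [e, pow_one, hu, ← mul_assoc, pp, one_mul]⟩
            · refine ⟨2, ?_⟩
              rw [e, br, pow_two, hu]
              simp only [← mul_assoc]
              rw [pp, one_mul]
          obtain ⟨i, rfl⟩ := qmem q hq
          obtain ⟨j, rfl⟩ := qmem q' hq'
          have hup : p * u * p = u⁻¹ := by
            rw [hu, mul_inv_rev, hL.inv hp.1, hL.inv hp'.1, ← mul_assoc, pp, one_mul]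
          have : p * u ^ i * p = (u⁻¹) ^ i := by
            rw [← hup]
            conv_rhs => arg 1; arg 2; rw [← hL.inv hp.1]
            rw [conj_pow, hL.inv hp.1]
          rw [← mul_assoc (p * u ^ i), this]
          exact ((Commute.refl u).inv_right.pow_right i).mul_right ((Commute.refl u).pow_right j)
        rintro g (⟨p, hp, p', hp', rfl⟩ | ⟨p, hp, p', hp', rfl⟩) g' (⟨q, hq, q', hq', rfl⟩ | ⟨q, hq, q', hq', rfl⟩)
        · exact (same hv p hp p' hp' q hq q' hq').eq
        · exact (((hNN p hp q hq).mul_right (hNN p hp q' hq')).mul_left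
            ((hNN p' hp' q hq).mul_right (hNN p' hp' q' hq'))).eq
        · exact (((hNN q hq p hp).mul_right (hNN q hq p' hp')).mul_left
            ((hNN q' hq' p hp).mul_right (hNN q' hq' p' hp'))).eq.symm
        · exact (same hw.1 p hp p' hp' q hq q' hq').eq
      intro g hg
      induction hg using Subgroup.closure_induction with
      | mem g hg => exact hpairs g hg
      | one => simp
      | mul a b ha hb iha ihb =>
        rw [show S * (a * b) * S⁻¹ = (S * a * S⁻¹) * (S * b * S⁻¹) by group, iha, ihb, ← mul_inv_rev]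
        exact congrArg (·⁻¹) (congrArg Subtype.val (mul_comm' (⟨b, hb⟩ : Inv) ⟨a, ha⟩))
      | inv a _ iha => rw [show S * a⁻¹ * S⁻¹ = (S * a * S⁻¹)⁻¹ by group, iha]
    refine hab h ?_
    have h1 : h * (k * k) ∈ Inv := Subgroup.closure_mono Set.subset_union_left hA
    have h2 : k ∈ Inv := Subgroup.closure_mono Set.subset_union_right hkm
    have := mul_mem h1 h2
    rwa [mul_assoc, ← pow_three', hk3, mul_one] at this
  obtain ⟨hy, hpq, hpqne, hkey⟩ := hL.opposite hd ha hx hdx hax
  obtain ⟨b, c, hb, hc, hbc, -⟩ := hL.exists_three hd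
  set u := b * c with hu
  have huH : u ∈ H := by rw [hH]; exact Subgroup.subset_closure ⟨d, hd, b, hb, c, hc, rfl⟩
  have hpD := hL.conj' hd hx
  have hqD := hL.conj' ha.1 hx
  have e1 := hinv d hd a ha u huH
  have e2 := hinv _ hpD _ ⟨hqD, hpqne.symm, hpq⟩ u huH
  have e3 := hinv _ hy.1 x (nb_symm hx hy) u huH
  have e4 : (d * a * (d * x * d * (a * x * a))) * u * (d * a * (d * x * d * (a * x * a)))⁻¹ = u := by
    rw [show ∀ s t : G, (s * t) * u * (s * t)⁻¹ = s * (t * u * t⁻¹) * s⁻¹ from fun s t => by group, e2,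
      show ∀ s : G, s * u⁻¹ * s⁻¹ = (s * u * s⁻¹)⁻¹ from fun s => by group, e1, inv_inv]
  rw [hkey, e3] at e4
  have hu1 : u = 1 := by
    have h2 : u * u = 1 := by nth_rw 1 [← e4]; exact inv_mul_cancel u
    have h3 := hcube u huH
    rwa [pow_three, h2, mul_one] at h3
  exact hbc ((eq_inv_of_mul_eq_one_left hu1).trans (hL.inv hc.1))

end Local

end CfsgLib.ThreeTransp.LocalTriangle
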