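import Cfsg.Agent.Lib.Sporadic.Sextets
import Cfsg.Agent.Lib.SmallGroups.Steiner
import Mathlib

/-!
# The disjointness graph on the octads
-/

set_option autoImplicit false

namespace CfsgLib.ThreeTransp.OctadGraph

open Cfsg Finset CfsgLib.SmallGroups.GolayOctads CfsgLib.SmallGroups.Steiner CfsgLib.Sporadic.Sextets

theorem adj_iff {b c : octads} :
    (blockGraph octads).Adj b c ↔ Disjoint (b : Finset GolayPt) (c : Finset GolayPt) := by
  rw [blockGraph, SimpleGraph.fromRel_adj]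
  refine ⟨fun ⟨_, h⟩ => h.elim id fun h => h.symm, fun h => ⟨fun e => ?_, Or.inl h⟩⟩
  rw [e, disjoint_self, Finset.bot_eq_empty] at h
  have := c.2.2
  rw [h, card_empty] at this
  omega

theorem not_both {o o' x : Finset GolayPt} (ho : o ∈ octads) (ho' : o' ∈ octads) (hx : x ∈ octads)
    (h2 : (o ∩ o').card = 2) (h : Disjoint o x) (h' : Disjoint x o') : False := by
  have hy := third_octad ho hx h
  have hsub : o' \ o ⊆ (o ∪ x)ᶜ ∩ o' := fun p hp => by
    rw [mem_sdiff] at hp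
    rw [mem_inter, mem_compl, mem_union, not_or]
    exact ⟨⟨hp.2, fun hpx => disjoint_left.1 h' hpx hp.1⟩, hp.1⟩
  have hsub' : (o ∪ x)ᶜ ∩ o' ⊆ o' \ o := fun p hp => by
    rw [mem_inter, mem_compl, mem_union, not_or] at hp
    exact mem_sdiff.2 ⟨hp.2, hp.1.1⟩
  have he := congrArg card (Subset.antisymm hsub hsub')
  have h6 := card_sdiff_add_card_inter o' o
  rw [ho'.2, inter_comm, h2] at h6
  by_cases hne : (o ∪ x)ᶜ = o'
  · rw [hne, inter_self, ho'.2] at he
    omega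
  · rcases octad_inter hy ho' hne with h | h | h <;> omega

theorem exists_common {o o' : Finset GolayPt} (ho : o ∈ octads) (ho' : o' ∈ octads)
    (h4 : (o ∩ o').card = 4) : ∃ x ∈ octads, Disjoint o x ∧ Disjoint x o' := by
  classical
  set t := o ∩ o' with ht
  have hS := sextetOf_mem h4
  have h1 : o \ t ∈ sextetOf t := mem_insert_of_mem ((mem_partners h4).2
    ⟨by rw [card_sdiff_of_subset inter_subset_left, ho.2, h4], disjoint_sdiff,
      by rw [union_sdiff_of_subset inter_subset_left]; exact ho⟩)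
  have h2 : o' \ t ∈ sextetOf t := mem_insert_of_mem ((mem_partners h4).2
    ⟨by rw [card_sdiff_of_subset inter_subset_right, ho'.2, h4], disjoint_sdiff,
      by rw [union_sdiff_of_subset inter_subset_right]; exact ho'⟩)
  have h3 : 1 < ((((sextetOf t).erase t).erase (o \ t)).erase (o' \ t)).card := by
    have a1 := pred_card_le_card_erase (s := sextetOf t) (a := t)
    have a2 := pred_card_le_card_erase (s := (sextetOf t).erase t) (a := o \ t)
    have a3 := pred_card_le_card_erase (s := ((sextetOf t).erase t).erase (o \ t)) (a := o' \ t)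
    have := hS.1
    omega
  obtain ⟨u, hu, v, hv, huv⟩ := one_lt_card.1 h3
  simp only [mem_erase] at hu hv
  refine ⟨u ∪ v, hS.2.2 u hu.2.2.2 v hv.2.2.2 huv, ?_, ?_⟩
  · rw [← union_sdiff_of_subset (inter_subset_left (s₁ := o) (s₂ := o')), ← ht]
    simp only [disjoint_union_left, disjoint_union_right]
    have ht0 : t ∈ sextetOf t := mem_insert_self _ _
    exact ⟨⟨sextet_disjoint hS ht0 hu.2.2.2 (Ne.symm hu.2.2.1),
      sextet_disjoint hS h1 hu.2.2.2 (Ne.symm hu.2.1)⟩,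
      sextet_disjoint hS ht0 hv.2.2.2 (Ne.symm hv.2.2.1),
      sextet_disjoint hS h1 hv.2.2.2 (Ne.symm hv.2.1)⟩
  · rw [← union_sdiff_of_subset (inter_subset_right (s₁ := o) (s₂ := o')), ← ht]
    simp only [disjoint_union_left, disjoint_union_right]
    have ht0 : t ∈ sextetOf t := mem_insert_self _ _
    exact ⟨⟨sextet_disjoint hS hu.2.2.2 ht0 hu.2.2.1,
      sextet_disjoint hS hv.2.2.2 ht0 hv.2.2.1⟩,
      sextet_disjoint hS hu.2.2.2 h2 hu.1,
      sextet_disjoint hS hv.2.2.2 h2 hv.1⟩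

theorem exists_step {o o' : Finset GolayPt} (ho : o ∈ octads) (ho' : o' ∈ octads)
    (h2 : (o ∩ o').card = 2) : ∃ z ∈ octads, Disjoint o z ∧ (z ∩ o').card = 4 := by
  classical
  obtain ⟨z, hz, hd⟩ : ∃ z ∈ octads, Disjoint o z := by
    have h := inter_card_count octads_steiner ho
      (fun T hT => inter24 card_golayPt octads_steiner ho hT) 0
    obtain ⟨z, hz⟩ := card_pos.1 (show 0 < ((blocks octads).filter fun c => (c ∩ o).card = 0).card by
      rw [h]; decide)
    rw [mem_filter, mem_blocks, card_eq_zero, ← disjoint_iff_inter_eq_empty] at hz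
    exact ⟨z, hz.1, hz.2.symm⟩
  have hy := third_octad ho hz hd
  have hc : (o' ∩ o).card + (o' ∩ z).card + (o' ∩ (o ∪ z)ᶜ).card = 8 := by
    rw [← card_union_of_disjoint (disjoint_left.2 fun p hp hq =>
        disjoint_left.1 hd (mem_inter.1 hp).2 (mem_inter.1 hq).2), ← card_union_of_disjoint
      (disjoint_left.2 fun p hp hq => ?_), ← ho'.2]
    · congr 1
      ext p
      simp only [mem_union, mem_inter, mem_compl]
      tauto
    · simp only [mem_union, mem_inter, mem_compl] at hp hq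
      tauto
  rw [inter_comm o' o, h2] at hc
  by_cases hzo : z = o'
  · rw [hzo] at hd
    rw [disjoint_iff_inter_eq_empty] at hd
    rw [hd] at h2
    simp at h2
  · rcases octad_inter ho' hz (Ne.symm hzo) with h | h | h
    · exfalso
      by_cases hyo : (o ∪ z)ᶜ = o'
      · rw [← hyo] at h2
        have hd' : o ∩ (o ∪ z)ᶜ = ∅ := by
          ext p; simp +contextual
        rw [hd'] at h2
        simp at h2
      · rcases octad_inter ho' hy (Ne.symm hyo) with h' | h' | h' <;> omega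
    · refine ⟨(o ∪ z)ᶜ, hy, ?_, by rw [inter_comm]; omega⟩
      exact disjoint_left.2 fun p hp hq => by simp [hp] at hq
    · exact ⟨z, hz, hd, by rw [inter_comm]; exact h⟩

open SimpleGraph in
theorem dist_cases {o o' : Finset GolayPt} (ho : o ∈ octads) (ho' : o' ∈ octads) (hne : o ≠ o') :
    (blockGraph octads).Reachable ⟨o, ho⟩ ⟨o', ho'⟩ ∧
    (((o ∩ o').card = 0 ∧ (blockGraph octads).dist ⟨o, ho⟩ ⟨o', ho'⟩ = 1) ∨
     ((o ∩ o').card = 4 ∧ (blockGraph octads).dist ⟨o, ho⟩ ⟨o', ho'⟩ = 2) ∨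
     ((o ∩ o').card = 2 ∧ (blockGraph octads).dist ⟨o, ho⟩ ⟨o', ho'⟩ = 3)) := by
  set G := blockGraph octads
  have hne' : (⟨o, ho⟩ : octads) ≠ ⟨o', ho'⟩ := fun e => hne (congrArg Subtype.val e)
  rcases octad_inter ho ho' hne with h | h | h
  · have ha : G.Adj ⟨o, ho⟩ ⟨o', ho'⟩ :=
      adj_iff.2 (disjoint_iff_inter_eq_empty.2 (card_eq_zero.1 h))
    exact ⟨ha.reachable, Or.inl ⟨h, dist_eq_one_iff_adj.2 ha⟩⟩
  · obtain ⟨z, hz, hd, h4⟩ := exists_step ho ho' h
    obtain ⟨x, hx, hd1, hd2⟩ := exists_common hz ho' h4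
    let w : G.Walk ⟨o, ho⟩ ⟨o', ho'⟩ := .cons (v := ⟨z, hz⟩) (adj_iff.2 hd)
      (.cons (v := ⟨x, hx⟩) (adj_iff.2 hd1) (.cons (adj_iff.2 hd2) .nil))
    have hle : G.dist ⟨o, ho⟩ ⟨o', ho'⟩ ≤ 3 := dist_le w
    have hr : G.Reachable ⟨o, ho⟩ ⟨o', ho'⟩ := w.reachable
    have h0 := hr.pos_dist_of_ne hne'
    have h1 : G.dist ⟨o, ho⟩ ⟨o', ho'⟩ ≠ 1 := fun e => by
      have := disjoint_iff_inter_eq_empty.1 (adj_iff.1 (dist_eq_one_iff_adj.1 e))
      simp [this] at h
    have h2 : G.dist ⟨o, ho⟩ ⟨o', ho'⟩ ≠ 2 := fun e => by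
      obtain ⟨p, hp⟩ := hr.exists_walk_length_eq_dist
      rw [e] at hp
      match p, hp with
      | .cons ha (.cons hb .nil), _ =>
        exact not_both ho ho' (Subtype.coe_prop _) h (adj_iff.1 ha) (adj_iff.1 hb)
    exact ⟨hr, Or.inr (Or.inr ⟨h, by omega⟩)⟩
  · obtain ⟨x, hx, hd1, hd2⟩ := exists_common ho ho' h
    let w : G.Walk ⟨o, ho⟩ ⟨o', ho'⟩ := .cons (v := ⟨x, hx⟩) (adj_iff.2 hd1) (.cons (adj_iff.2 hd2) .nil)
    have hle : G.dist ⟨o, ho⟩ ⟨o', ho'⟩ ≤ 2 := dist_le w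
    have hr : G.Reachable ⟨o, ho⟩ ⟨o', ho'⟩ := w.reachable
    have h0 := hr.pos_dist_of_ne hne'
    have h1 : G.dist ⟨o, ho⟩ ⟨o', ho'⟩ ≠ 1 := fun e => by
      have := disjoint_iff_inter_eq_empty.1 (adj_iff.1 (dist_eq_one_iff_adj.1 e))
      simp [this] at h
    exact ⟨hr, Or.inr (Or.inl ⟨h, by omega⟩)⟩

end CfsgLib.ThreeTransp.OctadGraph
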