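import Cfsg.Agent.Lib.ThreeTransp.OctadGraph
import Cfsg.Agent.Lib.ThreeTransp.M24Six
import Cfsg.Agent.Lib.Sporadic.M24SextetStructure
import Cfsg.Agent.Lib.Sporadic.M24Trio

/-!
# The fifteen trios through an octad
-/

set_option autoImplicit false

namespace CfsgLib.ThreeTransp.OctadTrios

open Cfsg Finset CfsgLib.SmallGroups.GolayOctads CfsgLib.SmallGroups.Steiner
open CfsgLib.SmallGroups.M24Group CfsgLib.SmallGroups.MathieuSets CfsgLib.Sporadic.Sextets
open CfsgLib.Sporadic
open scoped Pointwise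

variable {o a : Finset GolayPt}

theorem trio_mem (ho : o ∈ octads) (ha : a ∈ octads) (hd : Disjoint o a) :
    ({o, a, (o ∪ a)ᶜ} : Finset (Finset GolayPt)) ∈ trios := by
  have hb := third_octad ho ha hd
  have hne : ∀ {x y : Finset GolayPt}, x ∈ octads → Disjoint x y → x ≠ y := by
    intro x y hx h e
    rw [← e, disjoint_self, Finset.bot_eq_empty] at h
    have := hx.2
    rw [h, card_empty] at this
    omega
  have d1 : Disjoint o (o ∪ a)ᶜ := disjoint_left.2 fun p hp hq => by simp [hp] at hq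
  have d2 : Disjoint a (o ∪ a)ᶜ := disjoint_left.2 fun p hp hq => by simp [hp] at hq
  refine ⟨?_, ?_, ?_⟩
  · exact card_eq_three.2 ⟨_, _, _, hne ho hd, hne ho d1, hne ha d2, rfl⟩
  · simp only [mem_insert, mem_singleton]
    rintro x (rfl | rfl | rfl) <;> assumption
  · simp only [mem_insert, mem_singleton]
    rintro x (rfl | rfl | rfl) y (rfl | rfl | rfl) h <;>
      first
        | exact absurd rfl h
        | assumption
        | exact hd.symm
        | exact d1.symm
        | exact d2.symm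

theorem trio_eq {T : Finset (Finset GolayPt)} (hT : T ∈ trios) (ho : o ∈ T) (ha : a ∈ T)
    (hne : o ≠ a) : T = {o, a, (o ∪ a)ᶜ} := by
  obtain ⟨h3, hoct, hdis⟩ := hT
  have hd := hdis o ho a ha hne
  have hm := trio_mem (hoct o ho) (hoct a ha) hd
  refine eq_of_subset_of_card_le (fun x hx => ?_) (by rw [hm.1, h3])
  simp only [mem_insert, mem_singleton]
  by_cases h1 : x = o
  · exact Or.inl h1
  by_cases h2 : x = a
  · exact Or.inr (Or.inl h2)
  refine Or.inr (Or.inr (eq_of_subset_of_card_le (fun p hp => ?_) ?_))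
  · rw [mem_compl, mem_union]
    exact fun h => h.elim (disjoint_left.1 (hdis x hx o ho h1) hp) (disjoint_left.1 (hdis x hx a ha h2) hp)
  · rw [(hoct x hx).2, (third_octad (hoct o ho) (hoct a ha) hd).2]

theorem exists_other {T : Finset (Finset GolayPt)} (hT : T ∈ trios) (ho : o ∈ T) :
    ∃ a ∈ octads, Disjoint o a ∧ T = {o, a, (o ∪ a)ᶜ} := by
  obtain ⟨a, ha⟩ := card_pos.1 (show 0 < (T.erase o).card by rw [card_erase_of_mem ho, hT.1]; norm_num)
  rw [mem_erase] at ha
  exact ⟨a, hT.2.1 a ha.2, hT.2.2 o ho a ha.2 (Ne.symm ha.1), trio_eq hT ho ha.2 (Ne.symm ha.1)⟩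

theorem inter_four {T₁ T₂ : Finset (Finset GolayPt)} {c : Finset GolayPt} (ho : o ∈ octads)
    (ha : a ∈ octads) (hc : c ∈ octads) (hda : Disjoint o a) (hdc : Disjoint o c)
    (h₁ : T₁ = {o, a, (o ∪ a)ᶜ}) (h₂ : T₂ = {o, c, (o ∪ c)ᶜ}) (hne : T₁ ≠ T₂) :
    (a ∩ c).card = 4 := by
  have hac : a ≠ c := fun e => hne (by rw [h₁, h₂, e])
  rcases octad_inter ha hc hac with h | h | h
  · exfalso
    refine hne (h₁.trans (trio_eq (T := T₂) (a := a) (h₂ ▸ trio_mem ho hc hdc) ?_ ?_ ?_).symm)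
    · rw [h₂]; exact mem_insert_self _ _
    · rw [h₂]
      have e : a = (o ∪ c)ᶜ := eq_of_subset_of_card_le (fun p hp => by
          rw [mem_compl, mem_union]
          exact fun hh => hh.elim (fun hpo => disjoint_left.1 hda hpo hp) fun hpc =>
            notMem_empty p (card_eq_zero.1 h ▸ mem_inter.2 ⟨hp, hpc⟩))
        (by rw [(third_octad ho hc hdc).2, ha.2])
      rw [e]; simp
    · intro e
      rw [← e, disjoint_self, Finset.bot_eq_empty] at hda
      have := ho.2
      rw [hda, card_empty] at this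
      omega
  · exact (OctadGraph.not_both ha hc ho h hda.symm hdc).elim
  · exact h

/-- The sextet attached to two crossing octads disjoint from a third. -/
theorem sextet_data {c : Finset GolayPt} (ho : o ∈ octads) (ha : a ∈ octads) (hc : c ∈ octads)
    (hda : Disjoint o a) (hdc : Disjoint o c) (h4 : (a ∩ c).card = 4) :
    ∃ S ∈ sextets, ∃ t₄ ∈ S, a ∩ c ∈ S ∧ a \ c ∈ S ∧ c \ a ∈ S ∧
      [a ∩ c, a \ c, c \ a, t₄].Nodup ∧ o = ((a ∪ c) ∪ t₄)ᶜ := by
  set t := a ∩ c with ht
  have hS := sextetOf_mem h4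
  have h1 : a \ c ∈ sextetOf t := mem_insert_of_mem ((mem_partners h4).2
    ⟨by have := card_sdiff_add_card_inter a c; rw [ha.2, ← ht, h4] at this; omega,
      disjoint_left.2 fun p hp hq => (mem_sdiff.1 hq).2 (mem_inter.1 hp).2,
      by rw [union_comm, ht, sdiff_union_inter]; exact ha⟩)
  have h2 : c \ a ∈ sextetOf t := mem_insert_of_mem ((mem_partners h4).2
    ⟨by have := card_sdiff_add_card_inter c a; rw [hc.2, inter_comm c a, ← ht, h4] at this; omega,
      disjoint_left.2 fun p hp hq => (mem_sdiff.1 hq).2 (mem_inter.1 hp).1,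
      by rw [union_comm, ht, inter_comm, sdiff_union_inter]; exact hc⟩)
  have h0 : t ∈ sextetOf t := mem_insert_self _ _
  have hne4 : ∀ {X : Finset GolayPt}, X ∈ sextetOf t → X.Nonempty := fun hX =>
    card_pos.1 (by rw [hS.2.1 _ hX]; norm_num)
  have n01 : t ≠ a \ c := fun e => by
    obtain ⟨p, hp⟩ := hne4 h0
    exact (mem_sdiff.1 (e ▸ hp)).2 (mem_inter.1 hp).2
  have n02 : t ≠ c \ a := fun e => by
    obtain ⟨p, hp⟩ := hne4 h0
    exact (mem_sdiff.1 (e ▸ hp)).2 (mem_inter.1 hp).1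
  have n12 : a \ c ≠ c \ a := fun e => by
    obtain ⟨p, hp⟩ := hne4 h1
    exact (mem_sdiff.1 (e ▸ hp)).2 (mem_sdiff.1 hp).1
  set R := ((sextetOf t).erase t).erase (a \ c) |>.erase (c \ a) with hR
  have hRcard : R.card = 3 := by
    rw [hR, card_erase_of_mem, card_erase_of_mem, card_erase_of_mem h0, hS.1]
    · exact mem_erase.2 ⟨n01.symm, h1⟩
    · exact mem_erase.2 ⟨n12.symm, mem_erase.2 ⟨n02.symm, h2⟩⟩
  have hmem : ∀ {x : Finset GolayPt}, x ∈ R → x ∈ sextetOf t ∧ x ≠ t ∧ x ≠ a \ c ∧ x ≠ c \ a := by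
    intro x hx
    simp only [hR, mem_erase] at hx
    exact ⟨hx.2.2.2, hx.2.2.1, hx.2.1, hx.1⟩
  have hdis : ∀ {x : Finset GolayPt}, x ∈ R → Disjoint x (a ∪ c) := by
    intro x hx
    obtain ⟨hxS, hxt, hxa, hxc⟩ := hmem hx
    refine disjoint_left.2 fun p hp hq => ?_
    rw [mem_union] at hq
    by_cases hpa : p ∈ a <;> by_cases hpc : p ∈ c
    · exact disjoint_left.1 (sextet_disjoint hS hxS h0 hxt) hp (mem_inter.2 ⟨hpa, hpc⟩)
    · exact disjoint_left.1 (sextet_disjoint hS hxS h1 hxa) hp (mem_sdiff.2 ⟨hpa, hpc⟩)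
    · exact disjoint_left.1 (sextet_disjoint hS hxS h2 hxc) hp (mem_sdiff.2 ⟨hpc, hpa⟩)
    · tauto
  have hpd : (R : Set (Finset GolayPt)).PairwiseDisjoint id := fun x hx y hy hxy =>
    sextet_disjoint hS (hmem hx).1 (hmem hy).1 hxy
  have hU : R.biUnion id = (a ∪ c)ᶜ := by
    refine eq_of_subset_of_card_le (fun p hp => ?_) ?_
    · obtain ⟨x, hx, hpx⟩ := mem_biUnion.1 hp
      exact mem_compl.2 fun h => disjoint_left.1 (hdis hx) hpx h
    · rw [card_biUnion hpd, sum_congr rfl (g := fun _ => 4) (f := fun x => (id x).card)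
        (fun x hx => hS.2.1 x (hmem hx).1), sum_const, hRcard, card_compl, card_golayPt]
      have := card_union_add_card_inter a c
      rw [← ht, h4, ha.2, hc.2] at this
      simp only [smul_eq_mul]
      omega
  obtain ⟨x, y, z, hxy, hxz, hyz, e⟩ := card_eq_three.1 hRcard
  have hosub : o ⊆ x ∪ y ∪ z := by
    intro p hp
    have : p ∈ R.biUnion id := by
      rw [hU, mem_compl, mem_union]
      exact fun h => h.elim (disjoint_left.1 hda hp) (disjoint_left.1 hdc hp)
    rw [e] at this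
    simpa [mem_biUnion, or_assoc] using this
  have hxR : x ∈ R := e ▸ by simp
  have hyR : y ∈ R := e ▸ by simp
  have hzR : z ∈ R := e ▸ by simp
  have dxy := hpd hxR hyR hxy
  have dxz := hpd hxR hzR hxz
  have dyz := hpd hyR hzR hyz
  simp only [Function.onFun, id] at dxy dxz dyz
  have hot : Disjoint o t := hda.mono_right inter_subset_left
  have heven : ∀ {w : Finset GolayPt}, w ∈ R → (o ∩ w).card = 0 ∨ (o ∩ w).card = 2 ∨ (o ∩ w).card = 4 := by
    intro w hw
    have e : o ∩ w = o ∩ (t ∪ w) := by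
      rw [inter_union_distrib_left, disjoint_iff_inter_eq_empty.1 hot, empty_union]
    rw [e]
    refine octad_inter ho (hS.2.2 t h0 w (hmem hw).1 (Ne.symm (hmem hw).2.1)) fun e' => ?_
    obtain ⟨p, hp⟩ := hne4 h0
    exact disjoint_left.1 hot (e' ▸ mem_union_left w hp) hp
  have hpair : ∀ {u w : Finset GolayPt}, u ∈ R → w ∈ R → u ≠ w →
      (o ∩ u).card + (o ∩ w).card ≠ 6 := by
    intro u w hu hw huw h6
    have hd' := sextet_disjoint hS (hmem hu).1 (hmem hw).1 huw
    have ho2 := hS.2.2 u (hmem hu).1 w (hmem hw).1 huw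
    have e : (o ∩ (u ∪ w)).card = 6 := by
      rw [inter_union_distrib_left, card_union_of_disjoint (hd'.mono inter_subset_right inter_subset_right), h6]
    by_cases hoe : o = u ∪ w
    · rw [← hoe, inter_self, ho.2] at e
      omega
    · rcases octad_inter ho ho2 hoe with h | h | h <;> omega
  have hsum : (o ∩ x).card + (o ∩ y).card + (o ∩ z).card = 8 := by
    rw [← ho.2, ← card_union_of_disjoint (dxy.mono inter_subset_right inter_subset_right),
      ← card_union_of_disjoint]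
    · congr 1
      rw [← inter_union_distrib_left, ← inter_union_distrib_left, inter_eq_left.2 hosub]
    · exact disjoint_union_left.2 ⟨dxz.mono inter_subset_right inter_subset_right,
        dyz.mono inter_subset_right inter_subset_right⟩
  obtain ⟨t₄, ht4R, ht4⟩ : ∃ w ∈ R, o ∩ w = ∅ := by
    by_contra hcon
    push Not at hcon
    have px := card_pos.2 (nonempty_iff_ne_empty.2 (hcon x hxR).ne_empty)
    have py := card_pos.2 (nonempty_iff_ne_empty.2 (hcon y hyR).ne_empty)
    have pz := card_pos.2 (nonempty_iff_ne_empty.2 (hcon z hzR).ne_empty)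
    have := hpair hxR hyR hxy
    have := hpair hxR hzR hxz
    have := hpair hyR hzR hyz
    rcases heven hxR with h | h | h <;> rcases heven hyR with h' | h' | h' <;>
      rcases heven hzR with h'' | h'' | h'' <;> omega
  obtain ⟨h4S, h4t, h4a, h4c⟩ := hmem ht4R
  refine ⟨sextetOf t, hS, t₄, h4S, h0, h1, h2, ?_, ?_⟩
  · simp [n01, n02, n12, Ne.symm h4t, Ne.symm h4a, Ne.symm h4c]
  · refine eq_of_subset_of_card_le (fun p hp => ?_) ?_
    · rw [mem_compl, mem_union, mem_union]
      rintro ((h | h) | h)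
      · exact disjoint_left.1 hda hp h
      · exact disjoint_left.1 hdc hp h
      · exact notMem_empty p (ht4 ▸ mem_inter.2 ⟨hp, h⟩)
    · rw [card_compl, card_union_of_disjoint (hdis ht4R).symm, hS.2.1 _ h4S, card_golayPt, ho.2]
      have := card_union_add_card_inter a c
      rw [← ht, h4, ha.2, hc.2] at this
      omega

theorem exists_sextet_map {S S' : Finset (Finset GolayPt)} (hS : S ∈ sextets) (hS' : S' ∈ sextets) :
    ∃ g : M24, g • S = S' := by
  obtain ⟨a, ha⟩ := M24Sextet.exists_to_base hS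
  obtain ⟨b, hb⟩ := M24Sextet.exists_to_base hS'
  exact ⟨b⁻¹ * a, by rw [mul_smul, ha, ← hb, inv_smul_smul]⟩

/-- Two pairs of trios through an octad. -/
theorem exists_pair_map (ho : o ∈ octads) {T₁ T₂ T₁' T₂' : Finset (Finset GolayPt)}
    (h₁ : T₁ ∈ trios) (h₂ : T₂ ∈ trios) (h₁' : T₁' ∈ trios) (h₂' : T₂' ∈ trios) (o₁ : o ∈ T₁)
    (o₂ : o ∈ T₂) (o₁' : o ∈ T₁') (o₂' : o ∈ T₂') (hne : T₁ ≠ T₂) (hne' : T₁' ≠ T₂') :
    ∃ g ∈ M24, g • o = o ∧ g • T₁ = T₁' ∧ g • T₂ = T₂' := by
  obtain ⟨a, ha, hda, e₁⟩ := exists_other h₁ o₁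
  obtain ⟨c, hc, hdc, e₂⟩ := exists_other h₂ o₂
  obtain ⟨a', ha', hda', e₁'⟩ := exists_other h₁' o₁'
  obtain ⟨c', hc', hdc', e₂'⟩ := exists_other h₂' o₂'
  obtain ⟨S, hS, t₄, t4S, tS, taS, tcS, hnd, hoS⟩ :=
    sextet_data ho ha hc hda hdc (inter_four ho ha hc hda hdc e₁ e₂ hne)
  obtain ⟨S', hS', t₄', t4S', tS', taS', tcS', hnd', hoS'⟩ :=
    sextet_data ho ha' hc' hda' hdc' (inter_four ho ha' hc' hda' hdc' e₁' e₂' hne')
  obtain ⟨h, hh⟩ := exists_sextet_map hS hS'
  have hmap : ∀ {w}, w ∈ S → h • w ∈ S' := fun hw => hh ▸ smul_mem_smul_finset hw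
  let x : Fin 4 ↪ ↥S' := ⟨![⟨_, hmap tS⟩, ⟨_, hmap taS⟩, ⟨_, hmap tcS⟩, ⟨_, hmap t4S⟩], fun i j e => by
    simp only [List.nodup_cons, List.mem_cons, List.not_mem_nil, or_false, not_or,
      List.nodup_nil, and_true, not_false_eq_true] at hnd
    fin_cases i <;> fin_cases j <;> simp_all [Subtype.ext_iff, eq_comm]⟩
  let y : Fin 4 ↪ ↥S' := ⟨![⟨_, tS'⟩, ⟨_, taS'⟩, ⟨_, tcS'⟩, ⟨_, t4S'⟩], fun i j e => by
    simp only [List.nodup_cons, List.mem_cons, List.not_mem_nil, or_false, not_or,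
      List.nodup_nil, and_true, not_false_eq_true] at hnd'
    fin_cases i <;> fin_cases j <;> simp_all [Subtype.ext_iff, eq_comm]⟩
  obtain ⟨e, he⟩ := (Equiv.Perm.isMultiplyPretransitive ↥S' 4).exists_smul_eq x y
  obtain ⟨k, hk⟩ := M24SextetStructure.surjective hS' e
  have hkt : ∀ i, ((k : M24) : Equiv.Perm GolayPt) • ((x i : ↥S') : Finset GolayPt) = (y i : ↥S') := by
    intro i
    rw [← M24SextetStructure.tetPerm_apply, hk, ← he]
    rfl
  set g : Equiv.Perm GolayPt := ((k : M24) : Equiv.Perm GolayPt) * (h : Equiv.Perm GolayPt) with hg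
  have g0 : g • (a ∩ c) = a' ∩ c' := by rw [hg, mul_smul]; exact hkt 0
  have g1 : g • (a \ c) = a' \ c' := by rw [hg, mul_smul]; exact hkt 1
  have g2 : g • (c \ a) = c' \ a' := by rw [hg, mul_smul]; exact hkt 2
  have g3 : g • t₄ = t₄' := by rw [hg, mul_smul]; exact hkt 3
  have ga : g • a = a' := by
    rw [← sdiff_union_inter a c, smul_finset_union, g1, g0, sdiff_union_inter]
  have gc : g • c = c' := by
    rw [← sdiff_union_inter c a, smul_finset_union, g2, inter_comm c a, g0, inter_comm a' c',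
      sdiff_union_inter]
  have gcompl : ∀ X : Finset GolayPt, g • Xᶜ = (g • X)ᶜ := fun X => by
    ext p
    rw [← inv_smul_mem_iff, mem_compl, mem_compl, ← inv_smul_mem_iff]
  have go : g • o = o := by
    conv_lhs => rw [hoS]
    rw [gcompl, smul_finset_union, smul_finset_union, ga, gc, g3, ← hoS']
  refine ⟨g, mul_mem (k : M24).2 h.2, go, ?_, ?_⟩
  · rw [e₁, e₁', smul_finset_insert, smul_finset_insert, smul_finset_singleton, gcompl,
      smul_finset_union, go, ga]
  · rw [e₂, e₂', smul_finset_insert, smul_finset_insert, smul_finset_singleton, gcompl,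
      smul_finset_union, go, gc]

/-- The trios through an octad. -/
noncomputable def through (o : Finset GolayPt) : Finset (Finset (Finset GolayPt)) := by
  classical exact Finset.univ.filter fun T => T ∈ trios ∧ o ∈ T

theorem mem_through {T : Finset (Finset GolayPt)} : T ∈ through o ↔ T ∈ trios ∧ o ∈ T := by
  simp [through]

theorem card_through (ho : o ∈ octads) : (through o).card = 15 := by
  classical
  set D := (blocks octads).filter fun z => (z ∩ o).card = 0 with hD
  have h30 : D.card = 30 := by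
    rw [hD, inter_card_count octads_steiner ho (fun T hT => inter24 card_golayPt octads_steiner ho hT) 0]
    rfl
  have hmD : ∀ z, z ∈ D ↔ z ∈ octads ∧ Disjoint o z := fun z => by
    rw [hD, mem_filter, mem_blocks, card_eq_zero, disjoint_iff_inter_eq_empty, inter_comm]
  have hne : ∀ {z}, z ∈ D → o ≠ z := fun hz e => by
    have h := ((hmD _).1 hz).2
    rw [← e, disjoint_self, Finset.bot_eq_empty] at h
    have := ho.2
    rw [h, card_empty] at this
    omega
  have h := card_eq_sum_card_fiberwise (s := D) (t := through o)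
    (f := fun z => ({o, z, (o ∪ z)ᶜ} : Finset (Finset GolayPt))) (fun z hz => mem_through.2
      ⟨trio_mem ho ((hmD z).1 hz).1 ((hmD z).1 hz).2, mem_insert_self _ _⟩)
  have hfib : ∀ T ∈ through o, (D.filter fun z => ({o, z, (o ∪ z)ᶜ} : Finset (Finset GolayPt)) = T).card = 2 := by
    intro T hT
    rw [mem_through] at hT
    have e : (D.filter fun z => ({o, z, (o ∪ z)ᶜ} : Finset (Finset GolayPt)) = T) = T.erase o := by
      ext z
      rw [mem_filter, mem_erase]
      constructor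
      · rintro ⟨hz, rfl⟩
        exact ⟨(hne hz).symm, by simp⟩
      · rintro ⟨hzo, hz⟩
        exact ⟨(hmD z).2 ⟨hT.1.2.1 z hz, hT.1.2.2 o hT.2 z hz (Ne.symm hzo)⟩,
          (trio_eq hT.1 hT.2 hz (Ne.symm hzo)).symm⟩
    rw [e, card_erase_of_mem hT.2, hT.1.1]
  rw [sum_congr rfl hfib, sum_const, h30, smul_eq_mul] at h
  omega

theorem smul_through {g : Equiv.Perm GolayPt} (hg : g ∈ M24) (hgo : g • o = o)
    {T : Finset (Finset GolayPt)} (hT : T ∈ through o) : g • T ∈ through o := by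
  rw [mem_through] at hT ⊢
  exact ⟨M24Trio.smul_trio hg hT.1, hgo ▸ smul_mem_smul_finset hT.2⟩

theorem pointwise_fixes (ho : o ∈ octads) {g : Equiv.Perm GolayPt} (hg : g ∈ ptStab o)
    {T : Finset (Finset GolayPt)} (hT : T ∈ through o) : g • T = T := by
  classical
  set orb : Finset (Finset GolayPt) → Finset (Finset (Finset GolayPt)) :=
    fun X => (MulAction.orbit (ptStab o) X).toFinset with horb
  have hP : ∀ p ∈ ptStab o, p ∈ M24 ∧ p • o = o := fun p hp =>
    ⟨(mem_ptStab.1 hp).1, (OctadStabilizer.ptStab_le o hp).2⟩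
  have hsub : ∀ X ∈ through o, orb X ⊆ through o := by
    intro X hX Y hY
    rw [horb, Set.mem_toFinset] at hY
    obtain ⟨p, rfl⟩ := hY
    exact smul_through (hP p p.2).1 (hP p p.2).2 hX
  have hsame : ∀ X ∈ through o, (orb X).card = (orb T).card := by
    intro X hX
    by_cases hXT : X = T
    · rw [hXT]
    obtain ⟨k, hk, hko, hkT, -⟩ := exists_pair_map ho (mem_through.1 hT).1 (mem_through.1 hX).1
      (mem_through.1 hX).1 (mem_through.1 hT).1 (mem_through.1 hT).2 (mem_through.1 hX).2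
      (mem_through.1 hX).2 (mem_through.1 hT).2 (Ne.symm hXT) hXT
    have hconj : ∀ p ∈ ptStab o, ∀ u : Equiv.Perm GolayPt, u ∈ M24 → u • o = o →
        u * p * u⁻¹ ∈ ptStab o := by
      intro p hp u hu huo
      refine mem_ptStab.2 ⟨mul_mem (mul_mem hu (mem_ptStab.1 hp).1) (inv_mem hu), fun q hq => ?_⟩
      have hq' : u⁻¹ q ∈ o := by
        rw [← Equiv.Perm.smul_def, ← mem_inv_smul_finset_iff, inv_inv, huo] at *
        exact hq
      rw [Equiv.Perm.mul_apply, Equiv.Perm.mul_apply, (mem_ptStab.1 hp).2 _ hq']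
      simp
    have e : orb X = (orb T).image (k • ·) := by
      ext Y
      simp only [horb, mem_image, Set.mem_toFinset]
      constructor
      · rintro ⟨p, rfl⟩
        refine ⟨(k⁻¹ * (p : Equiv.Perm GolayPt) * k) • T, ⟨⟨_, ?_⟩, rfl⟩, ?_⟩
        · have := hconj p p.2 k⁻¹ (inv_mem hk) (inv_smul_eq_iff.2 hko.symm)
          rwa [inv_inv] at this
        · rw [mul_smul, mul_smul, smul_inv_smul, hkT]
          rfl
      · rintro ⟨-, ⟨p, rfl⟩, rfl⟩
        refine ⟨⟨k * (p : Equiv.Perm GolayPt) * k⁻¹, hconj p p.2 k hk hko⟩, ?_⟩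
        change (k * (p : Equiv.Perm GolayPt) * k⁻¹) • X = k • ((p : Equiv.Perm GolayPt) • T)
        rw [mul_smul, mul_smul, inv_smul_eq_iff.2 hkT.symm]
    rw [e, card_image_of_injective _ (MulAction.injective k)]
  have hdvd15 : (orb T).card ∣ (through o).card := by
    rw [card_eq_sum_card_fiberwise (f := orb) (t := (through o).image orb)
      (fun X hX => mem_image_of_mem _ hX)]
    refine dvd_sum fun O hO => ?_
    obtain ⟨X, hX, rfl⟩ := mem_image.1 hO
    have e : ((through o).filter fun Y => orb Y = orb X) = orb X := by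
      ext Y
      rw [mem_filter]
      constructor
      · rintro ⟨-, e⟩
        rw [← e, horb, Set.mem_toFinset]
        exact MulAction.mem_orbit_self _
      · intro hY
        refine ⟨hsub X hX hY, ?_⟩
        rw [horb, Set.mem_toFinset] at hY
        simp only [horb]
        exact Set.toFinset_inj.2 (MulAction.orbit_eq_iff.2 hY)
    rw [e, hsame X hX]
  have hdvd16 : (orb T).card ∣ 16 := by
    rw [← (ptStab_octad ho).1, horb, ← Set.ncard_eq_toFinset_card', ← MulAction.index_stabilizer]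
    exact Subgroup.index_dvd_card _
  rw [card_through ho] at hdvd15
  have h1 : (orb T).card = 1 := Nat.eq_one_of_dvd_coprimes (by norm_num : Nat.Coprime 15 16) hdvd15 hdvd16
  obtain ⟨Z, hZ⟩ := card_eq_one.1 h1
  have m1 : T ∈ orb T := by rw [horb, Set.mem_toFinset]; exact MulAction.mem_orbit_self _
  have m2 : g • T ∈ orb T := by rw [horb, Set.mem_toFinset]; exact ⟨⟨g, hg⟩, rfl⟩
  rw [hZ, mem_singleton] at m1 m2
  exact m2.trans m1.symm

theorem bipartition {g : Equiv.Perm GolayPt} (hg : g ∈ M24) (ho : o ∈ octads) (hgo : g • o = o)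
    (hfix : ∀ T ∈ trios, o ∈ T → g • T = T) {u : Finset GolayPt} (hu : u ⊆ o) (hu4 : u.card = 4) :
    g • u = u ∨ g • u = o \ u := by
  have hS := sextetOf_mem hu4
  set S := sextetOf u with hSdef
  have h0 : u ∈ S := mem_insert_self _ _
  have hv : o \ u ∈ S := mem_insert_of_mem ((mem_partners hu4).2
    ⟨by rw [card_sdiff_of_subset hu, ho.2, hu4], disjoint_sdiff,
      by rw [union_sdiff_of_subset hu]; exact ho⟩)
  have hR : ((S.erase u).erase (o \ u)).card = 4 := by
    rw [card_erase_of_mem, card_erase_of_mem h0, hS.1]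
    exact mem_erase.2 ⟨fun e => by
      obtain ⟨p, hp⟩ := card_pos.1 (show 0 < u.card by omega)
      exact (mem_sdiff.1 (e.symm ▸ hp)).2 hp, hv⟩
  obtain ⟨t₁, t₂, t₃, t₄, h12, h13, h14, h23, h24, h34, e⟩ := card_eq_four.1 hR
  have hm : ∀ {t}, t ∈ ({t₁, t₂, t₃, t₄} : Finset (Finset GolayPt)) → t ∈ S ∧ Disjoint o t := by
    intro t ht
    rw [← e] at ht
    simp only [mem_erase] at ht
    refine ⟨ht.2.2, ?_⟩
    rw [← union_sdiff_of_subset hu]
    exact disjoint_union_left.2 ⟨sextet_disjoint hS h0 ht.2.2 (Ne.symm ht.2.1),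
      sextet_disjoint hS hv ht.2.2 (Ne.symm ht.1)⟩
  obtain ⟨m1, d1⟩ := hm (t := t₁) (by simp)
  obtain ⟨m2, d2⟩ := hm (t := t₂) (by simp)
  obtain ⟨m3, d3⟩ := hm (t := t₃) (by simp)
  obtain ⟨m4, d4⟩ := hm (t := t₄) (by simp)
  have a1 := hS.2.2 _ m1 _ m2 h12
  have a2 := hS.2.2 _ m3 _ m4 h34
  have c1 := hS.2.2 _ m1 _ m3 h13
  have c2 := hS.2.2 _ m2 _ m4 h24
  have sd := fun {x y} (hx : x ∈ S) (hy : y ∈ S) (h : x ≠ y) => sextet_disjoint hS hx hy h
  have third : ∀ {p q r s : Finset GolayPt}, p ∪ q ∈ octads → r ∪ s ∈ octads → Disjoint o (p ∪ q) →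
      Disjoint o (r ∪ s) → Disjoint (p ∪ q) (r ∪ s) → (o ∪ (p ∪ q))ᶜ = r ∪ s := by
    intro p q r s h1 h2 dp dr dd
    refine (eq_of_subset_of_card_le (fun x hx => ?_) ?_).symm
    · rw [mem_compl, mem_union]
      exact fun h => h.elim (fun hh => disjoint_left.1 dr hh hx) (fun hh => disjoint_left.1 dd hh hx)
    · rw [(third_octad ho h1 dp).2, h2.2]
  have hTa := hfix _ (trio_mem ho a1 (disjoint_union_right.2 ⟨d1, d2⟩)) (mem_insert_self _ _)
  have hTc := hfix _ (trio_mem ho c1 (disjoint_union_right.2 ⟨d1, d3⟩)) (mem_insert_self _ _)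
  rw [third a1 a2 (disjoint_union_right.2 ⟨d1, d2⟩) (disjoint_union_right.2 ⟨d3, d4⟩)
    (disjoint_union_left.2 ⟨disjoint_union_right.2 ⟨sd m1 m3 h13, sd m1 m4 h14⟩,
      disjoint_union_right.2 ⟨sd m2 m3 h23, sd m2 m4 h24⟩⟩)] at hTa
  rw [third c1 c2 (disjoint_union_right.2 ⟨d1, d3⟩) (disjoint_union_right.2 ⟨d2, d4⟩)
    (disjoint_union_left.2 ⟨disjoint_union_right.2 ⟨sd m1 m2 h12, sd m1 m4 h14⟩,
      disjoint_union_right.2 ⟨sd m3 m2 h23.symm, sd m3 m4 h34⟩⟩)] at hTc
  have hoff : ∀ {X : Finset GolayPt}, Disjoint o X → X.Nonempty → g • X ≠ o := fun hd hX h => by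
    rw [← hgo, smul_left_cancel_iff] at h
    obtain ⟨p, hp⟩ := hX
    exact disjoint_left.1 hd (h ▸ hp) hp
  have hA : g • (t₁ ∪ t₂) = t₁ ∪ t₂ ∨ g • (t₁ ∪ t₂) = t₃ ∪ t₄ := by
    have h : g • (t₁ ∪ t₂) ∈ ({o, t₁ ∪ t₂, t₃ ∪ t₄} : Finset (Finset GolayPt)) :=
      hTa ▸ smul_mem_smul_finset (by simp)
    simp only [mem_insert, mem_singleton] at h
    exact h.resolve_left (hoff (disjoint_union_right.2 ⟨d1, d2⟩) (card_pos.1 (by rw [a1.2]; norm_num)))
  have hC : g • (t₁ ∪ t₃) = t₁ ∪ t₃ ∨ g • (t₁ ∪ t₃) = t₂ ∪ t₄ := by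
    have h : g • (t₁ ∪ t₃) ∈ ({o, t₁ ∪ t₃, t₂ ∪ t₄} : Finset (Finset GolayPt)) :=
      hTc ▸ smul_mem_smul_finset (by simp)
    simp only [mem_insert, mem_singleton] at h
    exact h.resolve_left (hoff (disjoint_union_right.2 ⟨d1, d3⟩) (card_pos.1 (by rw [c1.2]; norm_num)))
  have hi : ∀ {x y z : Finset GolayPt}, Disjoint y z → (x ∪ y) ∩ (x ∪ z) = x := by
    intro x y z h
    rw [← union_inter_distrib_left, disjoint_iff_inter_eq_empty.1 h, union_empty]
  have hgt : g • t₁ ∈ S := by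
    have h0' : g • t₁ = g • (t₁ ∪ t₂) ∩ g • (t₁ ∪ t₃) := by
      rw [← smul_finset_inter, hi (sd m2 m3 h23)]
    rcases hA with h | h <;> rcases hC with h' | h' <;> rw [h0', h, h']
    · rw [hi (sd m2 m3 h23)]; exact m1
    · rw [union_comm t₁ t₂, hi (sd m1 m4 h14)]; exact m2
    · rw [union_comm t₁ t₃, hi (sd m4 m1 h14.symm)]; exact m3
    · rw [union_comm t₂ t₄, union_comm t₃ t₄, hi (sd m3 m2 h23.symm)]; exact m4
  have hgS : g • S = S := by
    rw [eq_sextetOf (M24Sextet.smul_sextet hg hS) (smul_mem_smul_finset m1), ← eq_sextetOf hS hgt]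
  have hgu : g • u ∈ S := by
    have := smul_mem_smul_finset (a := g) h0
    rwa [hgS] at this
  have hsub : g • u ⊆ o := hgo ▸ smul_finset_subset_smul_finset hu
  by_cases h : g • u = u
  · exact Or.inl h
  refine Or.inr (eq_of_subset_of_card_le (fun p hp => mem_sdiff.2 ⟨hsub hp, fun hpu => ?_⟩) ?_)
  · exact disjoint_left.1 (sd hgu h0 h) hp hpu
  · rw [card_sdiff_of_subset hu, ho.2, hu4, card_smul_finset, hu4]

theorem fixes_pointwise {g : Equiv.Perm GolayPt} (hg : g ∈ M24) (ho : o ∈ octads) (hgo : g • o = o)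
    (hfix : ∀ T ∈ trios, o ∈ T → g • T = T) {p : GolayPt} (hp : p ∈ o) : g p = p := by
  by_contra hne
  have hq : g p ∈ o := (OctadStabilizer.apply_mem_iff hgo p).2 hp
  obtain ⟨x, hx, hxm⟩ := CfsgLib.SmallGroups.Mathieu.exists_five (S := (o.erase p).erase (g p)) (by
    rw [card_erase_of_mem (mem_erase.2 ⟨hne, hq⟩), card_erase_of_mem hp, ho.2]; norm_num)
  simp only [mem_erase] at hxm
  have key : ∀ i : Fin 5, (i : ℕ) ≥ 2 →
      ({p, x 0, x 1, x i} : Finset GolayPt).card = 4 ∧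
      g • ({p, x 0, x 1, x i} : Finset GolayPt) = o \ {p, x 0, x 1, x i} := by
    intro i hi
    have h01 : x 0 ≠ x 1 := hx.ne (by decide)
    have h0i : x 0 ≠ x i := hx.ne (by intro e; rw [← e] at hi; simp at hi)
    have h1i : x 1 ≠ x i := hx.ne (by intro e; rw [← e] at hi; simp at hi)
    have hu4 : ({p, x 0, x 1, x i} : Finset GolayPt).card = 4 :=
      card_eq_four.2 ⟨_, _, _, _, (hxm 0).2.1.symm, (hxm 1).2.1.symm, (hxm i).2.1.symm, h01, h0i, h1i, rfl⟩
    have hsub : ({p, x 0, x 1, x i} : Finset GolayPt) ⊆ o := by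
      simp only [insert_subset_iff, singleton_subset_iff]
      exact ⟨hp, (hxm 0).2.2, (hxm 1).2.2, (hxm i).2.2⟩
    refine ⟨hu4, (bipartition hg ho hgo hfix hsub hu4).resolve_left fun h => ?_⟩
    have := smul_mem_smul_finset (a := g) (mem_insert_self p {x 0, x 1, x i})
    rw [h, Equiv.Perm.smul_def] at this
    simp only [mem_insert, mem_singleton] at this
    rcases this with e | e | e | e
    · exact hne e
    · exact (hxm 0).1 e.symm
    · exact (hxm 1).1 e.symm
    · exact (hxm i).1 e.symm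
  have eq3 : ∀ i j : Fin 5, (i : ℕ) ≥ 2 → (j : ℕ) ≥ 2 → i ≠ j →
      g • ({p, x 0, x 1} : Finset GolayPt) = o \ {p, x 0, x 1, x i, x j} := by
    intro i j hi hj hij
    have e : ({p, x 0, x 1} : Finset GolayPt) =
        ({p, x 0, x 1, x i} : Finset GolayPt) ∩ {p, x 0, x 1, x j} := by
      ext y
      simp only [mem_inter, mem_insert, mem_singleton]
      have : x i ≠ x j := hx.ne hij
      constructor
      · tauto
      · rintro ⟨h | h | h | h, h' | h' | h' | h'⟩ <;> first | tauto | exact absurd (h.symm.trans h') this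
    rw [e, smul_finset_inter, (key i hi).2, (key j hj).2]
    ext y
    simp only [mem_inter, mem_sdiff, mem_insert, mem_singleton]
    tauto
  have h3 : x 3 ∈ g • ({p, x 0, x 1} : Finset GolayPt) := by
    rw [eq3 2 4 (by decide) (by decide) (by decide), mem_sdiff]
    refine ⟨(hxm 3).2.2, ?_⟩
    simp only [mem_insert, mem_singleton]
    rintro (e | e | e | e | e)
    · exact (hxm 3).2.1 e
    all_goals exact absurd (hx e) (by decide)
  rw [eq3 2 3 (by decide) (by decide) (by decide), mem_sdiff] at h3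
  exact h3.2 (by simp)

end CfsgLib.ThreeTransp.OctadTrios
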