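import Cfsg.Agent.Lib.ThreeTransp.OmegaSevenData

/-!
# The candidates at level 0, part 1
-/

set_option autoImplicit false
set_option maxRecDepth 20000
set_option maxHeartbeats 2000000

namespace CfsgLib.ThreeTransp.OmegaSeven

/-- Certificates at level 0, part 1. -/
def cand0_1 : List (Option (List ℕ × ℕ)) := [none,
  none,
  some ([577,4616,36,608,1632,8200],3),
  some ([577,18,1060,608,2050,8744],3),
  some ([10400,1,568,13080,11810,4372,8744,8200],5),
  none,
  none,
  some ([325,2336,18,2146,2114,8744],3),
  some ([65,114,2054,880,72,2050],3),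
  some ([1664,1,6464,18,4616,36,6158,72,8472,1632],4),
  none,
  none,
  some ([396,1,2336,18,10274,12564,816,4100],3),
  some ([325,4114,8468,12564,2050,1632],3),
  some ([1158,1,6400,18,1328,2058],4),
  none,
  none,
  some ([136,1,3360,18,8204,13588,2050,8200],3),
  some ([136,1,1042,1060,7174,4372],3),
  some ([8352,1],6),
  none,
  none,
  some ([136,1,2336,18,10274,12564,816,4100],3),
  some ([136,1,4114,2082,552,8744],3),
  some ([1,4672,36,552,8744,8200],4),
  none,
  none,
  some ([9344,5632,36,552,4100,8200],3),
  some ([65,8242,2054,6214,72,2050],3),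
  some ([1025,1046,1392,36,12564,1632],5),
  none,
  none,
  some ([65,4616,36,608,1632,8200],3),
  some ([9344,18,608,2050,1632,8200],3),
  some ([1025,2824,18,2146,11810,4372,4100,8200],5),
  none,
  none,
  some ([9344,6400,18,304,2050,8200],3),
  some ([65,50,10246,552,8472,1632],3),
  some ([1,100,608,8200],6),
  none,
  none,
  some ([65,6400,18,304,72,2050],3),
  some ([904,1,50,10246,4164,816],3),
  some ([1152,1,18,584,608,2050,4100,8200],6),
  none,
  none,
  some ([136,1],3),
  some ([9350,4178,276,10786,2050,8200],3),
  some ([224,1,1076,18,9220,36,9008,4372],5),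
  none,
  none,
  some ([325,2336,18,4680,15366,2050,8744,8200],3),
  some ([65,4114,3106,280,2050,8200],3),
  some ([5,530,4680,880,72,1360,1632,8200],4),
  none,
  none,
  some ([65,14592,18,368,72,2050],3),
  some ([9344,4114,2090,336,1360,8200],3),
  some ([1664,1,18,8232,608,2050,8744,8200],4),
  none,
  none,
  some ([579,2400,18,312,15366,8472,4100,8200],3),
  some ([136,1,50,368,2058,1360],3),
  some ([160,1,8204,4164,4100,8200],6),
  none,
  none,
  some ([136,1,2336,18,276,2058,4372,1632],3),
  some ([9604,4114,1392,36,13588,8472],3),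
  some ([1,12800,36,4108,1632,8200],4),
  none,
  none,
  some ([9344,36,608,8744],3),
  some ([65,8242,2118,2658,72,4100],3),
  some ([97,568,8228,15366,4372,1632],5),
  none,
  none,
  some ([65,6464,18,304,6214,72,4372,4100],3),
  some ([648,1,18,1060,4108,2050],3),
  some ([1,568,8228,15366,4372,1632],5),
  none,
  none,
  some ([904,1,6400,18,368,9008,4372,4100],3),
  some ([65,50,2054,72,4372,4100],3),
  some ([1,36,4100,8200],6),
  none,
  none,
  some ([65,6400,18,368,6214,72,4372,4100],3),
  some ([9344,50,2054,4372,4100,8200],3),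
  some ([9220,36,608,8200],6),
  none,
  none,
  some ([577,8204,72,8200],3),
  some ([136,1,18,36,2050,4100],3),
  some ([6145,2824,18,8984,14342,4372,4100,8200],5),
  none,
  none,
  some ([9344,2336,18,1300,2602,72],3),
  some ([65,8210,10762,4436,72,816,4100,8200],3),
  some ([1664,1],4),
  none,
  none,
  some ([65,2336,18,284,3618,8200],3),
  some ([9344,4114,1300,4108,4372,8200],3),
  some ([640,1,18,4672,36,552,2050,1632],4),
  none,
  none,
  some ([136,1,6400,18,10246,880,72,8200],3),
  some ([9350,50,3170,36,15366,1360],3),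
  some ([13,18,8232,4108,2050,8200],6),
  none,
  none,
  some ([579,3328,18,36,1840,816,4100,8200],3),
  some ([579,26,5632,36,280,8200],3),
  some ([36,72,4100,8200],4),
  none,
  none,
  some ([648,1,12064,18,1872,824,72,1360,4100,8200],3),
  some ([9856,18,9728,4164,2050,4100],3),
  some ([7,5126,9524,9008,8472,4100],5),
  none,
  none,
  some ([9856,1120,552,4100],3),
  some ([648,1,4190,2090,880,72,1360,4100],3),
  some ([5,2824,18,8984,2114,4100],5),
  none,
  none,
  some ([325,2336,18,14346,1360,1632],3),
  some ([9858,4114,8504,36,11810,1360],3),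
  some ([640,1,36,72,4100,8200],4),
  none,
  none,
  some ([9858,2336,18,7234,11810,8472,4100,8200],3),
  some ([650,1,4114,9728,11810,8200],3),
  some ([521,18,44,608,2050,1632],4),
  none,
  none,
  some ([833,3360,18,284,5396,8200],3),
  some ([833,50,1328,3618,4372,8200],3),
  some ([160,1,100,4108,8744,8200],6),
  none,
  none,
  some ([904,1,6400,18,12568,11810,8472,8200],3),
  some ([10112,50,10282,36,10032,8472],3),
  some ([8193,72],6),
  none,
  none,
  some ([10112,6400,18,5456,10032,1360,4100,8200],3),
  some ([904,1,50,3170,36,11810,1360,4100],3),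
  some ([8320,1,6400,18,8496,14342,4372,4100],6),
  none,
  none,
  some ([577,1060,4108,8200],3),
  some ([577,5138,2082,1840,816,8200],3),
  some ([2248,1046,5968,10786,2050,4100],5),
  none,
  none,
  some ([9604,2336,18,8468,552,8472,8744,8200],3),
  some ([9604,4114,14346,11810,8472,1632],3),
  some ([1,100,608,8200],4)]

theorem cand0_1_check : checkAll 0 (repsAt 0) (((pairsAt 0).drop 160).take 160) cand0_1 = true := by
  decide +kernel

end CfsgLib.ThreeTransp.OmegaSeven
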