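import Cfsg.Agent.Lib.ThreeTransp.OmegaSevenData

/-!
# The candidates at level 0, part 7
-/

set_option autoImplicit false
set_option maxRecDepth 20000
set_option maxHeartbeats 2000000

namespace CfsgLib.ThreeTransp.OmegaSeven

/-- Certificates at level 0, part 7. -/
def cand0_7 : List (Option (List ℕ × ℕ)) := [none,
  none,
  some ([577,44,4100,8200],3),
  some ([577,18,552,2050,4100,8200],3),
  some ([176,1,5126,4680,3618,1360,4100,8200],5),
  none,
  none,
  some ([9344,2336,18,2082,4108,2050,4100,8200],3),
  some ([65,4114,2090,3618,4372,8200],3),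
  some ([1664,1,100,4108,8744,8200],4),
  none,
  none,
  some ([396,1,2336,18,9220,36,13588,2050,4100,8200],3),
  some ([650,1,4114,276,2114,816],3),
  some ([140,1,100,4108,8744,8200],4),
  none,
  none,
  some ([136,1,6400,18,304,4164,2050,4100],3),
  some ([136,1,50,8496,880,72,816,8200],3),
  some ([8352,1,104,36,552,8200],6),
  none,
  none,
  some ([9344,6400,18,312,280,8200],3),
  some ([65,50,9220,36,4436,72,1360,8744],3),
  some ([18,4616,36,4164,2050,8744],6),
  none,
  none,
  some ([65,6400,18,1328,336,8472],3),
  some ([904,1,50,2054,336,4372],3),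
  some ([76,36,4164,8200],6),
  none,
  none,
  some ([136,1,4672,36,608,4100],3),
  some ([136,1,18,4672,36,552,2050,8744],3),
  some ([12289,2824,18,2146,11810,4372,4100,8200],5),
  none,
  none,
  some ([579,2336,18,380,7174,8472,4100,8200],3),
  some ([136,1,4114,2082,72,8200],3),
  some ([9,4168,72,8744],4),
  none,
  none,
  some ([650,1,6464,18,2118,2658,72,2050,4100,8200],3),
  some ([65,18,2050,8200],3),
  some ([9,1046,584,14342,4372,8744],5),
  none,
  none,
  some ([65,10528,18,276,10786,8200],3),
  some ([9344,18,72,2050],3),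
  some ([57,30,368,14342,2050,1632],5),
  none,
  none,
  some ([9346,2400,18,8468,6214,72,2050,4100],3),
  some ([65,50,13824,13588,4372,1632],3),
  some ([18,13824,2050,1632],6),
  none,
  none,
  some ([65,6400,18,3078,4108,4372,4100,8200],3),
  some ([9344,50,4680,13588,8744,8200],3),
  some ([9248,36,4108,8200],6),
  none,
  none,
  some ([136,1,100,4108,8744,8200],3),
  some ([9604,8242,304,6214,72,816],3),
  some ([7169,1046,8984,10786,4372,8744],5),
  none,
  none,
  some ([579,2336,18,9524,1840,1360,4100,8200],3),
  some ([136,1,4114,8468,12564,2050],3),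
  some ([4161,18,13824,608,2050,4100],4),
  none,
  none,
  some ([904,1,10528,18,10274,608,2050,4100],3),
  some ([65,18,44,608,2050,8744],3),
  some ([9,1076,18,8232,7174,8472,8744,8200],5),
  none,
  none,
  some ([65,10528,18,13080,608,8472,4100,8200],3),
  some ([9344,18,1060,552,2050,8200],3),
  some ([1,6664,8228,12564,1360,1632],5),
  none,
  none,
  some ([9344,2336,18,276,72,4372],3),
  some ([65,4114,13824,15366,816,1632],3),
  some ([13,18,9220,36,4164,2050,4100,8200],4),
  none,
  none,
  some ([65,2336,18,276,4372,8200],3),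
  some ([9344,4114,4680,15366,8744,8200],3),
  some ([140,1,104,36,552,4100],4),
  none,
  none,
  some ([136,1,6400,18,2054,72,816,8200],3),
  some ([9350,50,368,6214,72,816],3),
  some ([136,1],6)]

theorem cand0_7_check : checkAll 0 (repsAt 0) (((pairsAt 0).drop 1120).take 160) cand0_7 = true := by
  decide +kernel

end CfsgLib.ThreeTransp.OmegaSeven
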