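import Cfsg.Agent.Lib.ThreeTransp.OmegaSevenData

/-!
# The candidates at level 1, part 0
-/

set_option autoImplicit false
set_option maxRecDepth 20000
set_option maxHeartbeats 2000000

namespace CfsgLib.ThreeTransp.OmegaSeven

/-- Certificates at level 1, part 0. -/
def cand1_0 : List (Option (List ℕ × ℕ)) := [some ([],4),
  some ([136,1,104,36,608,4100],0),
  some ([136,1,13824,72,1632,8200],0),
  some ([136,1],0),
  some ([1152,1,4616,36,552,4100],0),
  some ([5632,36,4108,4100],0),
  some ([136,1,1060,608,8744,8200],0),
  some ([44,608,8744,8200],0),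
  some ([1152,1,1060,4164,1632,8200],0),
  some ([1,72],2),
  some ([104,36,552,8200],0),
  some ([13824,72,1632,8200],0),
  some ([],0),
  some ([136,1,5632,36],0),
  some ([1152,1,5632,36,4108,4100],0),
  some ([8320,1],0),
  some ([1152,1,44,608,8744,8200],0),
  some ([136,1,44,72,4100,8200],0),
  some ([1,72],3),
  some ([1152,1,104,36,552,8200],0),
  some ([1152,1,13824,72,1632,8200],0),
  some ([1152,1],0),
  some ([4616,36,552,4100],0),
  some ([136,1,552,4100],0),
  some ([1152,1,36,72,4100,8200],0),
  some ([136,1,36,4164,1632,8200],0),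
  some ([1060,4164,1632,8200],0),
  some ([],3),
  none,
  none,
  some ([9,36,4100,8200],0),
  none,
  none,
  some ([9,72],0),
  none,
  none,
  some ([8320,1],1),
  none,
  none,
  some ([1029,4672,36,552,8744,8200],1),
  none,
  none,
  some ([192,1],0),
  none,
  none,
  some ([1152,1],3),
  none,
  none,
  some ([136,1],3),
  none,
  none,
  some ([200,8228,552,1632],1),
  none,
  none,
  some ([],2),
  none,
  none,
  some ([1,36,4100,8200],0),
  none,
  none,
  some ([1,72],0),
  none,
  none,
  some ([136,1],2),
  none,
  none,
  some ([1152,1],2),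
  none,
  none,
  some ([],1),
  none,
  none,
  some ([136,1],1),
  none,
  none,
  some ([1152,1],1),
  none,
  none,
  some ([8193,72],0),
  none,
  none]

theorem cand1_0_check : checkAll 1 (repsAt 1) (((pairsAt 1).drop 0).take 160) cand1_0 = true := by
  decide +kernel

end CfsgLib.ThreeTransp.OmegaSeven
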