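import Cfsg.Agent.Lib.ThreeTransp.OmegaSevenData

/-!
# The candidates at level 2, part 0
-/

set_option autoImplicit false
set_option maxRecDepth 20000
set_option maxHeartbeats 2000000

namespace CfsgLib.ThreeTransp.OmegaSeven

/-- Certificates at level 2, part 0. -/
def cand2_0 : List (Option (List ℕ × ℕ)) := [some ([],0),
  some ([],2),
  some ([],1)]

theorem cand2_0_check : checkAll 2 (repsAt 2) (((pairsAt 2).drop 0).take 160) cand2_0 = true := by
  decide +kernel

end CfsgLib.ThreeTransp.OmegaSeven
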