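import Cfsg.Agent.Lib.ThreeTransp.OmegaSevenData

/-!
# The checked tables of moves
-/

set_option autoImplicit false
set_option maxRecDepth 100000
set_option maxHeartbeats 2000000

namespace CfsgLib.ThreeTransp.OmegaSeven

theorem trans_check : ∀ k < 3, transCheck k (transAt k) = true := by decide +kernel

theorem sieg_check : ∀ k < 3, siegCheck k (siegAt k) = true := by decide +kernel

theorem coord_check : ∀ k < 3, coordCheck k = true := by decide +kernel

theorem reps_check : ∀ k < 4, (repsAt k).all (fun r => omL r && fixesN k r) = true := by decide +kernel

theorem reps_one : ∀ k < 4, (repsAt k).any (fun r => sameL r []) = true := by decide +kernel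

theorem top_check : allC.all (fun c => !(perpN 3 c && qN c == 1) || c == 1 || c == negN 1) = true := by
  decide +kernel

end CfsgLib.ThreeTransp.OmegaSeven
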