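import Cfsg.Agent.Lib.ThreeTransp.OmegaSevenCand0P0
import Cfsg.Agent.Lib.ThreeTransp.OmegaSevenCand0P1
import Cfsg.Agent.Lib.ThreeTransp.OmegaSevenCand0P2
import Cfsg.Agent.Lib.ThreeTransp.OmegaSevenCand0P3
import Cfsg.Agent.Lib.ThreeTransp.OmegaSevenCand0P4
import Cfsg.Agent.Lib.ThreeTransp.OmegaSevenCand0P5
import Cfsg.Agent.Lib.ThreeTransp.OmegaSevenCand0P6
import Cfsg.Agent.Lib.ThreeTransp.OmegaSevenCand0P7
import Cfsg.Agent.Lib.ThreeTransp.OmegaSevenCand1P0
import Cfsg.Agent.Lib.ThreeTransp.OmegaSevenCand2P0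
import Cfsg.Agent.Lib.ThreeTransp.OmegaSevenTables

/-!
# All candidates of elements of order three are certified
-/

set_option autoImplicit false
set_option maxRecDepth 20000

namespace CfsgLib.ThreeTransp.OmegaSeven

theorem mem_chunk {α : Type*} {l : List α} {n w : ℕ} (h : l.length ≤ n * w) {p : α} (hp : p ∈ l) :
    ∃ b < n, p ∈ (l.drop (b * w)).take w := by
  obtain ⟨i, hi, rfl⟩ := List.mem_iff_getElem.1 hp
  have hw : 0 < w := Nat.pos_of_ne_zero fun h0 => by rw [h0] at h; simp at h; simp [h] at hi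
  have e := Nat.div_add_mod' i w
  have hm := Nat.mod_lt i hw
  refine ⟨i / w, (Nat.div_lt_iff_lt_mul hw).2 (lt_of_lt_of_le hi h), List.mem_iff_getElem.2 ⟨i % w, ?_, ?_⟩⟩
  · simp only [List.length_take, List.length_drop]; omega
  · simp only [List.getElem_take, List.getElem_drop, e]

theorem pairs_length : (pairsAt 0).length ≤ 8 * 160 ∧ (pairsAt 1).length ≤ 1 * 160 ∧
    (pairsAt 2).length ≤ 1 * 160 := by
  decide +kernel

theorem cand_all : ∀ k < 3, ∀ p ∈ pairsAt k, ∃ c, candOK k (repsAt k) p.1 p.2 c = true := by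
  intro k hk p hp
  obtain ⟨h0, h1, h2⟩ := pairs_length
  interval_cases k
  · obtain ⟨b, hb, hpb⟩ := mem_chunk h0 hp
    interval_cases b
    · exact exists_of_checkAll cand0_0_check p hpb
    · exact exists_of_checkAll cand0_1_check p hpb
    · exact exists_of_checkAll cand0_2_check p hpb
    · exact exists_of_checkAll cand0_3_check p hpb
    · exact exists_of_checkAll cand0_4_check p hpb
    · exact exists_of_checkAll cand0_5_check p hpb
    · exact exists_of_checkAll cand0_6_check p hpb
    · exact exists_of_checkAll cand0_7_check p hpb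
  · obtain ⟨b, hb, hpb⟩ := mem_chunk h1 hp
    interval_cases b
    exact exists_of_checkAll cand1_0_check p hpb
  · obtain ⟨b, hb, hpb⟩ := mem_chunk h2 hp
    interval_cases b
    exact exists_of_checkAll cand2_0_check p hpb

end CfsgLib.ThreeTransp.OmegaSeven
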