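import Cfsg.Agent.Lib.ThreeTransp.OmegaSevenOps

/-!
# The certificate checks for the elements of order three of the seven-dimensional orthogonal group
-/

set_option autoImplicit false

namespace CfsgLib.ThreeTransp.OmegaSeven

/-- The vectors fixed at level `k`. -/
def fixedN (k : ℕ) : List ℕ := [2, 4, 8].take k ++ [16, 32, 64].take k

/-- The singular vector of the next level. -/
def xN (k : ℕ) : ℕ := 2 ^ (k + 1)

/-- Its partner. -/
def yN (k : ℕ) : ℕ := 2 ^ (k + 4)

/-- Fixing the vectors of level `k`. -/
def fixesN (k : ℕ) (L : List ℕ) : Bool := (fixedN k).all fun b => evN L b == b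

/-- Orthogonal to the vectors of level `k`. -/
def perpN (k c : ℕ) : Bool := (fixedN k).all fun b => polN b c == 0

/-- The singular vectors to be moved at level `k`. -/
def singCond (k c : ℕ) : Bool := !(c == 0) && qN c == 0 && perpN k c

/-- The possible images of the partner at level `k`. -/
def siegCond (k c : ℕ) : Bool := qN c == 0 && polN (xN k) c == 1 && perpN k c

/-- An entry of a table of moves. -/
def transOK (k : ℕ) (p : ℕ × List ℕ) : Bool :=
  omL p.2 && fixesN k p.2 && (let w := evN p.2 p.1; w == xN k || w == negN (xN k))

/-- A table of moves. -/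
def transCheck (k : ℕ) (l : List (ℕ × List ℕ)) : Bool :=
  allC.filter (singCond k) == l.map Prod.fst && l.all (transOK k)

/-- The coordinate vectors of the next level. -/
def goodBase (k : ℕ) : List ℕ := baseN.filter fun b => !(fixedN (k + 1)).contains b

/-- An entry of a table of Siegel elements. -/
def siegOK (k : ℕ) (p : ℕ × List ℕ) : Bool :=
  omL p.2 && fixesN k p.2 && evN p.2 (xN k) == xN k && evN p.2 (yN k) == p.1 &&
    (goodBase k).all fun b =>
      let w := evN p.2 b
      w == b || w == addN b (xN k) || w == addN b (negN (xN k))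

/-- A table of Siegel elements. -/
def siegCheck (k : ℕ) (l : List (ℕ × List ℕ)) : Bool :=
  allC.filter (siegCond k) == l.map Prod.fst && l.all (siegOK k)

/-- Vectors orthogonal to the vectors of the next level have no coordinates there. -/
def coordCheck (k : ℕ) : Bool :=
  allC.all fun c => !(perpN (k + 1) c) ||
    ((List.range 7).all fun j =>
      (goodBase k).contains (2 ^ j) || (!c.testBit j && !c.testBit (j + 7)))

/-- A certificate for a candidate. -/
def candOK (k : ℕ) (R : List (List ℕ)) (T r : List ℕ) : Option (List ℕ × ℕ) → Bool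
  | none => let c := T ++ r; !(sameL (c ++ c ++ c) [])
  | some (M, i) =>
    omL M && fixesN k M && decide (i < R.length) && sameL (M ++ T ++ r ++ M.reverse) (R.getD i [])

/-- Certificates for a list of candidates. -/
def checkAll (k : ℕ) (R : List (List ℕ)) :
    List (List ℕ × List ℕ) → List (Option (List ℕ × ℕ)) → Bool
  | [], [] => true
  | p :: ps, c :: cs => candOK k R p.1 p.2 c && checkAll k R ps cs
  | _, _ => false

theorem exists_of_checkAll {k : ℕ} {R : List (List ℕ)} :
    ∀ {ps : List (List ℕ × List ℕ)} {cs : List (Option (List ℕ × ℕ))}, checkAll k R ps cs = true →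
      ∀ p ∈ ps, ∃ c, candOK k R p.1 p.2 c = true
  | [], _, _ => fun p hp => by simp at hp
  | q :: ps, [], h => by simp [checkAll] at h
  | q :: ps, c :: cs, h => by
    simp only [checkAll, Bool.and_eq_true] at h
    intro p hp
    rcases List.mem_cons.1 hp with rfl | hp
    · exact ⟨c, h.1⟩
    · exact exists_of_checkAll h.2 p hp

theorem exists_of_take_drop {k : ℕ} {R : List (List ℕ)} {ps : List (List ℕ × List ℕ)} (n : ℕ)
    (h1 : ∀ p ∈ ps.take n, ∃ c, candOK k R p.1 p.2 c = true)
    (h2 : ∀ p ∈ ps.drop n, ∃ c, candOK k R p.1 p.2 c = true) :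
    ∀ p ∈ ps, ∃ c, candOK k R p.1 p.2 c = true := fun p hp => by
  rw [← List.take_append_drop n ps, List.mem_append] at hp
  exact hp.elim (h1 p) (h2 p)

/-- A list of nine coefficients against a list of codes. -/
def combN : List ℕ → List ℕ → ℕ
  | c :: cs, v :: vs => addN (match c with | 1 => v | 2 => negN v | _ => 0) (combN cs vs)
  | _, _ => 0

/-- The image of a vector under the difference with the identity. -/
def subOne (cols : List ℕ) (v : ℕ) : ℕ := addN (mv cols v) (negN v)

/-- The closure of a list of vectors under the difference with the identity. -/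
def closeN (cols : List ℕ) (bs : List ℕ) : List ℕ :=
  bs.flatMap fun b => [b, subOne cols b, subOne cols (subOne cols b)]

/-- Invariants of a vector relative to an element and some vectors fixed by it. -/
def profN (cols : List ℕ) (clo : List ℕ) (v : ℕ) : List ℕ :=
  let n1 := subOne cols v
  let n2 := subOne cols n1
  [qN v, qN n1, polN v n1, if n1 == 0 then 0 else 1, if n2 == 0 then 0 else 1] ++
    clo.map fun u => polN v u

/-- An entry of a table of centralising elements. -/
def siftOK (r : List ℕ) (prev : List ℕ) (b : ℕ) (p : ℕ × List ℕ) : Bool :=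
  okL p.2 && par1 p.2 && (p.2.all fun a => !(qN a == 0)) && sameL (p.2 ++ r) (r ++ p.2) &&
    (prev.all fun u => evN p.2 u == u) && evN p.2 b == p.1

/-- A table of centralising elements. -/
def siftCheck (r : List ℕ) (prev : List ℕ) (b : ℕ) (l : List (ℕ × List ℕ)) : Bool :=
  let cols := colsOf r
  let clo := closeN cols prev
  let t := profN cols clo b
  allC.filter (fun v => profN cols clo v == t) == l.map Prod.fst && l.all (siftOK r prev b)

/-- The number of fixed vectors of a given value. -/
def fixCount (r : List ℕ) (c : ℕ) : ℕ :=
  let cols := colsOf r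
  allC.countP fun v => mv cols v == v && qN v == c

end CfsgLib.ThreeTransp.OmegaSeven
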