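import Cfsg.Agent.Lib.ThreeTransp.OmegaSevenCands

/-!
# Every element of order three of the seven-dimensional orthogonal group is conjugate to a listed one

Downward induction along a chain of stabilisers of hyperbolic pairs: an element of order three fixes a
singular vector, which may be moved to the next standard one; what remains is a Siegel element times an
element of the smaller group, which is conjugated to a listed representative.
-/

set_option autoImplicit false
set_option maxRecDepth 20000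

namespace CfsgLib.ThreeTransp.OmegaSeven

open CfsgLib.Orth QuadraticMap

/-- The commutator subgroup of the orthogonal group. -/
noncomputable abbrev Om : Subgroup (orthGroup Q7) := commutator (orthGroup Q7)

theorem qN_congr {a b : W7} (h : Q7 a = Q7 b) : qN (ofVec a) = qN (ofVec b) :=
  (qN_eq_iff a (qN_lt _)).2 (h.trans (qN_ofVec b).symm)

theorem polN_congr {a b c d : W7} (h : polar Q7 a b = polar Q7 c d) :
    polN (ofVec a) (ofVec b) = polN (ofVec c) (ofVec d) :=
  (polN_eq_iff a b (Nat.mod_lt _ (by norm_num))).2 (h.trans (polN_ofVec c d).symm)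

theorem ofVec_eq_zero_iff {v : W7} : ofVec v = 0 ↔ v = 0 := by
  rw [← ofVec_zero]
  exact ofVec_injective.eq_iff

theorem el_nil : el [] = 1 := rfl

theorem orth_mul_apply (g h : orthGroup Q7) (v : W7) : (g * h).1 v = g.1 (h.1 v) := rfl

theorem orth_one_apply (v : W7) : (1 : orthGroup Q7).1 v = v := rfl

theorem inv_apply' (g : orthGroup Q7) (v : W7) : (g⁻¹).1 (g.1 v) = v := g.1.symm_apply_apply v

theorem lookup_table {cond : ℕ → Bool} {l : List (ℕ × List ℕ)}
    (h : (allC.filter cond == l.map Prod.fst) = true) (v : W7) (hv : cond (ofVec v) = true) :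
    ∃ L, (ofVec v, L) ∈ l := by
  have hm : ofVec v ∈ allC.filter cond := List.mem_filter.2 ⟨ofVec_mem_allC v, hv⟩
  rw [eq_of_beq h] at hm
  obtain ⟨⟨a, L⟩, ha, e⟩ := List.mem_map.1 hm
  exact ⟨L, by rw [← e]; exact ha⟩

theorem okA_fixed : ∀ k < 4, ∀ b ∈ fixedN k, okA b = true := by decide +kernel

theorem okA_xy : ∀ k < 3, okA (xN k) = true ∧ okA (yN k) = true := by decide +kernel

theorem fixed_succ : ∀ k < 3, (∀ b ∈ fixedN (k + 1), b ∈ fixedN k ∨ b = xN k ∨ b = yN k) ∧
    (∀ b ∈ fixedN k, b ∈ fixedN (k + 1)) ∧ xN k ∈ fixedN (k + 1) ∧ yN k ∈ fixedN (k + 1) := by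
  decide +kernel

/-- The singular vector of the next level. -/
def vx (k : ℕ) : W7 := toVec (xN k)

/-- Its partner. -/
def vy (k : ℕ) : W7 := toVec (yN k)

theorem vxy_values : ∀ k < 3, qN (xN k) = 0 ∧ qN (yN k) = 0 ∧ polN (xN k) (yN k) = 1 ∧
    polN (yN k) (xN k) = 1 ∧ perpN k (xN k) = true ∧ perpN k (yN k) = true ∧ (xN k == 0) = false := by
  decide +kernel

theorem ofVec_vx {k : ℕ} (hk : k < 3) : ofVec (vx k) = xN k := ofVec_toVec (okA_xy k hk).1

theorem ofVec_vy {k : ℕ} (hk : k < 3) : ofVec (vy k) = yN k := ofVec_toVec (okA_xy k hk).2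

theorem polar_vyx {k : ℕ} (hk : k < 3) : polar Q7 (vy k) (vx k) = 1 := by
  have h := (vxy_values k hk).2.2.2.1
  rw [← ofVec_vx hk, ← ofVec_vy hk] at h
  simpa using (polN_eq_iff _ _ (c := 1) (by norm_num)).1 h

theorem polar_vxy {k : ℕ} (hk : k < 3) : polar Q7 (vx k) (vy k) = 1 := by
  rw [polar_comm]; exact polar_vyx hk

/-- Fixing the vectors of level `k`. -/
def Fixes (k : ℕ) (g : orthGroup Q7) : Prop := ∀ b ∈ fixedN k, g.1 (toVec b) = toVec b

/-- Orthogonal to the vectors of level `k`. -/
def Perp (k : ℕ) (w : W7) : Prop := ∀ b ∈ fixedN k, polar Q7 w (toVec b) = 0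

theorem Fixes.one (k : ℕ) : Fixes k 1 := fun _ _ => rfl

theorem Fixes.mul {k : ℕ} {g h : orthGroup Q7} (hg : Fixes k g) (hh : Fixes k h) : Fixes k (g * h) :=
  fun b hb => by rw [orth_mul_apply, hh b hb, hg b hb]

theorem Fixes.inv {k : ℕ} {g : orthGroup Q7} (hg : Fixes k g) : Fixes k g⁻¹ :=
  fun b hb => by
    conv_lhs => rw [← hg b hb]
    exact inv_apply' g _

theorem Fixes.perp {k : ℕ} {g : orthGroup Q7} (hg : Fixes k g) {w : W7} (hw : Perp k w) :
    Perp k (g.1 w) := fun b hb => by
  rw [← hg b hb, polar_isom]; exact hw b hb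

theorem Fixes.step {k : ℕ} (hk : k < 3) {g : orthGroup Q7} (hg : Fixes k g) (hx : g.1 (vx k) = vx k)
    (hy : g.1 (vy k) = vy k) : Fixes (k + 1) g := fun b hb => by
  rcases (fixed_succ k hk).1 b hb with h | rfl | rfl
  exacts [hg b h, hx, hy]

theorem Fixes.weaken {k : ℕ} (hk : k < 3) {g : orthGroup Q7} (hg : Fixes (k + 1) g) :
    Fixes k g ∧ g.1 (vx k) = vx k ∧ g.1 (vy k) = vy k :=
  ⟨fun b hb => hg b ((fixed_succ k hk).2.1 b hb), hg _ (fixed_succ k hk).2.2.1,
    hg _ (fixed_succ k hk).2.2.2⟩

theorem perpN_iff {k : ℕ} (hk : k < 4) (w : W7) : perpN k (ofVec w) = true ↔ Perp k w := by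
  simp only [perpN, List.all_eq_true, beq_iff_eq, Perp]
  constructor
  · intro h b hb
    have := h b hb
    rw [← ofVec_toVec (okA_fixed k hk b hb)] at this
    rw [polar_comm]
    simpa using (polN_eq_iff _ _ (c := 0) (by norm_num)).1 this
  · intro h b hb
    rw [← ofVec_toVec (okA_fixed k hk b hb)]
    refine (polN_eq_iff _ _ (c := 0) (by norm_num)).2 ?_
    rw [polar_comm]
    simpa using h b hb

theorem fixes_el {k : ℕ} (hk : k < 4) {L : List ℕ} (hL : okL L = true) (h : fixesN k L = true) :
    Fixes k (el L) := fun b hb => ofVec_injective (by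
  simp only [fixesN, List.all_eq_true, beq_iff_eq] at h
  rw [← evN_el hL, ofVec_toVec (okA_fixed k hk b hb), h b hb])

/-- The line of the singular vector of the next level. -/
def lineX (k : ℕ) : Submodule (ZMod 3) W7 := Submodule.span (ZMod 3) {vx k}

theorem unit_cases : ∀ k < 3, ∀ j : Fin 7,
    (2 ^ j.1) ∈ fixedN (k + 1) ∨ (perpN (k + 1) (2 ^ j.1) = true ∧ (2 ^ j.1) ∈ goodBase k) := by
  decide +kernel

theorem ofVec_unitV : ∀ j : Fin 7, ofVec (unitV j) = 2 ^ j.1 := by decide +kernel

theorem ext_level {k : ℕ} (hk : k < 3) {a b : orthGroup Q7} (ha : Fixes (k + 1) a) (hb : Fixes (k + 1) b)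
    (h : ∀ w, Perp (k + 1) w → a.1 w - b.1 w ∈ lineX k) : a = b := by
  refine ext_unit fun j => ?_
  rcases unit_cases k hk j with hj | ⟨hj, -⟩
  · rw [← toVec_ofVec (unitV j), ofVec_unitV, ha _ hj, hb _ hj]
  · rw [← ofVec_unitV, perpN_iff (by omega)] at hj
    obtain ⟨c, hc⟩ := Submodule.mem_span_singleton.1 (h _ hj)
    have hp : ∀ g : orthGroup Q7, Fixes (k + 1) g → polar Q7 (g.1 (unitV j)) (vy k) = 0 := fun g hg =>
      hg.perp hj _ (fixed_succ k hk).2.2.2
    have h0 : polar Q7 (c • vx k) (vy k) = 0 := by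
      rw [hc, polar_sub_left, hp a ha, hp b hb, sub_zero]
    rw [polar_smul_l', polar_vxy hk, mul_one] at h0
    rw [h0, zero_smul] at hc
    exact sub_eq_zero.1 hc.symm

theorem sieg_lookup {k : ℕ} (hk : k < 3) {z : W7} (hq : Q7 z = 0) (hp : polar Q7 (vx k) z = 1)
    (hperp : Perp k z) :
    ∃ T, (ofVec z, T) ∈ siegAt k ∧ el T ∈ Om ∧ Fixes k (el T) ∧ (el T).1 (vx k) = vx k ∧
      (el T).1 (vy k) = z ∧ ∀ w, Perp (k + 1) w → (el T).1 w - w ∈ lineX k := by
  have ht := sieg_check k hk
  simp only [siegCheck, Bool.and_eq_true] at ht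
  have hcond : siegCond k (ofVec z) = true := by
    simp only [siegCond, Bool.and_eq_true, beq_iff_eq]
    exact ⟨⟨(qN_eq_iff z (c := 0) (by norm_num)).2 (by simpa using hq),
      by rw [← ofVec_vx hk]; exact (polN_eq_iff _ _ (c := 1) (by norm_num)).2 (by simpa using hp)⟩,
      (perpN_iff (by omega) z).2 hperp⟩
  obtain ⟨T, hT⟩ := lookup_table ht.1 z hcond
  have hok := List.all_eq_true.1 ht.2 _ hT
  simp only [siegOK, Bool.and_eq_true, beq_iff_eq, List.all_eq_true, Bool.or_eq_true] at hok
  obtain ⟨⟨⟨⟨hom, hfix⟩, hTx⟩, hTy⟩, hbase⟩ := hok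
  have hl := omL_ok hom
  refine ⟨T, hT, el_mem_commutator hom, fixes_el (by omega) hl hfix, ofVec_injective ?_,
    ofVec_injective ?_, fun w hw => ?_⟩
  · rw [← evN_el hl, ofVec_vx hk, hTx]
  · rw [← evN_el hl, ofVec_vy hk, hTy]
  · have hco := forall_of_allC (coord_check k hk) w
    rw [(perpN_iff (by omega) w).2 hw] at hco
    simp only [Bool.not_true, Bool.false_or, List.all_eq_true, List.mem_range, Bool.or_eq_true,
      Bool.and_eq_true, Bool.not_eq_true'] at hco
    rw [decomp_unit w, map_sum, ← Finset.sum_sub_distrib]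
    refine Submodule.sum_mem _ fun j _ => ?_
    rw [map_smul, ← smul_sub]
    rcases hco j.1 j.2 with hj | ⟨h1, h2⟩
    · refine Submodule.smul_mem _ _ ?_
      have hb := hbase (2 ^ j.1) (by simpa using hj)
      rw [← ofVec_unitV, evN_el hl, ← ofVec_vx hk, ofVec_neg, ofVec_add, ofVec_add] at hb
      simp only [ofVec_injective.eq_iff] at hb
      rcases hb with (e | e) | e <;> rw [e]
      · simp
      · rw [add_sub_cancel_left]; exact Submodule.mem_span_singleton_self _
      · rw [add_sub_cancel_left]; exact Submodule.neg_mem _ (Submodule.mem_span_singleton_self _)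
    · rw [testBit_lo, decide_eq_false_iff_not] at h1
      rw [testBit_hi, decide_eq_false_iff_not] at h2
      rcases z3_cases (w (co j)) with e | e | e
      · rw [e, zero_smul]; exact Submodule.zero_mem _
      · exact absurd e h1
      · exact absurd e h2

theorem fixed_singular {k : ℕ} {h : orthGroup Q7} (h3 : h ^ 3 = 1) (hne : h ≠ 1) (hfix : Fixes k h) :
    ∃ u : W7, u ≠ 0 ∧ Q7 u = 0 ∧ Perp k u ∧ h.1 u = u := by
  let N : W7 → W7 := fun v => h.1 v - v
  have hN3 : ∀ v, N (N (N v)) = 0 := fun v => by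
    have e : h.1 (h.1 (h.1 v)) = v := by
      have := congrArg (fun g : orthGroup Q7 => g.1 v) h3
      simpa [pow_succ, orth_mul_apply, orth_one_apply] using this
    simp only [N, map_sub, e]
    funext x
    simp only [Pi.sub_apply, Pi.zero_apply]
    linear_combination (h.1 v x - h.1 (h.1 v) x) * (by decide : (3 : ZMod 3) = 0)
  have main : ∀ z, N z ≠ 0 → N (N z) = 0 → ∃ u : W7, u ≠ 0 ∧ Q7 u = 0 ∧ Perp k u ∧ h.1 u = u := by
    intro z hz hzz
    have hu : h.1 (N z) = N z := sub_eq_zero.1 hzz
    refine ⟨N z, hz, ?_, fun b hb => ?_, hu⟩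
    · have h0 : polar Q7 (N z) (N z) = 0 := by
        show polar Q7 (h.1 z - z) (N z) = 0
        rw [polar_sub_left]
        conv_lhs => enter [1]; rw [← hu]
        rw [polar_isom, sub_self]
      rw [polar_self'] at h0
      exact (mul_eq_zero.1 h0).resolve_left (by decide)
    · show polar Q7 (h.1 z - z) _ = 0
      rw [polar_sub_left]
      conv_lhs => enter [1]; rw [← hfix b hb]
      rw [polar_isom, sub_self]
  obtain ⟨w, hw⟩ : ∃ w, N w ≠ 0 := by
    by_contra hall
    push Not at hall
    exact hne (Subtype.ext (LinearEquiv.ext fun v => sub_eq_zero.1 (hall v)))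
  by_cases h2 : N (N w) = 0
  · exact main w hw h2
  · exact main (N w) h2 (hN3 w)

theorem trans_lookup {k : ℕ} (hk : k < 3) {u : W7} (hu : u ≠ 0) (hq : Q7 u = 0) (hperp : Perp k u) :
    ∃ g ∈ Om, Fixes k g ∧ (g.1 u = vx k ∨ g.1 u = -vx k) := by
  have ht := trans_check k hk
  simp only [transCheck, Bool.and_eq_true] at ht
  have hcond : singCond k (ofVec u) = true := by
    simp only [singCond, Bool.and_eq_true, beq_iff_eq, Bool.not_eq_true', beq_eq_false_iff_ne]
    exact ⟨⟨fun h => hu (ofVec_eq_zero_iff.1 h), (qN_eq_iff u (c := 0) (by norm_num)).2 (by simpa using hq)⟩,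
      (perpN_iff (by omega) u).2 hperp⟩
  obtain ⟨L, hL⟩ := lookup_table ht.1 u hcond
  have hok := List.all_eq_true.1 ht.2 _ hL
  simp only [transOK, Bool.and_eq_true, Bool.or_eq_true, beq_iff_eq] at hok
  obtain ⟨⟨hom, hfix⟩, hw⟩ := hok
  have hl := omL_ok hom
  refine ⟨el L, el_mem_commutator hom, fixes_el (by omega) hl hfix, ?_⟩
  rw [evN_el hl, ← ofVec_vx hk, ofVec_neg] at hw
  exact hw.imp (fun e => ofVec_injective e) (fun e => ofVec_injective e)

theorem el_rep {k : ℕ} (hk : k < 4) {r : List ℕ} (hr : r ∈ repsAt k) :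
    okL r = true ∧ el r ∈ Om ∧ Fixes k (el r) := by
  have h := List.all_eq_true.1 (reps_check k hk) r hr
  simp only [Bool.and_eq_true] at h
  exact ⟨omL_ok h.1, el_mem_commutator h.1, fixes_el hk (omL_ok h.1) h.2⟩

theorem conj_pow_three {g h : orthGroup Q7} (h3 : h ^ 3 = 1) : (g * h * g⁻¹) ^ 3 = 1 := by
  rw [conj_pow, h3, mul_one, mul_inv_cancel]

/-- The statement proved by downward induction. -/
theorem classify_level : ∀ d k, k + d = 3 → ∀ h ∈ Om, h ^ 3 = 1 → Fixes k h →
    ∃ r ∈ repsAt k, ∃ M ∈ Om, Fixes k M ∧ M * h * M⁻¹ = el r := by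
  intro d
  induction d with
  | zero =>
    intro k hk h hom h3 hfix
    obtain rfl : k = 3 := by omega
    refine ⟨[], by simp [repsAt], 1, Om.one_mem, Fixes.one _, ?_⟩
    rw [one_mul, inv_one, mul_one, el_nil]
    refine ext_level (k := 2) (by omega) hfix (Fixes.one _) fun w hw => ?_
    have hu : ∀ w, Perp 3 w → Q7 w = 1 → w = toVec 1 ∨ w = -toVec 1 := fun w hw hq => by
      have ht := forall_of_allC top_check w
      rw [(perpN_iff (by omega) w).2 hw, (qN_eq_iff w (c := 1) (by norm_num)).2 (by simpa using hq)] at ht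
      have h1 : ofVec (toVec 1) = 1 := ofVec_toVec (by decide)
      simp only [beq_self_eq_true, Bool.and_self, Bool.not_true, Bool.false_or, Bool.or_eq_true,
        beq_iff_eq] at ht
      rw [← h1, ofVec_neg] at ht
      exact ht.imp (fun e => ofVec_injective e) (fun e => ofVec_injective e)
    have he : Perp 3 (toVec 1) ∧ Q7 (toVec 1) = 1 := by
      have h1 : ofVec (toVec 1) = 1 := ofVec_toVec (by decide)
      refine ⟨(perpN_iff (by omega) _).1 (by rw [h1]; decide +kernel), ?_⟩
      have : qN (ofVec (toVec 1)) = 1 := by rw [h1]; decide +kernel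
      simpa using (qN_eq_iff _ (c := 1) (by norm_num)).1 this
    have hh : h.1 (toVec 1) = toVec 1 := by
      rcases hu _ (hfix.perp he.1) (by rw [apply_quad]; exact he.2) with e | e
      · exact e
      · exfalso
        have e3 : h.1 (h.1 (h.1 (toVec 1))) = toVec 1 := by
          have := congrArg (fun g : orthGroup Q7 => g.1 (toVec 1)) h3
          simpa [pow_succ, orth_mul_apply, orth_one_apply] using this
        simp only [e, map_neg, neg_neg] at e3
        exact absurd (congrFun e3 (.inl ())) (by decide)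
    have hw' : w = w (co 0) • toVec 1 := by
      have hco := forall_of_allC (coord_check 2 (by omega)) w
      rw [(perpN_iff (by omega) w).2 hw] at hco
      simp only [Bool.not_true, Bool.false_or, List.all_eq_true, List.mem_range, Bool.or_eq_true,
        Bool.and_eq_true, Bool.not_eq_true'] at hco
      conv_lhs => rw [decomp_unit w]
      rw [Finset.sum_eq_single (0 : Fin 7)]
      · congr 1
        exact (by decide +kernel : unitV 0 = toVec 1)
      · intro j _ hj
        rcases hco j.1 j.2 with hg | ⟨h1, h2⟩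
        · exact absurd hg ((by decide +kernel :
            ∀ i : Fin 7, i ≠ 0 → ¬ (goodBase 2).contains (2 ^ i.1) = true) j hj)
        · rw [testBit_lo, decide_eq_false_iff_not] at h1
          rw [testBit_hi, decide_eq_false_iff_not] at h2
          rcases z3_cases (w (co j)) with e | e | e
          · rw [e, zero_smul]
          · exact absurd e h1
          · exact absurd e h2
      · simp
    rw [hw', map_smul, map_smul, hh, orth_one_apply, sub_self]
    exact Submodule.zero_mem _
  | succ d ih =>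
    intro k hk h hom h3 hfix
    have hk3 : k < 3 := by omega
    have hy0 : Q7 (vy k) = 0 := by
      simpa using (qN_eq_iff _ (c := 0) (by norm_num)).1
        (show qN (ofVec (vy k)) = 0 by rw [ofVec_vy hk3]; exact (vxy_values k hk3).2.1)
    have hyp : Perp k (vy k) :=
      (perpN_iff (by omega) _).1 (by rw [ofVec_vy hk3]; exact (vxy_values k hk3).2.2.2.2.2.1)
    by_cases hne : h = 1
    · obtain ⟨r, hr, hr1⟩ := List.any_eq_true.1 (reps_one k (by omega))
      refine ⟨r, hr, 1, Om.one_mem, Fixes.one _, ?_⟩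
      rw [one_mul, inv_one, mul_one, hne, el_eq_of_same (el_rep (by omega) hr).1 rfl hr1, el_nil]
    obtain ⟨u, hu0, huq, hup, huh⟩ := fixed_singular h3 hne hfix
    obtain ⟨g, hg, hgf, hgu⟩ := trans_lookup hk3 hu0 huq hup
    -- the conjugate fixing the singular vector
    set h' := g * h * g⁻¹ with hh'
    have hfix' : Fixes k h' := (hgf.mul hfix).mul hgf.inv
    have hom' : h' ∈ Om := Om.mul_mem (Om.mul_mem hg hom) (Om.inv_mem hg)
    have hx' : h'.1 (vx k) = vx k := by
      have e : h'.1 (g.1 u) = g.1 u := by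
        rw [hh', orth_mul_apply, orth_mul_apply, inv_apply', huh]
      rcases hgu with e' | e' <;> rw [e'] at e
      · exact e
      · rwa [map_neg, neg_inj] at e
    -- the Siegel element of an element fixing that vector
    have split : ∀ f : orthGroup Q7, Fixes k f → f.1 (vx k) = vx k →
        ∃ T, (∃ z, (z, T) ∈ siegAt k) ∧ el T ∈ Om ∧ (el T).1 (vx k) = vx k ∧
          (∀ w, Perp (k + 1) w → (el T).1 w - w ∈ lineX k) ∧ Fixes (k + 1) ((el T)⁻¹ * f) := by
      intro f hf hfx
      have hp1 : polar Q7 (vx k) (f.1 (vy k)) = 1 := by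
        conv_lhs => enter [2]; rw [← hfx]
        rw [polar_isom, polar_vxy hk3]
      obtain ⟨T, hT, hTo, hTf, hTx, hTy, hTw⟩ := sieg_lookup hk3 (z := f.1 (vy k))
        (by rw [apply_quad]; exact hy0) hp1 (hf.perp hyp)
      refine ⟨T, ⟨_, hT⟩, hTo, hTx, hTw, (hTf.inv.mul hf).step hk3 ?_ ?_⟩
      · rw [orth_mul_apply, hfx]
        conv_lhs => rw [← hTx]
        exact inv_apply' _ _
      · rw [orth_mul_apply, ← hTy]
        exact inv_apply' _ _
    obtain ⟨T, -, hTo, hTx, hTw, hr'⟩ := split h' hfix' hx'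
    set r' := (el T)⁻¹ * h' with hr'def
    have hdecomp : h' = el T * r' := by rw [hr'def, mul_inv_cancel_left]
    have hline : ∀ x ∈ lineX k, h'.1 x ∈ lineX k := fun x hx => by
      obtain ⟨c, rfl⟩ := Submodule.mem_span_singleton.1 hx
      rw [map_smul, hx']
      exact hx
    have hmod : ∀ n : ℕ, ∀ w, Perp (k + 1) w → Perp (k + 1) ((r' ^ n).1 w) ∧
        (h' ^ n).1 w - (r' ^ n).1 w ∈ lineX k := by
      intro n
      induction n with
      | zero => intro w hw; exact ⟨hw, by simp⟩
      | succ n ihn =>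
        intro w hw
        obtain ⟨p1, p2⟩ := ihn w hw
        refine ⟨by rw [pow_succ', orth_mul_apply]; exact hr'.perp p1, ?_⟩
        simp only [pow_succ', orth_mul_apply]
        have := Submodule.add_mem _ (hline _ p2) (hTw _ (hr'.perp p1))
        have e : h'.1 ((r' ^ n).1 w) = (el T).1 (r'.1 ((r' ^ n).1 w)) := by
          exact congrArg (fun f : orthGroup Q7 => f.1 ((r' ^ n).1 w)) hdecomp
        rw [map_sub, e, sub_add_sub_cancel] at this
        exact this
    have hr3 : r' ^ 3 = 1 := by
      refine ext_level hk3 ?_ (Fixes.one _) fun w hw => ?_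
      · rw [pow_succ, pow_succ, pow_one]; exact (hr'.mul hr').mul hr'
      · have := Submodule.neg_mem _ (hmod 3 w hw).2
        rw [conj_pow_three h3, orth_one_apply, neg_sub] at this
        rw [orth_one_apply]
        exact this
    obtain ⟨r, hr, M, hM, hMf, hMr⟩ :=
      ih (k + 1) (by omega) r' (Om.mul_mem (Om.inv_mem hTo) hom') hr3 hr'
    obtain ⟨hMk, hMx, -⟩ := hMf.weaken hk3
    set h'' := M * h' * M⁻¹ with hh''
    have hfix'' : Fixes k h'' := (hMk.mul hfix').mul hMk.inv
    have hMxi : (M⁻¹).1 (vx k) = vx k := by conv_lhs => rw [← hMx]; exact inv_apply' _ _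
    have hx'' : h''.1 (vx k) = vx k := by rw [hh'', orth_mul_apply, orth_mul_apply, hMxi, hx', hMx]
    obtain ⟨T', ⟨z', hT'⟩, -, hTx', hTw', hr''⟩ := split h'' hfix'' hx''
    have hEq : (el T')⁻¹ * h'' = el r := by
      refine ext_level hk3 hr'' (el_rep (by omega) hr).2.2 fun w hw => ?_
      have a1 := hTw' _ (hr''.perp hw)
      rw [← orth_mul_apply, mul_inv_cancel_left] at a1
      have a2 : h''.1 w - (el r).1 w ∈ lineX k := by
        have hw1 : Perp (k + 1) ((M⁻¹).1 w) := hMf.inv.perp hw
        have a3 := hTw _ (hr'.perp hw1)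
        obtain ⟨c, hc⟩ := Submodule.mem_span_singleton.1 a3
        have e : h''.1 w - (el r).1 w = M.1 (c • vx k) := by
          rw [hc, map_sub, ← hMr, hh'', hdecomp]
          rfl
        rw [e, map_smul, hMx]
        exact Submodule.smul_mem _ _ (Submodule.mem_span_singleton_self _)
      have := Submodule.sub_mem _ a2 a1
      rwa [sub_sub_sub_cancel_left] at this
    have hh''eq : h'' = el T' * el r := by rw [← hEq, mul_inv_cancel_left]
    obtain ⟨c, hc⟩ := cand_all k hk3 (T', r)
      (List.mem_flatMap.2 ⟨(z', T'), hT', List.mem_map.2 ⟨r, hr, rfl⟩⟩)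
    have hlT : okL T' = true := by
      have ht := sieg_check k hk3
      simp only [siegCheck, Bool.and_eq_true] at ht
      have := List.all_eq_true.1 ht.2 _ hT'
      simp only [siegOK, Bool.and_eq_true] at this
      exact omL_ok this.1.1.1.1
    have hlr := (el_rep (by omega : k + 1 < 4) hr).1
    have hlc := okL_append hlT hlr
    cases c with
    | none =>
      exfalso
      simp only [candOK, Bool.not_eq_true'] at hc
      have h3'' : h'' ^ 3 = 1 := conj_pow_three (conj_pow_three h3)
      have := same_of_el_eq (okL_append (okL_append hlc hlc) hlc) (rfl : okL [] = true) (by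
        rw [el_append (T' ++ r ++ (T' ++ r)), el_append (T' ++ r), el_append T', ← hh''eq, el_nil, ← h3'',
          pow_succ, pow_two])
      rw [this] at hc
      exact Bool.noConfusion hc
    | some p =>
      obtain ⟨N, i⟩ := p
      simp only [candOK, Bool.and_eq_true, decide_eq_true_eq] at hc
      obtain ⟨⟨⟨hNo, hNf⟩, hi⟩, hsame⟩ := hc
      have hmem : (repsAt k).getD i [] ∈ repsAt k := by
        rw [List.getD_eq_getElem _ _ hi]; exact List.getElem_mem hi
      have hNl := omL_ok hNo
      have e := el_eq_of_same (okL_append (okL_append (okL_append hNl hlT) hlr) (okL_reverse hNl))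
        (el_rep (by omega) hmem).1 hsame
      rw [el_append, el_append, el_append, el_reverse, mul_assoc (el N), ← hh''eq] at e
      refine ⟨_, hmem, el N * M * g, Om.mul_mem (Om.mul_mem (el_mem_commutator hNo) hM) hg,
        ((fixes_el (by omega) hNl hNf).mul hMk).mul hgf, ?_⟩
      rw [← e, hh'', hh']
      group

theorem classify {h : orthGroup Q7} (hom : h ∈ Om) (h3 : h ^ 3 = 1) :
    ∃ r ∈ repsAt 0, ∃ M ∈ Om, M * h * M⁻¹ = el r := by
  obtain ⟨r, hr, M, hM, -, e⟩ := classify_level 3 0 rfl h hom h3 (fun b hb => by simp [fixedN] at hb)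
  exact ⟨r, hr, M, hM, e⟩

end CfsgLib.ThreeTransp.OmegaSeven
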