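import Cfsg.Agent.Lib.ThreeTransp.OmegaSevenData

/-!
# The checked centraliser tables and invariants
-/

set_option autoImplicit false
set_option maxRecDepth 100000
set_option maxHeartbeats 2000000

namespace CfsgLib.ThreeTransp.OmegaSeven

/-- The element whose centraliser is sifted. -/
def splitRep : List ℕ := (repsAt 0).getD splitI []

theorem sift0_check : siftCheck splitRep [] (siftVecs.getD 0 0) sift0 = true := by decide +kernel

theorem sift1_check : siftCheck splitRep [siftVecs.getD 0 0] (siftVecs.getD 1 0) sift1 = true := by
  decide +kernel

theorem sift2_check :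
    siftCheck splitRep [siftVecs.getD 0 0, siftVecs.getD 1 0] (siftVecs.getD 2 0) sift2 = true := by
  decide +kernel

theorem span_check :
    ((List.range 7).all fun j => combN (spanCert.getD j []) (closeN (colsOf splitRep) siftVecs) == 2 ^ j) = true ∧
      siftVecs = [siftVecs.getD 0 0, siftVecs.getD 1 0, siftVecs.getD 2 0] ∧ siftVecs.all okA = true := by
  decide +kernel

theorem fix_values :
    ((List.range 7).map fun i => (fixCount ((repsAt 0).getD i []) 0, fixCount ((repsAt 0).getD i []) 1)) =
      [(9, 0), (27, 0), (27, 0), (9, 18), (81, 108), (99, 72), (63, 90)] := by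
  decide +kernel

theorem twist_check :
    okL twist = true ∧ (twist.all fun a => !(qN a == 0)) = true ∧ par1 twist = false ∧
      sameL (twist ++ splitRep ++ twist.reverse) ((repsAt 0).getD splitJ []) = true := by
  decide +kernel

theorem invert_check :
    omL invert = true ∧
      sameL (invert ++ ((repsAt 0).getD splitJ []).reverse ++ invert.reverse)
        ((repsAt 0).getD splitJ []) = true := by
  decide +kernel

theorem split_values : splitI = 1 ∧ splitJ = 2 ∧ (repsAt 0).length = 8 ∧
    sameL ((repsAt 0).getD 7 []) [] = true := by
  decide +kernel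

theorem order_check : ∀ i < 7, sameL ((repsAt 0).getD i []) [] = false ∧
    sameL ((repsAt 0).getD i [] ++ (repsAt 0).getD i [] ++ (repsAt 0).getD i []) [] = true := by
  decide +kernel

end CfsgLib.ThreeTransp.OmegaSeven
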