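import Cfsg.Agent.Lib.ThreeTransp.OmegaSevenClassify
import Cfsg.Agent.Lib.ThreeTransp.OmegaSevenSift

/-!
# The seven representatives generate pairwise non-conjugate subgroups

Six different numbers of fixed vectors, and one pair fused by an element outside the commutator
subgroup whose centraliser lies inside the kernel of the corresponding sign.
-/

set_option autoImplicit false
set_option maxRecDepth 20000

namespace CfsgLib.ThreeTransp.OmegaSeven

open CfsgLib.Orth QuadraticMap

/-- The representatives of the seven classes. -/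
noncomputable def rep (i : ℕ) : orthGroup Q7 := el ((repsAt 0).getD i [])

theorem getD_mem {i : ℕ} (hi : i < 8) : (repsAt 0).getD i [] ∈ repsAt 0 := by
  have : i < (repsAt 0).length := by rw [split_values.2.2.1]; exact hi
  rw [List.getD_eq_getElem _ _ this]; exact List.getElem_mem this

theorem rep_spec {i : ℕ} (hi : i < 7) : rep i ∈ Om ∧ orderOf (rep i) = 3 := by
  have hm := el_rep (k := 0) (by omega) (getD_mem (show i < 8 by omega))
  obtain ⟨h1, h3⟩ := order_check i hi
  refine ⟨hm.2.1, orderOf_eq_prime ?_ fun e => ?_⟩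
  · have h := el_eq_of_same (okL_append (okL_append hm.1 hm.1) hm.1) (rfl : okL [] = true) h3
    rw [el_append, el_append, el_nil] at h
    rw [← h, pow_succ, pow_two]; rfl
  · rw [same_of_el_eq hm.1 (rfl : okL [] = true) (by rw [el_nil]; exact e)] at h1
    exact Bool.noConfusion h1

theorem classify_rep {h : orthGroup Q7} (hom : h ∈ Om) (hord : orderOf h = 3) :
    ∃ i < 7, ∃ M ∈ Om, M * h * M⁻¹ = rep i := by
  obtain ⟨r, hr, M, hM, e⟩ := classify hom (orderOf_dvd_iff_pow_eq_one.1 (by rw [hord]))
  obtain ⟨i, hi, rfl⟩ := List.mem_iff_getElem.1 hr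
  have hlen := split_values.2.2.1
  rcases (show i < 7 ∨ i = 7 by omega) with h7 | rfl
  · exact ⟨i, h7, M, hM, by rw [e, rep, List.getD_eq_getElem _ _ hi]⟩
  · exfalso
    have h1 : el ((repsAt 0).getD 7 []) = 1 := by
      rw [el_eq_of_same (el_rep (k := 0) (by omega) (getD_mem (by omega))).1 rfl split_values.2.2.2, el_nil]
    rw [List.getD_eq_getElem _ _ hi, ← e] at h1
    have : h = 1 := conj_eq_one_iff.1 h1
    rw [this, orderOf_one] at hord
    omega

/-- The fixed vectors of a given value. -/
noncomputable def fixSet (g : orthGroup Q7) (c : ℕ) : Finset W7 :=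
  open Classical in Finset.univ.filter fun v => g.1 v = v ∧ Q7 v = (c : ZMod 3)

theorem fixCount_eq {L : List ℕ} (hL : okL L = true) {c : ℕ} (hc : c < 3) :
    fixCount L c = (fixSet (el L) c).card := by
  classical
  show allC.countP (fun v => mv (colsOf L) v == v && qN v == c) = _
  rw [countP_allC]
  refine congrArg Finset.card (Finset.filter_congr fun v _ => ?_)
  rw [Bool.and_eq_true, beq_iff_eq, beq_iff_eq, mv_colsOf hL, ofVec_injective.eq_iff, qN_eq_iff v hc]

theorem fixSet_conj (M g : orthGroup Q7) (c : ℕ) : (fixSet (M * g * M⁻¹) c).card = (fixSet g c).card := by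
  classical
  refine (Finset.card_equiv M.1.toEquiv fun v => ?_).symm
  rw [fixSet, fixSet, Finset.mem_filter, Finset.mem_filter]
  simp only [Finset.mem_univ, true_and, LinearEquiv.coe_toEquiv, orth_mul_apply, inv_apply', apply_quad,
    EmbeddingLike.apply_eq_iff_eq]

theorem fixSet_inv (g : orthGroup Q7) (c : ℕ) : fixSet g⁻¹ c = fixSet g c := by
  classical
  refine Finset.filter_congr fun v _ => and_congr_left' ⟨fun h => ?_, fun h => ?_⟩
  · conv_lhs => rw [← h]
    exact inv_apply g v
  · conv_lhs => rw [← h]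
    exact inv_apply' g v

/-- The numbers of fixed vectors of the representatives. -/
def fixTable : List (ℕ × ℕ) := [(9, 0), (27, 0), (27, 0), (9, 18), (81, 108), (99, 72), (63, 90)]

theorem fix_pairs {i j : ℕ} (hi : i < 7) (hj : j < 7) (h : fixTable[i]? = fixTable[j]?) :
    i = j ∨ (i = 1 ∧ j = 2) ∨ (i = 2 ∧ j = 1) := by
  interval_cases i <;> interval_cases j <;> simp_all [fixTable]

/-- The vectors obtained by applying the difference with the identity. -/
noncomputable def closeV (R : orthGroup Q7) (ws : List W7) : List W7 :=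
  ws.flatMap fun b => [b, R.1 b - b, R.1 (R.1 b - b) - (R.1 b - b)]

theorem closeN_eq {L : List ℕ} (hL : okL L = true) (ws : List W7) :
    closeN (colsOf L) (ws.map ofVec) = (closeV (el L) ws).map ofVec := by
  induction ws with
  | nil => rfl
  | cons b ws ih =>
    simp only [closeN, closeV, List.map_cons, List.flatMap_cons] at ih ⊢
    rw [List.map_append, ← ih]
    simp [subOne, mv_colsOf hL, ofVec_neg, ofVec_add, sub_eq_add_neg]

theorem close_fixed {R g : orthGroup Q7} (hc : Commute g R) {ws : List W7} (hf : ∀ w ∈ ws, g.1 w = w) :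
    ∀ u ∈ closeV R ws, g.1 u = u := by
  have hR : ∀ v, g.1 v = v → g.1 (R.1 v - v) = R.1 v - v := fun v hv => by
    rw [map_sub, hv, ← orth_mul_apply, hc.eq, orth_mul_apply, hv]
  intro u hu
  obtain ⟨b, hb, hu⟩ := List.mem_flatMap.1 hu
  simp only [List.mem_cons, List.not_mem_nil, or_false] at hu
  rcases hu with rfl | rfl | rfl
  exacts [hf _ hb, hR _ (hf _ hb), hR _ (hR _ (hf _ hb))]

theorem prof_invariant {L : List ℕ} (hL : okL L = true) {g : orthGroup Q7} (hc : Commute g (el L))
    {ws : List W7} (hf : ∀ w ∈ ws, g.1 w = w) (v : W7) :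
    profN (colsOf L) (closeN (colsOf L) (ws.map ofVec)) (ofVec (g.1 v)) =
      profN (colsOf L) (closeN (colsOf L) (ws.map ofVec)) (ofVec v) := by
  have hsub : ∀ u, subOne (colsOf L) (ofVec u) = ofVec ((el L).1 u - u) := fun u => by
    rw [subOne, mv_colsOf hL, ofVec_neg, ofVec_add, sub_eq_add_neg]
  have hN : ∀ u, (el L).1 (g.1 u) - g.1 u = g.1 ((el L).1 u - u) := fun u => by
    rw [map_sub, ← orth_mul_apply, ← hc.eq, orth_mul_apply]
  have hz : ∀ u, (ofVec (g.1 u) == 0) = (ofVec u == 0) := fun u => by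
    rw [Bool.eq_iff_iff, beq_iff_eq, beq_iff_eq, ofVec_eq_zero_iff, ofVec_eq_zero_iff]
    exact map_eq_zero_iff _ g.1.injective
  simp only [profN, hsub, hN, hz, closeN_eq hL, List.map_map]
  rw [qN_congr (apply_quad g v), qN_congr (apply_quad g ((el L).1 v - v)),
    polN_congr (polar_isom g v ((el L).1 v - v))]
  congr 1
  refine List.map_congr_left fun u hu => ?_
  simp only [Function.comp_apply]
  conv_lhs => rw [← close_fixed hc hf u hu]
  exact polN_congr (polar_isom g v u)

theorem sift_step {l : List (ℕ × List ℕ)} {ws : List W7} {b : W7}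
    (ht : siftCheck splitRep (ws.map ofVec) (ofVec b) l = true) (hL : okL splitRep = true)
    {g : orthGroup Q7} (hc : Commute g (el splitRep)) (hf : ∀ w ∈ ws, g.1 w = w) :
    ∃ M : orthGroup Q7, psi M = 1 ∧ Commute (M⁻¹ * g) (el splitRep) ∧
      ∀ w ∈ ws ++ [b], (M⁻¹ * g).1 w = w := by
  simp only [siftCheck, Bool.and_eq_true] at ht
  obtain ⟨P, hP⟩ := lookup_table ht.1 (g.1 b) (by
    simp only [beq_iff_eq]
    exact prof_invariant hL hc hf b)
  have hok := List.all_eq_true.1 ht.2 _ hP
  simp only [siftOK, Bool.and_eq_true, beq_iff_eq, List.all_eq_true, List.mem_map,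
    forall_exists_index, and_imp, forall_apply_eq_imp_iff₂] at hok
  obtain ⟨⟨⟨⟨⟨hok', hpar⟩, hnz⟩, hsame⟩, hprev⟩, hb⟩ := hok
  have hcomm : Commute (el P) (el splitRep) := by
    have := el_eq_of_same (okL_append hok' hL) (okL_append hL hok') hsame
    rwa [el_append, el_append] at this
  refine ⟨el P, ?_, hcomm.inv_left.mul_left hc, fun w hw => ?_⟩
  · rw [psi_el hok' (List.all_eq_true.2 hnz)]
    simp only [par1, beq_iff_eq] at hpar
    exact (Nat.even_iff.2 hpar).neg_one_pow
  · rw [orth_mul_apply]
    rcases List.mem_append.1 hw with hw | hw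
    · have e := hprev w hw
      rw [evN_el hok'] at e
      rw [hf w hw]
      conv_lhs => rw [← ofVec_injective e]
      exact inv_apply' _ _
    · rw [List.mem_singleton.1 hw]
      rw [evN_el hok'] at hb
      rw [← ofVec_injective hb]
      exact inv_apply' _ _

theorem combN_fixed {g : orthGroup Q7} : ∀ (cs : List ℕ) (vs : List W7), (∀ v ∈ vs, g.1 v = v) →
    ∃ w, combN cs (vs.map ofVec) = ofVec w ∧ g.1 w = w
  | [], vs, _ => ⟨0, by rw [combN, ofVec_zero]; simp, map_zero _⟩
  | c :: cs, [], _ => ⟨0, by rw [ofVec_zero]; rfl, map_zero _⟩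
  | c :: cs, v :: vs, h => by
    obtain ⟨w, hw, hgw⟩ := combN_fixed cs vs fun u hu => h u (List.mem_cons_of_mem _ hu)
    have hv := h v (List.mem_cons_self ..)
    simp only [List.map_cons, combN, hw]
    rcases (show c = 1 ∨ c = 2 ∨ (c ≠ 1 ∧ c ≠ 2) by omega) with rfl | rfl | ⟨h1, h2⟩
    · refine ⟨v + w, ?_, by rw [map_add, hv, hgw]⟩
      show addN (ofVec v) (ofVec w) = _
      rw [ofVec_add]
    · refine ⟨-v + w, ?_, by rw [map_add, map_neg, hv, hgw]⟩
      show addN (negN (ofVec v)) (ofVec w) = _
      rw [ofVec_neg, ofVec_add]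
    · refine ⟨w, ?_, hgw⟩
      split
      · exact absurd rfl h1
      · exact absurd rfl h2
      · rw [← ofVec_zero, ofVec_add, zero_add]

theorem psi_centraliser {g : orthGroup Q7} (hc : Commute g (el splitRep)) : psi g = 1 := by
  have hL : okL splitRep = true :=
    (el_rep (k := 0) (by omega) (getD_mem (show splitI < 8 by rw [split_values.1]; norm_num))).1
  obtain ⟨hspan, hvec, hokv⟩ := span_check
  set b0 := toVec (siftVecs.getD 0 0)
  set b1 := toVec (siftVecs.getD 1 0)
  set b2 := toVec (siftVecs.getD 2 0)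
  have hb : ∀ i < 3, ofVec (toVec (siftVecs.getD i 0)) = siftVecs.getD i 0 := fun i hi => by
    refine ofVec_toVec (List.all_eq_true.1 hokv _ ?_)
    rw [hvec]; interval_cases i <;> simp
  obtain ⟨M0, p0, c0, f0⟩ := sift_step (ws := []) (b := b0)
    (by rw [hb 0 (by omega)]; exact sift0_check) hL hc (by simp)
  obtain ⟨M1, p1, c1, f1⟩ := sift_step (ws := [b0]) (b := b1)
    (by rw [hb 1 (by omega)]; simp only [List.map_cons, List.map_nil, b0, hb 0 (by omega)]; exact sift1_check)
    hL c0 (by simpa using f0)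
  obtain ⟨M2, p2, c2, f2⟩ := sift_step (ws := [b0, b1]) (b := b2)
    (by rw [hb 2 (by omega)]
        simp only [List.map_cons, List.map_nil, b0, b1, hb 0 (by omega), hb 1 (by omega)]
        exact sift2_check)
    hL c1 (by simpa using f1)
  have hone : M2⁻¹ * (M1⁻¹ * (M0⁻¹ * g)) = 1 := by
    refine ext_unit fun j => ?_
    have hclo := close_fixed (R := el splitRep) c2 (ws := [b0, b1, b2]) (by simpa using f2)
    obtain ⟨w, hw, hgw⟩ := combN_fixed (spanCert.getD j.1 []) _ hclo
    have hj := List.all_eq_true.1 hspan j.1 (List.mem_range.2 j.2)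
    have hv : siftVecs = [b0, b1, b2].map ofVec := by
      rw [hvec]
      simp only [List.map_cons, List.map_nil, b0, b1, b2, hb 0 (by omega), hb 1 (by omega), hb 2 (by omega)]
    rw [beq_iff_eq, hv, closeN_eq hL, hw, ← ofVec_unitV] at hj
    rw [← ofVec_injective hj, hgw]
    rfl
  have := congrArg psi hone
  simpa [p0, p1, p2] using this

theorem split_pair {g : orthGroup Q7} (hg : g ∈ Om) :
    g * rep 1 * g⁻¹ ≠ rep 2 ∧ g * rep 1 * g⁻¹ ≠ (rep 2)⁻¹ := by
  obtain ⟨hI, hJ, -, -⟩ := split_values
  have hR : el splitRep = rep 1 := by rw [rep, splitRep, hI]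
  have hlR := (el_rep (k := 0) (by omega) (getD_mem (show splitI < 8 by omega))).1
  have hlS := (el_rep (k := 0) (by omega) (getD_mem (show splitJ < 8 by omega))).1
  obtain ⟨ht, htnz, htpar, htsame⟩ := twist_check
  have et := el_eq_of_same (okL_append (okL_append ht (show okL splitRep = true from hlR)) (okL_reverse ht))
    hlS htsame
  rw [el_append, el_append, el_reverse, hR, show el ((repsAt 0).getD splitJ []) = rep 2 by rw [rep, hJ]] at et
  have key : ∀ f ∈ Om, f * rep 1 * f⁻¹ ≠ rep 2 := fun f hf e => by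
    have hc : Commute ((el twist)⁻¹ * f) (el splitRep) := by
      rw [hR]
      refine (mul_inv_eq_iff_eq_mul.1 ?_)
      rw [mul_inv_rev, inv_inv]
      calc (el twist)⁻¹ * f * rep 1 * (f⁻¹ * el twist)
          = (el twist)⁻¹ * (f * rep 1 * f⁻¹) * el twist := by group
        _ = rep 1 := by rw [e, ← et]; group
    have h1 := psi_centraliser hc
    rw [map_mul, map_inv, psi_eq_one hf, mul_one, inv_eq_one] at h1
    rw [psi_el ht htnz] at h1
    simp only [par1, beq_eq_false_iff_ne] at htpar
    rw [(Nat.odd_iff.2 (by omega : twist.countP (fun a => qN a == 1) % 2 = 1)).neg_one_pow] at h1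
    exact absurd h1 (by decide)
  obtain ⟨hio, hisame⟩ := invert_check
  have ei := el_eq_of_same (okL_append (okL_append (omL_ok hio) (okL_reverse hlS)) (okL_reverse (omL_ok hio)))
    hlS hisame
  rw [el_append, el_append, el_reverse, el_reverse,
    show el ((repsAt 0).getD splitJ []) = rep 2 by rw [rep, hJ]] at ei
  refine ⟨key g hg, fun e => key (el invert * g) (Om.mul_mem (el_mem_commutator hio) hg) ?_⟩
  calc el invert * g * rep 1 * (el invert * g)⁻¹
      = el invert * (g * rep 1 * g⁻¹) * (el invert)⁻¹ := by group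
    _ = rep 2 := by rw [e]; exact ei

theorem rep_separate {i j : ℕ} (hi : i < 7) (hj : j < 7) {g : orthGroup Q7} (hg : g ∈ Om)
    (h : g * rep i * g⁻¹ = rep j ∨ g * rep i * g⁻¹ = (rep j)⁻¹) : i = j := by
  have hcnt : ∀ c < 3, fixCount ((repsAt 0).getD i []) c = fixCount ((repsAt 0).getD j []) c := fun c hc => by
    rw [fixCount_eq (el_rep (k := 0) (by omega) (getD_mem (by omega))).1 hc,
      fixCount_eq (el_rep (k := 0) (by omega) (getD_mem (show j < 8 by omega))).1 hc,
      ← fixSet_conj g (el ((repsAt 0).getD i [])) c]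
    rcases h with e | e
    · rw [show g * el ((repsAt 0).getD i []) * g⁻¹ = el ((repsAt 0).getD j []) from e]
    · rw [show g * el ((repsAt 0).getD i []) * g⁻¹ = (el ((repsAt 0).getD j []))⁻¹ from e, fixSet_inv]
  have hp := fix_pairs hi hj (by
    rw [fixTable, ← fix_values, List.getElem?_map, List.getElem?_map, List.getElem?_range hi, List.getElem?_range hj]
    simp only [Option.map_some, hcnt 0 (by omega), hcnt 1 (by omega)])
  rcases hp with e | ⟨rfl, rfl⟩ | ⟨rfl, rfl⟩
  · exact e
  · rcases h with e | e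
    · exact absurd e (split_pair hg).1
    · exact absurd e (split_pair hg).2
  · exfalso
    rcases h with e | e
    · exact (split_pair (Om.inv_mem hg)).1 (by rw [← e]; group)
    · exact (split_pair (Om.inv_mem hg)).2 (by
        rw [show rep 1 = ((g * rep 2 * g⁻¹))⁻¹ by rw [e, inv_inv]]; group)

end CfsgLib.ThreeTransp.OmegaSeven
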