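import Cfsg.Agent.Lib.Sporadic.M24Trio
import Cfsg.Agent.Lib.Sporadic.M24Sextet

/-!
# Certified orbit decompositions of configuration stabilisers
-/

set_option autoImplicit false

namespace CfsgLib.ThreeTransp.OrbitCert

open Cfsg CfsgLib.SmallGroups.Golay CfsgLib.SmallGroups.GolayOctads CfsgLib.SmallGroups.M24Group
open CfsgLib.SmallGroups.Mathieu CfsgLib.Sporadic CfsgLib.Sporadic.M24Orbits CfsgLib.Sporadic.M24Config
open scoped Pointwise

/-- Every edge of the tree is right. -/
def edges (st : List ℕ → ℕ → ℕ → Bool) (gens : List (List ℕ)) : Tree → ℕ → Bool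
  | .leaf, _ => true
  | .node k m c s, r =>
    decide (k < gens.length) && st (gens.getD k []) r m && edges st gens c m && edges st gens s r

/-- The tables are elements fixing the configuration. -/
def fixes (fx : List ℕ → Bool) (gens : List (List ℕ)) : Bool := gens.all fun t => okTbl t && fx t

variable {α β : Type*} [MulAction (Equiv.Perm GolayPt) α] [MulAction (Equiv.Perm GolayPt) β]

/-- What the step test means. -/
def StepSound (st : List ℕ → ℕ → ℕ → Bool) (F : ℕ → α) : Prop :=
  ∀ (t : List ℕ) (g : Equiv.Perm GolayPt), g ∈ M24 → (∀ p, idx (g p) = tblNat t (idx p)) →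
    ∀ r m, st t r m = true → g • F r = F m

/-- What the fixing test means. -/
def FixSound (fx : List ℕ → Bool) (b : β) : Prop :=
  ∀ (t : List ℕ) (g : Equiv.Perm GolayPt), g ∈ M24 → (∀ p, idx (g p) = tblNat t (idx p)) →
    fx t = true → g • b = b

theorem edges_sound {st : List ℕ → ℕ → ℕ → Bool} {fx : List ℕ → Bool} {gens : List (List ℕ)}
    {F : ℕ → α} {b : β} (hst : StepSound st F) (hfx : FixSound fx b) (hg : fixes fx gens = true) :
    ∀ (T : Tree) (r : ℕ), edges st gens T r = true → ∀ n ∈ T.masks,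
      ∃ g ∈ M24, g • b = b ∧ g • F r = F n := by
  intro T
  induction T with
  | leaf => intro r _ n hn; simp [Tree.masks] at hn
  | node k m c s ihc ihs =>
    intro r hc n hn
    simp only [edges, Bool.and_eq_true, decide_eq_true_iff] at hc
    obtain ⟨⟨⟨hk, hm⟩, hcc⟩, hcs⟩ := hc
    have ht := List.all_eq_true.1 hg (gens.getD k []) (by
      rw [List.getD_eq_getElem _ _ hk]; exact List.getElem_mem hk)
    rw [Bool.and_eq_true] at ht
    obtain ⟨g, hg', hidx⟩ := exists_elt ht.1
    have hfix := hfx _ g hg' hidx ht.2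
    have hroot := hst _ g hg' hidx r m hm
    rcases List.mem_cons.1 hn with rfl | hn
    · exact ⟨g, hg', hfix, hroot⟩
    rcases List.mem_append.1 hn with hn | hn
    · obtain ⟨g', hg'', hfix', he⟩ := ihc m hcc n hn
      exact ⟨g' * g, mul_mem hg'' hg', by rw [mul_smul, hfix, hfix'], by rw [mul_smul, hroot, he]⟩
    · exact ihs r hcs n hn

/-- The keys of the list are pairwise distinct and not in the given bit set. -/
def distinct (key : ℕ → ℕ) : List ℕ → ℕ → Bool
  | [], _ => true
  | a :: l, S => !S.testBit (key a) && distinct key l (S ||| 2 ^ key a)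

theorem distinct_sound (key : ℕ → ℕ) :
    ∀ (l : List ℕ) (S : ℕ), distinct key l S = true →
      l.Nodup ∧ ∀ a ∈ l, S.testBit (key a) = false := by
  intro l
  induction l with
  | nil => exact fun _ _ => ⟨List.nodup_nil, fun a ha => by simp at ha⟩
  | cons a l ih =>
    intro S h
    simp only [distinct, Bool.and_eq_true, Bool.not_eq_true'] at h
    obtain ⟨hnd, hl⟩ := ih _ h.2
    refine ⟨List.nodup_cons.2 ⟨fun ha => ?_, hnd⟩, fun c hc => ?_⟩
    · have := hl a ha
      rw [Nat.testBit_or, Nat.testBit_two_pow] at this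
      simp at this
    · rcases List.mem_cons.1 hc with rfl | hc
      · exact h.1
      · have := hl c hc
        rw [Nat.testBit_or, Bool.or_eq_false_iff] at this
        exact this.1

/-- Eight passes, one for each residue. -/
def noRepeat (M : ℕ) (U : List ℕ) : Bool :=
  (List.range 8).all fun r => distinct (fun n => n % M) (U.filter fun n => n % 8 == r) 0

theorem noRepeat_sound {M : ℕ} {U : List ℕ} (h : noRepeat M U = true) : U.Nodup := by
  simp only [noRepeat, List.all_eq_true, List.mem_range] at h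
  refine List.nodup_iff_count_le_one.2 fun a => ?_
  have h1 := List.nodup_iff_count_le_one.1 (distinct_sound _ _ _ (h (a % 8) (Nat.mod_lt _ (by norm_num)))).1 a
  rwa [List.count_filter (by simp)] at h1

/-- The members of all lists. -/
def joined {k : ℕ} (L : Fin k → List ℕ) : List ℕ := (List.ofFn L).flatten

theorem exists_joined {k : ℕ} {L : Fin k → List ℕ} {n : ℕ} : n ∈ joined L ↔ ∃ i, n ∈ L i := by
  simp [joined, List.mem_flatten, List.mem_ofFn']

/-- A decomposition certificate for the stabiliser of `b` acting on `X`. -/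
structure Decomp (k : ℕ) (b : β) (X : Set α) (f : α → ℕ) (v : Fin k → ℕ) (len : Fin k → ℕ) where
  /-- representatives -/
  rep : Fin k → α
  rep_mem : ∀ i, rep i ∈ X
  ncard : ∀ i, (MulAction.orbit (MulAction.stabilizer M24 b) (rep i)).ncard = len i
  orbit_eq : ∀ i, MulAction.orbit (MulAction.stabilizer M24 b) (rep i) = {x | x ∈ X ∧ f x = v i}
  cover : ∀ x ∈ X, ∃ i, f x = v i

theorem decomp {k : ℕ} (b : β) (X : Set α) (F : ℕ → α) (st : List ℕ → ℕ → ℕ → Bool)
    (fx : List ℕ → Bool) (gens : List (List ℕ))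
    (hst : StepSound st F) (hfx : FixSound fx b) (hg : fixes fx gens = true)
    (canon : ℕ → Bool) (inj : ∀ a c, canon a = true → canon c = true → F a = F c → a = c)
    (mem : ∀ n, canon n = true → F n ∈ X) (hX : ∀ g ∈ M24, ∀ x ∈ X, g • x ∈ X)
    (f : α → ℕ) (hf : ∀ g ∈ M24, g • b = b → ∀ x, f (g • x) = f x)
    (N : ℕ) (hN : X.ncard = N) (hfin : X.Finite)
    (root : Fin k → ℕ) (T : Fin k → Tree) (v : Fin k → ℕ) (len : Fin k → ℕ) (U : List ℕ)
    (hT : ∀ i, edges st gens (T i) (root i) = true)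
    (hv : ∀ i, f (F (root i)) = v i) (hvi : Function.Injective v)
    (hlen : ∀ i, (root i :: (T i).masks).length = len i)
    (hU : (joined fun i => root i :: (T i).masks) = U)
    (M : ℕ) (hrep : noRepeat M U = true) (hcan : U.all canon = true) (htot : U.length = N) :
    Nonempty (Decomp k b X f v len) := by
  classical
  have hnd' : (joined fun i => root i :: (T i).masks).Nodup := hU ▸ noRepeat_sound hrep
  have hcanon : ∀ n ∈ U, canon n = true := List.all_eq_true.1 hcan
  have himg : (U.toFinset.image F).card = N := by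
    rw [Finset.card_image_of_injOn fun a ha c hc => inj a c (hcanon a (List.mem_toFinset.1 ha))
      (hcanon c (List.mem_toFinset.1 hc)), List.toFinset_card_of_nodup (noRepeat_sound hrep), htot]
  have surj : ∀ x ∈ X, ∃ n ∈ U, F n = x := by
    intro x hx
    have hsub : ↑(U.toFinset.image F) ⊆ X := by
      intro y hy
      simp only [Finset.coe_image, Set.mem_image, Finset.mem_coe, List.mem_toFinset] at hy
      obtain ⟨n, hn, rfl⟩ := hy
      exact mem n (hcanon n hn)
    have e := Set.eq_of_subset_of_ncard_le hsub (by rw [Set.ncard_coe_finset, himg, hN]) hfin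
    rw [← e] at hx
    simpa using hx
  set L : Fin k → List ℕ := fun i => root i :: (T i).masks
  have hLu : ∀ i, ∀ n ∈ L i, canon n = true := fun i n hn => hcanon n (hU ▸ exists_joined.2 ⟨i, hn⟩)
  have horb : ∀ i, ∀ n ∈ L i, F n ∈ MulAction.orbit (MulAction.stabilizer M24 b) (F (root i)) := by
    intro i n hn
    rcases List.mem_cons.1 hn with rfl | hn
    · exact MulAction.mem_orbit_self _
    · obtain ⟨g, hgM, h0, he⟩ := edges_sound hst hfx hg _ _ (hT i) n hn
      exact ⟨⟨⟨g, hgM⟩, h0⟩, he⟩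
  have hval : ∀ i, ∀ x ∈ MulAction.orbit (MulAction.stabilizer M24 b) (F (root i)),
      x ∈ X ∧ f x = v i := by
    rintro i _ ⟨g, rfl⟩
    exact ⟨hX _ g.1.2 _ (mem _ (hLu i _ (List.mem_cons_self ..))),
      (hf _ g.1.2 g.2 _).trans (hv i)⟩
  have hclass : ∀ x ∈ X, ∃ i, ∃ n ∈ L i, F n = x ∧ f x = v i := by
    intro x hx
    obtain ⟨n, hn, rfl⟩ := surj x hx
    obtain ⟨i, hi⟩ := exists_joined.1 (hU.symm ▸ hn)
    exact ⟨i, n, hi, rfl, (hval i _ (horb i n hi)).2⟩
  have heq : ∀ i, MulAction.orbit (MulAction.stabilizer M24 b) (F (root i)) = {x | x ∈ X ∧ f x = v i} := by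
    intro i
    refine Set.Subset.antisymm (hval i) ?_
    rintro x ⟨hx, hfx'⟩
    obtain ⟨j, n, hn, rfl, hj⟩ := hclass x hx
    rw [hfx'] at hj
    obtain rfl := hvi hj
    exact horb _ n hn
  have hndL : ∀ i, (L i).Nodup := fun i =>
    (List.nodup_flatten.1 hnd').1 _ (List.mem_ofFn.2 ⟨i, rfl⟩)
  refine ⟨⟨fun i => F (root i), fun i => mem _ (hLu i _ (List.mem_cons_self ..)), fun i => ?_, heq,
    fun x hx => let ⟨i, _, _, _, h⟩ := hclass x hx; ⟨i, h⟩⟩⟩
  have e : MulAction.orbit (MulAction.stabilizer M24 b) (F (root i)) = ↑((L i).toFinset.image F) := by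
    refine Set.Subset.antisymm (fun x hx => ?_) ?_
    · obtain ⟨j, n, hn, rfl, hj⟩ := hclass x (hval i x hx).1
      rw [(hval i _ hx).2] at hj
      obtain rfl := hvi hj
      exact Finset.mem_coe.2 (Finset.mem_image_of_mem _ (List.mem_toFinset.2 hn))
    · intro x hx
      simp only [Finset.coe_image, Set.mem_image, Finset.mem_coe, List.mem_toFinset] at hx
      obtain ⟨n, hn, rfl⟩ := hx
      exact horb i n hn
  rw [e, Set.ncard_coe_finset, Finset.card_image_of_injOn fun a ha c hc =>
    inj a c (hLu i a (List.mem_toFinset.1 ha)) (hLu i c (List.mem_toFinset.1 hc)),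
    List.toFinset_card_of_nodup (hndL i), hlen]

theorem orbit_moved {b b' : β} {a : M24} (ha : (a : Equiv.Perm GolayPt) • b' = b) (x : α) :
    MulAction.orbit (MulAction.stabilizer M24 b') ((a⁻¹ : M24) • x) =
      (fun y => (a⁻¹ : M24) • y) '' MulAction.orbit (MulAction.stabilizer M24 b) x := by
  replace ha : a • b' = b := ha
  have hb : a⁻¹ • b = b' := by rw [← ha, inv_smul_smul]
  ext y
  constructor
  · rintro ⟨g, rfl⟩
    refine ⟨(a * (g : M24) * a⁻¹) • x, ⟨⟨a * (g : M24) * a⁻¹, ?_⟩, rfl⟩, ?_⟩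
    · rw [MulAction.mem_stabilizer_iff, mul_smul, mul_smul, hb, (g.2 : (g : M24) • b' = b'), ha]
    · show a⁻¹ • _ = (g : M24) • (a⁻¹ • x)
      rw [mul_smul, mul_smul, inv_smul_smul]
  · rintro ⟨_, ⟨g, rfl⟩, rfl⟩
    refine ⟨⟨a⁻¹ * (g : M24) * a, ?_⟩, ?_⟩
    · rw [MulAction.mem_stabilizer_iff, mul_smul, mul_smul, ha, (g.2 : (g : M24) • b = b), hb]
    · show (a⁻¹ * (g : M24) * a) • (a⁻¹ • x) = a⁻¹ • ((g : M24) • x)
      rw [mul_smul, mul_smul, smul_inv_smul]

/-- The decomposition seen from a conjugate configuration. -/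
theorem transport {k : ℕ} {b b' : β} {X : Set α} {f : α → ℕ} {v len : Fin k → ℕ}
    (D : Decomp k b X f v len) {a : M24} (ha : (a : Equiv.Perm GolayPt) • b' = b)
    (hX : ∀ g ∈ M24, ∀ x ∈ X, g • x ∈ X) :
    ∃ r : Fin k → α, (∀ i, r i ∈ X ∧
      (MulAction.orbit (MulAction.stabilizer M24 b') (r i)).ncard = len i) ∧
      X = ⋃ i, MulAction.orbit (MulAction.stabilizer M24 b') (r i) := by
  refine ⟨fun i => a⁻¹ • D.rep i, fun i => ⟨hX _ (a⁻¹).2 _ (D.rep_mem i), ?_⟩, ?_⟩
  · rw [orbit_moved ha, Set.ncard_image_of_injective _ (MulAction.injective _), D.ncard]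
  · ext x
    simp only [orbit_moved ha, Set.mem_iUnion, Set.mem_image, D.orbit_eq, Set.mem_ofPred_eq]
    constructor
    · intro hx
      obtain ⟨i, hi⟩ := D.cover (a • x) (hX _ a.2 _ hx)
      exact ⟨i, a • x, ⟨hX _ a.2 _ hx, hi⟩, inv_smul_smul a x⟩
    · rintro ⟨i, y, ⟨hy, -⟩, rfl⟩
      exact hX _ (a⁻¹).2 _ hy

/-! ### The kinds of objects -/

theorem oct_step : StepSound (fun t r m => img (tblNat t) r == m) (fun n => toSet n) :=
  fun _ _ _ hidx r m h => by rw [smul_toSet hidx, beq_iff_eq.1 h]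

theorem sx_step : StepSound M24Sextet.step M24Sextet.sx :=
  fun _ _ hg hidx _ _ h => M24Sextet.step_sound hg hidx h

theorem tr_step : StepSound M24Trio.step M24Trio.tr := fun _ _ _ hidx _ _ h => M24Trio.step_sound hidx h

theorem toSet_fix (m : ℕ) : FixSound (fun t => img (tblNat t) m == m) (toSet m) :=
  fun _ _ _ hidx h => by rw [smul_toSet hidx, beq_iff_eq.1 h]

theorem sx_fix (m : ℕ) : FixSound (fun t => M24Sextet.step t m m) (M24Sextet.sx m) :=
  fun _ _ hg hidx h => M24Sextet.step_sound hg hidx h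

theorem tr_fix (m : ℕ) : FixSound (fun t => M24Trio.step t m m) (M24Trio.tr m) :=
  fun _ _ _ hidx h => M24Trio.step_sound hidx h

/-- Canonical masks of octads. -/
def octCanon (n : ℕ) : Bool := decide (n < 2 ^ 24) && isCW n && pc n == 8

/-- Canonical masks of sextets. -/
def sxCanon (n : ℕ) : Bool := decide (n < 2 ^ 24) && n.testBit 23 && pc n == 4

/-- Canonical codes of trios. -/
def trCanon (n : ℕ) : Bool :=
  M24Trio.valid n && (M24Trio.fstO n).testBit 23 && decide (M24Trio.sndO n < M24Trio.thdO n)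

theorem oct_inj : ∀ a c, octCanon a = true → octCanon c = true → toSet a = toSet c → a = c := by
  intro a c ha hc h
  simp only [octCanon, Bool.and_eq_true, decide_eq_true_iff] at ha hc
  exact toSet_inj ha.1.1 hc.1.1 h

theorem oct_mem : ∀ n, octCanon n = true → toSet n ∈ octads := by
  intro n h
  simp only [octCanon, Bool.and_eq_true, decide_eq_true_iff, beq_iff_eq, isCW] at h
  exact mem_octads.2 ⟨n, mem_cwOfWeight.2 ⟨mem_cw.2 ⟨n % 4096, Nat.mod_lt _ (by norm_num), h.1.2⟩, h.2⟩, rfl⟩

theorem octads_count : octads.ncard = 759 := (ncard_weight 8).trans cwOfWeight_length.1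

theorem sx_canon_inj : ∀ a c, sxCanon a = true → sxCanon c = true →
    M24Sextet.sx a = M24Sextet.sx c → a = c := by
  intro a c ha hc h
  simp only [sxCanon, Bool.and_eq_true, decide_eq_true_iff, beq_iff_eq] at ha hc
  have hma : toSet a ∈ M24Sextet.sx c := h ▸ Finset.mem_insert_self _ _
  have hmc : toSet c ∈ M24Sextet.sx c := Finset.mem_insert_self _ _
  refine toSet_inj ha.1.1 hc.1.1 ?_
  by_contra hne
  exact Finset.disjoint_left.1
    (Sextets.sextet_disjoint (Sextets.sextetOf_mem ((card_toSet c).trans hc.2)) hma hmc hne)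
    (show pt 23 ∈ toSet a by rw [mem_toSet, idx_pt (show 23 < 24 by norm_num)]; exact ha.1.2)
    (show pt 23 ∈ toSet c by rw [mem_toSet, idx_pt (show 23 < 24 by norm_num)]; exact hc.1.2)

theorem sx_canon_mem : ∀ n, sxCanon n = true → M24Sextet.sx n ∈ sextets := by
  intro n h
  simp only [sxCanon, Bool.and_eq_true, decide_eq_true_iff, beq_iff_eq] at h
  exact Sextets.sextetOf_mem ((card_toSet n).trans h.2)

theorem tr_canon_mem : ∀ n, trCanon n = true → M24Trio.tr n ∈ trios := by
  intro n h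
  simp only [trCanon, Bool.and_eq_true] at h
  exact (M24Trio.valid_sound h.1.1).1

theorem tr_canon_inj : ∀ a c, trCanon a = true → trCanon c = true →
    M24Trio.tr a = M24Trio.tr c → a = c := by
  intro a b ha hb h
  simp only [trCanon, Bool.and_eq_true, decide_eq_true_iff] at ha hb
  obtain ⟨⟨va, ta⟩, la⟩ := ha
  obtain ⟨⟨vb, tb⟩, lb⟩ := hb
  obtain ⟨hTa, a1, a2, a3⟩ := M24Trio.valid_sound va
  obtain ⟨hTb, b1, b2, b3⟩ := M24Trio.valid_sound vb
  have hf : M24Trio.fstO a = M24Trio.fstO b := toSet_inj a1 b1 (by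
    by_contra hne
    exact Finset.disjoint_left.1 (hTb.2.2 _ (h ▸ by simp [M24Trio.tr]) _ (by simp [M24Trio.tr]) hne)
      (show pt 23 ∈ toSet (M24Trio.fstO a) by rw [mem_toSet, idx_pt (show 23 < 24 by norm_num)]; exact ta)
      (show pt 23 ∈ toSet (M24Trio.fstO b) by rw [mem_toSet, idx_pt (show 23 < 24 by norm_num)]; exact tb))
  refine M24Trio.key_inj va vb hf ?_
  have hne : ∀ {n : ℕ}, M24Trio.tr n ∈ trios →
      toSet (M24Trio.sndO n) ≠ toSet (M24Trio.fstO n) := fun {n} hn e => by
    have := hn.1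
    rw [M24Trio.tr, e, Finset.insert_eq_of_mem (Finset.mem_insert_self _ _)] at this
    have h2 := Finset.card_le_two (a := toSet (M24Trio.fstO n)) (b := toSet (M24Trio.thdO n))
    omega
  have xor3 : ∀ n, M24Trio.sndO n ^^^ M24Trio.thdO n = (2 ^ 24 - 1) ^^^ M24Trio.fstO n := fun n => by
    rw [M24Trio.thdO, Nat.xor_comm, Nat.xor_assoc, Nat.xor_self, Nat.xor_zero]
  have m2 : toSet (M24Trio.sndO a) ∈ M24Trio.tr b := h ▸ by simp [M24Trio.tr]
  simp only [M24Trio.tr, Finset.mem_insert, Finset.mem_singleton] at m2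
  rcases m2 with e | e | e
  · exact absurd (hf ▸ e) (hne hTa)
  · exact toSet_inj a2 b2 e
  · have e' := toSet_inj a2 b3 e
    have h3 : M24Trio.thdO a = M24Trio.sndO b := by
      have := xor3 a
      rw [e', hf, ← xor3 b, Nat.xor_comm (M24Trio.sndO b)] at this
      exact Nat.xor_right_inj.1 this
    omega

theorem oct_closed : ∀ g ∈ M24, ∀ x ∈ octads, g • x ∈ octads := fun _ hg _ hx => smul_mem_weight hg hx

theorem sx_closed : ∀ g ∈ M24, ∀ x ∈ sextets, g • x ∈ sextets := fun _ hg _ hx =>
  M24Sextet.smul_sextet hg hx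

theorem tr_closed : ∀ g ∈ M24, ∀ x ∈ trios, g • x ∈ trios := fun _ hg _ hx => M24Trio.smul_trio hg hx

/-- The six masks are the sextet. -/
def sxOK (n : ℕ) : Bool :=
  pc n == 4 && decide (n < 2 ^ 24) && (octsOn n).all fun o => pc (o ^^^ n) == 4 && o &&& n == n

theorem sx_list {n : ℕ} (h : sxOK n = true)
    (hnd : ((M24Sextet.sxList n).map toSet).toFinset.card = 6) :
    M24Sextet.sx n = ((M24Sextet.sxList n).map toSet).toFinset := by
  classical
  simp only [sxOK, Bool.and_eq_true, beq_iff_eq, decide_eq_true_iff, List.all_eq_true] at h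
  obtain ⟨⟨h4, hlt⟩, ho⟩ := h
  have hn' : (toSet n).card = 4 := (card_toSet n).trans h4
  refine (Finset.eq_of_subset_of_card_le ?_ (le_of_eq ?_)).symm
  · intro t ht
    simp only [List.mem_toFinset, List.mem_map, M24Sextet.sxList, List.mem_cons] at ht
    obtain ⟨k, rfl | ⟨o, hok, rfl⟩, rfl⟩ := ht
    · exact Finset.mem_insert_self _ _
    · obtain ⟨hc, hand⟩ := ho o hok
      refine Finset.mem_insert_of_mem ((Sextets.mem_partners hn').2 ⟨(card_toSet _).trans hc, ?_, ?_⟩)
      · rw [Finset.disjoint_left]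
        intro p hp hp'
        have hpo : p ∈ toSet o := by
          rw [← hand, ← toSet_inter, Finset.mem_inter] at hp; exact hp.1
        rw [mem_toSet, Nat.testBit_xor, mem_toSet.1 hp, mem_toSet.1 hpo] at hp'
        simp at hp'
      · have e : toSet n ∪ toSet (o ^^^ n) = toSet o := by
          ext p
          simp only [Finset.mem_union, mem_toSet, Nat.testBit_xor]
          have : n.testBit (idx p) = true → o.testBit (idx p) = true := fun h => by
            rw [← hand, Nat.testBit_and, Bool.and_eq_true] at h; exact h.1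
          cases h1 : n.testBit (idx p) <;> cases h2 : o.testBit (idx p) <;> simp_all
        rw [e]
        exact mem_octads.2 ⟨o, (List.mem_filter.1 hok).1, rfl⟩
  · rw [hnd]; exact (Sextets.sextetOf_mem hn').1

theorem W_fix {g : Equiv.Perm GolayPt} {B : Finset (Finset GolayPt)} (hB : g • B = B)
    (X : Finset (Finset GolayPt)) : M24Trio.W B (g • X) = M24Trio.W B X := by
  conv_lhs => rw [← hB]
  exact M24Trio.W_smul g B X

end CfsgLib.ThreeTransp.OrbitCert
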