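import Cfsg.Agent.Lib.ThreeTransp.OrbitCert

/-!
# Base configurations for the orbit certificates
-/

set_option autoImplicit false

namespace CfsgLib.ThreeTransp.OrbitBase

open Cfsg CfsgLib.SmallGroups.Golay CfsgLib.SmallGroups.GolayOctads CfsgLib.SmallGroups.M24Group
open CfsgLib.SmallGroups.Mathieu CfsgLib.Sporadic CfsgLib.Sporadic.M24Orbits
open CfsgLib.ThreeTransp.OrbitCert
open scoped Pointwise

/-- Generators of the stabiliser of a pair of dodecads. -/
def gensDuum : List (List ℕ) := [[15, 23, 20, 3, 17, 13, 6, 2, 9, 10, 19, 22, 21, 0, 16, 4, 12, 1, 8, 7, 18, 14, 11, 5], [5, 1, 19, 3, 16, 15, 20, 11, 8, 6, 9, 2, 14, 0, 4, 21, 23, 17, 7, 18, 22, 13, 10, 12], [15, 21, 8, 3, 4, 5, 11, 20, 7, 2, 10, 22, 1, 12, 13, 16, 23, 0, 19, 6, 9, 14, 18, 17], [16, 0, 20, 22, 1, 5, 9, 3, 6, 2, 10, 18, 14, 23, 13, 4, 17, 12, 7, 11, 19, 15, 8, 21], [6, 19, 21, 12, 9, 11, 17, 5, 13, 0, 1, 16, 22, 10, 8, 2, 20, 18, 4, 14, 23, 3, 15, 7]]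

/-- Generators of the stabiliser of a triad. -/
def gensY : List (List ℕ) := [[23, 3, 4, 7, 9, 22, 11, 20, 13, 10, 15, 18, 12, 2, 6, 17, 21, 14, 5, 1, 16, 19, 8, 0], [0, 18, 3, 14, 8, 6, 11, 20, 13, 2, 15, 4, 23, 21, 19, 17, 10, 1, 5, 7, 9, 22, 16, 12]]

/-- The base triad. -/
def triB : ℕ := 8392705

/-- The base pair of dodecads. -/
def duum : Finset (Finset GolayPt) := {toSet dodB, toSet (dodB ^^^ 16777215)}

/-- The test for the pair. -/
def duumFix (t : List ℕ) : Bool :=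
  (img (tblNat t) dodB == dodB && img (tblNat t) (dodB ^^^ 16777215) == (dodB ^^^ 16777215)) ||
    (img (tblNat t) dodB == (dodB ^^^ 16777215) && img (tblNat t) (dodB ^^^ 16777215) == dodB)

theorem duum_fix : FixSound duumFix duum := by
  intro t g _ hidx h
  simp only [duumFix, Bool.or_eq_true, Bool.and_eq_true, beq_iff_eq] at h
  rw [duum, Finset.smul_finset_insert, Finset.smul_finset_singleton, smul_toSet hidx, smul_toSet hidx]
  rcases h with ⟨h1, h2⟩ | ⟨h1, h2⟩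
  · rw [h1, h2]
  · rw [h1, h2, Finset.pair_comm]

theorem meet_smul (g : Equiv.Perm GolayPt) {Y : Finset GolayPt} (hY : g • Y = Y)
    (S : Finset (Finset GolayPt)) :
    ((g • S).filter fun t => (t ∩ Y).Nonempty).card = (S.filter fun t => (t ∩ Y).Nonempty).card := by
  symm
  refine Finset.card_bij (fun t _ => g • t) ?_ (fun _ _ _ _ e => smul_left_cancel g e) ?_
  · intro t ht
    rw [Finset.mem_filter] at ht ⊢
    refine ⟨Finset.smul_mem_smul_finset ht.1, ?_⟩
    rw [← hY, ← Finset.smul_finset_inter]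
    exact ht.2.smul_finset
  · intro u hu
    rw [Finset.mem_filter] at hu
    obtain ⟨t, ht, rfl⟩ := Finset.mem_smul_finset.1 hu.1
    refine ⟨t, Finset.mem_filter.2 ⟨ht, ?_⟩, rfl⟩
    have := hu.2
    rw [← hY, ← Finset.smul_finset_inter] at this
    exact Finset.image_nonempty.1 this

end CfsgLib.ThreeTransp.OrbitBase
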