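import Cfsg.Agent.Lib.ThreeTransp.OrbitDefs
import Cfsg.Agent.Lib.Sporadic.SextetData

/-!
# Orbit decomposition `SxOct`
-/

set_option autoImplicit false

namespace CfsgLib.ThreeTransp.OrbitBase

open Cfsg CfsgLib.SmallGroups.Golay CfsgLib.SmallGroups.GolayOctads CfsgLib.SmallGroups.M24Group
open CfsgLib.SmallGroups.Mathieu CfsgLib.Sporadic CfsgLib.Sporadic.M24Orbits
open CfsgLib.ThreeTransp.OrbitCert
open scoped Pointwise

set_option maxRecDepth 100000 in
/-- Spanning tree `0`. -/
def sxOctTree0 : Tree := (.node 0 416040 (.node 0 11010247 (.node 0 4415544 .leaf .leaf) (.node 2 2890176 (.node 0 6889680 (.node 0 4536592 .leaf .leaf) .leaf) .leaf)) (.node 2 5350928 (.node 0 1351424 (.node 0 3704512 (.node 2 8536111 .leaf .leaf) (.node 2 8657159 (.node 0 2769128 .leaf .leaf) .leaf)) (.node 2 9471495 (.node 0 1230376 .leaf .leaf) .leaf)) .leaf))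

set_option maxRecDepth 100000 in
/-- Spanning tree `1`. -/
def sxOctTree1 : Tree := (.node 0 2627629 (.node 0 8937586 (.node 0 8855820 (.node 0 2115979 (.node 0 4325622 (.node 2 6455896 (.node 0 1413139 .leaf (.node 2 2130606 (.node 0 13811730 (.node 2 6857221 (.node 2 115766 .leaf .leaf) .leaf) .leaf) .leaf)) .leaf) (.node 2 4921504 (.node 0 13121601 (.node 0 602472 (.node 0 8989058 (.node 0 4336072 (.node 2 2268296 .leaf .leaf) (.node 2 5405696 (.node 2 11046145 .leaf .leaf) .leaf)) (.node 2 1070536 (.node 0 4785798 .leaf (.node 2 9048457 .leaf .leaf)) .leaf)) (.node 2 126216 (.node 2 9968772 .leaf .leaf) .leaf)) (.node 2 3328320 (.node 0 99029 (.node 2 1245726 (.node 0 1460739 .leaf .leaf) .leaf) .leaf) .leaf)) .leaf)) (.node 2 3421328 (.node 0 7079696 (.node 2 8704546 (.node 0 12222476 (.node 0 57883 .leaf (.node 2 2121909 (.node 0 12861748 (.node 0 10768524 .leaf .leaf) .leaf) .leaf)) (.node 2 4989254 (.node 0 2322816 (.node 0 4721045 (.node 0 4485344 .leaf (.node 2 252432 .leaf .leaf)) (.node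 2 3806496 (.node 2 10506593 .leaf .leaf) .leaf)) .leaf) .leaf)) .leaf) (.node 2 8783649 (.node 0 11535529 (.node 0 12584506 (.node 0 9835530 (.node 2 14950785 (.node 0 6295992 .leaf (.node 2 504864 .leaf .leaf)) .leaf) .leaf) (.node 2 8593633 (.node 2 3351624 (.node 0 69395 .leaf .leaf) .leaf) .leaf)) (.node 2 10825794 (.node 0 2820376 (.node 0 272595 .leaf (.node 2 3168928 (.node 0 14156372 .leaf .leaf) .leaf)) .leaf) .leaf)) .leaf)) .leaf)) (.node 2 4744776 (.node 0 1127686 (.node 0 675712 (.node 0 5252293 (.node 0 4282144 .leaf (.node 2 8619033 (.node 0 298027 .leaf (.node 2 11608708 .leaf .leaf)) .leaf)) (.node 2 11163650 (.node 0 663645 (.node 0 352547 (.node 0 10619300 (.node 0 12599513 .leaf .leaf) .leaf) (.node 2 2180760 (.node 0 5508118 (.node 0 2512448 .leaf .leaf) (.node 2 10093218 (.node 2 6447171 .leaf .leaf) .leaf)) .leaf)) (.node 2 6842656 (.node 0 8401364 (.node 0 5063048 (.node 2 2019456 .leaf .leaf) .leaf) (.node 2 580704 (.node 0 9020484 .leaf .leaf) .leaf)) .leaf)) .leaf)) (.node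 2 13636881 (.node 0 792232 (.node 0 16262146 (.node 0 145176 .leaf (.node 2 12641313 (.node 0 8426796 .leaf .leaf) .leaf)) (.node 2 8798658 (.node 0 6488205 .leaf .leaf) .leaf)) (.node 2 8499969 .leaf .leaf)) .leaf)) (.node 2 8963210 (.node 0 4367374 (.node 0 185603 (.node 0 689317 (.node 2 10698836 (.node 0 346141 .leaf .leaf) .leaf) (.node 2 15274244 (.node 0 555160 .leaf (.node 2 1110320 (.node 2 530245 .leaf .leaf) .leaf)) .leaf)) (.node 2 14714004 (.node 0 4510744 (.node 0 2921478 .leaf (.node 2 9208708 (.node 0 7397512 (.node 0 4231958 .leaf .leaf) (.node 2 421910 (.node 0 3031301 .leaf .leaf) .leaf)) .leaf)) .leaf) .leaf)) (.node 2 13262980 (.node 0 4223245 (.node 0 545190 (.node 2 4870480 (.node 2 2675464 .leaf .leaf) .leaf) (.node 2 628112 (.node 0 5024896 (.node 0 6337856 .leaf (.node 2 8834052 .leaf .leaf)) (.node 2 9589508 .leaf .leaf)) .leaf)) (.node 2 2810896 (.node 0 304405 (.node 0 2409888 .leaf .leaf) .leaf) .leaf)) .leaf)) .leaf)) .leaf)) (.node 2 84464 (.node 0 12912836 (.node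 0 6379592 (.node 0 596054 (.node 0 1009728 (.node 0 2173253 .leaf (.node 2 3951624 (.node 2 9193633 .leaf .leaf) .leaf)) (.node 2 5262104 (.node 0 1315526 (.node 0 8077824 (.node 0 1063445 .leaf .leaf) (.node 2 4587803 .leaf .leaf)) (.node 2 563843 (.node 0 5939296 (.node 2 2147405 (.node 2 8978620 .leaf .leaf) .leaf) (.node 2 4409606 .leaf .leaf)) .leaf)) .leaf)) (.node 2 1608104 (.node 0 12624578 (.node 0 5476616 (.node 2 3182981 (.node 0 4768432 (.node 0 13938692 .leaf .leaf) (.node 2 201013 .leaf .leaf)) .leaf) .leaf) (.node 2 153797 .leaf .leaf)) .leaf)) (.node 2 1484824 (.node 0 2392899 (.node 0 3375280 (.node 0 12880401 (.node 0 3444840 (.node 2 262637 .leaf .leaf) (.node 2 371206 .leaf .leaf)) (.node 2 3277413 (.node 0 9519665 (.node 0 9701932 .leaf .leaf) .leaf) .leaf)) (.node 2 4526126 .leaf .leaf)) (.node 2 2363013 (.node 0 7357552 (.node 0 8721940 (.node 2 9708306 (.node 2 4470275 (.node 2 12944642 .leaf .leaf) .leaf) .leaf) (.node 2 8946281 (.node 2 90318 .leaf .leaf) .leaf)) (.node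 2 8849458 (.node 2 7612992 (.node 0 3216208 (.node 0 1903248 .leaf .leaf) .leaf) .leaf) .leaf)) .leaf)) .leaf)) (.node 2 1710664 (.node 0 1647171 (.node 0 1256224 (.node 0 9440193 (.node 0 5309160 (.node 0 13703682 .leaf (.node 2 1212619 .leaf .leaf)) (.node 2 210955 (.node 0 657763 .leaf (.node 2 7409024 (.node 2 9607201 .leaf .leaf) .leaf)) .leaf)) (.node 2 3152963 (.node 0 722544 (.node 0 9776129 .leaf (.node 2 11551306 (.node 2 4726955 .leaf .leaf) .leaf)) (.node 2 12650793 (.node 0 8394986 (.node 0 13303882 .leaf .leaf) (.node 2 1161408 .leaf .leaf)) .leaf)) .leaf)) (.node 2 5325835 (.node 2 14254209 (.node 2 1302533 (.node 2 3736597 (.node 0 290352 (.node 0 11797828 .leaf .leaf) .leaf) .leaf) .leaf) .leaf) .leaf)) .leaf) .leaf)) .leaf)) (.node 2 4038912 (.node 0 2141072 (.node 0 5538256 (.node 0 6656640 (.node 0 7903248 (.node 0 832080 .leaf (.node 2 52005 (.node 0 9486564 (.node 0 12698124 (.node 2 1613974 .leaf .leaf) .leaf) .leaf) .leaf)) (.node 2 1474854 (.node 0 10666625 (.node 0 5275709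 .leaf (.node 2 2826278 (.node 0 8546577 (.node 2 2702848 .leaf .leaf) .leaf) .leaf)) (.node 2 6557781 (.node 0 2969648 (.node 0 11282452 .leaf (.node 2 1852256 .leaf .leaf)) (.node 2 361272 (.node 0 11831426 (.node 2 4597797 (.node 2 2460752 .leaf .leaf) .leaf) .leaf) .leaf)) .leaf)) .leaf)) (.node 2 430605 (.node 0 3719203 (.node 0 8561204 (.node 0 9748745 (.node 2 864389 .leaf .leaf) (.node 2 2106966 (.node 0 1525008 .leaf .leaf) .leaf)) (.node 2 4800613 (.node 0 8484900 (.node 0 8931660 .leaf (.node 2 1584464 (.node 0 337856 .leaf (.node 2 8412681 .leaf .leaf)) .leaf)) (.node 2 1687640 (.node 2 1589901 (.node 0 5268006 (.node 2 4752467 .leaf .leaf) (.node 2 737427 .leaf .leaf)) .leaf) .leaf)) .leaf)) (.node 2 2425238 (.node 0 6703248 (.node 2 3050016 (.node 0 11575377 .leaf (.node 2 2377830 (.node 2 4982904 (.node 2 314056 .leaf .leaf) .leaf) .leaf)) .leaf) (.node 2 5640752 (.node 0 12325377 (.node 0 3678776 .leaf .leaf) .leaf) .leaf)) .leaf)) .leaf)) (.node 2 138790 (.node 0 10110017 (.node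 0 75309 (.node 0 9456930 (.node 0 8521420 (.node 2 10625178 .leaf .leaf) .leaf) (.node 2 9503954 (.node 0 4656648 .leaf (.node 2 13771273 (.node 0 1053483 (.node 2 4264387 .leaf .leaf) (.node 2 2204803 (.node 0 4361520 .leaf (.node 2 13829156 .leaf .leaf)) .leaf)) .leaf)) .leaf)) (.node 2 11100169 (.node 0 10558 (.node 2 4202192 (.node 0 6100032 .leaf (.node 2 8555274 (.node 2 6305926 .leaf .leaf) .leaf)) .leaf) (.node 2 1664160 (.node 0 12594948 (.node 2 8436754 (.node 0 951624 .leaf .leaf) .leaf) .leaf) .leaf)) .leaf)) (.node 2 14682450 (.node 0 463064 (.node 0 7145475 (.node 0 2242672 (.node 2 2101096 .leaf .leaf) (.node 2 5621792 (.node 0 10525252 .leaf (.node 2 1869893 .leaf .leaf)) .leaf)) (.node 2 3539848 (.node 0 7340691 (.node 2 4424227 (.node 2 7438406 .leaf .leaf) .leaf) (.node 2 2494627 (.node 2 6750560 .leaf .leaf) .leaf)) .leaf)) (.node 2 4241960 (.node 0 9998658 (.node 0 762504 (.node 0 5286147 (.node 0 168928 (.node 2 2232654 .leaf .leaf) .leaf) .leaf) .leaf) (.node 2 36294 (.node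 0 4441280 (.node 0 4299781 (.node 2 9537812 .leaf .leaf) .leaf) (.node 2 12720156 (.node 0 806987 .leaf .leaf) .leaf)) .leaf)) .leaf)) .leaf)) .leaf)) (.node 2 1332261 (.node 0 11028004 (.node 0 9462812 (.node 0 280334 (.node 0 3294342 (.node 0 4343317 (.node 2 11108882 .leaf .leaf) (.node 2 15335473 (.node 0 8663097 (.node 0 11272490 .leaf .leaf) (.node 2 2220640 (.node 2 1573998 .leaf .leaf) .leaf)) .leaf)) (.node 2 13373586 (.node 0 7221256 (.node 0 2634003 (.node 0 926128 .leaf .leaf) .leaf) (.node 2 4645632 .leaf .leaf)) .leaf)) (.node 2 8922769 (.node 0 5514536 (.node 0 10491778 (.node 0 5899416 .leaf (.node 2 12726562 .leaf .leaf)) (.node 2 8688833 (.node 0 6915112 .leaf .leaf) .leaf)) (.node 2 8611330 (.node 0 1182989 (.node 0 18147 .leaf (.node 2 10557585 .leaf .leaf)) .leaf) .leaf)) .leaf)) .leaf) (.node 2 9240913 (.node 0 2435240 (.node 2 1445088 (.node 0 14747201 (.node 0 1121336 (.node 0 9178690 (.node 2 12871690 .leaf .leaf) .leaf) (.node 2 9543722 .leaf .leaf)) (.node 2 10881097 (.node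 0 2162811 .leaf .leaf) .leaf)) .leaf) (.node 2 1405448 (.node 0 3672838 (.node 0 1204944 (.node 0 5571333 .leaf (.node 2 2754059 (.node 0 1188915 .leaf (.node 2 14762146 .leaf .leaf)) .leaf)) (.node 2 4216883 (.node 0 9310308 (.node 2 2384216 .leaf .leaf) (.node 2 4819776 (.node 2 1103886 (.node 0 705094 (.node 2 6832158 .leaf .leaf) .leaf) .leaf) .leaf)) .leaf)) (.node 2 1836419 (.node 0 6432416 (.node 2 10650722 (.node 2 14688364 (.node 0 8474906 (.node 0 919694 .leaf (.node 2 5780352 .leaf .leaf)) (.node 2 42232 .leaf .leaf)) .leaf) .leaf) .leaf) .leaf)) .leaf)) .leaf)) .leaf)) .leaf))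

set_option maxRecDepth 100000 in
/-- Spanning tree `2`. -/
def sxOctTree2 : Tree := (.node 0 702724 (.node 0 582081 (.node 0 4301220 (.node 0 12638592 (.node 0 4755660 .leaf .leaf) (.node 2 1217620 (.node 0 902657 (.node 0 3189796 (.node 2 8391797 (.node 2 8464984 (.node 0 1378634 (.node 2 5511305 .leaf .leaf) (.node 2 1060490 (.node 2 12717187 .leaf .leaf) .leaf)) .leaf) .leaf) (.node 2 10305542 (.node 0 2255372 (.node 0 1065303 (.node 0 475812 (.node 2 4063314 .leaf .leaf) (.node 2 4788761 .leaf .leaf)) (.node 2 2624690 (.node 2 12733024 (.node 0 9506893 (.node 0 608810 .leaf .leaf) .leaf) .leaf) .leaf)) (.node 2 6053905 (.node 0 2372388 .leaf .leaf) .leaf)) .leaf)) (.node 2 10486557 (.node 0 1327290 (.node 0 15073798 (.node 2 6594610 (.node 0 10916112 (.node 0 2916505 .leaf .leaf) (.node 2 4490852 (.node 2 8683614 .leaf .leaf) .leaf)) .leaf) (.node 2 5112513 (.node 0 7417889 (.node 2 1148257 .leaf .leaf) (.node 2 2605066 (.node 0 2263063 (.node 2 6359604 .leaf .leaf) .leaf) .leaf)) .leaf)) (.node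 2 78514 (.node 0 14551296 (.node 0 2110153 (.node 0 5833010 (.node 2 5296705 (.node 0 1675812 .leaf (.node 2 622863 .leaf .leaf)) .leaf) (.node 2 198058 (.node 2 15864000 .leaf .leaf) .leaf)) (.node 2 2422785 .leaf .leaf)) (.node 2 5375810 (.node 0 1250945 (.node 0 5770785 (.node 2 8505411 (.node 0 231532 .leaf .leaf) .leaf) (.node 2 11731203 .leaf .leaf)) (.node 2 14716939 .leaf .leaf)) .leaf)) .leaf)) .leaf)) .leaf)) (.node 2 742412 (.node 0 551943 (.node 0 157028 (.node 0 8471941 (.node 0 4213932 (.node 2 9078992 (.node 0 4563017 .leaf .leaf) .leaf) (.node 2 10170384 (.node 0 797449 (.node 0 3154402 (.node 2 4330601 .leaf .leaf) (.node 2 351362 (.node 0 6949956 .leaf .leaf) .leaf)) .leaf) .leaf)) (.node 2 11015256 (.node 0 861210 (.node 0 2501890 .leaf (.node 2 13911680 (.node 0 7345676 .leaf .leaf) .leaf)) (.node 2 8414120 (.node 0 13631886 (.node 0 4346506 .leaf (.node 2 4370577 .leaf .leaf)) .leaf) .leaf)) .leaf)) (.node 2 13192208 (.node 0 277580 (.node 2 8654232 (.node 0 6554826 (.node 0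 6493202 .leaf (.node 2 13009064 .leaf .leaf)) (.node 2 8796800 (.node 0 7864649 .leaf .leaf) .leaf)) .leaf) (.node 2 10021376 (.node 0 1090380 (.node 0 1164162 (.node 0 5409412 .leaf (.node 2 5902343 (.node 2 6406417 .leaf .leaf) .leaf)) (.node 2 5279 (.node 2 12780432 (.node 2 3322370 .leaf .leaf) .leaf) .leaf)) .leaf) .leaf)) .leaf)) (.node 2 12075408 (.node 0 4465308 (.node 0 7622914 (.node 2 5017889 (.node 0 11055264 .leaf (.node 2 381252 (.node 0 2738308 (.node 0 4253780 .leaf .leaf) .leaf) .leaf)) .leaf) (.node 2 427666 (.node 0 7767041 (.node 2 10846245 (.node 0 10537016 (.node 2 535268 .leaf .leaf) (.node 2 1384564 .leaf .leaf)) .leaf) .leaf) .leaf)) (.node 2 684577 (.node 0 9969957 (.node 2 95313 (.node 0 855332 (.node 0 10513600 (.node 0 4261212 .leaf .leaf) (.node 2 9721936 .leaf .leaf)) (.node 2 10028808 (.node 2 9465987 (.node 0 4850476 .leaf .leaf) .leaf) .leaf)) .leaf) (.node 2 2704706 (.node 0 208020 (.node 0 4476225 (.node 0 2168036 (.node 2 9568632 .leaf .leaf) .leaf) (.node 2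 11669008 (.node 0 1312345 (.node 2 8716939 .leaf .leaf) (.node 2 10496547 (.node 2 4271202 .leaf .leaf) .leaf)) .leaf)) (.node 2 14176296 .leaf .leaf)) .leaf)) .leaf)) .leaf)) .leaf)) (.node 2 2120980 (.node 0 804052 (.node 0 6644740 (.node 2 10257456 (.node 0 10790408 (.node 0 3179802 (.node 2 12587685 (.node 2 237906 (.node 0 493953 (.node 0 6326497 .leaf .leaf) .leaf) .leaf) .leaf) (.node 2 8660134 (.node 2 12985424 (.node 0 2430217 (.node 2 9769376 .leaf .leaf) .leaf) .leaf) .leaf)) (.node 2 8675909 (.node 0 3227948 (.node 0 8407702 (.node 0 5652556 .leaf (.node 2 4860434 (.node 0 1454401 .leaf .leaf) .leaf)) (.node 2 1577201 (.node 2 213833 .leaf .leaf) .leaf)) .leaf) .leaf)) .leaf) (.node 2 9323032 (.node 0 3416079 (.node 0 2245426 (.node 0 9830549 (.node 0 6570537 (.node 0 11538486 .leaf (.node 2 884962 (.node 0 14919680 .leaf .leaf) .leaf)) (.node 2 2564625 (.node 0 3410225 (.node 2 334433 .leaf .leaf) (.node 2 3474978 .leaf .leaf)) .leaf)) (.node 2 6820450 (.node 2 4243818 .leaf .leaf)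 .leaf)) (.node 2 4523185 (.node 0 14949408 (.node 2 8694112 (.node 0 10584520 (.node 0 4294810 .leaf .leaf) .leaf) .leaf) (.node 2 9929280 (.node 0 3246601 (.node 0 1084018 (.node 2 4196943 .leaf .leaf) (.node 2 1116327 (.node 2 5441617 .leaf .leaf) .leaf)) .leaf) .leaf)) .leaf)) (.node 2 2908802 (.node 0 7479572 (.node 2 2135601 (.node 2 8455014 (.node 0 9652360 .leaf (.node 2 5255258 .leaf .leaf)) .leaf) .leaf) (.node 2 5129250 (.node 0 10630149 (.node 0 542009 .leaf .leaf) (.node 2 15515712 (.node 0 2207772 .leaf .leaf) .leaf)) .leaf)) .leaf)) .leaf)) (.node 2 8919856 (.node 0 10232008 (.node 0 6365962 (.node 0 1186194 (.node 2 6429441 (.node 2 2201890 .leaf .leaf) .leaf) (.node 2 5280930 (.node 0 13276672 (.node 0 1618953 .leaf .leaf) (.node 2 12747077 (.node 0 118953 (.node 0 13142054 (.node 0 8581192 .leaf .leaf) .leaf) .leaf) .leaf)) .leaf)) .leaf) (.node 2 31554 (.node 0 1769924 (.node 0 4287105 (.node 0 5249380 (.node 0 8999616 (.node 0 5842956 (.node 2 1100945 .leaf .leaf) .leaf) (.node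 2 39257 (.node 2 72588 (.node 0 5785794 .leaf .leaf) .leaf) .leaf)) (.node 2 1805314 (.node 0 175681 .leaf (.node 2 15747077 (.node 0 21116 .leaf (.node 2 632881 (.node 2 1134148 .leaf .leaf) .leaf)) .leaf)) .leaf)) (.node 2 3297305 (.node 0 786999 (.node 2 4538962 (.node 0 3610628 (.node 0 2640465 .leaf .leaf) (.node 2 6062602 .leaf .leaf)) .leaf) (.node 2 2687905 (.node 0 13641904 .leaf (.node 2 1265762 (.node 0 9112069 (.node 0 1075305 .leaf (.node 2 3237906 (.node 0 396116 .leaf .leaf) .leaf)) .leaf) .leaf)) .leaf)) .leaf)) (.node 2 4726026 (.node 0 668866 (.node 0 4924673 (.node 0 15777 (.node 0 13108704 (.node 0 12661896 .leaf .leaf) (.node 2 8592704 (.node 0 593097 .leaf .leaf) .leaf)) (.node 2 11654144 (.node 0 560668 .leaf .leaf) .leaf)) (.node 2 14828808 .leaf .leaf)) .leaf) .leaf)) .leaf)) .leaf)) .leaf)) (.node 2 5817604 (.node 0 63108 (.node 2 9045270 (.node 0 418953 (.node 0 6292775 (.node 0 8541360 (.node 0 13370381 (.node 0 2126890 .leaf (.node 2 8773776 (.node 0 6588684 (.node 0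 2150610 .leaf (.node 2 301236 .leaf .leaf)) .leaf) .leaf)) (.node 2 11150144 (.node 0 1122713 (.node 0 4459426 (.node 2 4626498 (.node 0 2854977 .leaf .leaf) .leaf) .leaf) .leaf) .leaf)) (.node 2 12685424 (.node 0 9279496 (.node 0 2664522 .leaf .leaf) .leaf) .leaf)) (.node 2 11469952 (.node 0 6302745 (.node 0 267634 (.node 2 12849992 (.node 0 3739786 (.node 2 5390753 .leaf .leaf) .leaf) .leaf) (.node 2 8490656 (.node 0 13667400 (.node 0 104010 .leaf (.node 2 8431757 .leaf .leaf)) (.node 2 9578566 .leaf .leaf)) .leaf)) (.node 2 11952160 .leaf .leaf)) .leaf)) (.node 2 14709264 (.node 0 1839388 (.node 2 283537 (.node 0 8126628 (.node 2 442481 (.node 2 2949708 .leaf .leaf) .leaf) (.node 2 987906 (.node 0 3811457 (.node 0 4203377 .leaf (.node 2 2313249 (.node 2 12126304 .leaf .leaf) .leaf)) .leaf) .leaf)) .leaf) (.node 2 567074 (.node 0 9610624 (.node 0 4229001 (.node 2 8622214 (.node 0 4900873 (.node 0 45159 .leaf .leaf) .leaf) .leaf) .leaf) (.node 2 12604486 (.node 2 13148440 (.node 0 307594 (.node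 0 6979970 .leaf (.node 2 4593028 .leaf .leaf)) .leaf) .leaf) .leaf)) .leaf)) .leaf)) .leaf) (.node 2 8966165 (.node 0 843820 (.node 0 10543366 (.node 0 180636 (.node 0 4505735 (.node 0 6475812 (.node 2 2654580 .leaf .leaf) (.node 2 5210132 (.node 2 3457556 .leaf .leaf) .leaf)) (.node 2 2757268 .leaf .leaf)) (.node 2 4731956 (.node 0 9204992 (.node 0 2631052 (.node 0 4220306 .leaf .leaf) .leaf) (.node 2 8439632 (.node 0 1410188 (.node 0 6344194 .leaf .leaf) (.node 2 8925710 (.node 0 1728778 (.node 0 140167 .leaf (.node 2 6837377 (.node 2 9158944 .leaf .leaf) .leaf)) .leaf) .leaf)) .leaf)) .leaf)) .leaf) (.node 2 615188 (.node 0 1337732 (.node 0 6308804 (.node 0 5329044 (.node 0 5003780 (.node 0 3698756 .leaf (.node 2 837906 (.node 0 2531524 .leaf .leaf) .leaf)) (.node 2 1737489 (.node 0 1352353 (.node 0 15762208 (.node 0 9474712 .leaf .leaf) (.node 2 459847 .leaf .leaf)) (.node 2 2183687 (.node 0 1722420 .leaf .leaf) .leaf)) .leaf)) (.node 2 692282 (.node 0 9347075 (.node 0 2269481 (.node 0 8421811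 (.node 2 4403780 (.node 0 1661185 .leaf .leaf) .leaf) .leaf) .leaf) .leaf) .leaf)) (.node 2 924689 (.node 0 2892897 (.node 0 10560816 (.node 2 9451104 (.node 2 8398155 .leaf .leaf) .leaf) (.node 2 8733800 (.node 0 10554382 (.node 0 150618 (.node 2 15207048 (.node 2 190626 .leaf .leaf) .leaf) .leaf) .leaf) .leaf)) (.node 2 10832640 (.node 0 3147996 (.node 2 133817 (.node 0 13893731 .leaf (.node 2 2296514 (.node 2 7473194 .leaf .leaf) .leaf)) .leaf) (.node 2 1849378 .leaf .leaf)) .leaf)) .leaf)) (.node 2 1594898 (.node 0 1975812 (.node 0 3172097 (.node 0 1050548 (.node 2 8524371 (.node 0 2031657 (.node 2 3489985 .leaf .leaf) .leaf) .leaf) (.node 2 8983587 (.node 0 9055272 .leaf (.node 2 13721920 .leaf .leaf)) .leaf)) (.node 2 10765331 (.node 0 2491452 (.node 2 10748656 (.node 0 16056344 (.node 0 2365978 .leaf .leaf) (.node 2 402026 .leaf .leaf)) .leaf) (.node 2 13443616 (.node 0 11548936 (.node 0 525274 (.node 0 5709954 .leaf .leaf) .leaf) (.node 2 1369154 (.node 0 2328324 .leaf .leaf) .leaf)) .leaf))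 .leaf)) (.node 2 13124355 (.node 0 1192108 (.node 2 2229713 (.node 2 10687016 (.node 0 9963547 .leaf .leaf) .leaf) .leaf) .leaf) .leaf)) .leaf)) .leaf)) .leaf)) .leaf))

/-- Roots. -/
def sxOctRoot : Fin 3 → ℕ := ![12656663, 13062145, 4845570]

/-- Trees. -/
def sxOctTree : Fin 3 → Tree := ![sxOctTree0, sxOctTree1, sxOctTree2]

set_option maxRecDepth 100000 in
/-- All representatives. -/
def sxOctList : List ℕ := [12656663, 416040, 11010247, 4415544, 2890176, 6889680, 4536592, 5350928, 1351424, 3704512, 8536111, 8657159, 2769128, 9471495, 1230376, 13062145, 2627629, 8937586, 8855820, 2115979, 4325622, 6455896, 1413139, 2130606, 13811730, 6857221, 115766, 4921504, 13121601, 602472, 8989058, 4336072, 2268296, 5405696, 11046145, 1070536, 4785798, 9048457, 126216, 9968772, 3328320, 99029, 1245726, 1460739, 3421328, 7079696, 8704546, 12222476, 57883, 2121909, 12861748, 10768524, 4989254, 2322816, 4721045, 4485344, 252432, 3806496, 10506593, 8783649, 11535529, 12584506, 9835530, 14950785, 6295992, 504864,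 8593633, 3351624, 69395, 10825794, 2820376, 272595, 3168928, 14156372, 4744776, 1127686, 675712, 5252293, 4282144, 8619033, 298027, 11608708, 11163650, 663645, 352547, 10619300, 12599513, 2180760, 5508118, 2512448, 10093218, 6447171, 6842656, 8401364, 5063048, 2019456, 580704, 9020484, 13636881, 792232, 16262146, 145176, 12641313, 8426796, 8798658, 6488205, 8499969, 8963210, 4367374, 185603, 689317, 10698836, 346141, 15274244, 555160, 1110320, 530245, 14714004, 4510744, 2921478, 9208708, 7397512, 4231958, 421910, 3031301, 13262980, 4223245, 545190, 4870480, 2675464, 628112, 5024896, 6337856, 8834052, 9589508, 2810896, 304405, 2409888, 84464, 12912836, 6379592, 596054, 1009728, 2173253, 3951624, 9193633, 5262104, 1315526, 8077824, 1063445, 4587803, 563843, 5939296, 2147405, 8978620, 4409606, 1608104, 12624578, 5476616, 3182981, 4768432, 13938692, 201013, 153797, 1484824, 2392899, 3375280, 12880401, 3444840, 262637, 371206, 3277413, 9519665, 9701932, 4526126, 2363013, 7357552, 8721940, 9708306, 4470275,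 12944642, 8946281, 90318, 8849458, 7612992, 3216208, 1903248, 1710664, 1647171, 1256224, 9440193, 5309160, 13703682, 1212619, 210955, 657763, 7409024, 9607201, 3152963, 722544, 9776129, 11551306, 4726955, 12650793, 8394986, 13303882, 1161408, 5325835, 14254209, 1302533, 3736597, 290352, 11797828, 4038912, 2141072, 5538256, 6656640, 7903248, 832080, 52005, 9486564, 12698124, 1613974, 1474854, 10666625, 5275709, 2826278, 8546577, 2702848, 6557781, 2969648, 11282452, 1852256, 361272, 11831426, 4597797, 2460752, 430605, 3719203, 8561204, 9748745, 864389, 2106966, 1525008, 4800613, 8484900, 8931660, 1584464, 337856, 8412681, 1687640, 1589901, 5268006, 4752467, 737427, 2425238, 6703248, 3050016, 11575377, 2377830, 4982904, 314056, 5640752, 12325377, 3678776, 138790, 10110017, 75309, 9456930, 8521420, 10625178, 9503954, 4656648, 13771273, 1053483, 4264387, 2204803, 4361520, 13829156, 11100169, 10558, 4202192, 6100032, 8555274, 6305926, 1664160, 12594948, 8436754, 951624, 14682450, 463064, 7145475, 2242672,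 2101096, 5621792, 10525252, 1869893, 3539848, 7340691, 4424227, 7438406, 2494627, 6750560, 4241960, 9998658, 762504, 5286147, 168928, 2232654, 36294, 4441280, 4299781, 9537812, 12720156, 806987, 1332261, 11028004, 9462812, 280334, 3294342, 4343317, 11108882, 15335473, 8663097, 11272490, 2220640, 1573998, 13373586, 7221256, 2634003, 926128, 4645632, 8922769, 5514536, 10491778, 5899416, 12726562, 8688833, 6915112, 8611330, 1182989, 18147, 10557585, 9240913, 2435240, 1445088, 14747201, 1121336, 9178690, 12871690, 9543722, 10881097, 2162811, 1405448, 3672838, 1204944, 5571333, 2754059, 1188915, 14762146, 4216883, 9310308, 2384216, 4819776, 1103886, 705094, 6832158, 1836419, 6432416, 10650722, 14688364, 8474906, 919694, 5780352, 42232, 4845570, 702724, 582081, 4301220, 12638592, 4755660, 1217620, 902657, 3189796, 8391797, 8464984, 1378634, 5511305, 1060490, 12717187, 10305542, 2255372, 1065303, 475812, 4063314, 4788761, 2624690, 12733024, 9506893, 608810, 6053905, 2372388, 10486557, 1327290, 15073798,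 6594610, 10916112, 2916505, 4490852, 8683614, 5112513, 7417889, 1148257, 2605066, 2263063, 6359604, 78514, 14551296, 2110153, 5833010, 5296705, 1675812, 622863, 198058, 15864000, 2422785, 5375810, 1250945, 5770785, 8505411, 231532, 11731203, 14716939, 742412, 551943, 157028, 8471941, 4213932, 9078992, 4563017, 10170384, 797449, 3154402, 4330601, 351362, 6949956, 11015256, 861210, 2501890, 13911680, 7345676, 8414120, 13631886, 4346506, 4370577, 13192208, 277580, 8654232, 6554826, 6493202, 13009064, 8796800, 7864649, 10021376, 1090380, 1164162, 5409412, 5902343, 6406417, 5279, 12780432, 3322370, 12075408, 4465308, 7622914, 5017889, 11055264, 381252, 2738308, 4253780, 427666, 7767041, 10846245, 10537016, 535268, 1384564, 684577, 9969957, 95313, 855332, 10513600, 4261212, 9721936, 10028808, 9465987, 4850476, 2704706, 208020, 4476225, 2168036, 9568632, 11669008, 1312345, 8716939, 10496547, 4271202, 14176296, 2120980, 804052, 6644740, 10257456, 10790408, 3179802, 12587685, 237906, 493953, 6326497, 8660134,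 12985424, 2430217, 9769376, 8675909, 3227948, 8407702, 5652556, 4860434, 1454401, 1577201, 213833, 9323032, 3416079, 2245426, 9830549, 6570537, 11538486, 884962, 14919680, 2564625, 3410225, 334433, 3474978, 6820450, 4243818, 4523185, 14949408, 8694112, 10584520, 4294810, 9929280, 3246601, 1084018, 4196943, 1116327, 5441617, 2908802, 7479572, 2135601, 8455014, 9652360, 5255258, 5129250, 10630149, 542009, 15515712, 2207772, 8919856, 10232008, 6365962, 1186194, 6429441, 2201890, 5280930, 13276672, 1618953, 12747077, 118953, 13142054, 8581192, 31554, 1769924, 4287105, 5249380, 8999616, 5842956, 1100945, 39257, 72588, 5785794, 1805314, 175681, 15747077, 21116, 632881, 1134148, 3297305, 786999, 4538962, 3610628, 2640465, 6062602, 2687905, 13641904, 1265762, 9112069, 1075305, 3237906, 396116, 4726026, 668866, 4924673, 15777, 13108704, 12661896, 8592704, 593097, 11654144, 560668, 14828808, 5817604, 63108, 9045270, 418953, 6292775, 8541360, 13370381, 2126890, 8773776, 6588684, 2150610, 301236, 11150144,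 1122713, 4459426, 4626498, 2854977, 12685424, 9279496, 2664522, 11469952, 6302745, 267634, 12849992, 3739786, 5390753, 8490656, 13667400, 104010, 8431757, 9578566, 11952160, 14709264, 1839388, 283537, 8126628, 442481, 2949708, 987906, 3811457, 4203377, 2313249, 12126304, 567074, 9610624, 4229001, 8622214, 4900873, 45159, 12604486, 13148440, 307594, 6979970, 4593028, 8966165, 843820, 10543366, 180636, 4505735, 6475812, 2654580, 5210132, 3457556, 2757268, 4731956, 9204992, 2631052, 4220306, 8439632, 1410188, 6344194, 8925710, 1728778, 140167, 6837377, 9158944, 615188, 1337732, 6308804, 5329044, 5003780, 3698756, 837906, 2531524, 1737489, 1352353, 15762208, 9474712, 459847, 2183687, 1722420, 692282, 9347075, 2269481, 8421811, 4403780, 1661185, 924689, 2892897, 10560816, 9451104, 8398155, 8733800, 10554382, 150618, 15207048, 190626, 10832640, 3147996, 133817, 13893731, 2296514, 7473194, 1849378, 1594898, 1975812, 3172097, 1050548, 8524371, 2031657, 3489985, 8983587, 9055272, 13721920, 10765331, 2491452,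 10748656, 16056344, 2365978, 402026, 13443616, 11548936, 525274, 5709954, 1369154, 2328324, 13124355, 1192108, 2229713, 10687016, 9963547]

theorem sxOct_values : ∀ i, (fun X : Finset GolayPt => M24Trio.W (M24Sextet.sx M24Sextet.m₀) ({X} : Finset (Finset GolayPt))) ((fun n => toSet n) (sxOctRoot i)) = (![32, 16, 14] : Fin 3 → ℕ) i := by
  intro i
  fin_cases i
  · show (fun X : Finset GolayPt => M24Trio.W (M24Sextet.sx M24Sextet.m₀) ({X} : Finset (Finset GolayPt))) ((fun n => toSet n) 12656663) = 32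
    dsimp only
    rw [sx_list (n := M24Sextet.m₀) (by decide +kernel) (by decide +kernel)]
    decide +kernel
  · show (fun X : Finset GolayPt => M24Trio.W (M24Sextet.sx M24Sextet.m₀) ({X} : Finset (Finset GolayPt))) ((fun n => toSet n) 13062145) = 16
    dsimp only
    rw [sx_list (n := M24Sextet.m₀) (by decide +kernel) (by decide +kernel)]
    decide +kernel
  · show (fun X : Finset GolayPt => M24Trio.W (M24Sextet.sx M24Sextet.m₀) ({X} : Finset (Finset GolayPt))) ((fun n => toSet n) 4845570) = 14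
    dsimp only
    rw [sx_list (n := M24Sextet.m₀) (by decide +kernel) (by decide +kernel)]
    decide +kernel

theorem sxOct : Nonempty (Decomp 3 (M24Sextet.sx M24Sextet.m₀) octads (fun X : Finset GolayPt => M24Trio.W (M24Sextet.sx M24Sextet.m₀) ({X} : Finset (Finset GolayPt))) (![32, 16, 14] : Fin 3 → ℕ) (![15, 360, 384] : Fin 3 → ℕ)) :=
  decomp _ _ (fun n => toSet n) (fun t r m => img (tblNat t) r == m) (fun t => M24Sextet.step t M24Sextet.m₀ M24Sextet.m₀) CfsgLib.Sporadic.SextetData.gens oct_step (sx_fix _) (by decide +kernel)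
    octCanon oct_inj oct_mem oct_closed (fun X : Finset GolayPt => M24Trio.W (M24Sextet.sx M24Sextet.m₀) ({X} : Finset (Finset GolayPt))) (fun g _ h X => by
      have := W_fix (g := g) (B := (M24Sextet.sx M24Sextet.m₀)) h ({X} : Finset (Finset GolayPt))
      rwa [Finset.smul_finset_singleton] at this) 759 octads_count (Set.toFinite _)
    sxOctRoot sxOctTree _ _ sxOctList (by decide +kernel) sxOct_values (by decide) (by decide +kernel)
    (by decide +kernel) 3577 (by decide +kernel) (by decide +kernel) (by decide +kernel)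

end CfsgLib.ThreeTransp.OrbitBase
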