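import Cfsg.Agent.Lib.ThreeTransp.OrbitDefs
import Cfsg.Agent.Lib.Sporadic.TrioData

/-!
# Orbit decomposition `TrioOct`
-/

set_option autoImplicit false

namespace CfsgLib.ThreeTransp.OrbitBase

open Cfsg CfsgLib.SmallGroups.Golay CfsgLib.SmallGroups.GolayOctads CfsgLib.SmallGroups.M24Group
open CfsgLib.SmallGroups.Mathieu CfsgLib.Sporadic CfsgLib.Sporadic.M24Orbits
open CfsgLib.ThreeTransp.OrbitCert
open scoped Pointwise

set_option maxRecDepth 100000 in
/-- Spanning tree `0`. -/
def trioOctTree0 : Tree := (.node 2 3227948 (.node 0 4202192 .leaf .leaf) .leaf)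

set_option maxRecDepth 100000 in
/-- Spanning tree `1`. -/
def trioOctTree1 : Tree := (.node 0 5024896 (.node 0 622863 (.node 0 427666 (.node 0 2269481 (.node 0 832080 .leaf (.node 2 9969957 (.node 0 13373586 (.node 2 6379592 .leaf .leaf) (.node 2 3031301 (.node 0 272595 .leaf (.node 2 352547 .leaf .leaf)) .leaf)) .leaf)) (.node 2 5309160 (.node 0 4282144 (.node 0 1121336 (.node 2 13276672 (.node 2 3168928 .leaf .leaf) .leaf) (.node 2 563843 (.node 2 1070536 .leaf .leaf) .leaf)) (.node 2 9078992 (.node 0 10543366 .leaf (.node 2 7357552 .leaf .leaf)) .leaf)) .leaf)) (.node 2 9748745 (.node 0 12880401 (.node 0 10846245 .leaf (.node 2 7409024 (.node 0 4261212 .leaf (.node 2 175681 (.node 0 843820 (.node 2 10305542 .leaf .leaf) .leaf) .leaf)) .leaf)) (.node 2 11731203 (.node 0 12985424 (.node 0 11100169 .leaf (.node 2 6359604 (.node 0 2168036 .leaf .leaf) .leaf)) .leaf) .leaf)) .leaf)) (.node 2 1134148 (.node 0 4213932 (.node 0 72588 (.node 0 1050548 (.node 0 6295992 (.node 2 13121601 (.node 2 2120980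 .leaf .leaf) .leaf) (.node 2 5112513 (.node 2 84464 .leaf .leaf) .leaf)) (.node 2 8688833 (.node 2 3216208 .leaf .leaf) .leaf)) (.node 2 9178690 (.node 0 8536111 (.node 0 8796800 .leaf (.node 2 11272490 (.node 0 8524371 .leaf .leaf) .leaf)) (.node 2 2180760 (.node 0 2101096 (.node 0 21116 .leaf (.node 2 8922769 (.node 2 6308804 .leaf .leaf) .leaf)) (.node 2 12624578 (.node 2 3147996 .leaf .leaf) .leaf)) .leaf)) .leaf)) .leaf) .leaf)) (.node 2 1474854 (.node 0 4370577 (.node 0 4038912 (.node 0 4752467 (.node 0 2605066 (.node 2 9543722 .leaf .leaf) (.node 2 5262104 (.node 2 12717187 .leaf .leaf) .leaf)) .leaf) (.node 2 5249380 (.node 0 5329044 (.node 2 4626498 .leaf .leaf) (.node 2 924689 (.node 0 3416079 (.node 2 8855820 .leaf .leaf) .leaf) .leaf)) .leaf)) (.node 2 2031657 (.node 0 4470275 .leaf (.node 2 9158944 (.node 0 8436754 (.node 0 12222476 (.node 2 11952160 (.node 2 2826278 (.node 0 668866 .leaf .leaf) .leaf) .leaf) (.node 2 7345676 .leaf .leaf)) (.node 2 3719203 (.node 2 1728778 (.node 0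 4860434 .leaf .leaf) .leaf) .leaf)) .leaf)) .leaf)) .leaf))

set_option maxRecDepth 100000 in
/-- Spanning tree `2`. -/
def trioOctTree2 : Tree := (.node 0 9776129 (.node 0 13370381 (.node 0 8716939 (.node 0 8783649 (.node 0 8663097 (.node 0 12325377 (.node 0 13893731 .leaf (.node 2 2322816 (.node 0 1584464 (.node 0 6832158 .leaf (.node 2 4343317 (.node 2 4459426 .leaf .leaf) .leaf)) (.node 2 45159 (.node 2 1839388 .leaf .leaf) .leaf)) .leaf)) .leaf) (.node 2 2687905 (.node 0 267634 (.node 0 3297305 (.node 0 7612992 (.node 0 4800613 (.node 0 351362 .leaf .leaf) .leaf) (.node 2 12726562 (.node 0 10170384 .leaf .leaf) .leaf)) (.node 2 4788761 (.node 0 3474978 (.node 0 4330601 (.node 0 1405448 .leaf (.node 2 8919856 (.node 2 6837377 .leaf .leaf) .leaf)) (.node 2 762504 .leaf .leaf)) (.node 2 12638592 (.node 2 3152963 .leaf .leaf) .leaf)) .leaf)) (.node 2 582081 (.node 0 837906 (.node 0 2263063 (.node 0 2531524 (.node 2 1384564 .leaf .leaf) (.node 2 5514536 .leaf .leaf)) .leaf) (.node 2 1065303 (.node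 2 4587803 (.node 0 2564625 (.node 0 2892897 (.node 0 806987 .leaf .leaf) .leaf) (.node 2 12650793 (.node 2 11046145 .leaf .leaf) .leaf)) .leaf) .leaf)) .leaf)) .leaf)) (.node 2 10584520 (.node 0 8439632 (.node 0 10537016 (.node 0 10525252 (.node 0 9486564 (.node 2 4063314 .leaf .leaf) .leaf) (.node 2 16262146 (.node 0 13303882 (.node 0 8611330 .leaf .leaf) (.node 2 2255372 (.node 0 535268 (.node 0 545190 .leaf .leaf) (.node 2 8660134 (.node 2 2949708 .leaf .leaf) .leaf)) .leaf)) .leaf)) (.node 2 7340691 (.node 0 6750560 (.node 0 95313 (.node 0 3951624 .leaf .leaf) (.node 2 632881 (.node 0 2921478 (.node 0 1212619 .leaf .leaf) .leaf) .leaf)) (.node 2 4336072 (.node 0 615188 .leaf .leaf) .leaf)) .leaf)) (.node 2 11575377 (.node 0 15515712 (.node 0 8505411 (.node 0 8834052 .leaf (.node 2 3179802 .leaf .leaf)) (.node 2 3237906 (.node 2 4367374 (.node 2 9701932 (.node 0 12587685 (.node 2 2890176 .leaf .leaf) .leaf) .leaf) .leaf) .leaf)) (.node 2 7479572 (.node 0 6889680 (.node 0 2704706 .leaf (.node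 2 4253780 .leaf .leaf)) (.node 2 4597797 (.node 0 864389 (.node 0 1836419 (.node 2 213833 .leaf .leaf) (.node 2 381252 .leaf .leaf)) .leaf) .leaf)) .leaf)) .leaf)) .leaf)) (.node 2 10832640 (.node 0 8391797 (.node 0 10768524 (.node 0 9440193 (.node 0 12861748 (.node 0 10557585 (.node 0 11797828 (.node 0 12599513 .leaf .leaf) .leaf) .leaf) (.node 2 2229713 (.node 0 2384216 (.node 0 2640465 .leaf .leaf) (.node 2 4203377 (.node 0 2969648 .leaf (.node 2 4721045 (.node 0 2425238 .leaf (.node 2 4476225 (.node 0 346141 .leaf (.node 2 69395 .leaf .leaf)) .leaf)) .leaf)) .leaf)) .leaf)) (.node 2 10825794 (.node 2 2207772 (.node 0 3704512 (.node 0 4243818 .leaf .leaf) (.node 2 13938692 (.node 0 14254209 (.node 0 12944642 (.node 2 3246601 .leaf .leaf) (.node 2 3328320 .leaf .leaf)) (.node 2 3610628 (.node 0 5252293 (.node 0 5063048 .leaf .leaf) .leaf) .leaf)) .leaf)) .leaf) .leaf)) (.node 2 7079696 (.node 0 2162811 (.node 0 2512448 (.node 0 1075305 (.node 0 5003780 (.node 0 1116327 .leaf .leaf) .leaf) (.node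 2 78514 .leaf .leaf)) (.node 2 13148440 (.node 0 11108882 .leaf (.node 2 15747077 (.node 0 12912836 (.node 0 8471941 .leaf (.node 2 2460752 .leaf .leaf)) (.node 2 2501890 (.node 0 663645 .leaf .leaf) .leaf)) .leaf)) .leaf)) (.node 2 4287105 (.node 0 855332 (.node 0 5279 (.node 0 3539848 .leaf (.node 2 12849992 .leaf .leaf)) (.node 2 902657 (.node 2 1164162 .leaf .leaf) .leaf)) (.node 2 36294 (.node 0 180636 (.node 0 2141072 (.node 0 2654580 (.node 0 2150610 .leaf .leaf) .leaf) .leaf) (.node 2 1312345 .leaf .leaf)) .leaf)) .leaf)) .leaf)) (.node 2 2204803 (.node 0 951624 (.node 0 57883 (.node 0 3050016 (.node 2 1664160 (.node 0 4726026 (.node 2 8412681 .leaf .leaf) .leaf) .leaf) (.node 2 13631886 (.node 0 12780432 (.node 0 10560816 .leaf (.node 2 6326497 .leaf .leaf)) (.node 2 10881097 (.node 0 8675909 (.node 0 9193633 .leaf .leaf) .leaf) .leaf)) .leaf)) (.node 2 9519665 (.node 0 14949408 (.node 0 9506893 (.node 2 10916112 .leaf .leaf) (.node 2 2702848 (.node 0 1573998 (.node 2 9323032 .leaf .leaf)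 (.node 2 63108 .leaf .leaf)) .leaf)) (.node 2 6979970 (.node 0 237906 (.node 0 2810896 .leaf (.node 2 5275709 (.node 0 6656640 .leaf .leaf) .leaf)) .leaf) .leaf)) .leaf)) (.node 2 1090380 (.node 0 4768432 (.node 2 5785794 (.node 2 150618 (.node 2 12584506 .leaf .leaf) .leaf) .leaf) (.node 2 9830549 (.node 0 14950785 (.node 0 9240913 (.node 0 10765331 .leaf (.node 2 6406417 .leaf .leaf)) .leaf) .leaf) .leaf)) .leaf)) .leaf)) .leaf)) (.node 2 2328324 (.node 0 42232 (.node 0 2675464 (.node 0 1084018 (.node 0 6475812 (.node 0 1161408 (.node 0 5817604 (.node 0 4294810 (.node 2 13667400 .leaf .leaf) (.node 2 1460739 .leaf .leaf)) .leaf) (.node 2 1849378 (.node 0 5902343 (.node 0 5709954 (.node 0 4924673 .leaf (.node 2 231532 (.node 2 10257456 .leaf .leaf) .leaf)) (.node 2 416040 .leaf .leaf)) .leaf) .leaf)) (.node 2 5899416 (.node 0 6365962 (.node 0 722544 (.node 0 2126890 .leaf .leaf) (.node 2 8431757 (.node 0 9208708 (.node 0 8421811 .leaf .leaf) .leaf) .leaf)) (.node 2 12733024 (.node 0 8484900 (.node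 0 9968772 .leaf .leaf) (.node 2 2624690 (.node 2 4744776 (.node 0 608810 (.node 2 8963210 .leaf .leaf) (.node 2 8407702 .leaf .leaf)) .leaf) .leaf)) .leaf)) .leaf)) (.node 2 9465987 (.node 0 14551296 (.node 0 12656663 (.node 0 11469952 (.node 0 8398155 .leaf .leaf) .leaf) (.node 2 2313249 (.node 0 277580 (.node 0 1589901 (.node 2 8798658 .leaf .leaf) (.node 2 8721940 .leaf .leaf)) (.node 2 567074 (.node 0 692282 (.node 0 3322370 (.node 2 1192108 .leaf .leaf) .leaf) .leaf) .leaf)) .leaf)) (.node 2 2232654 (.node 0 1204944 (.node 0 6842656 (.node 0 596054 (.node 2 4510744 .leaf .leaf) (.node 2 551943 (.node 0 919694 (.node 0 140167 .leaf .leaf) (.node 2 280334 .leaf .leaf)) .leaf)) (.node 2 4325622 (.node 2 4982904 (.node 2 13192208 .leaf .leaf) .leaf) .leaf)) .leaf) .leaf)) .leaf)) (.node 2 14156372 (.node 0 14762146 (.node 0 8592704 (.node 0 9462812 (.node 0 15207048 (.node 0 8455014 .leaf (.node 2 10513600 .leaf .leaf)) (.node 2 15073798 (.node 0 8593633 .leaf (.node 2 2435240 (.node 2 9020484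 .leaf .leaf) .leaf)) .leaf)) (.node 2 2135601 (.node 0 3444840 (.node 0 5296705 (.node 0 5621792 .leaf (.node 2 1186194 .leaf .leaf)) .leaf) (.node 2 5780352 .leaf .leaf)) .leaf)) (.node 2 2664522 (.node 0 705094 (.node 0 190626 .leaf (.node 2 1327290 (.node 0 6429441 .leaf .leaf) .leaf)) .leaf) .leaf)) (.node 2 6703248 (.node 0 2173253 (.node 0 804052 (.node 0 2115979 (.node 0 396116 (.node 0 2121909 (.node 2 4989254 .leaf .leaf) .leaf) .leaf) (.node 2 4538962 .leaf .leaf)) (.node 2 304405 (.node 0 2916505 (.node 0 2392899 (.node 2 1122713 .leaf .leaf) (.node 2 13721920 .leaf .leaf)) (.node 2 5571333 (.node 0 4523185 (.node 0 2430217 (.node 2 8499969 .leaf .leaf) .leaf) (.node 2 493953 (.node 2 1148257 .leaf .leaf) .leaf)) .leaf)) .leaf)) (.node 2 4271202 (.node 0 742412 (.node 0 1060490 (.node 0 4850476 .leaf (.node 2 8521420 .leaf .leaf)) (.node 2 8704546 (.node 2 3739786 .leaf .leaf) .leaf)) (.node 2 560668 (.node 0 2130606 (.node 0 168928 .leaf (.node 2 10232008 (.node 2 10698836 (.node 2 6594610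 .leaf .leaf) .leaf) .leaf)) (.node 2 13911680 (.node 2 2296514 (.node 0 157028 (.node 2 786999 .leaf .leaf) .leaf) .leaf) .leaf)) .leaf)) .leaf)) .leaf)) .leaf)) (.node 2 1352353 (.node 0 5017889 (.node 0 1413139 (.node 0 7767041 (.node 0 4563017 (.node 2 9537812 (.node 0 14714004 .leaf .leaf) .leaf) (.node 2 1256224 (.node 0 4731956 .leaf (.node 2 689317 (.node 0 307594 (.node 0 1737489 .leaf .leaf) .leaf) .leaf)) .leaf)) (.node 2 5476616 (.node 0 5350928 (.node 0 6915112 (.node 0 104010 (.node 0 1230376 .leaf (.node 2 9474712 (.node 0 15762208 .leaf .leaf) .leaf)) .leaf) .leaf) (.node 2 9607201 (.node 2 3806496 (.node 0 5255258 (.node 0 8077824 .leaf .leaf) (.node 2 684577 .leaf .leaf)) .leaf) .leaf)) .leaf)) (.node 2 1661185 (.node 0 5508118 (.node 0 6488205 (.node 2 8694112 (.node 2 3736597 (.node 0 6554826 .leaf (.node 2 4645632 .leaf .leaf)) .leaf) .leaf) (.node 2 4656648 (.node 0 75309 (.node 0 792232 (.node 2 8999616 .leaf .leaf) .leaf) (.node 2 8490656 (.node 0 8426796 .leaf .leaf) .leaf))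 .leaf)) (.node 2 185603 (.node 0 1484824 (.node 0 6857221 .leaf (.node 2 13829156 (.node 0 12661896 .leaf .leaf) .leaf)) (.node 2 1053483 (.node 2 9048457 (.node 2 10506593 (.node 2 2634003 .leaf .leaf) .leaf) .leaf) .leaf)) .leaf)) .leaf)) (.node 2 1769924 (.node 0 4220306 (.node 0 2820376 (.node 0 2106966 (.node 0 2769128 (.node 0 31554 .leaf (.node 2 8937586 .leaf .leaf)) (.node 2 4465308 .leaf .leaf)) (.node 2 12641313 (.node 0 9279496 (.node 0 9471495 (.node 0 13009064 .leaf .leaf) (.node 2 11654144 .leaf .leaf)) (.node 2 3672838 (.node 2 418953 (.node 0 797449 .leaf .leaf) .leaf) .leaf)) .leaf)) (.node 2 4196943 (.node 0 475812 (.node 0 15777 (.node 2 530245 .leaf .leaf) (.node 2 884962 (.node 2 1687640 (.node 0 6344194 .leaf (.node 2 13811730 .leaf .leaf)) .leaf) .leaf)) (.node 2 8654232 (.node 0 10486557 (.node 0 10748656 .leaf .leaf) (.node 2 14747201 (.node 0 8733800 .leaf .leaf) .leaf)) .leaf)) .leaf)) (.node 2 442481 (.node 0 2422785 (.node 0 1869893 (.node 0 4505735 (.node 2 1378634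 (.node 2 8619033 .leaf .leaf) .leaf) (.node 2 1525008 (.node 0 6302745 .leaf .leaf) .leaf)) .leaf) (.node 2 5833010 (.node 0 6493202 (.node 0 3351624 .leaf (.node 2 4241960 .leaf .leaf)) (.node 2 4900873 (.node 0 371206 (.node 2 1410188 (.node 0 4229001 .leaf (.node 2 9929280 .leaf .leaf)) .leaf) (.node 2 9456930 (.node 0 12720156 (.node 0 11608708 .leaf .leaf) .leaf) .leaf)) .leaf)) .leaf)) .leaf)) .leaf)) .leaf)) .leaf)) (.node 2 2201890 (.node 0 1217620 (.node 0 7397512 (.node 0 4819776 (.node 0 115766 (.node 0 2268296 (.node 2 9451104 (.node 0 14176296 (.node 0 13703682 .leaf (.node 2 11163650 .leaf .leaf)) (.node 2 2757268 (.node 0 3154402 (.node 0 4870480 .leaf .leaf) (.node 2 4485344 .leaf .leaf)) .leaf)) .leaf) .leaf) (.node 2 1100945 (.node 0 6588684 (.node 0 99029 (.node 0 2409888 (.node 0 39257 (.node 0 3457556 .leaf .leaf) (.node 2 1647171 (.node 0 5129250 .leaf .leaf) .leaf)) (.node 2 5538256 .leaf .leaf)) .leaf) (.node 2 5375810 (.node 0 4415544 (.node 2 13142054 (.node 0 8622214 (.node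 0 9610624 .leaf .leaf) .leaf) .leaf) (.node 2 133817 (.node 0 2372388 (.node 0 1577201 .leaf .leaf) (.node 2 13108704 (.node 0 8474906 (.node 0 11669008 .leaf (.node 2 14716939 .leaf .leaf)) .leaf) .leaf)) .leaf)) .leaf)) .leaf)) (.node 2 9578566 (.node 0 13262980 (.node 0 8989058 (.node 0 9045270 (.node 0 10625178 (.node 0 11150144 .leaf (.node 2 14688364 (.node 2 11282452 .leaf .leaf) .leaf)) (.node 2 6570537 (.node 0 334433 .leaf .leaf) .leaf)) (.node 2 2147405 (.node 0 314056 (.node 0 52005 .leaf .leaf) (.node 2 9708306 (.node 0 15335473 .leaf .leaf) .leaf)) .leaf)) (.node 2 2377830 (.node 0 153797 (.node 0 1337732 .leaf .leaf) (.node 2 861210 (.node 0 2754059 (.node 0 402026 .leaf (.node 2 8414120 (.node 2 11010247 .leaf .leaf) .leaf)) (.node 2 12698124 .leaf .leaf)) .leaf)) .leaf)) (.node 2 2491452 (.node 0 2110153 (.node 0 1852256 (.node 0 4216883 .leaf (.node 2 737427 .leaf .leaf)) (.node 2 8401364 (.node 0 12075408 (.node 0 14682450 .leaf (.node 2 6447171 (.node 0 1009728 .leaf .leaf) .leaf))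 (.node 2 6557781 (.node 0 3489985 .leaf (.node 2 4536592 (.node 2 4299781 .leaf .leaf) .leaf)) .leaf)) .leaf)) (.node 2 13443616 (.node 0 8983587 .leaf (.node 2 2738308 (.node 2 1369154 (.node 2 1245726 (.node 0 6432416 .leaf .leaf) .leaf) .leaf) .leaf)) .leaf)) .leaf)) .leaf)) (.node 2 5640752 (.node 0 7417889 (.node 0 6100032 (.node 0 5325835 (.node 2 8555274 (.node 0 8561204 (.node 0 11055264 .leaf (.node 2 8126628 .leaf .leaf)) (.node 2 11535529 .leaf .leaf)) .leaf) (.node 2 252432 (.node 0 3189796 (.node 0 4755660 (.node 2 9721936 .leaf .leaf) (.node 2 1975812 .leaf .leaf)) (.node 2 5280930 (.node 2 1710664 (.node 0 5268006 .leaf (.node 2 8541360 (.node 0 11548936 .leaf .leaf) .leaf)) .leaf) .leaf)) .leaf)) (.node 2 702724 (.node 0 1613974 (.node 2 5652556 (.node 2 8849458 (.node 0 10630149 .leaf .leaf) .leaf) .leaf) (.node 2 1332261 (.node 0 5511305 .leaf (.node 2 987906 (.node 0 1188915 .leaf (.node 2 118953 (.node 0 1351424 (.node 2 1250945 .leaf .leaf) (.node 2 9998658 .leaf .leaf)) .leaf))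 .leaf)) .leaf)) .leaf)) (.node 2 4921504 (.node 0 1127686 (.node 2 430605 (.node 2 9769376 (.node 0 13636881 .leaf (.node 2 2854977 (.node 2 1110320 (.node 0 7903248 .leaf .leaf) .leaf) .leaf)) .leaf) .leaf) (.node 2 580704 (.node 0 1103886 (.node 0 5409412 (.node 0 4301220 (.node 0 628112 .leaf .leaf) (.node 2 1445088 (.node 0 4223245 (.node 0 1903248 (.node 2 4441280 .leaf .leaf) (.node 2 8657159 .leaf .leaf)) .leaf) .leaf)) (.node 2 9835530 (.node 0 13771273 (.node 2 10619300 .leaf .leaf) (.node 2 10687016 .leaf .leaf)) .leaf)) (.node 2 1594898 (.node 0 7473194 (.node 0 4403780 (.node 2 301236 (.node 0 3182981 .leaf .leaf) .leaf) (.node 2 9055272 (.node 0 8925710 (.node 0 10093218 .leaf .leaf) (.node 2 11028004 (.node 2 2908802 .leaf .leaf) .leaf)) .leaf)) (.node 2 4346506 (.node 2 8394986 (.node 2 11015256 (.node 0 11551306 .leaf .leaf) .leaf) .leaf) .leaf)) .leaf)) .leaf)) .leaf)) .leaf)) (.node 2 1618953 (.node 0 6062602 (.node 0 4424227 (.node 0 504864 (.node 2 1675812 (.node 2 2019456 (.node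 0 5286147 (.node 0 5210132 .leaf (.node 2 1182989 .leaf .leaf)) (.node 2 1265762 (.node 0 5405696 (.node 0 5842956 .leaf (.node 2 138790 .leaf .leaf)) .leaf) .leaf)) .leaf) .leaf) (.node 2 1608104 (.node 0 4231958 (.node 0 3375280 (.node 0 6337856 (.node 2 1063445 (.node 2 4593028 .leaf .leaf) .leaf) (.node 2 5939296 (.node 0 4845570 (.node 0 1805314 .leaf .leaf) (.node 2 1722420 (.node 0 6305926 .leaf .leaf) .leaf)) .leaf)) .leaf) (.node 2 10110017 (.node 0 12871690 (.node 0 9112069 .leaf (.node 2 10554382 (.node 2 10790408 .leaf .leaf) .leaf)) (.node 2 2245426 (.node 0 2242672 (.node 0 3698756 (.node 2 421910 (.node 0 3811457 .leaf (.node 2 4526126 .leaf .leaf)) .leaf) .leaf) (.node 2 4726955 (.node 2 8931660 .leaf .leaf) .leaf)) .leaf)) .leaf)) .leaf)) (.node 2 9652360 (.node 0 12594948 (.node 0 8978620 (.node 0 10491778 (.node 0 9568632 (.node 0 14709264 (.node 0 12126304 .leaf .leaf) .leaf) .leaf) .leaf) (.node 2 2363013 (.node 0 262637 (.node 0 283537 (.node 0 3410225 .leaf (.node 2 4264387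 .leaf .leaf)) .leaf) (.node 2 337856 (.node 0 542009 (.node 0 2365978 (.node 0 3277413 (.node 2 926128 .leaf .leaf) .leaf) (.node 2 13124355 .leaf .leaf)) .leaf) .leaf)) .leaf)) (.node 2 10650722 (.node 0 8581192 (.node 0 10021376 (.node 2 3294342 .leaf .leaf) (.node 2 11538486 (.node 0 15864000 .leaf (.node 2 7221256 .leaf .leaf)) .leaf)) (.node 2 3678776 (.node 0 6820450 (.node 2 555160 (.node 2 12604486 .leaf .leaf) .leaf) .leaf) .leaf)) .leaf)) .leaf)) (.node 2 9589508 (.node 0 13641904 (.node 0 15274244 (.node 0 9503954 (.node 0 14828808 (.node 0 8464984 .leaf (.node 2 10496547 (.node 0 9310308 .leaf (.node 2 2631052 .leaf .leaf)) .leaf)) (.node 2 6455896 (.node 0 2220640 .leaf .leaf) .leaf)) .leaf) (.node 2 6949956 (.node 0 90318 (.node 0 675712 (.node 0 10558 .leaf (.node 2 18147 (.node 2 525274 .leaf .leaf) .leaf)) (.node 2 8683614 (.node 0 10666625 .leaf (.node 2 16056344 (.node 2 14919680 .leaf .leaf) .leaf)) .leaf)) (.node 2 290352 (.node 0 2627629 (.node 0 1315526 (.node 0 5390753 (.node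 2 657763 .leaf .leaf) (.node 2 463064 (.node 0 3172097 .leaf (.node 2 12685424 .leaf .leaf)) .leaf)) (.node 2 9204992 (.node 0 9963547 .leaf (.node 2 2183687 .leaf .leaf)) .leaf)) (.node 2 4785798 (.node 0 198058 (.node 0 145176 .leaf (.node 2 8946281 .leaf .leaf)) .leaf) .leaf)) .leaf)) .leaf)) (.node 2 2494627 (.node 0 1454401 (.node 0 6053905 (.node 0 7145475 (.node 0 459847 (.node 2 361272 .leaf .leaf) (.node 2 126216 .leaf .leaf)) (.node 2 4409606 (.node 0 208020 (.node 2 4490852 .leaf .leaf) (.node 2 298027 (.node 2 10028808 .leaf .leaf) .leaf)) .leaf)) (.node 2 201013 (.node 0 3421328 (.node 0 7864649 (.node 2 8546577 (.node 2 6292775 .leaf .leaf) .leaf) .leaf) .leaf) .leaf)) (.node 2 602472 (.node 2 8966165 (.node 0 11831426 (.node 0 12747077 (.node 0 8773776 (.node 2 7438406 .leaf .leaf) .leaf) .leaf) (.node 2 7622914 (.node 0 5441617 (.node 0 6644740 (.node 0 593097 .leaf .leaf) (.node 2 4361520 (.node 2 5770785 .leaf .leaf) .leaf)) (.node 2 210955 .leaf .leaf)) .leaf)) .leaf) .leaf))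 .leaf)) .leaf)) .leaf)) .leaf))

/-- Roots. -/
def trioOctRoot : Fin 3 → ℕ := ![9347075, 1302533, 13062145]

/-- Trees. -/
def trioOctTree : Fin 3 → Tree := ![trioOctTree0, trioOctTree1, trioOctTree2]

set_option maxRecDepth 100000 in
/-- All representatives. -/
def trioOctList : List ℕ := [9347075, 3227948, 4202192, 1302533, 5024896, 622863, 427666, 2269481, 832080, 9969957, 13373586, 6379592, 3031301, 272595, 352547, 5309160, 4282144, 1121336, 13276672, 3168928, 563843, 1070536, 9078992, 10543366, 7357552, 9748745, 12880401, 10846245, 7409024, 4261212, 175681, 843820, 10305542, 11731203, 12985424, 11100169, 6359604, 2168036, 1134148, 4213932, 72588, 1050548, 6295992, 13121601, 2120980, 5112513, 84464, 8688833, 3216208, 9178690, 8536111, 8796800, 11272490, 8524371, 2180760, 2101096, 21116, 8922769, 6308804, 12624578, 3147996, 1474854, 4370577, 4038912, 4752467, 2605066, 9543722, 5262104, 12717187, 5249380, 5329044, 4626498, 924689, 3416079, 8855820, 2031657, 4470275, 9158944, 8436754, 12222476,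 11952160, 2826278, 668866, 7345676, 3719203, 1728778, 4860434, 13062145, 9776129, 13370381, 8716939, 8783649, 8663097, 12325377, 13893731, 2322816, 1584464, 6832158, 4343317, 4459426, 45159, 1839388, 2687905, 267634, 3297305, 7612992, 4800613, 351362, 12726562, 10170384, 4788761, 3474978, 4330601, 1405448, 8919856, 6837377, 762504, 12638592, 3152963, 582081, 837906, 2263063, 2531524, 1384564, 5514536, 1065303, 4587803, 2564625, 2892897, 806987, 12650793, 11046145, 10584520, 8439632, 10537016, 10525252, 9486564, 4063314, 16262146, 13303882, 8611330, 2255372, 535268, 545190, 8660134, 2949708, 7340691, 6750560, 95313, 3951624, 632881, 2921478, 1212619, 4336072, 615188, 11575377, 15515712, 8505411, 8834052, 3179802, 3237906, 4367374, 9701932, 12587685, 2890176, 7479572, 6889680, 2704706, 4253780, 4597797, 864389, 1836419, 213833, 381252, 10832640, 8391797, 10768524, 9440193, 12861748, 10557585, 11797828, 12599513, 2229713, 2384216, 2640465, 4203377, 2969648, 4721045, 2425238, 4476225, 346141, 69395,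 10825794, 2207772, 3704512, 4243818, 13938692, 14254209, 12944642, 3246601, 3328320, 3610628, 5252293, 5063048, 7079696, 2162811, 2512448, 1075305, 5003780, 1116327, 78514, 13148440, 11108882, 15747077, 12912836, 8471941, 2460752, 2501890, 663645, 4287105, 855332, 5279, 3539848, 12849992, 902657, 1164162, 36294, 180636, 2141072, 2654580, 2150610, 1312345, 2204803, 951624, 57883, 3050016, 1664160, 4726026, 8412681, 13631886, 12780432, 10560816, 6326497, 10881097, 8675909, 9193633, 9519665, 14949408, 9506893, 10916112, 2702848, 1573998, 9323032, 63108, 6979970, 237906, 2810896, 5275709, 6656640, 1090380, 4768432, 5785794, 150618, 12584506, 9830549, 14950785, 9240913, 10765331, 6406417, 2328324, 42232, 2675464, 1084018, 6475812, 1161408, 5817604, 4294810, 13667400, 1460739, 1849378, 5902343, 5709954, 4924673, 231532, 10257456, 416040, 5899416, 6365962, 722544, 2126890, 8431757, 9208708, 8421811, 12733024, 8484900, 9968772, 2624690, 4744776, 608810, 8963210, 8407702, 9465987, 14551296, 12656663, 11469952,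 8398155, 2313249, 277580, 1589901, 8798658, 8721940, 567074, 692282, 3322370, 1192108, 2232654, 1204944, 6842656, 596054, 4510744, 551943, 919694, 140167, 280334, 4325622, 4982904, 13192208, 14156372, 14762146, 8592704, 9462812, 15207048, 8455014, 10513600, 15073798, 8593633, 2435240, 9020484, 2135601, 3444840, 5296705, 5621792, 1186194, 5780352, 2664522, 705094, 190626, 1327290, 6429441, 6703248, 2173253, 804052, 2115979, 396116, 2121909, 4989254, 4538962, 304405, 2916505, 2392899, 1122713, 13721920, 5571333, 4523185, 2430217, 8499969, 493953, 1148257, 4271202, 742412, 1060490, 4850476, 8521420, 8704546, 3739786, 560668, 2130606, 168928, 10232008, 10698836, 6594610, 13911680, 2296514, 157028, 786999, 1352353, 5017889, 1413139, 7767041, 4563017, 9537812, 14714004, 1256224, 4731956, 689317, 307594, 1737489, 5476616, 5350928, 6915112, 104010, 1230376, 9474712, 15762208, 9607201, 3806496, 5255258, 8077824, 684577, 1661185, 5508118, 6488205, 8694112, 3736597, 6554826, 4645632, 4656648, 75309, 792232,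 8999616, 8490656, 8426796, 185603, 1484824, 6857221, 13829156, 12661896, 1053483, 9048457, 10506593, 2634003, 1769924, 4220306, 2820376, 2106966, 2769128, 31554, 8937586, 4465308, 12641313, 9279496, 9471495, 13009064, 11654144, 3672838, 418953, 797449, 4196943, 475812, 15777, 530245, 884962, 1687640, 6344194, 13811730, 8654232, 10486557, 10748656, 14747201, 8733800, 442481, 2422785, 1869893, 4505735, 1378634, 8619033, 1525008, 6302745, 5833010, 6493202, 3351624, 4241960, 4900873, 371206, 1410188, 4229001, 9929280, 9456930, 12720156, 11608708, 2201890, 1217620, 7397512, 4819776, 115766, 2268296, 9451104, 14176296, 13703682, 11163650, 2757268, 3154402, 4870480, 4485344, 1100945, 6588684, 99029, 2409888, 39257, 3457556, 1647171, 5129250, 5538256, 5375810, 4415544, 13142054, 8622214, 9610624, 133817, 2372388, 1577201, 13108704, 8474906, 11669008, 14716939, 9578566, 13262980, 8989058, 9045270, 10625178, 11150144, 14688364, 11282452, 6570537, 334433, 2147405, 314056, 52005, 9708306, 15335473, 2377830,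 153797, 1337732, 861210, 2754059, 402026, 8414120, 11010247, 12698124, 2491452, 2110153, 1852256, 4216883, 737427, 8401364, 12075408, 14682450, 6447171, 1009728, 6557781, 3489985, 4536592, 4299781, 13443616, 8983587, 2738308, 1369154, 1245726, 6432416, 5640752, 7417889, 6100032, 5325835, 8555274, 8561204, 11055264, 8126628, 11535529, 252432, 3189796, 4755660, 9721936, 1975812, 5280930, 1710664, 5268006, 8541360, 11548936, 702724, 1613974, 5652556, 8849458, 10630149, 1332261, 5511305, 987906, 1188915, 118953, 1351424, 1250945, 9998658, 4921504, 1127686, 430605, 9769376, 13636881, 2854977, 1110320, 7903248, 580704, 1103886, 5409412, 4301220, 628112, 1445088, 4223245, 1903248, 4441280, 8657159, 9835530, 13771273, 10619300, 10687016, 1594898, 7473194, 4403780, 301236, 3182981, 9055272, 8925710, 10093218, 11028004, 2908802, 4346506, 8394986, 11015256, 11551306, 1618953, 6062602, 4424227, 504864, 1675812, 2019456, 5286147, 5210132, 1182989, 1265762, 5405696, 5842956, 138790, 1608104, 4231958, 3375280,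 6337856, 1063445, 4593028, 5939296, 4845570, 1805314, 1722420, 6305926, 10110017, 12871690, 9112069, 10554382, 10790408, 2245426, 2242672, 3698756, 421910, 3811457, 4526126, 4726955, 8931660, 9652360, 12594948, 8978620, 10491778, 9568632, 14709264, 12126304, 2363013, 262637, 283537, 3410225, 4264387, 337856, 542009, 2365978, 3277413, 926128, 13124355, 10650722, 8581192, 10021376, 3294342, 11538486, 15864000, 7221256, 3678776, 6820450, 555160, 12604486, 9589508, 13641904, 15274244, 9503954, 14828808, 8464984, 10496547, 9310308, 2631052, 6455896, 2220640, 6949956, 90318, 675712, 10558, 18147, 525274, 8683614, 10666625, 16056344, 14919680, 290352, 2627629, 1315526, 5390753, 657763, 463064, 3172097, 12685424, 9204992, 9963547, 2183687, 4785798, 198058, 145176, 8946281, 2494627, 1454401, 6053905, 7145475, 459847, 361272, 126216, 4409606, 208020, 4490852, 298027, 10028808, 201013, 3421328, 7864649, 8546577, 6292775, 602472, 8966165, 11831426, 12747077, 8773776, 7438406, 7622914, 5441617, 6644740, 593097,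 4361520, 5770785, 210955]

theorem trioOct_values : ∀ i, (fun X : Finset GolayPt => M24Trio.W (M24Trio.tr CfsgLib.Sporadic.TrioData.base) ({X} : Finset (Finset GolayPt))) ((fun n => toSet n) (trioOctRoot i)) = (![64, 32, 24] : Fin 3 → ℕ) i := by decide +kernel

theorem trioOct : Nonempty (Decomp 3 (M24Trio.tr CfsgLib.Sporadic.TrioData.base) octads (fun X : Finset GolayPt => M24Trio.W (M24Trio.tr CfsgLib.Sporadic.TrioData.base) ({X} : Finset (Finset GolayPt))) (![64, 32, 24] : Fin 3 → ℕ) (![3, 84, 672] : Fin 3 → ℕ)) :=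
  decomp _ _ (fun n => toSet n) (fun t r m => img (tblNat t) r == m) (fun t => M24Trio.step t CfsgLib.Sporadic.TrioData.base CfsgLib.Sporadic.TrioData.base) CfsgLib.Sporadic.TrioData.gens oct_step (tr_fix _) (by decide +kernel)
    octCanon oct_inj oct_mem oct_closed (fun X : Finset GolayPt => M24Trio.W (M24Trio.tr CfsgLib.Sporadic.TrioData.base) ({X} : Finset (Finset GolayPt))) (fun g _ h X => by
      have := W_fix (g := g) (B := (M24Trio.tr CfsgLib.Sporadic.TrioData.base)) h ({X} : Finset (Finset GolayPt))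
      rwa [Finset.smul_finset_singleton] at this) 759 octads_count (Set.toFinite _)
    trioOctRoot trioOctTree _ _ trioOctList (by decide +kernel) trioOct_values (by decide) (by decide +kernel)
    (by decide +kernel) 3577 (by decide +kernel) (by decide +kernel) (by decide +kernel)

end CfsgLib.ThreeTransp.OrbitBase
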