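/-
Fischer spaces: the plane models, subspaces given by embedded models, and the involutions t(x).
-/
import Cfsg.Prelude.Def_FischerSpaces

set_option autoImplicit false

namespace CfsgLib.ThreeTransp.Planes

open Cfsg Cfsg.LineSystem

variable {X : Type*} {L : Set (Set X)}

theorem subset_span (S : Set X) : S ⊆ span L S := fun _ hx _ hT => hT.1 hx

theorem isSubspace_span (S : Set X) : IsSubspace L (span L S) := by
  intro l hl x hx y hy hne hxl hyl z hz T hT
  exact hT.2 l hl x (hx T hT) y (hy T hT) hne hxl hyl hz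

theorem span_le {S T : Set X} (hST : S ⊆ T) (hT : IsSubspace L T) : span L S ⊆ T :=
  fun _ hx => hx T ⟨hST, hT⟩

theorem exists_two_ne {l : Set X} (h : l.ncard = 3) (x : X) : ∃ y ∈ l, y ≠ x := by
  by_contra hne
  push_neg at hne
  have := Set.ncard_le_ncard (show l ⊆ {x} from fun y hy => hne y hy) (Set.finite_singleton x)
  rw [Set.ncard_singleton] at this
  omega

theorem eq_triple {l : Set X} (h : l.ncard = 3) {x y z : X} (hx : x ∈ l) (hy : y ∈ l) (hz : z ∈ l)
    (hxy : x ≠ y) (hxz : x ≠ z) (hyz : y ≠ z) : l = {x, y, z} := by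
  have hf : l.Finite := Set.finite_of_ncard_ne_zero (by omega)
  refine (Set.eq_of_subset_of_ncard_le ?_ ?_ hf).symm
  · rintro w (rfl | rfl | rfl) <;> assumption
  · rw [Set.ncard_eq_three.2 ⟨x, y, z, hxy, hxz, hyz, rfl⟩, h]

theorem exists_third {l : Set X} (h : l.ncard = 3) {x y : X} (hx : x ∈ l) (hy : y ∈ l)
    (hxy : x ≠ y) : ∃ z, z ≠ x ∧ z ≠ y ∧ l = {x, y, z} := by
  by_contra hne
  push_neg at hne
  have : l ⊆ {x, y} := fun z hz => by
    by_contra hc
    simp only [Set.mem_insert_iff, Set.mem_singleton_iff, not_or] at hc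
    exact hne z hc.1 hc.2 (eq_triple h hx hy hz hxy (Ne.symm hc.1) (Ne.symm hc.2))
  have := Set.ncard_le_ncard this ((Set.finite_singleton y).insert x)
  rw [Set.ncard_pair hxy] at this
  omega

/-- An injective map from a model whose lines go to lines and whose non-collinear pairs stay
non-collinear gives the span of a generating part. -/
theorem isomorphic_of_model {P : Type*} {M : Set (Set P)} (hpl : IsPartialLinear L)
    (h3 : ∀ l ∈ L, l.ncard = 3) (f : P → X) (hf : Function.Injective f)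
    (hlines : ∀ k ∈ M, f '' k ∈ L)
    (hcol : ∀ p q : P, p ≠ q → (∃ l ∈ L, f p ∈ l ∧ f q ∈ l) → ∃ k ∈ M, p ∈ k ∧ q ∈ k)
    (S : Set X) (hS : S ⊆ Set.range f) (hgen : ∀ p : P, f p ∈ span L S) :
    Isomorphic (restrict L (span L S)) M := by
  have key : ∀ l ∈ L, ∀ p q : P, p ≠ q → f p ∈ l → f q ∈ l → ∃ k ∈ M, f '' k = l := by
    intro l hl p q hpq hp hq
    obtain ⟨k, hk, hpk, hqk⟩ := hcol p q hpq ⟨l, hl, hp, hq⟩
    exact ⟨k, hk, hpl _ (hlines k hk) l hl (f p) (f q) (hf.ne hpq) ⟨p, hpk, rfl⟩ ⟨q, hqk, rfl⟩ hp hq⟩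
  have hsub : IsSubspace L (Set.range f) := by
    rintro l hl _ ⟨p, rfl⟩ _ ⟨q, rfl⟩ hne hp hq
    obtain ⟨k, -, rfl⟩ := key l hl p q (fun e => hne (congrArg f e)) hp hq
    exact Set.image_subset_range _ _
  have hrange : span L S = Set.range f :=
    (span_le hS hsub).antisymm (by rintro _ ⟨p, rfl⟩; exact hgen p)
  let e : P ≃ span L S := (Equiv.ofInjective f hf).trans (Equiv.setCongr hrange.symm)
  have he : ∀ p, (e p : X) = f p := fun p => rfl
  refine ⟨e.symm, fun m => ⟨?_, ?_⟩⟩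
  · rintro ⟨l, hl, hlS, rfl⟩
    obtain ⟨x, hx⟩ : l.Nonempty := Set.nonempty_of_ncard_ne_zero (by rw [h3 l hl]; norm_num)
    obtain ⟨y, hy, hyx⟩ := exists_two_ne (h3 l hl) x
    obtain ⟨p, rfl⟩ := hrange.le (hlS hx)
    obtain ⟨q, rfl⟩ := hrange.le (hlS hy)
    obtain ⟨k, hk, rfl⟩ := key l hl p q (fun h => hyx (congrArg f h.symm)) hx hy
    convert hk using 1
    ext r
    constructor
    · rintro ⟨s, ⟨r', hr', e'⟩, rfl⟩
      obtain rfl : e r' = s := Subtype.ext ((he r').trans e')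
      simpa using hr'
    · intro hr
      exact ⟨e r, ⟨r, hr, (he r).symm⟩, by simp⟩
  · intro hm
    refine ⟨f '' (e.symm '' m), hlines _ hm, ?_, ?_⟩
    · rintro _ ⟨r, -, rfl⟩; exact hgen r
    · ext s
      constructor
      · intro hs
        exact ⟨e.symm s, ⟨s, hs, rfl⟩, by rw [← he, Equiv.apply_symm_apply]⟩
      · rintro ⟨_, ⟨s', hs', rfl⟩, e'⟩
        rw [← he, Equiv.apply_symm_apply] at e'
        exact (Subtype.ext e' : s' = s) ▸ hs'

/-- The reflection in a point of a plane model. -/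
structure Refl {P : Type*} (M : Set (Set P)) where
  r : P → P → P
  self : ∀ p, r p p = p
  coll : ∀ p q, p ≠ q → (∃ k ∈ M, p ∈ k ∧ q ∈ k) →
    r p q ≠ p ∧ r p q ≠ q ∧ ∃ k ∈ M, p ∈ k ∧ q ∈ k ∧ r p q ∈ k
  noncoll : ∀ p q, p ≠ q → (¬ ∃ k ∈ M, p ∈ k ∧ q ∈ k) → r p q = q
  line : ∀ p, ∀ k ∈ M, r p '' k ∈ M

/-- The transposition of a two-element set acting on two-element sets. -/
noncomputable def swapOf (p : DualAffinePoint) : Equiv.Perm (Fin 4) :=
  Equiv.swap (Finset.card_eq_two.1 p.2).choose (Finset.card_eq_two.1 p.2).choose_spec.choose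

theorem swapOf_spec (p : DualAffinePoint) :
    ∃ i j : Fin 4, i ≠ j ∧ p.1 = {i, j} ∧ swapOf p = Equiv.swap i j :=
  ⟨_, _, (Finset.card_eq_two.1 p.2).choose_spec.choose_spec.1,
    (Finset.card_eq_two.1 p.2).choose_spec.choose_spec.2, rfl⟩

/-- Action of a permutation on two-element sets. -/
def act (σ : Equiv.Perm (Fin 4)) (q : DualAffinePoint) : DualAffinePoint :=
  ⟨q.1.map σ.toEmbedding, by rw [Finset.card_map]; exact q.2⟩

set_option synthInstance.maxSize 10000 in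
set_option maxRecDepth 10000 in
set_option maxHeartbeats 2000000 in
theorem act_facts : ∀ i j : Fin 4, i ≠ j → ∀ p q : DualAffinePoint, p.1 = {i, j} →
    act (Equiv.swap i j) p = p ∧
    (p ≠ q → (∃ l, l ∉ p.1 ∧ l ∉ q.1) → act (Equiv.swap i j) q ≠ p ∧ act (Equiv.swap i j) q ≠ q ∧
      ∃ l, l ∉ p.1 ∧ l ∉ q.1 ∧ l ∉ (act (Equiv.swap i j) q).1) ∧
    (p ≠ q → ¬ (∃ l, l ∉ p.1 ∧ l ∉ q.1) → act (Equiv.swap i j) q = q) := by
  decide

theorem act_line (σ : Equiv.Perm (Fin 4)) (i : Fin 4) :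
    act σ '' {s | i ∉ s.1} = {s : DualAffinePoint | σ i ∉ s.1} := by
  ext s
  constructor
  · rintro ⟨t, ht, rfl⟩
    simpa [act] using ht
  · intro hs
    refine ⟨act σ.symm s, ?_, ?_⟩
    · intro h
      apply hs
      simp only [act, Finset.mem_map_equiv, Equiv.symm_symm] at h
      exact h
    · apply Subtype.ext
      simp [act, Finset.map_map]

/-- Reflections of the dual affine plane. -/
noncomputable def dualRefl : Refl dualAffinePlaneTwo where
  r p q := act (swapOf p) q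
  self p := by
    obtain ⟨i, j, hij, hp, e⟩ := swapOf_spec p
    rw [e]; exact (act_facts i j hij p p hp).1
  coll p q hpq h := by
    obtain ⟨i, j, hij, hp, e⟩ := swapOf_spec p
    obtain ⟨_, ⟨l, rfl⟩, h1, h2⟩ := h
    obtain ⟨a, b, l', c1, c2, c3⟩ := (act_facts i j hij p q hp).2.1 hpq ⟨l, h1, h2⟩
    rw [← e] at a b c3
    exact ⟨a, b, _, ⟨l', rfl⟩, c1, c2, c3⟩
  noncoll p q hpq h := by
    obtain ⟨i, j, hij, hp, e⟩ := swapOf_spec p
    rw [e]
    exact (act_facts i j hij p q hp).2.2 hpq fun ⟨l, h1, h2⟩ => h ⟨_, ⟨l, rfl⟩, h1, h2⟩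
  line p k hk := by
    obtain ⟨i, rfl⟩ := hk
    exact ⟨swapOf p i, act_line _ i⟩

theorem affine_triple : ∀ p q : Fin 2 → ZMod 3, p ≠ q →
    (-p - q) ≠ p ∧ (-p - q) ≠ q ∧ -p - q = p + (2 : ZMod 3) • (q - p) := by
  decide

theorem affine_line {p q : Fin 2 → ZMod 3} (h : p ≠ q) :
    ∃ k ∈ affinePlaneThree, p ∈ k ∧ q ∈ k ∧ -p - q ∈ k := by
  refine ⟨_, ⟨p, q - p, sub_ne_zero.2 (Ne.symm h), rfl⟩, ⟨0, by simp⟩, ⟨1, by simp⟩, ⟨2, ?_⟩⟩
  exact (affine_triple p q h).2.2

/-- Reflections of the affine plane. -/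
def affineRefl : Refl affinePlaneThree where
  r p q := -p - q
  self p := by
    funext i
    show -p i - p i = p i
    generalize p i = a
    revert a; decide
  coll p q hpq _ := ⟨(affine_triple p q hpq).1, (affine_triple p q hpq).2.1, affine_line hpq⟩
  noncoll p q hpq h := absurd (by
    obtain ⟨k, hk, a, b, -⟩ := affine_line hpq
    exact ⟨k, hk, a, b⟩) h
  line p k hk := by
    obtain ⟨v, w, hw, rfl⟩ := hk
    refine ⟨-p - v, -w, neg_ne_zero.2 hw, ?_⟩
    ext x
    constructor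
    · rintro ⟨_, ⟨c, rfl⟩, rfl⟩
      exact ⟨c, by rw [smul_neg]; abel⟩
    · rintro ⟨c, rfl⟩
      exact ⟨v + c • w, ⟨c, rfl⟩, by rw [smul_neg]; abel⟩

section lineMap

variable (hpl : IsPartialLinear L) (h3 : ∀ l ∈ L, l.ncard = 3)
include hpl h3

omit h3 in
theorem third_unique {x y z z' : X} (hxy : x ≠ y) (hz : z ≠ x ∧ z ≠ y)
    (hl : ({x, y, z} : Set X) ∈ L) (hl' : ({x, y, z'} : Set X) ∈ L) : z' = z := by
  have e := hpl _ hl _ hl' x y hxy (by simp) (by simp) (by simp) (by simp)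
  have : z ∈ ({x, y, z'} : Set X) := e ▸ (by simp : z ∈ ({x, y, z} : Set X))
  simp only [Set.mem_insert_iff, Set.mem_singleton_iff] at this
  rcases this with r | r | r
  · exact absurd r hz.1
  · exact absurd r hz.2
  · exact r.symm

omit h3 in
theorem lineMap_eq {x y z : X} (hxy : x ≠ y) (hzx : z ≠ x) (hzy : z ≠ y)
    (hl : ({x, y, z} : Set X) ∈ L) : lineMap L x y = z := by
  have h : ∃ z : X, z ≠ x ∧ z ≠ y ∧ x ≠ y ∧ ({x, y, z} : Set X) ∈ L := ⟨z, hzx, hzy, hxy, hl⟩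
  rw [lineMap, dif_pos h]
  exact third_unique hpl hxy ⟨hzx, hzy⟩ hl h.choose_spec.2.2.2

omit hpl in
theorem lineMap_fix {x y : X} (h : ¬ Collinear L x y) : lineMap L x y = y := by
  rw [lineMap, dif_neg]
  rintro ⟨z, -, -, hxy, hl⟩
  exact h ⟨hxy, _, hl, by simp, by simp⟩

theorem lineMap_self (x : X) : lineMap L x x = x := lineMap_fix h3 fun h => h.1 rfl

theorem lineMap_collinear {x y : X} (h : Collinear L x y) :
    lineMap L x y ≠ x ∧ lineMap L x y ≠ y ∧ ({x, y, lineMap L x y} : Set X) ∈ L := by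
  obtain ⟨hxy, l, hl, hx, hy⟩ := h
  obtain ⟨z, hzx, hzy, rfl⟩ := exists_third (h3 l hl) hx hy hxy
  rw [lineMap_eq hpl hxy hzx hzy hl]
  exact ⟨hzx, hzy, hl⟩

theorem lineMap_involutive (x : X) : Function.Involutive (lineMap L x) := by
  intro y
  by_cases h : Collinear L x y
  · obtain ⟨h1, h2, hl⟩ := lineMap_collinear hpl h3 h
    refine lineMap_eq hpl (Ne.symm h1) (Ne.symm h.1) (Ne.symm h2) ?_
    rwa [Set.pair_comm]
  · rw [lineMap_fix h3 h, lineMap_fix h3 h]

/-- `t(x)` maps lines to lines. -/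
theorem lineMap_line (hF : ∀ l ∈ L, ∀ m ∈ L, l ≠ m → (l ∩ m).Nonempty →
      Isomorphic (restrict L (span L (l ∪ m))) dualAffinePlaneTwo ∨
        Isomorphic (restrict L (span L (l ∪ m))) affinePlaneThree)
    (x : X) {l : Set X} (hl : l ∈ L) : lineMap L x '' l ∈ L := by
  by_cases hxl : x ∈ l
  · have : lineMap L x '' l = l := by
      have hsub : ∀ y ∈ l, lineMap L x y ∈ l := fun y hy => by
        by_cases hc : Collinear L x y
        · obtain ⟨-, -, hm⟩ := lineMap_collinear hpl h3 hc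
          rw [hpl _ hl _ hm x y hc.1 hxl hy (by simp) (by simp)]
          simp
        · rwa [lineMap_fix h3 hc]
      refine Set.Subset.antisymm (Set.image_subset_iff.2 hsub) fun y hy =>
        ⟨_, hsub y hy, lineMap_involutive hpl h3 x y⟩
    rwa [this]
  by_cases hex : ∃ y ∈ l, Collinear L x y
  swap
  · push_neg at hex
    have : lineMap L x '' l = l := by
      conv_rhs => rw [← Set.image_id l]
      exact Set.image_congr fun y hy => lineMap_fix h3 (hex y hy)
    rwa [this]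
  obtain ⟨y, hy, hxy, m, hm, hxm, hym⟩ := hex
  have hne : l ≠ m := fun e => hxl (e ▸ hxm)
  have main : ∀ {P : Type} {M : Set (Set P)}, Refl M →
      Isomorphic (restrict L (span L (l ∪ m))) M → lineMap L x '' l ∈ L := by
    intro P M ρ hiso
    set S := span L (l ∪ m) with hS
    obtain ⟨e, he⟩ := hiso
    have hxS : x ∈ S := subset_span _ (Or.inr hxm)
    have hlS : l ⊆ S := fun z hz => subset_span _ (Or.inl hz)
    have hcollS : ∀ a b : S, (∃ k ∈ M, e a ∈ k ∧ e b ∈ k) ↔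
        (a = b ∧ ∃ k ∈ M, e a ∈ k) ∨ Collinear L (a : X) b := by
      intro a b
      constructor
      · rintro ⟨k, hk, ha, hb⟩
        by_cases hab : a = b
        · exact Or.inl ⟨hab, k, hk, ha⟩
        right
        have hk' : e '' (e.symm '' k) = k := by rw [Equiv.image_symm_image]
        obtain ⟨l₀, hl₀, -, hml⟩ := (he (e.symm '' k)).2 (by rwa [hk'])
        have hmem : ∀ c : S, e c ∈ k → (c : X) ∈ l₀ := fun c hc => by
          have : c ∈ e.symm '' k := ⟨e c, hc, by simp⟩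
          rwa [hml] at this
        exact ⟨fun h => hab (Subtype.ext h), l₀, hl₀, hmem a ha, hmem b hb⟩
      · rintro (⟨rfl, k, hk, ha⟩ | ⟨hab, l₀, hl₀, ha, hb⟩)
        · exact ⟨k, hk, ha, ha⟩
        · exact ⟨_, (he _).1 ⟨l₀, hl₀, isSubspace_span _ l₀ hl₀ a a.2 b b.2 hab ha hb, rfl⟩,
            ⟨a, ha, rfl⟩, ⟨b, hb, rfl⟩⟩
    set p := e ⟨x, hxS⟩ with hp
    have hmap : ∀ a : S, (e.symm (ρ.r p (e a)) : X) = lineMap L x a := by
      intro a
      by_cases hax : (a : X) = x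
      · have : a = ⟨x, hxS⟩ := Subtype.ext hax
        rw [this, ← hp, ρ.self, hp, Equiv.symm_apply_apply]
        exact (lineMap_self hpl h3 x).symm
      have hpq : p ≠ e a := fun h => hax (congrArg Subtype.val (e.injective h)).symm
      by_cases hk : ∃ k ∈ M, p ∈ k ∧ e a ∈ k
      · obtain ⟨h1, h2, k, hk', hpk, hak, hrk⟩ := ρ.coll p (e a) hpq hk
        have hk'' : e '' (e.symm '' k) = k := by rw [Equiv.image_symm_image]
        obtain ⟨l₀, hl₀, -, hml⟩ := (he (e.symm '' k)).2 (by rwa [hk''])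
        have hmem : ∀ q ∈ k, (e.symm q : X) ∈ l₀ := fun q hq => by
          have : e.symm q ∈ e.symm '' k := ⟨q, hq, rfl⟩
          rwa [hml] at this
        have hx0 : x ∈ l₀ := by simpa [hp] using hmem p hpk
        have ha0 : (a : X) ∈ l₀ := by simpa using hmem _ hak
        have hr0 := hmem _ hrk
        have hnx : (e.symm (ρ.r p (e a)) : X) ≠ x := fun h => h1 (by
          have := congrArg e (Subtype.ext (a2 := ⟨x, hxS⟩) h); simpa using this)
        have hna : (e.symm (ρ.r p (e a)) : X) ≠ a := fun h => h2 (by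
          have := congrArg e (Subtype.ext h); simpa using this)
        refine (lineMap_eq hpl (Ne.symm hax) hnx hna ?_).symm
        rwa [← eq_triple (h3 _ hl₀) hx0 ha0 hr0 (Ne.symm hax) (Ne.symm hnx) (Ne.symm hna)]
      · rw [ρ.noncoll p (e a) hpq hk, Equiv.symm_apply_apply, lineMap_fix h3]
        intro hc
        exact hk ((hcollS ⟨x, hxS⟩ a).2 (Or.inr hc))
    set k := e '' {a : S | (a : X) ∈ l} with hk
    have hkM : k ∈ M := (he _).1 ⟨l, hl, hlS, rfl⟩
    have hk2 : e '' (e.symm '' (ρ.r p '' k)) = ρ.r p '' k := by rw [Equiv.image_symm_image]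
    obtain ⟨l₀, hl₀, hl₀S, hml⟩ := (he (e.symm '' (ρ.r p '' k))).2 (by rw [hk2]; exact ρ.line p k hkM)
    have : lineMap L x '' l = l₀ := by
      ext z
      constructor
      · rintro ⟨w, hw, rfl⟩
        have : e.symm (ρ.r p (e ⟨w, hlS hw⟩)) ∈ e.symm '' (ρ.r p '' k) :=
          ⟨_, ⟨_, ⟨⟨w, hlS hw⟩, hw, rfl⟩, rfl⟩, rfl⟩
        rw [hml, Set.mem_setOf_eq, hmap] at this
        exact this
      · intro hz
        have : (⟨z, hl₀S hz⟩ : S) ∈ e.symm '' (ρ.r p '' k) := hml ▸ hz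
        obtain ⟨_, ⟨_, ⟨a, ha, rfl⟩, rfl⟩, hq⟩ := this
        exact ⟨a, ha, by rw [← hmap a, hq]⟩
    rwa [this]
  rcases hF l hl m hm hne ⟨y, hy, hym⟩ with h | h
  · exact main dualRefl h
  · exact main affineRefl h

end lineMap

end CfsgLib.ThreeTransp.Planes
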