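import Mathlib

/-!
# Ree's inequality for a transitive triple of permutations

The proof is Scott's: the rank count in the permutation module over the rationals.
-/

set_option autoImplicit false
set_option linter.unusedSectionVars false

namespace CfsgLib.ThreeTransp.Ree

open Module

variable {α : Type*} [Fintype α] [DecidableEq α]

/-- The permutation action on rational functions. -/
noncomputable def L (x : Equiv.Perm α) : (α → ℚ) →ₗ[ℚ] (α → ℚ) := LinearMap.funLeft ℚ ℚ ⇑x⁻¹

theorem L_apply (x : Equiv.Perm α) (f : α → ℚ) (a : α) : L x f a = f (x⁻¹ a) := rfl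

theorem L_mul (x y : Equiv.Perm α) (f : α → ℚ) : L (x * y) f = L x (L y f) := by
  funext a
  simp [L_apply, mul_inv_rev, Equiv.Perm.mul_apply]

theorem L_one (f : α → ℚ) : L (1 : Equiv.Perm α) f = f := by
  funext a; simp [L_apply]

/-- The moving part. -/
noncomputable def D (x : Equiv.Perm α) : (α → ℚ) →ₗ[ℚ] (α → ℚ) := L x - 1

theorem D_apply (x : Equiv.Perm α) (f : α → ℚ) : D x f = L x f - f := rfl

theorem L_single (x : Equiv.Perm α) (a : α) : L x (Pi.single a 1) = Pi.single (x a) 1 := by
  funext b
  rw [L_apply]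
  by_cases h : b = x a
  · subst h; simp
  · have : x⁻¹ b ≠ a := fun e => h (by rw [← e]; simp)
    rw [Pi.single_eq_of_ne this, Pi.single_eq_of_ne h]

/-- The number of cycles of a permutation, fixed points counted. -/
noncomputable def cycles (x : Equiv.Perm α) : ℕ :=
  Nat.card (MulAction.orbitRel.Quotient (Subgroup.zpowers x) α)

theorem cycles_le_ker (x : Equiv.Perm α) : cycles x ≤ finrank ℚ (LinearMap.ker (D x)) := by
  classical
  let Ω := MulAction.orbitRel.Quotient (Subgroup.zpowers x) α
  have : Fintype Ω := Fintype.ofFinite Ω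
  let mk : α → Ω := Quotient.mk''
  have hmk : ∀ a, mk (x⁻¹ a) = mk a := fun a =>
    Quotient.sound' ⟨⟨x⁻¹, Subgroup.inv_mem _ (Subgroup.mem_zpowers x)⟩, rfl⟩
  let T : (Ω → ℚ) →ₗ[ℚ] (α → ℚ) := LinearMap.funLeft ℚ ℚ mk
  have hT : Function.Injective T := LinearMap.funLeft_injective_of_surjective ℚ ℚ mk Quotient.mk''_surjective
  have hle : LinearMap.range T ≤ LinearMap.ker (D x) := by
    rintro _ ⟨f, rfl⟩
    rw [LinearMap.mem_ker, D_apply, sub_eq_zero]
    funext a
    show f (mk (x⁻¹ a)) = f (mk a)
    rw [hmk]
  calc cycles x = finrank ℚ (Ω → ℚ) := by rw [Module.finrank_pi, cycles, Nat.card_eq_fintype_card]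
    _ = finrank ℚ (LinearMap.range T) := (LinearMap.finrank_range_of_inj hT).symm
    _ ≤ _ := Submodule.finrank_mono hle

theorem rank_le (x : Equiv.Perm α) : finrank ℚ (LinearMap.range (D x)) + cycles x ≤ Fintype.card α := by
  have h := LinearMap.finrank_range_add_finrank_ker (D x)
  rw [Module.finrank_pi] at h
  have := cycles_le_ker x
  omega

/-- **Ree's inequality.** -/
theorem ree (x y z : Equiv.Perm α) (h : x * y * z = 1)
    (ht : ∀ a b : α, ∃ g ∈ Subgroup.closure ({x, y} : Set (Equiv.Perm α)), g a = b) :
    cycles x + cycles y + cycles z ≤ Fintype.card α + 2 := by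
  classical
  rcases isEmpty_or_nonempty α with he | ⟨⟨a₀⟩⟩
  · have hc : ∀ w : Equiv.Perm α, cycles w = 0 := fun w => by
      have : IsEmpty (MulAction.orbitRel.Quotient (Subgroup.zpowers w) α) := ⟨fun q => by
        induction q using Quotient.inductionOn' with
        | h a => exact IsEmpty.false a⟩
      exact Nat.card_of_isEmpty
    rw [hc, hc, hc]; omega
  set A := LinearMap.range (D x) with hA
  set B := LinearMap.range (D y) with hB
  set C := LinearMap.range (D z) with hC
  set S := A ⊔ B with hS
  -- the augmentation kernel lies in the first two moving parts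
  have hmem : ∀ g ∈ Subgroup.closure ({x, y} : Set (Equiv.Perm α)), ∀ a,
      (Pi.single (g a) (1 : ℚ) - Pi.single a 1 : α → ℚ) ∈ S := by
    intro g hg
    induction hg using Subgroup.closure_induction with
    | mem w hw =>
      intro a
      have e : D w (Pi.single a 1) = Pi.single (w a) 1 - Pi.single a 1 := by rw [D_apply, L_single]
      rcases hw with rfl | rfl
      · exact Submodule.mem_sup_left ⟨_, e⟩
      · exact Submodule.mem_sup_right ⟨_, e⟩
    | one => intro a; simp
    | mul u v _ _ hu hv =>
      intro a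
      have h1 := S.add_mem (hu (v a)) (hv a)
      rw [sub_add_sub_cancel] at h1
      exact h1
    | inv u _ hu =>
      intro a
      have h1 := S.neg_mem (hu (u⁻¹ a))
      rw [neg_sub, Equiv.Perm.coe_inv, Equiv.apply_symm_apply] at h1
      exact h1
  have hSdim : Fintype.card α ≤ finrank ℚ S + 1 := by
    have htop : S ⊔ Submodule.span ℚ {(Pi.single a₀ 1 : α → ℚ)} = ⊤ := by
      rw [eq_top_iff]
      intro f _
      rw [pi_eq_sum_univ' f]
      refine Submodule.sum_mem _ fun a _ => Submodule.smul_mem _ _ ?_
      obtain ⟨g, hg, rfl⟩ := ht a₀ a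
      rw [← sub_add_cancel (Pi.single (g a₀) (1 : ℚ)) (Pi.single a₀ 1 : α → ℚ)]
      exact Submodule.add_mem _ (Submodule.mem_sup_left (hmem g hg a₀))
        (Submodule.mem_sup_right (Submodule.mem_span_singleton_self _))
    have h1 := Submodule.finrank_add_le_finrank_add_finrank S (Submodule.span ℚ {(Pi.single a₀ 1 : α → ℚ)})
    rw [htop, finrank_top, Module.finrank_pi] at h1
    exact h1.trans (Nat.add_le_add_left (finrank_span_singleton (by simp)).le _)
  -- the two maps
  let σ : A × B × C →ₗ[ℚ] (α → ℚ) :=
    A.subtype.coprod (((L x).comp B.subtype).coprod (((L x).comp (L y)).comp C.subtype))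
  let ψ : (α → ℚ) →ₗ[ℚ] A × B × C :=
    (D x).rangeRestrict.prod ((D y).rangeRestrict.prod (D z).rangeRestrict)
  have hσψ : LinearMap.range ψ ≤ LinearMap.ker σ := by
    rintro _ ⟨f, rfl⟩
    show D x f + (L x (D y f) + L x (L y (D z f))) = 0
    have e : L x (L y (L z f)) = f := by rw [← L_mul, ← L_mul, h, L_one]
    simp only [D_apply, map_sub, e]
    abel
  have hσ : S ≤ LinearMap.range σ := by
    refine sup_le (fun a ha => ⟨(⟨a, ha⟩, 0, 0), by simp [σ]⟩) fun b hb => ?_
    have hDb : -D x b ∈ A := A.neg_mem ⟨b, rfl⟩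
    refine ⟨(⟨-D x b, hDb⟩, ⟨b, hb⟩, 0), ?_⟩
    show -D x b + (L x b + L x (L y 0)) = b
    rw [map_zero, map_zero, add_zero, D_apply]
    abel
  have hker : finrank ℚ (LinearMap.ker ψ) ≤ 1 := by
    refine le_trans (Submodule.finrank_mono (t := Submodule.span ℚ {(fun _ => 1 : α → ℚ)}) ?_) ?_
    · intro f hf
      have hf' : ψ f = 0 := hf
      have hfx : D x f = 0 := congrArg (fun p : A × B × C => (p.1 : α → ℚ)) hf'
      have hfy : D y f = 0 := congrArg (fun p : A × B × C => (p.2.1 : α → ℚ)) hf'
      have hinv : ∀ g ∈ Subgroup.closure ({x, y} : Set (Equiv.Perm α)), ∀ a, f (g a) = f a := by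
        intro g hg
        induction hg using Subgroup.closure_induction with
        | mem w hw =>
          intro a
          have hw0 : L w f = f := by
            rcases hw with rfl | rfl
            · exact sub_eq_zero.1 hfx
            · exact sub_eq_zero.1 hfy
          have := congrFun hw0 (w a)
          rw [L_apply, Equiv.Perm.coe_inv, Equiv.symm_apply_apply] at this
          exact this.symm
        | one => intro a; rfl
        | mul u v _ _ hu hv => intro a; exact (hu (v a)).trans (hv a)
        | inv u _ hu =>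
          intro a
          have := hu (u⁻¹ a)
          rw [Equiv.Perm.coe_inv, Equiv.apply_symm_apply] at this
          exact this.symm
      refine Submodule.mem_span_singleton.2 ⟨f a₀, funext fun a => ?_⟩
      obtain ⟨g, hg, rfl⟩ := ht a₀ a
      simp [hinv g hg a₀]
    · exact (finrank_span_le_card _).trans (by simp)
  have h1 := LinearMap.finrank_range_add_finrank_ker σ
  have h2 := LinearMap.finrank_range_add_finrank_ker ψ
  rw [Module.finrank_prod, Module.finrank_prod] at h1
  rw [Module.finrank_pi] at h2
  have h3 := Submodule.finrank_mono hσ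
  have h4 := Submodule.finrank_mono hσψ
  have hx := rank_le x
  have hy := rank_le y
  have hz := rank_le z
  rw [← hA] at hx
  rw [← hB] at hy
  rw [← hC] at hz
  omega

/-- The cycles of an element of prime order. -/
theorem cycles_prime (x : Equiv.Perm α) {p : ℕ} (hp : orderOf x = p) (hp1 : 1 ≤ p) :
    Fintype.card α + (p - 1) * (Finset.univ.filter fun a => x a = a).card ≤ p * cycles x := by
  classical
  set H := Subgroup.zpowers x
  have : Fintype (MulAction.orbitRel.Quotient H α) := Fintype.ofFinite _
  have h := MulAction.sum_card_fixedBy_eq_card_orbits_mul_card_group H α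
  have hc : Fintype.card H = p := by rw [Fintype.card_zpowers, hp]
  rw [hc] at h
  rw [cycles, Nat.card_eq_fintype_card, mul_comm p]
  refine le_trans ?_ h.le
  rw [← Finset.add_sum_erase Finset.univ _ (Finset.mem_univ (1 : H))]
  refine Nat.add_le_add ?_ ?_
  · exact le_of_eq (Fintype.card_congr (Equiv.subtypeUnivEquiv fun a => by simp).symm)
  · have hcard : (Finset.univ.erase (1 : H)).card = p - 1 := by
      rw [Finset.card_erase_of_mem (Finset.mem_univ _), Finset.card_univ, hc]
    rw [← hcard, ← smul_eq_mul]
    refine Finset.card_nsmul_le_sum _ _ _ fun g _ => ?_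
    rw [Fintype.card_subtype]
    refine Finset.card_le_card fun a ha => ?_
    simp only [Finset.mem_filter, Finset.mem_univ, true_and, MulAction.mem_fixedBy] at ha ⊢
    obtain ⟨k, hk⟩ := Subgroup.mem_zpowers_iff.1 g.2
    show (g : Equiv.Perm α) a = a
    rw [← hk]
    exact Equiv.Perm.zpow_apply_eq_self_of_apply_eq_self ha k

end CfsgLib.ThreeTransp.Ree
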