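import Mathlib
import Cfsg.Prelude
import Cfsg.Agent.Lib.ThreeTransp.Basic
import Cfsg.Agent.Lib.ThreeTransp.FiftyFour
import Cfsg.Agent.Lib.TwoGroups.CyclicMax

/-!
Groups of 3-transpositions which are extensions of a 3-group by a 2-group and act faithfully on an
elementary abelian 2-group in the manner forced by the lifts of the transpositions.
-/

set_option autoImplicit false
set_option linter.unusedSectionVars false

namespace CfsgLib.ThreeTransp.SmallWidth

open CfsgLib.ThreeTransp.Basic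

variable {Y V : Type*} [Group Y] [Finite Y] [Group V] (α : Y →* MulAut V)
  (hexp : ∀ v : V, v * v = 1)

include hexp in
theorem vcomm (a b : V) : a * b = b * a := by
  have hi : ∀ g : V, g⁻¹ = g := fun g => inv_eq_of_mul_eq_one_right (hexp g)
  rw [← hi (a * b), mul_inv_rev, hi, hi]

include hexp in
theorem six_pairs (v a b c d e f g h : V) :
    v = (v * a * b) * (v * c * d) * (v * e * f) * (v * g * h) * (v * a * b * c * d * e * f * g * h) := by
  letI : CommGroup V := { (inferInstance : Group V) with mul_comm := vcomm hexp }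
  have hc : ∀ x y : V, x * (x * y) = y := fun x y => by rw [← mul_assoc, hexp, one_mul]
  simp only [mul_assoc, mul_comm, mul_left_comm, hexp, hc, mul_one]

theorem act_mul (g h : Y) (v : V) : α (g * h) v = α g (α h v) := by rw [map_mul]; rfl

include hexp in
/-- Coprime generation for an elementary abelian group of order nine acting on a subgroup. -/
theorem four_sum (W : Subgroup V) (x y d : Y) (x3 : x ^ 3 = 1) (y3 : y ^ 3 = 1)
    (hxW : ∀ w ∈ W, α x w ∈ W) (hyW : ∀ w ∈ W, α y w ∈ W)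
    (hxy : ∀ w ∈ W, α x (α y w) = α y (α x w))
    (h1 : ∀ w ∈ W, α x w = w → α d w = w) (h2 : ∀ w ∈ W, α y w = w → α d w = w)
    (h3 : ∀ w ∈ W, α x (α y w) = w → α d w = w)
    (h4 : ∀ w ∈ W, α x (α y (α y w)) = w → α d w = w) :
    ∀ v ∈ W, α d v = v := by
  intro v hv
  set X := α x with hX
  set Z := α y with hZ
  have cX : ∀ w, X (X (X w)) = w := fun w => by
    rw [hX, ← act_mul α, ← act_mul α, show x * x * x = 1 by rw [← x3, pow_succ, pow_two], map_one]; rfl
  have cZ : ∀ w, Z (Z (Z w)) = w := fun w => by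
    rw [hZ, ← act_mul α, ← act_mul α, show y * y * y = 1 by rw [← y3, pow_succ, pow_two], map_one]; rfl
  have e := six_pairs hexp v (X v) (X (X v)) (Z v) (Z (Z v)) (X (Z v)) (X (X (Z (Z v))))
    (X (Z (Z v))) (X (X (Z v)))
  have mX := hxW v hv
  have mXX := hxW _ mX
  have mZ := hyW v hv
  have mZZ := hyW _ mZ
  have mXZ := hxW _ mZ
  have mXZZ := hxW _ mZZ
  have mXXZ := hxW _ mXZ
  have mXXZZ := hxW _ mXZZ
  have cm := vcomm hexp
  have f1 : α d (v * X v * X (X v)) = v * X v * X (X v) := by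
    refine h1 _ (mul_mem (mul_mem hv mX) mXX) ?_
    rw [map_mul, map_mul, cX, cm _ v, mul_assoc]
  have f2 : α d (v * Z v * Z (Z v)) = v * Z v * Z (Z v) := by
    refine h2 _ (mul_mem (mul_mem hv mZ) mZZ) ?_
    rw [map_mul, map_mul, cZ, cm _ v, mul_assoc]
  have f3 : α d (v * X (Z v) * X (X (Z (Z v)))) = v * X (Z v) * X (X (Z (Z v))) := by
    refine h3 _ (mul_mem (mul_mem hv mXZ) mXXZZ) ?_
    have q1 : X (Z (X (Z v))) = X (X (Z (Z v))) := by rw [hxy _ mZ]
    have q2 : X (Z (X (X (Z (Z v))))) = v := by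
      rw [← hxy _ mXZZ, ← hxy _ mZZ, cZ, cX]
    rw [map_mul, map_mul, map_mul, map_mul, q1, q2, cm _ v, mul_assoc]
  have f4 : α d (v * X (Z (Z v)) * X (X (Z v))) = v * X (Z (Z v)) * X (X (Z v)) := by
    refine h4 _ (mul_mem (mul_mem hv mXZZ) mXXZ) ?_
    have q1 : X (Z (Z (X (Z (Z v))))) = X (X (Z v)) := by
      rw [← hxy _ mZZ, ← hxy _ (hyW _ mZZ), cZ]
    have q2 : X (Z (Z (X (X (Z v))))) = v := by
      rw [← hxy _ mXZ, ← hxy _ mZ, ← hxy _ (hxW _ mZZ), ← hxy _ mZZ, cZ, cX]
    rw [map_mul, map_mul, map_mul, map_mul, map_mul, map_mul, q1, q2, cm _ v, mul_assoc]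
  set T := v * X v * X (X v) * Z v * Z (Z v) * X (Z v) * X (X (Z (Z v))) * X (Z (Z v)) * X (X (Z v)) with hT
  have f5 : α d T = T := by
    refine h1 _ ?_ ?_
    · rw [hT]
      exact mul_mem (mul_mem (mul_mem (mul_mem (mul_mem (mul_mem (mul_mem (mul_mem hv mX) mXX) mZ) mZZ) mXZ)
        mXXZZ) mXZZ) mXXZ
    · letI : CommGroup V := { (inferInstance : Group V) with mul_comm := vcomm hexp }
      rw [hT]
      simp only [map_mul, cX]
      simp only [mul_assoc, mul_comm, mul_left_comm]
  calc α d v = α d ((v * X v * X (X v)) * (v * Z v * Z (Z v)) * (v * X (Z v) * X (X (Z (Z v))))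
        * (v * X (Z (Z v)) * X (X (Z v))) * T) := congrArg (α d) e
    _ = v := by rw [map_mul, map_mul, map_mul, map_mul, f1, f2, f3, f4, f5]; exact e.symm

variable {D : Set Y}

theorem pair_three (hS : Cfsg.IsThreeTranspositionSet D) (hgen : Subgroup.closure D = ⊤)
    (hcls : ∀ a ∈ D, ∀ b ∈ D, ∃ g : Y, g * a * g⁻¹ = b) (P : Subgroup Y) [P.Normal]
    (hP : IsPGroup 3 P) {k : ℕ} (hk : P.index = 2 ^ k) {a b : Y} (ha : a ∈ D) (hb : b ∈ D) :
    a * b ∈ P ∧ (a * b) ^ 3 = 1 := by
  have hcomm : ∀ a ∈ D, ∀ b ∈ D, Commute (QuotientGroup.mk' P a) (QuotientGroup.mk' P b) := by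
    intro a ha b hb
    rcases hS.2 a ha b hb with h | h
    · exact ((commute_iff (sq_one (hS.1 a ha)) (sq_one (hS.1 b hb))).2 h).map _
    · set u := QuotientGroup.mk' P (a * b) with hu
      have h3 : u ^ 3 = 1 := by rw [hu, ← map_pow, h, map_one]
      have h2 : u ^ 2 ^ k = 1 := by rw [← hk]; exact pow_card_eq_one'
      have h1 : orderOf u = 1 := Nat.eq_one_of_dvd_coprimes
        ((by norm_num : Nat.Coprime 3 2).pow_right k) (orderOf_dvd_of_pow_eq_one h3) (orderOf_dvd_of_pow_eq_one h2)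
      rw [orderOf_eq_one_iff, hu, map_mul] at h1
      rw [eq_inv_of_mul_eq_one_left h1]
      exact Commute.inv_left rfl
  have htop : Subgroup.closure (QuotientGroup.mk' P '' D) = ⊤ := by
    rw [← MonoidHom.map_closure, hgen, Subgroup.map_top_of_surjective _ (QuotientGroup.mk'_surjective P)]
  have hab : a * b ∈ P := by
    obtain ⟨g, hg⟩ := hcls a ha b hb
    have hc : QuotientGroup.mk' P g * QuotientGroup.mk' P a = QuotientGroup.mk' P a * QuotientGroup.mk' P g := by
      have hle : Subgroup.closure (QuotientGroup.mk' P '' D) ≤ Subgroup.centralizer {QuotientGroup.mk' P a} := by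
        rw [Subgroup.closure_le]
        rintro _ ⟨e, he, rfl⟩
        rw [SetLike.mem_coe, Subgroup.mem_centralizer_iff]
        intro z hz
        rw [Set.mem_singleton_iff.1 hz]
        exact (hcomm a ha e he).eq
      rw [htop] at hle
      exact (Subgroup.mem_centralizer_iff.1 (hle (Subgroup.mem_top _)) _ rfl).symm
    rw [← QuotientGroup.eq_one_iff, ← QuotientGroup.mk'_apply, map_mul, ← hg, map_mul, map_mul, map_inv, hc,
      mul_inv_cancel_right, ← map_mul, sq_one (hS.1 a ha), map_one]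
  refine ⟨hab, (hS.2 a ha b hb).elim (fun h => ?_) id⟩
  obtain ⟨n, hn⟩ := hP ⟨a * b, hab⟩
  have h1 : orderOf (a * b) = 1 := Nat.eq_one_of_dvd_coprimes
    ((by norm_num : Nat.Coprime 2 3).pow_right n) (orderOf_dvd_of_pow_eq_one h)
    (orderOf_dvd_of_pow_eq_one (by simpa using congrArg Subtype.val hn))
  rw [orderOf_eq_one_iff.1 h1, one_pow]

include hexp in
theorem main (hα : Function.Injective α) (hS : Cfsg.IsThreeTranspositionSet D) (hgen : Subgroup.closure D = ⊤)
    (hconj : ∀ g : Y, ∀ a ∈ D, g * a * g⁻¹ ∈ D) (hcls : ∀ a ∈ D, ∀ b ∈ D, ∃ g : Y, g * a * g⁻¹ = b)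
    (P : Subgroup Y) [P.Normal] (hP : IsPGroup 3 P) {k : ℕ} (hk : P.index = 2 ^ k)
    (htwo : ∃ a ∈ D, ∃ b ∈ D, a ≠ b)
    (hfix : ∀ a ∈ D, ∀ b ∈ D, a ≠ b → ∀ v : V, α (a * b) v = v → α b v = v) :
    Nonempty (Y ≃* DihedralGroup 3) ∨ Nonempty (Y ≃* FiftyFour.Std54) := by
  obtain ⟨d, hd, e₀, he₀, hde₀⟩ := htwo
  have dd : d * d = 1 := sq_one (hS.1 d hd)
  have di : d⁻¹ = d := inv_eq_of_mul_eq_one_right dd
  have hdP : d ∉ P := fun h => by
    obtain ⟨n, hn⟩ := hP ⟨d, h⟩
    have h1 : orderOf d = 1 := Nat.eq_one_of_dvd_coprimes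
      ((by norm_num : Nat.Coprime 2 3).pow_right n) (hS.1 d hd).dvd
      (orderOf_dvd_of_pow_eq_one (by simpa using congrArg Subtype.val hn))
    rw [hS.1 d hd] at h1
    norm_num at h1
  have hPd : ∀ p ∈ P, d * p * d ∈ P := fun p hp => by
    have := (inferInstance : P.Normal).conj_mem p hp d
    rwa [di] at this
  -- the inverted elements
  set I : Set Y := {x | x ∈ P ∧ d * x * d = x⁻¹} with hI
  have hIinv : ∀ x ∈ I, x⁻¹ ∈ I := fun x hx => ⟨inv_mem hx.1, by
    rw [inv_inv]
    calc d * x⁻¹ * d = (d * x * d)⁻¹ := by rw [mul_inv_rev, mul_inv_rev, di, mul_assoc]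
      _ = x := by rw [hx.2, inv_inv]⟩
  have odd_eq : ∀ x ∈ P, x * x = 1 → x = 1 := fun x hx h => by
    obtain ⟨n, hn⟩ := hP ⟨x, hx⟩
    exact orderOf_eq_one_iff.1 (Nat.eq_one_of_dvd_coprimes ((by norm_num : Nat.Coprime 2 3).pow_right n)
      (orderOf_dvd_of_pow_eq_one (by rw [sq]; exact h))
      (orderOf_dvd_of_pow_eq_one (by simpa using congrArg Subtype.val hn)))
  have hdxD : ∀ x ∈ I, d * x ∈ D := fun x hx => by
    obtain ⟨n, hn⟩ := hP ⟨x, hx.1⟩
    have hxn : x ^ 3 ^ n = 1 := by simpa using congrArg Subtype.val hn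
    obtain ⟨m, hm⟩ : ∃ m, 3 ^ n + 1 = 2 * m := by
      obtain ⟨m, hm⟩ := (Odd.pow (n := n) (by decide : Odd 3) : Odd (3 ^ n))
      exact ⟨m + 1, by omega⟩
    have hy : x ^ m * x ^ m = x := by rw [← pow_add, ← two_mul, ← hm, pow_succ, hxn, one_mul]
    have hyd : d * x ^ m * d = (x ^ m)⁻¹ := by
      have : (d * x * d⁻¹) ^ m = d * x ^ m * d⁻¹ := conj_pow
      rw [di, hx.2, inv_pow] at this
      exact this.symm
    have h := hconj (x ^ m)⁻¹ d hd
    rw [inv_inv] at h
    have e : (x ^ m)⁻¹ * d * x ^ m = d * x := by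
      rw [← hyd]
      calc d * x ^ m * d * d * x ^ m = d * x ^ m * (d * d) * x ^ m := by simp only [mul_assoc]
        _ = d * x := by rw [dd, mul_one, mul_assoc, hy]
    rwa [e] at h
  have hI3 : ∀ x ∈ I, x ^ 3 = 1 := fun x hx => by
    have := (pair_three hS hgen hcls P hP hk hd (hdxD x hx)).2
    rwa [← mul_assoc, dd, one_mul] at this
  have hIfix : ∀ x ∈ I, x ≠ 1 → ∀ v, α x v = v → α d v = v := fun x hx hx1 v hv => by
    have h1 : d ≠ d * x := fun h => hx1 (mul_eq_left.1 h.symm)
    have := hfix d hd (d * x) (hdxD x hx) h1 v (by rw [← mul_assoc, dd, one_mul]; exact hv)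
    rw [act_mul, hv] at this
    exact this
  have hfixtop : ¬ ∀ v, α d v = v := fun h => by
    have : d = 1 := hα (by rw [map_one]; exact MulEquiv.ext h)
    exact hdP (this ▸ one_mem P)
  -- commuting inverted elements generate a cyclic group
  have hcyc : ∀ x ∈ I, ∀ y ∈ I, x ≠ 1 → x * y = y * x → y ∈ Subgroup.zpowers x := by
    intro x hx y hy hx1 hxy
    by_contra hne
    have hy1 : y ≠ 1 := fun h => hne (h ▸ one_mem _)
    have hxyI : x * y ∈ I := ⟨mul_mem hx.1 hy.1, by
      calc d * (x * y) * d = (d * x * d) * (d * y * d) := by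
            simp only [mul_assoc]; rw [← mul_assoc d d, dd, one_mul]
        _ = (x * y)⁻¹ := by rw [hx.2, hy.2, ← mul_inv_rev, hxy]⟩
    have hxyyI : x * y * y ∈ I := ⟨mul_mem hxyI.1 hy.1, by
      calc d * (x * y * y) * d = (d * (x * y) * d) * (d * y * d) := by
            simp only [mul_assoc]; rw [← mul_assoc d d, dd, one_mul]
        _ = (x * y * y)⁻¹ := by
            rw [hxyI.2, hy.2, ← mul_inv_rev]
            exact congrArg (·⁻¹) (by rw [← mul_assoc, ← hxy])⟩
    refine hfixtop fun v => four_sum α hexp ⊤ x y d (hI3 x hx) (hI3 y hy) (fun _ _ => Subgroup.mem_top _)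
      (fun _ _ => Subgroup.mem_top _) (fun w _ => by rw [← act_mul, hxy, act_mul])
      (fun w _ => hIfix x hx hx1 w) (fun w _ => hIfix y hy hy1 w)
      (fun w _ h => hIfix _ hxyI (fun h1 => hne ?_) w (by rw [act_mul]; exact h))
      (fun w _ h => hIfix _ hxyyI (fun h1 => hne ?_) w (by rw [act_mul, act_mul]; exact h)) v (Subgroup.mem_top _)
    · rw [eq_inv_of_mul_eq_one_right h1]; exact inv_mem (Subgroup.mem_zpowers x)
    · have hy2 : y * y = x⁻¹ := eq_inv_of_mul_eq_one_right (by rw [← mul_assoc]; exact h1)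
      have : y = x := by
        rw [← inv_inv x, ← hy2]
        exact eq_inv_of_mul_eq_one_left (by rw [← mul_assoc, ← pow_three']; exact hI3 y hy)
      rw [this]; exact Subgroup.mem_zpowers x
  -- `d` and the inverted elements generate
  have hcover : ∀ S : Subgroup Y, d ∈ S → I ⊆ (S : Set Y) → S = ⊤ := fun S hdS hIS => by
    rw [eq_top_iff, ← hgen, Subgroup.closure_le]
    intro a ha
    have hda : d * a ∈ I := ⟨(pair_three hS hgen hcls P hP hk hd ha).1, by
      rw [← mul_assoc, dd, one_mul, mul_inv_rev, di, inv_eq_of_mul_eq_one_right (sq_one (hS.1 a ha))]⟩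
    have := mul_mem hdS (hIS hda)
    rwa [← mul_assoc, dd, one_mul] at this
  have hCtop : ∀ g : Y, g ∈ Subgroup.closure (insert d I) := fun g => by
    rw [hcover _ (Subgroup.subset_closure (Set.mem_insert d I))
      fun x hx => Subgroup.subset_closure (Set.mem_insert_of_mem d hx)]
    trivial
  have hPI : ∀ p ∈ P, p ∈ Subgroup.closure I := by
    let C := Subgroup.closure I
    have hn : ∀ z ∈ C, d * z * d ∈ C := fun z hz => by
      induction hz using Subgroup.closure_induction with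
      | mem z hz => rw [hz.2]; exact inv_mem (Subgroup.subset_closure hz)
      | one => rw [mul_one, dd]; exact one_mem _
      | mul a b _ _ iha ihb =>
        rw [show d * (a * b) * d = d * a * d * (d * b * d) by
          simp only [mul_assoc]; rw [← mul_assoc d d, dd, one_mul]]
        exact mul_mem iha ihb
      | inv a _ iha =>
        rw [show d * a⁻¹ * d = (d * a * d)⁻¹ by rw [mul_inv_rev, mul_inv_rev, di, mul_assoc]]
        exact inv_mem iha
    let S : Subgroup Y :=
      { carrier := {g | g ∈ C ∨ d * g ∈ C}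
        one_mem' := Or.inl (one_mem _)
        mul_mem' := by
          rintro a b (ha | ha) (hb | hb)
          · exact Or.inl (mul_mem ha hb)
          · refine Or.inr ?_
            have := mul_mem (hn a ha) hb
            simpa [mul_assoc, ← mul_assoc d d, dd] using this
          · exact Or.inr (by rw [← mul_assoc]; exact mul_mem ha hb)
          · refine Or.inl ?_
            have := mul_mem (hn _ ha) hb
            simpa [mul_assoc, ← mul_assoc d d, dd] using this
        inv_mem' := by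
          rintro a (ha | ha)
          · exact Or.inl (inv_mem ha)
          · refine Or.inr ?_
            have := hn _ (inv_mem ha)
            simpa [mul_assoc, di, dd] using this }
    intro p hp
    have hS' : S = ⊤ := hcover S (Or.inr (by rw [dd]; exact one_mem _))
      fun x hx => Or.inl (Subgroup.subset_closure hx)
    rcases (hS' ▸ Subgroup.mem_top p : p ∈ S) with h | h
    · exact h
    · exfalso
      have hle : C ≤ P := (Subgroup.closure_le _).2 fun x hx => hx.1
      exact hdP (by simpa using mul_mem (hle h) (inv_mem hp))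
  -- an inverted element different from one
  have hx₀ : d * e₀ ∈ I ∧ d * e₀ ≠ 1 := ⟨⟨(pair_three hS hgen hcls P hP hk hd he₀).1, by
    rw [← mul_assoc, dd, one_mul, mul_inv_rev, di, inv_eq_of_mul_eq_one_right (sq_one (hS.1 e₀ he₀))]⟩,
    fun h => hde₀ ((eq_inv_of_mul_eq_one_right h).trans di).symm⟩
  by_cases hab : ∀ x ∈ I, ∀ y ∈ I, x * y = y * x
  · -- the dihedral group of order six
    left
    obtain ⟨hxI, hx1⟩ := hx₀
    set x := d * e₀
    have hPx : ∀ p ∈ P, p ∈ Subgroup.zpowers x := fun p hp =>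
      (Subgroup.closure_le _).2 (fun y hy => hcyc x hxI y hy hx1 (hab x hxI y hy)) (hPI p hp)
    have hPeq : P = Subgroup.zpowers x := le_antisymm hPx (Subgroup.zpowers_le.2 hxI.1)
    have hox : orderOf x = 3 := orderOf_eq_prime (hI3 x hxI) hx1
    have hidx : P.index = 2 := by
      rw [Subgroup.index_eq_two_iff']
      refine ⟨d, fun g => ?_⟩
      by_cases hg : g ∈ P
      · exact Or.inr ⟨hg, fun h => hdP (by simpa using mul_mem h (inv_mem hg))⟩
      · refine Or.inl ⟨?_, hg⟩
        have hT : g ∈ Subgroup.closure (insert d I) := hCtop g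
        have : g ∈ P ∨ d * g ∈ P := by
          refine Subgroup.closure_induction (p := fun g _ => g ∈ P ∨ d * g ∈ P) ?_ ?_ ?_ ?_ hT
          · intro z hz
            rcases Set.mem_insert_iff.1 hz with rfl | hz
            · exact Or.inr (by rw [dd]; exact one_mem _)
            · exact Or.inl hz.1
          · exact Or.inl (one_mem _)
          · rintro a b - - (ha | ha) (hb | hb)
            · exact Or.inl (mul_mem ha hb)
            · refine Or.inr ?_
              have := mul_mem (hPd a ha) hb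
              simpa [mul_assoc, ← mul_assoc d d, dd] using this
            · exact Or.inr (by rw [← mul_assoc]; exact mul_mem ha hb)
            · refine Or.inl ?_
              have := mul_mem (hPd _ ha) hb
              simpa [mul_assoc, ← mul_assoc d d, dd] using this
          · rintro a - (ha | ha)
            · exact Or.inl (inv_mem ha)
            · refine Or.inr ?_
              have := hPd _ (inv_mem ha)
              simpa [mul_assoc, di, dd] using this
        exact this.resolve_left hg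
    refine CfsgLib.TwoGroups.CyclicMax.dihedral_iso hox ?_ (hPeq ▸ hdP) dd (by rw [di]; exact hxI.2)
    rw [← P.card_mul_index, hidx, hPeq, Nat.card_zpowers, hox]
  right
  push Not at hab
  obtain ⟨x₁, hx₁, y₁, hy₁, hnc₁⟩ := hab
  -- central elements
  let Zc : Y → Prop := fun z => z ∈ P ∧ ∀ p ∈ P, z * p = p * z
  have hZI : ∀ z, Zc z → ∀ y ∈ I, z * y = y * z := fun z hz y hy => hz.2 y hy.1
  have hZd : ∀ z, Zc z → d * z * d = z := by
    intro z hz
    set u := z⁻¹ * (d * z * d) with hu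
    have hdz : Zc (d * z * d) := ⟨hPd z hz.1, fun p hp => by
      calc d * z * d * p = d * (z * (d * p * d)) * d := by
            simp only [mul_assoc]; rw [dd, mul_one]
        _ = d * ((d * p * d) * z) * d := by rw [hz.2 _ (hPd p hp)]
        _ = p * (d * z * d) := by simp only [mul_assoc]; rw [← mul_assoc d d, dd, one_mul]⟩
    have hu0 : Zc u := ⟨mul_mem (inv_mem hz.1) hdz.1, fun p hp =>
      ((Commute.inv_left (hz.2 p hp)).mul_left (hdz.2 p hp)).eq⟩
    have huI : u ∈ I := ⟨hu0.1, by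
      rw [hu, mul_inv_rev, inv_inv]
      have e : (d * z * d)⁻¹ = d * z⁻¹ * d := by rw [mul_inv_rev, mul_inv_rev, di, mul_assoc]
      rw [e]
      simp only [mul_assoc]
      rw [dd, mul_one]⟩
    by_contra hne
    have hu1 : u ≠ 1 := fun h => hne (inv_mul_eq_one.1 h).symm
    refine hnc₁ ?_
    obtain ⟨i, hi⟩ := Subgroup.mem_zpowers_iff.1 (hcyc u huI x₁ hx₁ hu1 (hu0.2 x₁ hx₁.1))
    rw [← hi]
    exact ((show Commute u y₁ from hu0.2 y₁ hy₁.1).zpow_left i).eq
  -- second centre
  let Cz : Y → Prop := fun g => g ∈ P ∧ ∀ p ∈ P, ∃ c, Zc c ∧ g * p = c * p * g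
  have hCmul : ∀ g h, Cz g → Cz h → Cz (g * h) := fun g h hg hh => ⟨mul_mem hg.1 hh.1, fun p hp => by
    obtain ⟨c, hc, e⟩ := hg.2 p hp
    obtain ⟨c', hc', e'⟩ := hh.2 p hp
    refine ⟨c' * c, ⟨mul_mem hc'.1 hc.1, fun q hq => ((Commute.mul_left (hc'.2 q hq) (hc.2 q hq))).eq⟩, ?_⟩
    calc g * h * p = g * c' * (p * h) := by rw [mul_assoc, e']; simp only [mul_assoc]
      _ = c' * (g * p) * h := by rw [← hc'.2 g hg.1]; simp only [mul_assoc]
      _ = c' * c * p * (g * h) := by rw [e]; simp only [mul_assoc]⟩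
  have hCinv : ∀ g, Cz g → Cz g⁻¹ := fun g hg => ⟨inv_mem hg.1, fun p hp => by
    obtain ⟨c, hc, e⟩ := hg.2 p hp
    refine ⟨c⁻¹, ⟨inv_mem hc.1, fun q hq => (Commute.inv_left (hc.2 q hq)).eq⟩, ?_⟩
    have e2 : g * p = c * (p * g) := by rw [e, mul_assoc]
    calc g⁻¹ * p = g⁻¹ * (c⁻¹ * (c * (p * g))) * g⁻¹ := by group
      _ = (g⁻¹ * c⁻¹) * g * p * g⁻¹ := by rw [← e2]; simp only [mul_assoc]
      _ = c⁻¹ * p * g⁻¹ := by
        rw [(Commute.inv_inv (show Commute g c from (hc.2 g hg.1).symm)).eq, inv_mul_cancel_right]⟩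
  have hCd : ∀ g, Cz g → Cz (d * g * d) := fun g hg => ⟨hPd g hg.1, fun p hp => by
    obtain ⟨c, hc, e⟩ := hg.2 _ (hPd p hp)
    refine ⟨c, hc, ?_⟩
    calc d * g * d * p = d * (g * (d * p * d)) * d := by simp only [mul_assoc]; rw [dd, mul_one]
      _ = (d * c * d) * p * (d * g * d) := by
        rw [e]; simp only [mul_assoc]
      _ = c * p * (d * g * d) := by rw [hZd c hc]⟩
  obtain ⟨z, hzC, hzZ⟩ : ∃ z, Cz z ∧ ¬ Zc z := by
    haveI : Fact (Nat.Prime 3) := ⟨by norm_num⟩
    set Z : Subgroup P := Subgroup.center P with hZ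
    haveI : Nontrivial (P ⧸ Z) := by
      rw [QuotientGroup.nontrivial_iff]
      intro h
      have := Subgroup.mem_center_iff.1 (h ▸ Subgroup.mem_top (⟨y₁, hy₁.1⟩ : P)) ⟨x₁, hx₁.1⟩
      exact hnc₁ (congrArg Subtype.val this)
    haveI : Nontrivial (Subgroup.center (P ⧸ Z)) := (hP.to_quotient Z).center_nontrivial
    obtain ⟨q, hq⟩ := exists_ne (1 : Subgroup.center (P ⧸ Z))
    obtain ⟨z, hz⟩ := QuotientGroup.mk'_surjective Z (q : P ⧸ Z)
    have hmemZ : ∀ c : P, c ∈ Z ↔ Zc (c : Y) := fun c => by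
      rw [hZ, Subgroup.mem_center_iff]
      exact ⟨fun h => ⟨c.2, fun p hp => (congrArg Subtype.val (h ⟨p, hp⟩)).symm⟩,
        fun h p => Subtype.ext (h.2 p p.2).symm⟩
    refine ⟨z, ⟨z.2, fun p hp => ?_⟩, fun h => hq (Subtype.ext ?_)⟩
    · refine ⟨((z * ⟨p, hp⟩ * z⁻¹ * ⟨p, hp⟩⁻¹ : P) : Y), (hmemZ _).1 ?_, by
        simp only [Subgroup.coe_mul, Subgroup.coe_inv, mul_assoc, inv_mul_cancel_left, inv_mul_cancel, mul_one]⟩
      rw [← QuotientGroup.eq_one_iff, ← QuotientGroup.mk'_apply, map_mul, map_mul, map_mul, map_inv, map_inv, hz,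
        ← (Subgroup.mem_center_iff.1 q.2 (QuotientGroup.mk' Z ⟨p, hp⟩))]
      group
    · rw [← hz, QuotientGroup.mk'_apply, (QuotientGroup.eq_one_iff z).2 ((hmemZ z).2 h)]
      rfl
  -- an inverted element in the second centre
  obtain ⟨x, hxI, hxC, hx1⟩ : ∃ x ∈ I, Cz x ∧ x ≠ 1 := by
    refine ⟨z⁻¹ * (d * z * d), ⟨mul_mem (inv_mem hzC.1) (hPd z hzC.1), ?_⟩,
      hCmul _ _ (hCinv z hzC) (hCd z hzC), fun h => ?_⟩
    · rw [mul_inv_rev, inv_inv, mul_inv_rev, mul_inv_rev, di]
      simp only [mul_assoc]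
      rw [dd, mul_one]
    have hzd : d * z * d = z := (inv_mul_eq_one.1 h).symm
    refine hzZ ⟨hzC.1, fun p hp => ?_⟩
    have hIz : ∀ y ∈ I, z * y = y * z := by
      intro y hy
      obtain ⟨c, hc, e⟩ := hzC.2 y hy.1
      have e' : z * y⁻¹ = c * y⁻¹ * z := by
        calc z * y⁻¹ = (d * z * d) * (d * y * d) := by rw [hzd, hy.2]
          _ = d * (z * y) * d := by simp only [mul_assoc]; rw [← mul_assoc d d, dd, one_mul]
          _ = (d * c * d) * (d * y * d) * (d * z * d) := by
            rw [e]; simp only [mul_assoc, ← mul_assoc d d, dd, one_mul]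
          _ = c * y⁻¹ * z := by rw [hZd c hc, hy.2, hzd]
      have e2 : y * z = c * (z * y) := by
        calc y * z = y * (z * y⁻¹) * y := by group
          _ = y * c * (y⁻¹ * (z * y)) := by rw [e']; simp only [mul_assoc]
          _ = c * (z * y) := by
            rw [← hc.2 y hy.1]; simp only [mul_assoc]; rw [mul_inv_cancel_left]
      have hcc : c * c = 1 := mul_eq_right.1 (show c * c * (z * y) = z * y by
        rw [mul_assoc, ← e2, ← mul_assoc]; exact e.symm)
      rw [e, odd_eq c hc.1 hcc, one_mul]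
    have hle : Subgroup.closure I ≤ Subgroup.centralizer {z} := by
      rw [Subgroup.closure_le]
      intro y hy
      rw [SetLike.mem_coe, Subgroup.mem_centralizer_iff]
      rintro w hw
      rw [Set.mem_singleton_iff.1 hw]
      exact hIz y hy
    exact Subgroup.mem_centralizer_iff.1 (hle (hPI p hp)) z rfl
  have hxnZ : ∀ c, Zc c → c ≠ x := fun c hc h => hx1 (by
    subst h
    exact odd_eq c hc.1 (by nth_rw 1 [← hZd c hc]; rw [hxI.2, inv_mul_cancel]))
  obtain ⟨y, hy, hxy⟩ : ∃ y ∈ I, x * y ≠ y * x := by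
    by_contra! h
    have hle : Subgroup.closure I ≤ Subgroup.centralizer {x} := by
      rw [Subgroup.closure_le]
      intro y hy
      rw [SetLike.mem_coe, Subgroup.mem_centralizer_iff]
      rintro w hw
      rw [Set.mem_singleton_iff.1 hw]
      exact h y hy
    exact hxnZ x ⟨hxI.1, fun p hp => Subgroup.mem_centralizer_iff.1 (hle (hPI p hp)) x rfl⟩ rfl
  -- commutators with `x`
  have hcomm3 : ∀ p ∈ P, ∀ c, Zc c → x * p = c * p * x → ∀ n : ℕ, x * p ^ n = c ^ n * p ^ n * x := by
    intro p hp c hc e n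
    induction n with
    | zero => simp
    | succ n ih =>
      calc x * p ^ (n + 1) = (x * p ^ n) * p := by rw [pow_succ, mul_assoc]
        _ = c ^ n * p ^ n * (c * p * x) := by rw [ih, mul_assoc, e]
        _ = c ^ (n + 1) * p ^ (n + 1) * x := by
          rw [pow_succ, pow_succ]
          simp only [mul_assoc]
          rw [← mul_assoc (p ^ n) c, ← hc.2 _ (pow_mem hp n), mul_assoc]
  have hc3 : ∀ p ∈ I, ∀ c, Zc c → x * p = c * p * x → c ^ 3 = 1 := fun p hp c hc e => by
    have := hcomm3 p hp.1 c hc e 3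
    rw [hI3 p hp, mul_one, mul_one] at this
    exact mul_eq_right.1 this.symm
  -- every nontrivial commutator fixes only points fixed by `d`
  have hB : ∀ q ∈ I, ∀ c, Zc c → c ≠ 1 → x * q = c * q * x → ∀ v, α c v = v → α d v = v := by
    intro q hq c hc hc1 e v hv
    let W : Subgroup V := (α c).toMonoidHom.eqLocus (MonoidHom.id V)
    have hW : ∀ {w}, w ∈ W ↔ α c w = w := fun {w} => Iff.rfl
    have hinvW : ∀ p ∈ P, ∀ w ∈ W, α p w ∈ W := fun p hp w hw => by
      rw [hW, ← act_mul, hc.2 p hp, act_mul, hW.1 hw]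
    have hWxy : ∀ w ∈ W, α x (α q w) = α q (α x w) := fun w hw => by
      rw [← act_mul, e, mul_assoc, act_mul, hW.1 (hinvW _ (mul_mem hq.1 hxI.1) w hw), act_mul]
    have hxq : x * q ≠ q * x := fun h => hc1 (by
      rw [h, mul_assoc] at e
      exact mul_eq_right.1 e.symm)
    have q3 : q * q * q = 1 := by rw [← pow_three']; exact hI3 q hq
    have hqi : q⁻¹ = q * q := inv_eq_of_mul_eq_one_right (by rw [← mul_assoc]; exact q3)
    have i1 : q⁻¹ * x * q⁻¹ ∈ I := ⟨mul_mem (mul_mem (inv_mem hq.1) hxI.1) (inv_mem hq.1), by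
      calc d * (q⁻¹ * x * q⁻¹) * d = (d * q⁻¹ * d) * (d * x * d) * (d * q⁻¹ * d) := by
            simp only [mul_assoc, ← mul_assoc d d, dd, one_mul]
        _ = (q⁻¹ * x * q⁻¹)⁻¹ := by
            rw [(hIinv q hq).2, hxI.2, inv_inv, mul_inv_rev, mul_inv_rev, inv_inv, mul_assoc]⟩
    have i2 : q * x * q ∈ I := ⟨mul_mem (mul_mem hq.1 hxI.1) hq.1, by
      calc d * (q * x * q) * d = (d * q * d) * (d * x * d) * (d * q * d) := by
            simp only [mul_assoc, ← mul_assoc d d, dd, one_mul]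
        _ = (q * x * q)⁻¹ := by rw [hq.2, hxI.2, mul_inv_rev, mul_inv_rev, mul_assoc]⟩
    have n1 : q⁻¹ * x * q⁻¹ ≠ 1 := fun h => hxq (by
      have : x = q * q := by
        calc x = q * (q⁻¹ * x * q⁻¹) * q := by group
          _ = q * q := by rw [h, mul_one]
      rw [this, mul_assoc])
    have n2 : q * x * q ≠ 1 := fun h => hxq (by
      have : x = q⁻¹ * q⁻¹ := by
        calc x = q⁻¹ * (q * x * q) * q⁻¹ := by group
          _ = _ := by rw [h, mul_one]
      rw [this]; group)
    have qW : ∀ w ∈ W, α q w ∈ W := fun w => hinvW q hq.1 w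
    have q3' : ∀ w, α q (α q (α q w)) = w := fun w => by
      rw [← act_mul, ← act_mul, q3, map_one]; rfl
    refine four_sum α hexp W x q d (hI3 x hxI) (hI3 q hq) (fun w => hinvW x hxI.1 w) qW hWxy
      (fun w _ => hIfix x hxI hx1 w) (fun w _ h => hIfix q hq (fun h1 => hxq (by simp [h1])) w h)
      (fun w hw h => hIfix _ i1 n1 w ?_) (fun w hw h => hIfix _ i2 n2 w ?_) v (hW.2 hv)
    · rw [hqi]
      simp only [act_mul]
      rw [← hWxy _ (qW _ (qW _ hw)), ← hWxy _ (qW _ (qW _ (qW _ hw))), q3']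
      exact h
    · simp only [act_mul]
      rw [← hWxy _ (qW _ hw)]
      exact h
  obtain ⟨c, hc, exy⟩ := hxC.2 y hy.1
  have hc1 : c ≠ 1 := fun h => hxy (by rw [exy, h, one_mul])
  have hxyI : ∀ w ∈ I, w ∈ Subgroup.closure ({d, x, y} : Set Y) := by
    intro w hw
    obtain ⟨c', hc', exw⟩ := hxC.2 w hw.1
    have c3 := hc3 y hy c hc exy
    have c'3 := hc3 w hw c' hc' exw
    -- inverted representatives
    have hrep : ∀ p ∈ P, ∀ e, Zc e → e ^ 3 = 1 → x * p = e * p * x →
        p⁻¹ * (d * p * d) ∈ I ∧ x * (p⁻¹ * (d * p * d)) = e * (p⁻¹ * (d * p * d)) * x := by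
      intro p hp e he e3 hxp
      refine ⟨⟨mul_mem (inv_mem hp) (hPd p hp), by
        rw [mul_inv_rev, inv_inv, mul_inv_rev, mul_inv_rev, di]
        simp only [mul_assoc]
        rw [dd, mul_one]⟩, ?_⟩
      have ee : e⁻¹ * e⁻¹ = e := by
        rw [← mul_inv_rev]
        exact inv_eq_of_mul_eq_one_right (by rw [← e3, pow_three'])
      have h1 : x * p⁻¹ = e⁻¹ * p⁻¹ * x := by
        calc x * p⁻¹ = p⁻¹ * (p * x) * p⁻¹ := by group
          _ = p⁻¹ * (e⁻¹ * (e * p * x)) * p⁻¹ := by group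
          _ = (p⁻¹ * e⁻¹) * x := by rw [← hxp]; group
          _ = e⁻¹ * p⁻¹ * x := by rw [(Commute.inv_inv (show Commute p e from (he.2 p hp).symm)).eq]
      have h2 : x * (d * p * d) = e⁻¹ * (d * p * d) * x := by
        have h3 : x⁻¹ * (d * p * d) = e * (d * p * d) * x⁻¹ := by
          calc x⁻¹ * (d * p * d) = d * (x * p) * d := by
                rw [← hxI.2]; simp only [mul_assoc, ← mul_assoc d d, dd, one_mul]
            _ = (d * e * d) * (d * p * d) * (d * x * d) := by
                rw [hxp]; simp only [mul_assoc, ← mul_assoc d d, dd, one_mul]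
            _ = e * (d * p * d) * x⁻¹ := by rw [hZd e he, hxI.2]
        have h4 : d * p * d * x = e * (x * (d * p * d)) := by
          calc d * p * d * x = x * (x⁻¹ * (d * p * d)) * x := by group
            _ = x * (e * (d * p * d) * x⁻¹) * x := by rw [h3]
            _ = (x * e) * (d * p * d) := by group
            _ = e * (x * (d * p * d)) := by rw [← he.2 x hxI.1, mul_assoc]
        calc x * (d * p * d) = e⁻¹ * (e * (x * (d * p * d))) := by rw [inv_mul_cancel_left]
          _ = e⁻¹ * (d * p * d) * x := by rw [← h4]; simp only [mul_assoc]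
      calc x * (p⁻¹ * (d * p * d)) = e⁻¹ * p⁻¹ * (x * (d * p * d)) := by rw [← mul_assoc, h1, mul_assoc]
        _ = e⁻¹ * (p⁻¹ * e⁻¹) * (d * p * d) * x := by rw [h2]; simp only [mul_assoc]
        _ = (e⁻¹ * e⁻¹) * (p⁻¹ * (d * p * d)) * x := by
          rw [(Commute.inv_inv (show Commute p e from (he.2 p hp).symm)).eq]; simp only [mul_assoc]
        _ = _ := by rw [ee]
    have hZm : ∀ a b, Zc a → Zc b → Zc (a * b) := fun a b ha hb =>
      ⟨mul_mem ha.1 hb.1, fun p hp => (Commute.mul_left (ha.2 p hp) (hb.2 p hp)).eq⟩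
    have hmul : ∀ p ∈ P, ∀ r ∈ P, ∀ a b, Zc a → Zc b → x * p = a * p * x → x * r = b * r * x →
        x * (p * r) = a * b * (p * r) * x := by
      intro p hp r hr a b ha hb ea eb
      calc x * (p * r) = a * p * (x * r) := by rw [← mul_assoc, ea, mul_assoc]
        _ = a * (p * b) * r * x := by rw [eb]; simp only [mul_assoc]
        _ = a * b * (p * r) * x := by rw [← hb.2 p hp]; simp only [mul_assoc]
    have hcube : ∀ a b, Zc a → Zc b → a ^ 3 = 1 → b ^ 3 = 1 → (a * b) ^ 3 = 1 := fun a b ha hb a3 b3 => by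
      rw [Commute.mul_pow (ha.2 b hb.1), a3, b3, one_mul]
    have hcases : c' = 1 ∨ c' = c ∨ c' = c * c := by
      by_contra hne
      push Not at hne
      obtain ⟨n1, n2, n3⟩ := hne
      have e2 := hmul y hy.1 w hw.1 c c' hc hc' exy exw
      have e3 := hmul (y * w) (mul_mem hy.1 hw.1) w hw.1 (c * c') c' (hZm c c' hc hc') hc' e2 exw
      have hcc : c * c' ≠ 1 := fun h => n3 (by
        rw [eq_inv_of_mul_eq_one_right h]
        exact inv_eq_of_mul_eq_one_right (by rw [← c3, pow_three', mul_assoc]))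
      have hccc : c * c' * c' ≠ 1 := fun h => n2 (by
        have h' : c' * c' = c⁻¹ := eq_inv_of_mul_eq_one_right (by rw [← mul_assoc]; exact h)
        have h'' : c'⁻¹ = c' * c' := inv_eq_of_mul_eq_one_right (by rw [← c'3, pow_three', mul_assoc])
        rw [← inv_inv c', h'', h', inv_inv])
      have r2 := hrep (y * w) (mul_mem hy.1 hw.1) (c * c') (hZm c c' hc hc') (hcube c c' hc hc' c3 c'3) e2
      have r3 := hrep (y * w * w) (mul_mem (mul_mem hy.1 hw.1) hw.1) (c * c' * c')
        (hZm _ _ (hZm c c' hc hc') hc') (hcube _ _ (hZm c c' hc hc') hc' (hcube c c' hc hc' c3 c'3) c'3) e3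
      refine hfixtop fun v => four_sum α hexp ⊤ c c' d c3 c'3 (fun _ _ => Subgroup.mem_top _)
        (fun _ _ => Subgroup.mem_top _) (fun u _ => by rw [← act_mul, hc.2 c' hc'.1, act_mul])
        (fun u _ => hB y hy c hc hc1 exy u) (fun u _ => hB w hw c' hc' n1 exw u)
        (fun u _ h => hB _ r2.1 _ (hZm c c' hc hc') hcc r2.2 u (by rw [act_mul]; exact h))
        (fun u _ h => hB _ r3.1 _ (hZm _ _ (hZm c c' hc hc') hc') hccc r3.2 u (by rw [act_mul, act_mul]; exact h))
        v (Subgroup.mem_top _)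
    -- a product commuting with `x`
    have hfin : ∀ r ∈ ({1, y, y * y} : Set Y), ∀ b, Zc b → x * r = b * r * x → c' * b = 1 →
        w ∈ Subgroup.closure ({d, x, y} : Set Y) := by
      intro r hr b hb er hcb
      have hdm : d ∈ Subgroup.closure ({d, x, y} : Set Y) := Subgroup.subset_closure (by simp)
      have hxm : x ∈ Subgroup.closure ({d, x, y} : Set Y) := Subgroup.subset_closure (by simp)
      have hym : y ∈ Subgroup.closure ({d, x, y} : Set Y) := Subgroup.subset_closure (by simp)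
      have hrm : r ∈ Subgroup.closure ({d, x, y} : Set Y) ∧ r ∈ P := by
        rcases hr with rfl | rfl | rfl
        · exact ⟨one_mem _, one_mem _⟩
        · exact ⟨hym, hy.1⟩
        · exact ⟨mul_mem hym hym, mul_mem hy.1 hy.1⟩
      have e := hmul w hw.1 r hrm.2 c' b hc' hb exw er
      rw [hcb] at e
      obtain ⟨q1, q2⟩ := hrep (w * r) (mul_mem hw.1 hrm.2) 1 ⟨one_mem _, fun p _ => by simp⟩ (one_pow 3) e
      rw [one_mul] at q2
      have hq := hcyc x hxI _ q1 hx1 q2
      have hqm : (w * r)⁻¹ * (d * (w * r) * d) ∈ Subgroup.closure ({d, x, y} : Set Y) :=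
        (Subgroup.zpowers_le.2 hxm) hq
      have ew : (w * r)⁻¹ * (d * (w * r) * d) = r⁻¹ * w * (d * r * d) := by
        have w2 : w⁻¹ * w⁻¹ = w := by
          rw [← mul_inv_rev]
          exact inv_eq_of_mul_eq_one_right (by rw [← hI3 w hw, pow_three'])
        calc (w * r)⁻¹ * (d * (w * r) * d) = r⁻¹ * (w⁻¹ * (d * w * d)) * (d * r * d) := by
              simp only [mul_inv_rev, mul_assoc, ← mul_assoc d d, dd, one_mul]
          _ = _ := by rw [hw.2, w2]
      rw [ew] at hqm
      have := mul_mem (mul_mem hrm.1 hqm) (inv_mem (mul_mem (mul_mem hdm hrm.1) hdm))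
      rwa [show r * (r⁻¹ * w * (d * r * d)) * (d * r * d)⁻¹ = w by group] at this
    have eyy := hmul y hy.1 y hy.1 c c hc hc exy exy
    have ccc : c * c * c = 1 := by rw [← c3, pow_three']
    rcases hcases with rfl | rfl | rfl
    · exact hfin 1 (by simp) 1 ⟨one_mem _, fun p _ => by simp⟩ (by simp) (one_mul 1)
    · exact hfin (y * y) (by simp) (c' * c') (hZm _ _ hc hc) eyy (by rw [← mul_assoc]; exact ccc)
    · exact hfin y (by simp) c hc exy ccc
  have ec : x * y * x⁻¹ * y⁻¹ = c := by rw [exy]; group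
  refine FiftyFour.equiv_of_gen dd (hI3 x hxI) (hI3 y hy) hxI.2 hy.2 ?_ ?_ hxy ?_
  · rw [ec]; exact hc.2 x hxI.1
  · rw [ec]; exact hc.2 y hy.1
  · exact hcover _ (Subgroup.subset_closure (by simp)) hxyI

end CfsgLib.ThreeTransp.SmallWidth
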