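import Mathlib
import Cfsg.Prelude.Def_SporadicB
import Cfsg.Agent.Lib.Classical.SympMatrix

/-!
# The symplectic transvections over the field with two elements are 3-transpositions
-/

set_option autoImplicit false
set_option linter.unusedSectionVars false

open Matrix Module

namespace CfsgLib.ThreeTransp.SympF2

open CfsgLib.Classical

theorem zmod_two : ∀ r : ZMod 2, r = 0 ∨ r = 1 := by decide

variable {V : Type*} [AddCommGroup V] [Module (ZMod 2) V]
  {B : V →ₗ[ZMod 2] V →ₗ[ZMod 2] ZMod 2}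

theorem v2 (v : V) : v + v = 0 := by
  rw [← one_smul (ZMod 2) v, ← add_smul, show (1 : ZMod 2) + 1 = 0 from rfl, zero_smul]

theorem tv_sq (hA : B.IsAlt) (v : V) : tv hA v 1 * tv hA v 1 = 1 := by
  rw [tv_mul, show (1 : ZMod 2) + 1 = 0 from rfl, tv_zero]

theorem tv_ne_one (hA : B.IsAlt) (hN : B.SeparatingLeft) {v : V} (hv : v ≠ 0) : tv hA v 1 ≠ 1 := by
  intro h
  obtain ⟨y, hy⟩ := alt_exists_partner hN hv
  have h1 := congrArg (fun g : isomGroup B => g.1 y) h
  simp only [tv_apply, one_mul, OneMemClass.coe_one, LinearEquiv.coe_one, id_eq] at h1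
  rw [alt_swap hA y v, hy, add_eq_left] at h1
  rcases smul_eq_zero.1 h1 with h2 | h2
  · exact absurd h2 (by decide)
  · exact hv h2

theorem pair_rel (hA : B.IsAlt) (v w : V) :
    (tv hA v 1 * tv hA w 1) ^ 2 = 1 ∨ (tv hA v 1 * tv hA w 1) ^ 3 = 1 := by
  set d := tv hA v 1 with hd
  set e := tv hA w 1 with he
  have hdd : d * d = 1 := tv_sq hA v
  have hee : e * e = 1 := tv_sq hA w
  have hdi : d⁻¹ = d := inv_eq_of_mul_eq_one_right hdd
  have hei : e⁻¹ = e := inv_eq_of_mul_eq_one_right hee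
  have c1 : d * e * d = tv hA (d.1 w) 1 := by
    conv_lhs => arg 2; rw [← hdi]
    exact conj_tv hA d w 1
  have c2 : e * d * e = tv hA (e.1 v) 1 := by
    conv_lhs => arg 2; rw [← hei]
    exact conj_tv hA e v 1
  have hdw : d.1 w = w + (B w v) • v := by rw [hd, tv_apply, one_mul]
  have hev : e.1 v = v + (B v w) • w := by rw [he, tv_apply, one_mul]
  rcases zmod_two (B w v) with h | h
  · left
    rw [hdw, h, zero_smul, add_zero, ← he] at c1
    calc (d * e) ^ 2 = (d * e * d) * e := by rw [pow_two, mul_assoc (d * e)]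
      _ = 1 := by rw [c1, hee]
  · right
    have h' : B v w = 1 := by rw [alt_swap hA v w, h]; rfl
    rw [hdw, h, one_smul] at c1
    rw [hev, h', one_smul, add_comm] at c2
    calc (d * e) ^ 3 = (d * e * d) * (e * d * e) := by
          rw [pow_succ, pow_two]; simp only [mul_assoc]
      _ = 1 := by rw [c1, c2, tv_sq]

theorem eq_tv (hA : B.IsAlt) (hN : B.SeparatingLeft) (g : isomGroup B) {v : V} (hv : v ≠ 0)
    (hg : ∀ x, g.1 x - x = 0 ∨ g.1 x - x = v) (hne : ∃ x, g.1 x ≠ x) : g = tv hA v 1 := by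
  classical
  let f : V → ZMod 2 := fun x => if g.1 x = x then 0 else 1
  have hf : ∀ x, g.1 x = x + f x • v := by
    intro x
    by_cases h : g.1 x = x
    · simp [f, h]
    · rcases hg x with h1 | h1
      · exact absurd (sub_eq_zero.1 h1) h
      · simp only [f, if_neg h, one_smul]
        rw [← h1, add_sub_cancel]
  have key : ∀ x y, f x * B v y + f y * B x v = 0 := fun x y => by
    have h := g.2 x y
    rw [hf x, hf y] at h
    simp only [map_add, map_smul, LinearMap.add_apply, LinearMap.smul_apply, smul_eq_mul, hA v,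
      mul_zero, add_zero] at h
    linear_combination h
  obtain ⟨y, hy⟩ := alt_exists_partner hN hv
  have hfy : ∀ x, f x = f y * B x v := fun x => by
    have h := key x y
    rw [hy, mul_one] at h
    rcases zmod_two (f x) with a | a <;> rcases zmod_two (f y * B x v) with b | b <;>
      rw [a, b] at h ⊢ <;> first | rfl | exact absurd h (by decide)
  obtain ⟨x0, hx0⟩ := hne
  have hy1 : f y = 1 := (zmod_two (f y)).resolve_left fun h0 => hx0 (by
    rw [hf, hfy, h0, zero_mul, zero_smul, add_zero])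
  refine Subtype.ext (LinearEquiv.ext fun x => ?_)
  rw [hf, tv_apply, hfy, hy1]

variable (m : ℕ)

theorem rank_iff (A : symplecticGroup (Fin m) (ZMod 2)) :
    ((A : Matrix (Fin m ⊕ Fin m) (Fin m ⊕ Fin m) (ZMod 2)) - 1).rank = 1 ↔
      ∃ v : Fin m ⊕ Fin m → ZMod 2, v ≠ 0 ∧ spEquiv m A = tv (sympBil_isAlt m) v 1 := by
  have hmv : ∀ x, (A.1 - 1).mulVecLin x = (spEquiv m A).1 x - x := fun x => by
    rw [Matrix.mulVecLin_apply, Matrix.sub_mulVec, Matrix.one_mulVec, spEquiv_apply]
  rw [Matrix.rank]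
  constructor
  · intro h
    obtain ⟨⟨v, hv⟩, hv0, hspan⟩ := finrank_eq_one_iff'.1 h
    have hv0' : v ≠ 0 := fun e => hv0 (Subtype.ext e)
    refine ⟨v, hv0', eq_tv _ (sympBil_nondegenerate m).1 _ hv0' (fun x => ?_) ?_⟩
    · obtain ⟨c, hc⟩ := hspan ⟨_, LinearMap.mem_range_self _ x⟩
      have hc' : c • v = (A.1 - 1).mulVecLin x := congrArg Subtype.val hc
      rw [← hmv, ← hc']
      rcases zmod_two c with rfl | rfl
      · exact Or.inl (zero_smul _ _)
      · exact Or.inr (one_smul _ _)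
    · obtain ⟨x, hx⟩ := hv
      exact ⟨x, fun e => hv0' (by rw [← hx, hmv, e, sub_self])⟩
  · rintro ⟨v, hv, he⟩
    have hr : LinearMap.range (A.1 - 1).mulVecLin = Submodule.span (ZMod 2) {v} := by
      refine le_antisymm ?_ ?_
      · rintro _ ⟨x, rfl⟩
        rw [hmv, he, tv_apply, add_sub_cancel_left]
        exact Submodule.smul_mem _ _ (Submodule.mem_span_singleton_self v)
      · rw [Submodule.span_le, Set.singleton_subset_iff]
        obtain ⟨y, hy⟩ := alt_exists_partner (sympBil_nondegenerate m).1 hv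
        refine ⟨y, ?_⟩
        rw [hmv, he, tv_apply, add_sub_cancel_left, alt_swap (sympBil_isAlt m) y v, hy]
        rw [show (1 : ZMod 2) * -1 = 1 from rfl, one_smul]
    rw [hr]
    exact finrank_span_singleton hv

theorem main (hm : 1 ≤ m) : Cfsg.IsThreeTranspositionClass
    {g : Matrix.symplecticGroup (Fin m) (ZMod 2) |
      ((g : Matrix (Fin m ⊕ Fin m) (Fin m ⊕ Fin m) (ZMod 2)) - 1).rank = 1} := by
  let e := spEquiv (F := ZMod 2) m
  let hA := sympBil_isAlt (F := ZMod 2) m
  have hN := (sympBil_nondegenerate (F := ZMod 2) m)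
  refine ⟨⟨fun d hd => ?_, fun d hd f hf => ?_⟩, ?_, ?_⟩
  · obtain ⟨v, hv, he⟩ := (rank_iff m d).1 hd
    rw [← MulEquiv.orderOf_eq e d, he]
    exact orderOf_eq_prime (by rw [pow_two]; exact tv_sq hA v) (tv_ne_one hA hN.1 hv)
  · obtain ⟨v, -, hv⟩ := (rank_iff m d).1 hd
    obtain ⟨w, -, hw⟩ := (rank_iff m f).1 hf
    have hp : ∀ k : ℕ, (d * f) ^ k = 1 ↔ (tv hA v 1 * tv hA w 1) ^ k = 1 := fun k => by
      rw [← hv, ← hw, ← map_mul, ← map_pow, MulEquiv.map_eq_one_iff]
    rw [hp, hp]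
    exact pair_rel hA v w
  · let v0 : Fin m ⊕ Fin m → ZMod 2 := Pi.single (.inl ⟨0, hm⟩) 1
    have hv0 : v0 ≠ 0 := fun h => one_ne_zero (α := ZMod 2) (by
      simpa [v0] using congrFun h (.inl ⟨0, hm⟩))
    refine ⟨e.symm (tv hA v0 1), (rank_iff m _).2 ⟨v0, hv0, e.apply_symm_apply _⟩, Set.ext fun g => ?_⟩
    show _ ↔ IsConj _ _
    rw [Set.mem_setOf_eq, rank_iff, isConj_iff]
    constructor
    · rintro ⟨v, hv, he⟩
      obtain ⟨h, -, hh⟩ := tv_transitive hA hN.1 hv0 hv
      refine ⟨e.symm h, e.injective ?_⟩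
      rw [map_mul, map_mul, map_inv, e.apply_symm_apply, e.apply_symm_apply, conj_tv, hh, ← he]
    · rintro ⟨c, rfl⟩
      refine ⟨(e c).1 v0, fun h => hv0 (by simpa using h), ?_⟩
      show e _ = _
      rw [map_mul, map_mul, map_inv, e.apply_symm_apply, conj_tv]
  · rw [eq_top_iff]
    intro g _
    have h : e g ∈ tvGroup hA := by rw [tvGroup_eq_top _ hN]; exact Subgroup.mem_top _
    have h2 : tvGroup hA ≤ (Subgroup.closure {g : Matrix.symplecticGroup (Fin m) (ZMod 2) |
        ((g : Matrix (Fin m ⊕ Fin m) (Fin m ⊕ Fin m) (ZMod 2)) - 1).rank = 1}).map e.toMonoidHom := by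
      rw [tvGroup, Subgroup.closure_le]
      rintro _ ⟨v, c, rfl⟩
      rw [SetLike.mem_coe, Subgroup.mem_map]
      by_cases hv : v = 0 ∨ c = 0
      · refine ⟨1, one_mem _, ?_⟩
        rw [map_one]
        rcases hv with rfl | rfl
        · exact Subtype.ext (LinearEquiv.ext fun x => by simp)
        · rw [tv_zero]
      · push Not at hv
        refine ⟨e.symm (tv hA v c), Subgroup.subset_closure ((rank_iff m _).2 ⟨v, hv.1, ?_⟩),
          e.apply_symm_apply _⟩
        rw [show c = 1 from (zmod_two c).resolve_left hv.2]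
        exact e.apply_symm_apply _
    obtain ⟨a, ha, hae⟩ := Subgroup.mem_map.1 (h2 h)
    rwa [e.injective hae] at ha

end CfsgLib.ThreeTransp.SympF2
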