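import Cfsg.Agent.Lib.ThreeTransp.Basic

/-! The width of a set of elements of a finite group. -/

namespace CfsgLib.ThreeTransp.Width

variable {G : Type*} [Group G] [Finite G] {D : Set G}

theorem bddAbove (D : Set G) :
    BddAbove {n : ℕ | ∃ E : Set G, E ⊆ D ∧ E.Finite ∧ (∀ a ∈ E, ∀ b ∈ E, Commute a b) ∧
      E.ncard = n} :=
  ⟨D.ncard, by rintro n ⟨E, hE, -, -, rfl⟩; exact Set.ncard_le_ncard hE⟩

theorem le_width {E : Set G} (hE : E ⊆ D) (hc : ∀ a ∈ E, ∀ b ∈ E, Commute a b) :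
    E.ncard ≤ Cfsg.commutingWidth D :=
  le_csSup (bddAbove D) ⟨E, hE, E.toFinite, hc, rfl⟩

theorem width_le {n : ℕ}
    (h : ∀ E : Set G, E ⊆ D → (∀ a ∈ E, ∀ b ∈ E, Commute a b) → E.ncard ≤ n) :
    Cfsg.commutingWidth D ≤ n := by
  refine csSup_le ⟨0, ∅, Set.empty_subset _, Set.finite_empty, by simp, Set.ncard_empty _⟩ ?_
  rintro m ⟨E, hE, -, hc, rfl⟩
  exact h E hE hc

theorem exists_max (D : Set G) : ∃ E : Set G, E ⊆ D ∧ (∀ a ∈ E, ∀ b ∈ E, Commute a b) ∧
    E.ncard = Cfsg.commutingWidth D := by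
  obtain ⟨E, h1, -, h2, h3⟩ := Nat.sSup_mem (s := {n : ℕ | ∃ E : Set G, E ⊆ D ∧ E.Finite ∧
    (∀ a ∈ E, ∀ b ∈ E, Commute a b) ∧ E.ncard = n})
    ⟨0, ∅, Set.empty_subset _, Set.finite_empty, by simp, Set.ncard_empty _⟩ (bddAbove D)
  exact ⟨E, h1, h2, h3⟩

theorem width_eq_one_iff (hne : D.Nonempty) :
    Cfsg.commutingWidth D = 1 ↔ ∀ a ∈ D, ∀ b ∈ D, Commute a b → a = b := by
  constructor
  · intro h a ha b hb hab
    by_contra hne'
    have := le_width (D := D) (E := {a, b}) (by simp [Set.insert_subset_iff, ha, hb]) (by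
      rintro x (rfl | rfl) y (rfl | rfl)
      exacts [Commute.refl _, hab, hab.symm, Commute.refl _])
    rw [h, Set.ncard_pair hne'] at this
    omega
  · intro h
    refine le_antisymm (width_le fun E hE hc => ?_) ?_
    · exact (Set.ncard_le_one (E.toFinite)).2 fun a ha b hb => h a (hE ha) b (hE hb) (hc a ha b hb)
    · obtain ⟨d, hd⟩ := hne
      have := le_width (D := D) (E := {d}) (by simpa using hd) (by simp)
      simpa using this

end CfsgLib.ThreeTransp.Width
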