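import Cfsg.Agent.Lib.ThreeTransp.Basic
import Cfsg.Agent.Lib.ThreeTransp.HallTriple
import Cfsg.Agent.Lib.Involution.BaerSuzuki
import Cfsg.Agent.Lib.Solvable.Cores

/-!
A conjugation-invariant set of 3-transpositions with no two commuting members lies in one
coset of the 3-core. Elementary proof: four members generate an image of the 81-point system,
then Baer-Suzuki.
-/

namespace CfsgLib.ThreeTransp.WidthOne

open HallTriple

theorem triple : ∀ t : ZMod 3 × ZMod 3 × ZMod 3, t + t + t = 0 := by decide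

theorem triple₁ : ∀ t : ZMod 3, t + t + t = 0 := by decide

/-- Translation by a point of the model, as a permutation. -/
def refl (v : V) : Equiv.Perm V :=
  Function.Involutive.toPerm (opV v) (fun w => by
    obtain ⟨⟨v1, v2, v3⟩, v4⟩ := v
    obtain ⟨⟨w1, w2, w3⟩, w4⟩ := w
    simp only [opV, Prod.mk.injEq]
    refine ⟨⟨?_, ?_, ?_⟩, ?_⟩ <;> ring_nf <;> revert v1 v2 v3 v4 w1 w2 w3 w4 <;> decide)

/-- The vertical shift. -/
def up (v : V) : V := (v.1, v.2 + 1)

/-- Permutations commuting with the vertical shift and translating the base. -/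
def transl : Subgroup (Equiv.Perm V) where
  carrier := {σ | (∀ v, σ (up v) = up (σ v)) ∧ ∃ t, ∀ v, (σ v).1 = v.1 + t}
  one_mem' := ⟨fun _ => rfl, 0, fun v => by simp⟩
  mul_mem' := by
    rintro σ τ ⟨h1, t, h2⟩ ⟨h3, t', h4⟩
    exact ⟨fun v => by simp [h3, h1], t' + t, fun v => by simp [h2, h4, add_assoc]⟩
  inv_mem' := by
    rintro σ ⟨h1, t, h2⟩
    refine ⟨fun v => σ.injective ?_, -t, fun v => ?_⟩
    · simp [h1]
    · have := h2 (σ⁻¹ v)
      simp only [Equiv.Perm.coe_inv, Equiv.apply_symm_apply] at this ⊢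
      rw [this]; abel

theorem transl_eq_add {σ : Equiv.Perm V} (h : ∀ v, σ (up v) = up (σ v))
    (hb : ∀ v, (σ v).1 = v.1) (v : V) : (σ ^ 3) v = v := by
  have hk : ∀ (v : V) (k : ℕ), σ (v.1, v.2 + k) = ((σ v).1, (σ v).2 + k) := by
    intro v k
    induction k with
    | zero => simp
    | succ k ih =>
      have := h (v.1, v.2 + k)
      simp only [up, ih] at this
      push_cast
      rw [← add_assoc, this, add_assoc]
  obtain ⟨v1, v4⟩ := v
  obtain ⟨m, hm⟩ : ∃ m : ZMod 3, (σ (v1, 0)).2 = m := ⟨_, rfl⟩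
  have hall : ∀ x : ZMod 3, σ (v1, x) = (v1, x + m) := by
    intro x
    have := hk (v1, 0) x.val
    simp only [ZMod.natCast_zmod_val, zero_add] at this
    rw [this, hm, hb, add_comm]
  simp only [pow_succ, pow_zero, one_mul, Equiv.Perm.mul_apply, hall, Prod.mk.injEq, true_and]
  rw [add_assoc, add_assoc, ← add_assoc m, triple₁, add_zero]

theorem isPGroup_transl : IsPGroup 3 transl := by
  rintro ⟨σ, hσ⟩
  refine ⟨2, Subtype.ext ?_⟩
  show σ ^ (3 ^ 2) = 1
  obtain ⟨t, ht⟩ := hσ.2
  have h3 : ∀ v, ((σ ^ 3) v).1 = v.1 := by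
    intro v
    simp only [pow_succ, pow_zero, one_mul, Equiv.Perm.mul_apply, ht]
    have : t + t + t = 0 := triple t
    rw [add_assoc, add_assoc, ← add_assoc t, this, add_zero]
  have hmem : σ ^ 3 ∈ transl := transl.pow_mem hσ 3
  ext1 v
  rw [show 3 ^ 2 = 3 * 3 from rfl, pow_mul]
  exact transl_eq_add hmem.1 h3 v

theorem refl_mul_mem (g h : V) : refl g * refl h ∈ transl := by
  refine ⟨fun v => ?_, h.1 - g.1, fun v => ?_⟩
  · show opV g (opV h (up v)) = up (opV g (opV h v))
    simp only [opV, up, Prod.mk.injEq, true_and]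
    ring
  · show (opV g (opV h v)).1 = _
    obtain ⟨⟨g1, g2, g3⟩, g4⟩ := g
    obtain ⟨⟨h1, h2, h3⟩, h4⟩ := h
    simp only [opV, Prod.ext_iff, Prod.fst_add, Prod.snd_add, Prod.fst_sub, Prod.snd_sub]
    refine ⟨?_, ?_, ?_⟩ <;> ring

variable {G : Type*} [Group G] {D : Set G}

/-- Conjugation as an operation on `D`. -/
def quad (hinv : ∀ d ∈ D, orderOf d = 2) (hconj : ∀ g : G, ∀ d ∈ D, g * d * g⁻¹ ∈ D)
    (hbr : ∀ a ∈ D, ∀ b ∈ D, a * b * a = b * a * b) (a b c e : D) : Quad D where
  op x y := ⟨(x : G) * y * x, Basic.conj_mem_mul hinv hconj x.2 y.2⟩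
  x0 := a
  x1 := b
  x2 := c
  x3 := e
  idem x := Subtype.ext (by
    show (x : G) * x * x = x
    rw [Basic.sq_one (hinv _ x.2), one_mul])
  comm x y := Subtype.ext (hbr _ x.2 _ y.2)
  invol x y := Subtype.ext (by
    show (x : G) * (x * y * x) * x = y
    have := Basic.sq_one (hinv _ x.2)
    rw [← mul_assoc, ← mul_assoc, this, one_mul, mul_assoc, this, mul_one])
  dist x y z := Subtype.ext (by
    show (x : G) * (y * z * y) * x = x * y * x * (x * z * x) * (x * y * x)
    have := Basic.sq_one (hinv _ x.2)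
    simp only [mul_assoc, ← mul_assoc (x : G) x, this, one_mul])

theorem isPGroup_pair [Finite G] (hinv : ∀ d ∈ D, orderOf d = 2)
    (hconj : ∀ g : G, ∀ d ∈ D, g * d * g⁻¹ ∈ D)
    (hbr : ∀ a ∈ D, ∀ b ∈ D, a * b * a = b * a * b) {a b c e : G}
    (ha : a ∈ D) (hb : b ∈ D) (hc : c ∈ D) (he : e ∈ D) :
    IsPGroup 3 ↥(Subgroup.zpowers (a * b) ⊔ Subgroup.zpowers (c * e)) := by
  haveI : Fact (Nat.Prime 3) := ⟨Nat.prime_three⟩
  classical
  set S := quad hinv hconj hbr ⟨a, ha⟩ ⟨b, hb⟩ ⟨c, hc⟩ ⟨e, he⟩ with hS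
  let E : Subgroup (G × Equiv.Perm V) :=
    { carrier := {q | ∀ v, q.1 * ((pt S v : D) : G) * q.1⁻¹ = ((pt S (q.2 v) : D) : G)}
      one_mem' := fun v => by simp
      mul_mem' := fun {q r} hq hr v => by
        show q.1 * r.1 * ((pt S v : D) : G) * (q.1 * r.1)⁻¹ = ((pt S (q.2 (r.2 v)) : D) : G)
        rw [← hq (r.2 v), ← hr v]; group
      inv_mem' := fun {q} hq v => by
        show q.1⁻¹ * ((pt S v : D) : G) * q.1⁻¹⁻¹ = ((pt S (q.2⁻¹ v) : D) : G)
        have := hq (q.2⁻¹ v)
        simp only [Equiv.Perm.coe_inv, Equiv.apply_symm_apply] at this ⊢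
        rw [← this]; group }
  have hgen : ∀ (x : G) (hx : x ∈ D) (g : V), (∀ v, S.op ⟨x, hx⟩ (pt S v) = pt S (opV g v)) →
      (x, refl g) ∈ E := by
    intro x hx g h v
    have := congrArg Subtype.val (h v)
    show x * ((pt S v : D) : G) * x⁻¹ = _
    rw [Basic.inv_self (hinv x hx)]
    exact this
  have E0 := hgen a ha _ (op_x0 S)
  have E1 := hgen b hb _ (op_x1 S)
  have E2 := hgen c hc _ (op_x2 S)
  have E3 := hgen e he _ (op_x3 S)
  set H : Subgroup (G × Equiv.Perm V) := Subgroup.closure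
    {(a, refl ((0, 0, 0), 0)) * (b, refl ((1, 0, 0), 0)),
     (c, refl ((0, 1, 0), 0)) * (e, refl ((0, 0, 1), 0))} with hH
  have hHE : H ≤ E := by
    rw [hH, Subgroup.closure_le, Set.insert_subset_iff, Set.singleton_subset_iff]
    exact ⟨E.mul_mem E0 E1, E.mul_mem E2 E3⟩
  have hHT : ∀ q ∈ H, q.2 ∈ transl := by
    intro q hq
    have : H ≤ transl.comap (MonoidHom.snd G (Equiv.Perm V)) := by
      rw [hH, Subgroup.closure_le, Set.insert_subset_iff, Set.singleton_subset_iff]
      exact ⟨refl_mul_mem _ _, refl_mul_mem _ _⟩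
    exact this hq
  have hH3 : IsPGroup 3 H := by
    let f : H →* transl := ((MonoidHom.snd G (Equiv.Perm V)).comp H.subtype).codRestrict transl
      (fun q => hHT q q.2)
    have hker : f.ker ≤ Subgroup.center H := by
      intro q hq
      have h2 : (q : G × Equiv.Perm V).2 = 1 := congrArg Subtype.val hq
      have hfix : ∀ v, Commute (q : G × Equiv.Perm V).1 ((pt S v : D) : G) := by
        intro v
        have := hHE q.2 v
        rw [h2] at this
        exact mul_inv_eq_iff_eq_mul.1 this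
      have hcl : H ≤ (Subgroup.centralizer ({(q : G × Equiv.Perm V)} : Set _)) := by
        refine hH.le.trans ?_
        rw [Subgroup.closure_le, Set.insert_subset_iff, Set.singleton_subset_iff]
        refine ⟨?_, ?_⟩ <;> rw [SetLike.mem_coe, Subgroup.mem_centralizer_singleton_iff] <;>
          refine Prod.ext ?_ ?_
        · exact ((hfix ((0, 0, 0), 0)).mul_right (hfix ((1, 0, 0), 0))).symm
        · simp [h2]
        · exact ((hfix ((0, 1, 0), 0)).mul_right (hfix ((0, 0, 1), 0))).symm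
        · simp [h2]
      rw [Subgroup.mem_center_iff]
      intro r
      exact Subtype.ext (Subgroup.mem_centralizer_singleton_iff.1 (hcl r.2))
    haveI : Group.IsNilpotent transl := isPGroup_transl.isNilpotent
    haveI : Group.IsNilpotent H := Subgroup.isNilpotent_of_ker_le_center f hker
    let P : Sylow 3 H := default
    have hcube : ∀ x y : G, x ∈ D → y ∈ D → (x * y) ^ 3 = 1 := fun x y hx hy =>
      (Basic.braid_iff (Basic.sq_one (hinv x hx)) (Basic.sq_one (hinv y hy))).1 (hbr x hx y hy)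
    have hPtop : (P : Subgroup H) = ⊤ := by
      have hgp : ∀ q : H, q ^ (3 ^ 3) = 1 → q ∈ (P : Subgroup H) := by
        intro q hq
        have hq' : IsPGroup 3 (Subgroup.zpowers q) := by
          obtain ⟨j, -, hj⟩ := (Nat.dvd_prime_pow Nat.prime_three).1
            (orderOf_dvd_of_pow_eq_one hq)
          exact IsPGroup.of_card (n := j) (by rw [Nat.card_zpowers, hj])
        obtain ⟨R, hR⟩ := hq'.exists_le_sylow
        haveI := Sylow.unique_of_normal P inferInstance
        rw [Subsingleton.elim P R]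
        exact hR (Subgroup.mem_zpowers q)
      rw [eq_top_iff, ← Subgroup.closure_closure_coe_preimage (k :=
        ({(a, refl ((0, 0, 0), 0)) * (b, refl ((1, 0, 0), 0)),
          (c, refl ((0, 1, 0), 0)) * (e, refl ((0, 0, 1), 0))} : Set (G × Equiv.Perm V))),
        Subgroup.closure_le]
      rintro ⟨q, hq⟩ hq'
      apply hgp
      apply Subtype.ext
      show q ^ 27 = 1
      have h9 : q.2 ^ 9 = 1 := by
        have := isPGroup_transl ⟨q.2, hHT q hq⟩
        obtain ⟨t, ht⟩ := (hHT q hq).2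
        have hmem : q.2 ^ 3 ∈ transl := transl.pow_mem (hHT q hq) 3
        ext1 v
        rw [show 9 = 3 * 3 from rfl, pow_mul]
        refine transl_eq_add hmem.1 (fun v => ?_) v
        simp only [pow_succ, pow_zero, one_mul, Equiv.Perm.mul_apply, ht]
        have h0 : t + t + t = 0 := triple t
        rw [add_assoc, add_assoc, ← add_assoc t, h0, add_zero]
      refine Prod.ext ?_ ?_
      · show q.1 ^ 27 = 1
        rw [show 27 = 3 * 9 from rfl, pow_mul]
        rcases hq' with h | h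
        · rw [show q.1 = a * b from congrArg Prod.fst h, hcube a b ha hb, one_pow]
        · rw [show q.1 = c * e from congrArg Prod.fst h, hcube c e hc he, one_pow]
      · show q.2 ^ 27 = 1
        rw [show 27 = 9 * 3 from rfl, pow_mul, h9, one_pow]
    intro q
    obtain ⟨k, hk⟩ := P.isPGroup' ⟨q, hPtop ▸ Subgroup.mem_top q⟩
    exact ⟨k, congrArg Subtype.val hk⟩
  refine (hH3.map (MonoidHom.fst G (Equiv.Perm V))).to_le ?_
  rw [hH, MonoidHom.map_closure, Set.image_insert_eq, Set.image_singleton, sup_le_iff,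
    Subgroup.zpowers_le, Subgroup.zpowers_le]
  exact ⟨Subgroup.subset_closure (Or.inl rfl), Subgroup.subset_closure (Or.inr rfl)⟩

/-- Fischer: if no two distinct members of `D` commute, all products lie in `O₃(G)`. -/
theorem mul_mem_pCore [Finite G] (hS : Cfsg.IsThreeTranspositionSet D)
    (hconj : ∀ g : G, ∀ d ∈ D, g * d * g⁻¹ ∈ D)
    (hw : ∀ a ∈ D, ∀ b ∈ D, Commute a b → a = b) {a b : G} (ha : a ∈ D) (hb : b ∈ D) :
    a * b ∈ Cfsg.pCore 3 G := by
  haveI : Fact (Nat.Prime 3) := ⟨Nat.prime_three⟩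
  have hbr : ∀ a ∈ D, ∀ b ∈ D, a * b * a = b * a * b := by
    intro x hx y hy
    by_cases h : Commute x y
    · rw [hw x hx y hy h]
    · exact Basic.braid hS hx hy h
  obtain ⟨N, hN, hNp, hXN⟩ := CfsgLib.Involution.BaerSuzuki.exists_normal
    (Subgroup.zpowers (a * b)) (fun g => by
      have e : (MulAut.conj g).toMonoidHom (a * b) = g * a * g⁻¹ * (g * b * g⁻¹) := by
        simp [mul_assoc]
      rw [MonoidHom.map_zpowers, e]
      exact isPGroup_pair hS.1 hconj hbr ha hb (hconj g a ha) (hconj g b hb))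
  exact CfsgLib.Solvable.Cores.le_pCore hNp (hXN (Subgroup.mem_zpowers _))

end CfsgLib.ThreeTransp.WidthOne
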